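import Cfsg.Agent.Lib.Helper24.Coprime
import Mathlib.GroupTheory.Nilpotent

set_option autoImplicit false

universe u

namespace Cfsg.Agent.Lib.Helper24

open Subgroup
open Cfsg.Agent.Lib.Helper33
open scoped Pointwise

section pxq
variable {G : Type u} [Group G]

/-- A `p`-group `P` normalising a nontrivial `p`-group `U` satisfies `[U, P] < U`. -/
theorem commutator_lt_of_pGroups [Finite G] {p : ℕ} [Fact p.Prime] (P U : Subgroup G)
    (hP : IsPGroup p P) (hU : IsPGroup p U) (hPU : P ≤ normalizer (U : Set G)) (hU1 : U ≠ ⊥) :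
    ⁅U, P⁆ < U := by
  have hle : ⁅U, P⁆ ≤ U := commutator_le_of_le_normalizer U P hPU
  refine lt_of_le_of_ne hle ?_
  intro heq
  set S := P ⊔ U with hS
  have hSp : IsPGroup p S := hP.to_sup_of_normal_right' hU hPU
  have hnil : Group.IsNilpotent S := hSp.isNilpotent
  obtain ⟨n, hn⟩ := (isNilpotent_iff_lowerCentralSeries S).mp hnil
  have key : ∀ m, U ≤ S.lowerCentralSeries m := by
    intro m
    induction m with
    | zero => exact le_sup_right
    | succ m ih =>
      rw [Subgroup.lowerCentralSeries_succ, ← heq]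
      exact commutator_mono ih le_sup_left
  have := key n
  rw [hn, le_bot_iff] at this
  exact hU1 this

/-- **Thompson's `P × Q` lemma**. -/
theorem thompson_PxQ_aux [Finite G] {p : ℕ} [Fact p.Prime] (P Q : Subgroup G) (hP : IsPGroup p P)
    (hQ : (Nat.card Q).Coprime p) (hPQ : P ≤ centralizer (Q : Set G)) (n : ℕ) :
    ∀ U : Subgroup G, Nat.card U ≤ n → IsPGroup p U → P ≤ normalizer (U : Set G) →
      Q ≤ normalizer (U : Set G) → U ⊓ centralizer (P : Set G) ≤ centralizer (Q : Set G) →
      Q ≤ centralizer (U : Set G) := by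
  induction n with
  | zero =>
    intro U hcard
    have : 0 < Nat.card U := Nat.card_pos
    omega
  | succ n ih =>
    intro U hcard hU hPU hQU hC
    by_cases hU1 : U = ⊥
    · rw [hU1]
      intro y _
      rw [mem_centralizer_iff]
      intro u hu
      have : u = 1 := by simpa using hu
      rw [this]; simp
    -- Q and P commute elementwise
    have hcomm : ∀ x ∈ P, ∀ y ∈ Q, x * y = y * x := by
      intro x hx y hy
      have := hPQ hx
      rw [mem_centralizer_iff] at this
      exact (this y hy).symm
    have hcjQ : ∀ x ∈ P, cj x Q = Q := by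
      intro x hx
      ext y
      rw [mem_cj]
      constructor
      · intro h
        have h2 := hcomm x hx _ h
        have e : y = x * (x⁻¹ * y * x) * x⁻¹ := by group
        rw [e, h2]; simpa using h
      · intro h
        have h2 := hcomm x hx y h
        have e : x⁻¹ * y * x = x⁻¹ * (y * x) := by group
        rw [e, ← h2]; simpa using h
    have hcjP : ∀ y ∈ Q, cj y P = P := by
      intro y hy
      ext x
      rw [mem_cj]
      constructor
      · intro h
        have h2 := hcomm _ h y hy
        have e : x = y * (y⁻¹ * x * y) * y⁻¹ := by group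
        rw [e, ← h2]; simpa using h
      · intro h
        have h2 := hcomm x h y hy
        have e : y⁻¹ * x * y = y⁻¹ * (x * y) := by group
        rw [e, h2]; simpa using h
    have hcopQU : (Nat.card Q).Coprime (Nat.card U) := by
      obtain ⟨k, hk⟩ := (IsPGroup.iff_card).mp hU
      rw [hk]; exact Nat.Coprime.pow_right k hQ
    have hUsolv : Group.IsSolvable U := by
      haveI : Group.IsNilpotent U := hU.isNilpotent
      infer_instance
    have hWU : ⁅U, Q⁆ ≤ U := commutator_le_of_le_normalizer U Q hQU
    have hcard_lt : ∀ V : Subgroup G, V < U → Nat.card V ≤ n := by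
      intro V hV
      by_contra hcon
      push Not at hcon
      have h1 : Nat.card U ≤ Nat.card V := by omega
      exact hV.ne (eq_of_le_of_card_ge hV.le h1)
    by_cases hW : ⁅U, Q⁆ = U
    · -- case [U, Q] = U : use V = [U, P]
      have hVlt : ⁅U, P⁆ < U := commutator_lt_of_pGroups P U hP hU hPU hU1
      have hVP : P ≤ normalizer ((⁅U, P⁆ : Subgroup G) : Set G) :=
        le_normalizer_commutator_right U P hPU
      have hVQ : Q ≤ normalizer ((⁅U, P⁆ : Subgroup G) : Set G) := by
        intro y hy
        rw [← cj_eq_self_iff, cj, map_commutator, cj_def', cj_def',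
          cj_eq_self_iff.mpr (hQU hy), hcjP y hy]
      have hVC : ⁅U, P⁆ ⊓ centralizer (P : Set G) ≤ centralizer (Q : Set G) :=
        le_trans (inf_le_inf_right _ hVlt.le) hC
      have h1 : Q ≤ centralizer ((⁅U, P⁆ : Subgroup G) : Set G) :=
        ih _ (hcard_lt _ hVlt) (hU.to_le hVlt.le) hVP hVQ hVC
      have h1' : ⁅⁅U, P⁆, Q⁆ = ⊥ := by
        rw [commutator_eq_bot_iff_le_centralizer]
        rw [le_centralizer_iff]
        exact h1
      have h2 : ⁅⁅P, Q⁆, U⁆ = ⊥ := by
        have : ⁅P, Q⁆ = ⊥ := by
          rw [commutator_eq_bot_iff_le_centralizer]; exact hPQ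
        rw [this]
        rw [eq_bot_iff]
        exact commutator_le_left ⊥ U
      have h3 : ⁅⁅Q, U⁆, P⁆ = ⊥ := commutator_commutator_eq_bot_of_rotate h1' h2
      rw [commutator_comm Q U, hW] at h3
      -- P centralises U
      have h4 : U ≤ centralizer (P : Set G) := commutator_eq_bot_iff_le_centralizer.mp h3
      have h5 : U ≤ centralizer (Q : Set G) := le_trans (le_inf le_rfl h4) hC
      rw [le_centralizer_iff]
      exact h5
    · -- case [U, Q] < U
      have hWlt : ⁅U, Q⁆ < U := lt_of_le_of_ne hWU hW
      have hWQ : Q ≤ normalizer ((⁅U, Q⁆ : Subgroup G) : Set G) :=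
        le_normalizer_commutator_right U Q hQU
      have hWP : P ≤ normalizer ((⁅U, Q⁆ : Subgroup G) : Set G) := by
        intro x hx
        rw [← cj_eq_self_iff, cj, map_commutator, cj_def', cj_def',
          cj_eq_self_iff.mpr (hPU hx), hcjQ x hx]
      have hWC : ⁅U, Q⁆ ⊓ centralizer (P : Set G) ≤ centralizer (Q : Set G) :=
        le_trans (inf_le_inf_right _ hWlt.le) hC
      have h1 : Q ≤ centralizer ((⁅U, Q⁆ : Subgroup G) : Set G) :=
        ih _ (hcard_lt _ hWlt) (hU.to_le hWlt.le) hWP hWQ hWC
      have h1' : ⁅⁅U, Q⁆, Q⁆ = ⊥ := by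
        rw [commutator_eq_bot_iff_le_centralizer, le_centralizer_iff]
        exact h1
      rw [commutator_commutator_eq Q U hQU hcopQU (Or.inr hUsolv)] at h1'
      rw [← le_centralizer_iff]
      exact commutator_eq_bot_iff_le_centralizer.mp h1'

theorem thompson_PxQ [Finite G] {p : ℕ} [Fact p.Prime] (P Q U : Subgroup G) (hP : IsPGroup p P)
    (hQ : (Nat.card Q).Coprime p) (hU : IsPGroup p U) (hPQ : P ≤ centralizer (Q : Set G))
    (hPU : P ≤ normalizer (U : Set G)) (hQU : Q ≤ normalizer (U : Set G))
    (hC : U ⊓ centralizer (P : Set G) ≤ centralizer (Q : Set G)) :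
    Q ≤ centralizer (U : Set G) :=
  thompson_PxQ_aux P Q hP hQ hPQ _ U le_rfl hU hPU hQU hC

end pxq

end Cfsg.Agent.Lib.Helper24
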