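import Cfsg.Agent.Lib.Helper24.SZCompl

set_option autoImplicit false

universe u

namespace Cfsg.Agent.Lib.Helper24

open Subgroup
open Cfsg.Agent.Lib.Helper33
open scoped Pointwise

section fpl
variable {G : Type u} [Group G]

/-- Transport of conjugacy from a subgroup `X` to the ambient group. -/
theorem cj_subgroupOf_eq {X H K : Subgroup G} (hH : H ≤ X) (hK : K ≤ X) (x : X)
    (h : (H.subgroupOf X).map (MulAut.conj x).toMonoidHom = K.subgroupOf X) :
    cj (x : G) H = K := by
  have h5 := congrArg (map X.subtype) h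
  rw [map_map, subgroupOf_map_subtype, inf_of_le_left hK] at h5
  rw [← h5]
  have h7 : H = (H.subgroupOf X).map X.subtype := by
    rw [subgroupOf_map_subtype, inf_of_le_left hH]
  conv_lhs => rw [h7]
  rw [cj, map_map]
  congr 1

/-- **Fixed point lemma** (coprime action). Let `A` normalise `N`, with coprime orders and `N` or
`A` solvable. If `k` satisfies `a k a⁻¹ k⁻¹ ∈ N` for all `a ∈ A` (the coset `Nk` is `A`-invariant),
then there is `n ∈ N` such that `n⁻¹ k` centralises `A`. -/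
theorem fixed_point_lemma [Finite G] (N A : Subgroup G) (hAN : A ≤ normalizer (N : Set G))
    (hcop : (Nat.card A).Coprime (Nat.card N))
    (hsolv : Group.IsSolvable N ∨ Group.IsSolvable A)
    (k : G) (hk : ∀ a ∈ A, a * k * a⁻¹ * k⁻¹ ∈ N) :
    ∃ n ∈ N, n⁻¹ * k ∈ centralizer (A : Set G) := by
  set X := A ⊔ N with hX
  have hAX : A ≤ X := le_sup_left
  have hNX : N ≤ X := le_sup_right
  have hAN0 : A ⊓ N = ⊥ := (disjoint_of_coprime_natCard hcop).eq_bot
  -- N is normal in X
  have hXnorm : X ≤ normalizer (N : Set G) := sup_le hAN le_normalizer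
  haveI hN'n : (N.subgroupOf X).Normal := by
    rw [← normalizer_eq_top_iff]  
    rw [eq_top_iff]
    intro x _
    rw [mem_normalizer_iff]
    intro y
    have := (mem_normalizer_iff.mp (hXnorm x.2)) (y : G)
    simp only [mem_subgroupOf]
    exact this
  -- B = k A k⁻¹ ≤ X
  set B := cj k A with hB
  have hBX : B ≤ X := by
    intro b hb
    rw [hB, mem_cj'] at hb
    obtain ⟨a, ha, rfl⟩ := hb
    have h1 : k * a * k⁻¹ * a⁻¹ ∈ N := by
      have := N.inv_mem (hk a ha)
      have e : (a * k * a⁻¹ * k⁻¹)⁻¹ = k * a * k⁻¹ * a⁻¹ := by group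
      rwa [e] at this
    have e : k * a * k⁻¹ = (k * a * k⁻¹ * a⁻¹) * a := by group
    rw [e]
    exact X.mul_mem (hNX h1) (hAX ha)
  have hcardN : Nat.card (N.subgroupOf X) = Nat.card N :=
    Nat.card_congr (subgroupOfEquivOfLe hNX).toEquiv
  have hcardA : Nat.card (A.subgroupOf X) = Nat.card A :=
    Nat.card_congr (subgroupOfEquivOfLe hAX).toEquiv
  have hidx : (N.subgroupOf X).index = Nat.card A := by
    rw [← hcardA]
    symm
    apply card_eq_index_of_sup_eq_top
    · rw [← subgroupOf_sup hNX hAX, sup_comm, ← hX, subgroupOf_self]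
    · rw [hcardN, hcardA]; exact hcop.symm
  have hcopX : (Nat.card (N.subgroupOf X)).Coprime (N.subgroupOf X).index := by
    rw [hidx, hcardN]; exact hcop.symm
  have hcA : Nat.card (A.subgroupOf X) = (N.subgroupOf X).index := by
    rw [hidx, Nat.card_congr (subgroupOfEquivOfLe hAX).toEquiv]
  have hcB : Nat.card (B.subgroupOf X) = (N.subgroupOf X).index := by
    rw [hidx, Nat.card_congr (subgroupOfEquivOfLe hBX).toEquiv, hB, card_cj]
  have hAc := isComplement'_of_card_eq_index _ _ hcopX hcA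
  have hBc := isComplement'_of_card_eq_index _ _ hcopX hcB
  obtain ⟨x, hx, hconj⟩ : ∃ x ∈ N.subgroupOf X,
      (A.subgroupOf X).map (MulAut.conj x).toMonoidHom = B.subgroupOf X := by
    rcases hsolv with h | h
    · have hs : Group.IsSolvable (N.subgroupOf X) :=
        Group.isSolvable_of_isSolvable_injective
          (f := (subgroupOfEquivOfLe hNX).toMonoidHom) (subgroupOfEquivOfLe hNX).injective
      exact sz_conj_of_solvable_normal _ hs hcopX _ _ hAc hBc
    · have hs : Group.IsSolvable (A.subgroupOf X) :=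
        Group.isSolvable_of_isSolvable_injective
          (f := (subgroupOfEquivOfLe hAX).toMonoidHom) (subgroupOfEquivOfLe hAX).injective
      exact sz_conj_of_solvable_compl _ hcopX _ _ hs hAc hBc
  have hxN : (x : G) ∈ N := mem_subgroupOf.mp hx
  have hconjG : cj (x : G) A = cj k A := cj_subgroupOf_eq hAX hBX x hconj
  refine ⟨(x : G), hxN, ?_⟩
  set c := (x : G)⁻¹ * k with hc
  have hcA : cj c A = A := by
    rw [hc, cj_mul, ← hconjG, cj_inv_cj]
  rw [mem_centralizer_iff]
  intro a ha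
  -- c a c⁻¹ a⁻¹ ∈ A ⊓ N
  have h1 : c * a * c⁻¹ ∈ A := by
    have : c * a * c⁻¹ ∈ cj c A := conj_mem_cj ha
    rwa [hcA] at this
  have h2 : c * a * c⁻¹ * a⁻¹ ∈ A := A.mul_mem h1 (A.inv_mem ha)
  have h3 : c * a * c⁻¹ * a⁻¹ ∈ N := by
    have hn1 : a * (x : G)⁻¹ * a⁻¹ ∈ N := by
      have := (mem_normalizer_iff.mp (hAN ha)) (x : G)⁻¹
      exact this.mp (N.inv_mem hxN)
    have hn2 := hk a ha
    have e : (c * a * c⁻¹ * a⁻¹)⁻¹ = (a * (x : G)⁻¹ * a⁻¹) * (a * k * a⁻¹ * k⁻¹) * (x : G) := by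
      rw [hc]; group
    have : (c * a * c⁻¹ * a⁻¹)⁻¹ ∈ N := by
      rw [e]; exact N.mul_mem (N.mul_mem hn1 hn2) hxN
    simpa using N.inv_mem this
  have h4 : c * a * c⁻¹ * a⁻¹ ∈ A ⊓ N := ⟨h2, h3⟩
  rw [hAN0, mem_bot] at h4
  calc a * c = (c * a * c⁻¹ * a⁻¹)⁻¹ * (c * a) := by group
    _ = c * a := by rw [h4]; simp

end fpl

section comm
variable {G : Type u} [Group G]
open scoped commutatorElement

theorem commutator_le_of_le_normalizer (K A : Subgroup G) (hAK : A ≤ normalizer (K : Set G)) :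
    ⁅K, A⁆ ≤ K := by
  rw [commutator_le]
  intro k hk a ha
  rw [commutatorElement_def]
  have h1 : a * k⁻¹ * a⁻¹ ∈ K := (mem_normalizer_iff.mp (hAK ha) k⁻¹).mp (K.inv_mem hk)
  have e : k * a * k⁻¹ * a⁻¹ = k * (a * k⁻¹ * a⁻¹) := by group
  rw [e]; exact K.mul_mem hk h1

theorem le_normalizer_commutator_right (K A : Subgroup G) (hAK : A ≤ normalizer (K : Set G)) :
    A ≤ normalizer ((⁅K, A⁆ : Subgroup G) : Set G) := by
  intro a ha
  rw [← cj_eq_self_iff, cj, map_commutator]
  have h1 : cj a K = K := cj_eq_self_iff.mpr (hAK ha)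
  have h2 : cj a A = A := cj_eq_self_of_mem ha
  rw [cj_def', cj_def', h1, h2]

theorem le_normalizer_commutator_left (K A : Subgroup G) :
    K ≤ normalizer ((⁅K, A⁆ : Subgroup G) : Set G) := by
  intro k hk
  rw [mem_normalizer_iff]
  -- it suffices: conjugation by k and k⁻¹ preserve ⁅K, A⁆
  have key : ∀ x ∈ K, ∀ g ∈ ⁅K, A⁆, x * g * x⁻¹ ∈ ⁅K, A⁆ := by
    intro x hx g hg
    have hle : ⁅K, A⁆ ≤ (⁅K, A⁆ : Subgroup G).comap (MulAut.conj x).toMonoidHom := by
      rw [commutator_le]
      intro k' hk' a ha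
      rw [mem_comap]
      change x * ⁅k', a⁆ * x⁻¹ ∈ _
      have e : x * ⁅k', a⁆ * x⁻¹ = ⁅x * k', a⁆ * ⁅x, a⁆⁻¹ := by
        simp only [commutatorElement_def]; group
      rw [e]
      exact mul_mem (commutator_mem_commutator (K.mul_mem hx hk') ha)
        (inv_mem (commutator_mem_commutator hx ha))
    exact hle hg
  intro g
  constructor
  · intro h
    exact key k hk _ h
  · intro h
    have := key k⁻¹ (K.inv_mem hk) _ h
    simpa [mul_assoc] using this

/-- Coprime action: `K = [K, A] C_K(A)`. -/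
theorem commutator_sup_centralizer_eq [Finite G] (A K : Subgroup G)
    (hAK : A ≤ normalizer (K : Set G)) (hcop : (Nat.card A).Coprime (Nat.card K))
    (hsolv : Group.IsSolvable A ∨ Group.IsSolvable K) :
    ⁅K, A⁆ ⊔ (K ⊓ centralizer (A : Set G)) = K := by
  have hNK : ⁅K, A⁆ ≤ K := commutator_le_of_le_normalizer K A hAK
  apply le_antisymm (sup_le hNK inf_le_left)
  intro k hk
  have hcopN : (Nat.card A).Coprime (Nat.card (⁅K, A⁆ : Subgroup G)) :=
    Nat.Coprime.coprime_dvd_right (card_dvd_of_le hNK) hcop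
  have hsolv' : Group.IsSolvable (⁅K, A⁆ : Subgroup G) ∨ Group.IsSolvable A := by
    rcases hsolv with h | h
    · exact Or.inr h
    · left
      exact Group.isSolvable_of_isSolvable_injective (f := inclusion hNK)
        (inclusion_injective hNK)
  have hfix : ∀ a ∈ A, a * k * a⁻¹ * k⁻¹ ∈ ⁅K, A⁆ := by
    intro a ha
    have h1 : ⁅k, a⁆ ∈ ⁅K, A⁆ := commutator_mem_commutator hk ha
    have e : a * k * a⁻¹ * k⁻¹ = ⁅k, a⁆⁻¹ := by rw [commutatorElement_def]; group
    rw [e]; exact inv_mem h1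
  obtain ⟨n, hn, hc⟩ := fixed_point_lemma _ A (le_normalizer_commutator_right K A hAK) hcopN
    hsolv' k hfix
  have e : k = n * (n⁻¹ * k) := by group
  rw [e]
  exact mul_mem_sup hn ⟨K.mul_mem (K.inv_mem (hNK hn)) hk, hc⟩

/-- Coprime action: `[K, A, A] = [K, A]`. -/
theorem commutator_commutator_eq [Finite G] (A K : Subgroup G)
    (hAK : A ≤ normalizer (K : Set G)) (hcop : (Nat.card A).Coprime (Nat.card K))
    (hsolv : Group.IsSolvable A ∨ Group.IsSolvable K) :
    ⁅⁅K, A⁆, A⁆ = ⁅K, A⁆ := by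
  have hNK : ⁅K, A⁆ ≤ K := commutator_le_of_le_normalizer K A hAK
  apply le_antisymm (commutator_mono hNK le_rfl)
  rw [commutator_le]
  intro k hk a ha
  have hk' : k ∈ ⁅K, A⁆ ⊔ (K ⊓ centralizer (A : Set G)) := by
    rw [commutator_sup_centralizer_eq A K hAK hcop hsolv]; exact hk
  -- ⁅K, A⁆ is normal in K, so the sup is a product
  have hk'' : k ∈ ((⁅K, A⁆ ⊔ (K ⊓ centralizer (A : Set G)) : Subgroup G) : Set G) := hk'
  have hnorm : (K ⊓ centralizer (A : Set G)) ≤ normalizer ((⁅K, A⁆ : Subgroup G) : Set G) :=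
    le_trans inf_le_left (le_normalizer_commutator_left K A)
  rw [coe_mul_of_right_le_normalizer_left _ _ hnorm] at hk''
  obtain ⟨n, hn, c, hc, rfl⟩ := hk''
  have hca : c * a = a * c := by
    have h0 : c ∈ centralizer (A : Set G) := hc.2
    rw [mem_centralizer_iff] at h0
    exact (h0 a ha).symm
  change ⁅n * c, a⁆ ∈ _
  have e : ⁅n * c, a⁆ = ⁅n, a⁆ := by
    simp only [commutatorElement_def]
    calc n * c * a * (n * c)⁻¹ * a⁻¹ = n * (c * a) * c⁻¹ * n⁻¹ * a⁻¹ := by group
      _ = n * (a * c) * c⁻¹ * n⁻¹ * a⁻¹ := by rw [hca]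
      _ = n * a * n⁻¹ * a⁻¹ := by group
  rw [e]
  exact commutator_mem_commutator hn ha

end comm

section char
variable {G : Type u} [Group G]

/-- Conjugation by an element of the normalizer, as an automorphism of the subgroup. -/
def conjNormalizer (K : Subgroup G) (g : G) (hg : g ∈ normalizer (K : Set G)) : K ≃* K where
  toFun x := ⟨g * x * g⁻¹, (mem_normalizer_iff.mp hg x).mp x.2⟩
  invFun x := ⟨g⁻¹ * x * g, by
    have := (mem_normalizer_iff.mp (inv_mem hg) x).mp x.2
    simpa using this⟩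
  left_inv x := by apply Subtype.ext; simp [mul_assoc]
  right_inv x := by apply Subtype.ext; simp [mul_assoc]
  map_mul' x y := by apply Subtype.ext; simp [mul_assoc]

theorem conj_mem_map_of_characteristic (K : Subgroup G) (C : Subgroup K) [hC : C.Characteristic]
    (g : G) (hg : g ∈ normalizer (K : Set G)) (h : G) (hh : h ∈ C.map K.subtype) :
    g * h * g⁻¹ ∈ C.map K.subtype := by
  obtain ⟨c, hc, rfl⟩ := hh
  have h1 : C.map (conjNormalizer K g hg).toMonoidHom = C :=
    (characteristic_iff_map_eq.mp hC) (conjNormalizer K g hg)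
  have h2 : (conjNormalizer K g hg) c ∈ C := by
    rw [← h1]; exact mem_map_of_mem _ hc
  exact ⟨_, h2, rfl⟩

/-- A characteristic subgroup of `K` is normalised by the normaliser of `K`. -/
theorem normalizer_le_normalizer_map_of_characteristic (K : Subgroup G) (C : Subgroup K)
    [hC : C.Characteristic] :
    normalizer (K : Set G) ≤ normalizer ((C.map K.subtype : Subgroup G) : Set G) := by
  intro g hg
  rw [mem_normalizer_iff]
  intro h
  constructor
  · exact conj_mem_map_of_characteristic K C g hg h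
  · intro hh
    have := conj_mem_map_of_characteristic K C g⁻¹ (inv_mem hg) _ hh
    simpa [mul_assoc] using this

end char

section more
variable {G : Type u} [Group G]

/-- Coprime action: fixed points of a product of invariant subgroups factor. -/
theorem centralizer_mul_factor [Finite G] (A K : Subgroup G)
    (hcop : (Nat.card A).Coprime (Nat.card K)) (hsolv : Group.IsSolvable A ∨ Group.IsSolvable K)
    (X Y : Subgroup G) (hX : X ≤ K) (hXA : A ≤ normalizer (X : Set G))
    (hYA : A ≤ normalizer (Y : Set G))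
    (x y : G) (hx : x ∈ X) (hy : y ∈ Y) (hk : x * y ∈ centralizer (A : Set G)) :
    ∃ x' ∈ X ⊓ centralizer (A : Set G), ∃ y' ∈ Y ⊓ centralizer (A : Set G), x * y = x' * y' := by
  set D := X ⊓ Y with hD
  have hDK : D ≤ K := le_trans inf_le_left hX
  have hDA : A ≤ normalizer (D : Set G) := by
    intro a ha
    rw [← cj_eq_self_iff, hD, cj_inf, cj_eq_self_iff.mpr (hXA ha), cj_eq_self_iff.mpr (hYA ha)]
  have hcopD : (Nat.card A).Coprime (Nat.card D) :=
    Nat.Coprime.coprime_dvd_right (card_dvd_of_le hDK) hcop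
  have hsolv' : Group.IsSolvable D ∨ Group.IsSolvable A := by
    rcases hsolv with h | h
    · exact Or.inr h
    · left
      exact Group.isSolvable_of_isSolvable_injective (f := inclusion hDK)
        (inclusion_injective hDK)
  have hfix : ∀ a ∈ A, a * x⁻¹ * a⁻¹ * x⁻¹⁻¹ ∈ D := by
    intro a ha
    rw [inv_inv]
    have hk' : a * (x * y) = (x * y) * a := by
      rw [mem_centralizer_iff] at hk
      exact hk a ha
    have hxa : a * x⁻¹ * a⁻¹ ∈ X := (mem_normalizer_iff.mp (hXA ha) x⁻¹).mp (X.inv_mem hx)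
    have hya : a * y * a⁻¹ ∈ Y := (mem_normalizer_iff.mp (hYA ha) y).mp hy
    refine ⟨X.mul_mem hxa hx, ?_⟩
    -- a x⁻¹ a⁻¹ x = (a y a⁻¹) y⁻¹
    have e : a * x⁻¹ * a⁻¹ * x = (a * y * a⁻¹) * y⁻¹ := by
      have h1 : a * x⁻¹ * a⁻¹ * x = a * x⁻¹ * a⁻¹ * ((x * y) * a) * a⁻¹ * y⁻¹ := by group
      rw [h1, ← hk']; group
    rw [e]
    exact Y.mul_mem hya (Y.inv_mem hy)
  obtain ⟨n, hn, hc⟩ := fixed_point_lemma D A hDA hcopD hsolv' x⁻¹ hfix
  have hc' : x * n ∈ centralizer (A : Set G) := by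
    have := (centralizer (A : Set G)).inv_mem hc
    simpa using this
  refine ⟨x * n, ⟨X.mul_mem hx hn.1, hc'⟩, n⁻¹ * y, ⟨Y.mul_mem (Y.inv_mem hn.2) hy, ?_⟩, by group⟩
  have e : n⁻¹ * y = (x * n)⁻¹ * (x * y) := by group
  rw [e]
  exact (centralizer (A : Set G)).mul_mem ((centralizer (A : Set G)).inv_mem hc') hk

end more

end Cfsg.Agent.Lib.Helper24
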