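import Cfsg.Agent.Lib.Helper24.CoprimeAbelian

set_option autoImplicit false
set_option linter.style.haveILetI false

universe u

namespace Cfsg.Agent.Lib.Helper24

open Subgroup
open Cfsg.Agent.Lib.Helper33
open scoped commutatorElement

section abquot
variable {G : Type u} [Group G]

/-- Coprime action on an abelian quotient `P/M` (with `M` normal in the whole group): an element
of `[P, A] M` centralised by `A` lies in `M`. -/
theorem comm_inf_cent_le_of_abelian_quotient_normal [Finite G] (P A M : Subgroup G) [M.Normal]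
    (hAP : A ≤ normalizer (P : Set G)) (hcop : (Nat.card A).Coprime (Nat.card P))
    (hab : ⁅P, P⁆ ≤ M) :
    (⁅P, A⁆ ⊔ M) ⊓ centralizer (A : Set G) ≤ M := by
  set π := QuotientGroup.mk' M with hπ
  have hcomm : ⁅P.map π, P.map π⁆ = ⊥ := by
    rw [← map_commutator, eq_bot_iff]
    calc (⁅P, P⁆).map π ≤ M.map π := map_mono hab
      _ = ⊥ := QuotientGroup.map_mk'_self M
  haveI : IsMulCommutative (P.map π) :=
    le_centralizer_iff_isMulCommutative.mp (commutator_eq_bot_iff_le_centralizer.mp hcomm)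
  have hnorm : A.map π ≤ normalizer ((P.map π : Subgroup (G ⧸ M)) : Set (G ⧸ M)) :=
    le_trans (map_mono hAP) (le_normalizer_map π)
  have hcop' : (Nat.card (A.map π)).Coprime (Nat.card (P.map π)) :=
    Nat.Coprime.coprime_dvd_left (card_map_dvd _ π) (Nat.Coprime.coprime_dvd_right (card_map_dvd _ π) hcop)
  have key := commutator_inf_centralizer_eq_bot_of_abelian (P.map π) (A.map π) hnorm hcop'
  intro x hx
  have h1 : π x ∈ ⁅P.map π, A.map π⁆ := by
    have : π x ∈ (⁅P, A⁆ ⊔ M).map π := mem_map_of_mem π hx.1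
    rwa [Subgroup.map_sup, QuotientGroup.map_mk'_self, sup_bot_eq, map_commutator] at this
  have h2 : π x ∈ centralizer ((A.map π : Subgroup (G ⧸ M)) : Set (G ⧸ M)) := by
    rw [mem_centralizer_iff]
    rintro _ ⟨a, ha, rfl⟩
    have h3 : a * x = x * a := (mem_centralizer_iff.mp hx.2) a ha
    rw [← map_mul, ← map_mul, h3]
  have h3 : π x ∈ (⊥ : Subgroup (G ⧸ M)) := by
    rw [← key]; exact ⟨h1, h2⟩
  rw [mem_bot] at h3
  exact (QuotientGroup.eq_one_iff x).mp h3

/-- Coprime action on an abelian quotient `P/M`, `M` normalised by `P` and `A`. -/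
theorem comm_inf_cent_le_of_abelian_quotient [Finite G] (P A M : Subgroup G)
    (hPM : P ≤ normalizer (M : Set G)) (hAM : A ≤ normalizer (M : Set G))
    (hAP : A ≤ normalizer (P : Set G)) (hcop : (Nat.card A).Coprime (Nat.card P))
    (hab : ⁅P, P⁆ ≤ M) :
    (⁅P, A⁆ ⊔ M) ⊓ centralizer (A : Set G) ≤ M := by
  set N := normalizer (M : Set G) with hN
  haveI : (M.subgroupOf N).Normal := normal_in_normalizer
  have hmapP : (P.subgroupOf N).map N.subtype = P := map_subgroupOf_eq_of_le hPM
  have hmapA : (A.subgroupOf N).map N.subtype = A := map_subgroupOf_eq_of_le hAM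
  have hmapM : (M.subgroupOf N).map N.subtype = M := map_subgroupOf_eq_of_le le_normalizer
  have hAP' : A.subgroupOf N ≤ normalizer ((P.subgroupOf N : Subgroup N) : Set N) := by
    intro a ha
    rw [mem_normalizer_iff]
    intro h
    have := (mem_normalizer_iff.mp (hAP (mem_subgroupOf.mp ha))) (h : G)
    simp only [mem_subgroupOf]
    simpa using this
  have hcop' : (Nat.card (A.subgroupOf N)).Coprime (Nat.card (P.subgroupOf N)) := by
    rw [Nat.card_congr (subgroupOfEquivOfLe hPM).toEquiv,
      Nat.card_congr (subgroupOfEquivOfLe hAM).toEquiv]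
    exact hcop
  have hab' : ⁅P.subgroupOf N, P.subgroupOf N⁆ ≤ M.subgroupOf N := by
    rw [commutator_le]
    intro a ha b hb
    rw [mem_subgroupOf]
    apply hab
    have : ((⁅a, b⁆ : N) : G) = ⁅(a : G), (b : G)⁆ := by
      simp [commutatorElement_def]
    rw [this]
    exact commutator_mem_commutator (mem_subgroupOf.mp ha) (mem_subgroupOf.mp hb)
  have key := comm_inf_cent_le_of_abelian_quotient_normal (P.subgroupOf N) (A.subgroupOf N)
    (M.subgroupOf N) hAP' hcop' hab'
  intro x hx
  have hPA : ⁅P, A⁆ ≤ P := commutator_le_of_le_normalizer P A hAP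
  have hxN : x ∈ N := (sup_le (hPA.trans hPM) le_normalizer) hx.1
  have h1 : (⟨x, hxN⟩ : N) ∈ ⁅P.subgroupOf N, A.subgroupOf N⁆ ⊔ M.subgroupOf N := by
    rw [← mem_map_iff_mem N.subtype_injective, Subgroup.map_sup, map_commutator, hmapP, hmapA,
      hmapM]
    exact hx.1
  have h2 : (⟨x, hxN⟩ : N) ∈ centralizer ((A.subgroupOf N : Subgroup N) : Set N) := by
    rw [mem_centralizer_iff]
    intro a ha
    apply Subtype.ext
    exact (mem_centralizer_iff.mp hx.2) (a : G) (mem_subgroupOf.mp ha)
  have h3 := key ⟨h1, h2⟩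
  exact mem_subgroupOf.mp h3

end abquot

end Cfsg.Agent.Lib.Helper24
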