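import Cfsg.Agent.Lib.Helper24.Omega1

set_option autoImplicit false
set_option linter.style.haveILetI false

universe u

namespace Cfsg.Agent.Lib.Helper24

open Subgroup
open Cfsg.Agent.Lib.Helper33
open scoped Pointwise commutatorElement

section omega1exp
variable {G : Type u} [Group G]

/-- If `Φ(D)` is central in the `p`-group `D`, then `D' ≤ Z(D)` (in the subtype). -/
theorem commutator_le_center_of_frattini_central [Finite G] {p : ℕ} [Fact p.Prime]
    (D : Subgroup G) (hD : IsPGroup p D)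
    (hTZ : (frattini D).map D.subtype ≤ centralizer (D : Set G)) :
    commutator D ≤ Subgroup.center D := by
  intro c hc
  have hcT : (c : G) ∈ (frattini D).map D.subtype :=
    ⟨c, commutator_le_frattini_of_isPGroup hD hc, rfl⟩
  rw [Subgroup.mem_center_iff]
  intro g
  apply Subtype.ext
  have := hTZ hcT
  rw [mem_centralizer_iff] at this
  exact this g g.2

/-- `p` odd, `Φ(D)` central in `D` and centralised by `A`: every commutator `[x, a]` with `x ∈ D`,
`a ∈ A` has `p`-th power one. -/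
theorem commutatorElement_pow_eq_one [Finite G] {p : ℕ} [Fact p.Prime] (hp2 : p ≠ 2)
    (A D : Subgroup G) (hD : IsPGroup p D) (hAD : A ≤ normalizer (D : Set G))
    (hTZ : (frattini D).map D.subtype ≤ centralizer (D : Set G))
    (hAT' : A ≤ centralizer (((frattini D).map D.subtype : Subgroup G) : Set G)) :
    ∀ x ∈ D, ∀ a ∈ A, ⁅x, a⁆ ^ p = 1 := by
  have hle : commutator D ≤ Subgroup.center D :=
    commutator_le_center_of_frattini_central D hD hTZ
  have hpowT : ∀ x : D, ((x ^ p : D) : G) ∈ (frattini D).map D.subtype :=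
    fun x => ⟨x ^ p, pow_mem_frattini_of_isPGroup hD x, rfl⟩
  intro x hx a ha
  have hy : a * x⁻¹ * a⁻¹ ∈ D := (mem_normalizer_iff.mp (hAD ha) x⁻¹).mp (D.inv_mem hx)
  have hYp : (⟨a * x⁻¹ * a⁻¹, hy⟩ : D) ^ p ∈ Subgroup.center D := by
    rw [Subgroup.mem_center_iff]; intro g; apply Subtype.ext
    have := hTZ (hpowT ⟨a * x⁻¹ * a⁻¹, hy⟩)
    rw [mem_centralizer_iff] at this
    exact this g g.2
  have hcm : (Cfsg.Agent.Lib.Helper29.cm (⟨a * x⁻¹ * a⁻¹, hy⟩ : D) ⟨x, hx⟩) ^ p = 1 := by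
    rw [← Cfsg.Agent.Lib.Helper29.cm_pow_left hle _ _ p,
      Cfsg.Agent.Lib.Helper29.cm_eq_one_iff]
    exact ((Subgroup.mem_center_iff.mp hYp) ⟨x, hx⟩).symm
  have hmul := Cfsg.Agent.Lib.Helper29.mul_pow_prime_classTwo hle (Fact.out : p.Prime) hp2
    (⟨x, hx⟩ : D) ⟨a * x⁻¹ * a⁻¹, hy⟩ hcm
  have hmul' : (x * (a * x⁻¹ * a⁻¹)) ^ p = x ^ p * (a * x⁻¹ * a⁻¹) ^ p := by
    have := congrArg (Subtype.val) hmul
    simpa using this
  have hxp : Commute a (x ^ p) := by
    have h1 := hAT' ha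
    rw [mem_centralizer_iff] at h1
    have h2 := hpowT ⟨x, hx⟩
    exact (h1 _ h2).symm
  have e1 : ⁅x, a⁆ = x * (a * x⁻¹ * a⁻¹) := by rw [commutatorElement_def]; group
  rw [e1, hmul']
  have e2 : (a * x⁻¹ * a⁻¹) ^ p = a * (x ^ p)⁻¹ * a⁻¹ := by
    rw [conj_pow, inv_pow]
  rw [e2, hxp.inv_right.eq]
  group

/-- `p` odd, `Φ(D)` central in `D` and centralised by `A`: `[D, A]` has exponent dividing `p`. -/
theorem pow_eq_one_of_mem_commutator [Finite G] {p : ℕ} [Fact p.Prime] (hp2 : p ≠ 2)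
    (A D : Subgroup G) (hD : IsPGroup p D) (hAD : A ≤ normalizer (D : Set G))
    (hTZ : (frattini D).map D.subtype ≤ centralizer (D : Set G))
    (hAT' : A ≤ centralizer (((frattini D).map D.subtype : Subgroup G) : Set G)) :
    ∀ y ∈ ⁅D, A⁆, y ^ p = 1 := by
  have hle : commutator D ≤ Subgroup.center D :=
    commutator_le_center_of_frattini_central D hD hTZ
  have hcp := commutatorElement_pow_eq_one hp2 A D hD hAD hTZ hAT'
  have hDA : ⁅D, A⁆ ≤ D := commutator_le_of_le_normalizer D A hAD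
  have key : ⁅D, A⁆ ≤ (Subgroup.closure {x : D | x ^ p = 1}).map D.subtype := by
    rw [commutator_le]
    intro x hx a ha
    have hcD : ⁅x, a⁆ ∈ D := hDA (commutator_mem_commutator hx ha)
    refine ⟨⟨⁅x, a⁆, hcD⟩, Subgroup.subset_closure ?_, rfl⟩
    apply Subtype.ext
    simpa using hcp x hx a ha
  intro y hy
  obtain ⟨z, hz, rfl⟩ := key hy
  have := Cfsg.Agent.Lib.Helper29.pow_prime_eq_one_of_mem_closure hle (Fact.out : p.Prime) hp2 z hz
  have h2 := congrArg Subtype.val this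
  simpa using h2

end omega1exp

end Cfsg.Agent.Lib.Helper24
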