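import Cfsg.Agent.Lib.Helper24.PxQ
import Cfsg.Agent.Lib.Helper1.PFrattini
import Cfsg.Agent.Lib.Helper29.ClassTwo
import Mathlib.GroupTheory.Frattini

set_option autoImplicit false
set_option linter.style.haveILetI false

universe u

namespace Cfsg.Agent.Lib.Helper24

open Subgroup
open Cfsg.Agent.Lib.Helper33
open scoped Pointwise commutatorElement

section omega1
variable {G : Type u} [Group G]

/-- In a finite `p`-group, the commutator subgroup lies in the Frattini subgroup. -/
theorem commutator_le_frattini_of_isPGroup {P : Type*} [Group P] [Finite P] {p : ℕ}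
    [Fact p.Prime] (hP : IsPGroup p P) : commutator P ≤ frattini P := by
  unfold frattini Order.radical
  exact le_iInf₂ (fun M hM => Cfsg.Agent.Lib.Helper1.commutator_le_coatom_of_isPGroup hP M hM)

/-- In a finite `p`-group, `p`-th powers lie in the Frattini subgroup. -/
theorem pow_mem_frattini_of_isPGroup {P : Type*} [Group P] [Finite P] {p : ℕ}
    [Fact p.Prime] (hP : IsPGroup p P) (x : P) : x ^ p ∈ frattini P := by
  unfold frattini Order.radical
  simp only [Subgroup.mem_iInf]
  exact fun M hM => Cfsg.Agent.Lib.Helper1.pow_mem_coatom_of_isPGroup hP M hM x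

/-- The Frattini subgroup of a nontrivial finite group is proper. -/
theorem frattini_lt_top {P : Type*} [Group P] [Finite P] [Nontrivial P] : frattini P < ⊤ := by
  obtain ⟨M, hM⟩ : ∃ M : Subgroup P, IsCoatom M := by
    rcases eq_top_or_exists_le_coatom (⊥ : Subgroup P) with h | ⟨M, hM, _⟩
    · exact absurd h bot_ne_top
    · exact ⟨M, hM⟩
  exact lt_of_le_of_lt (frattini_le_coatom hM) hM.lt_top

/-- **Ω₁-lemma**, inductive form: for `p` odd, a `p'`-group `A` normalising a `p`-group `D` and
centralising every element of order `p` of `D` centralises `D`. -/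
theorem omega1_aux [Finite G] {p : ℕ} [Fact p.Prime] (hp2 : p ≠ 2) (A : Subgroup G)
    (hcop : (Nat.card A).Coprime p) (n : ℕ) :
    ∀ D : Subgroup G, Nat.card D ≤ n → IsPGroup p D → A ≤ normalizer (D : Set G) →
      (∀ x ∈ D, orderOf x = p → A ≤ centralizer ({x} : Set G)) →
      A ≤ centralizer (D : Set G) := by
  induction n with
  | zero =>
    intro D hcard
    have : 0 < Nat.card D := Nat.card_pos
    omega
  | succ n ih =>
    intro D hcard hD hAD hfix
    by_contra hnot
    have hD1 : D ≠ ⊥ := by
      rintro rfl
      apply hnot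
      intro a _
      rw [mem_centralizer_iff]
      intro u hu
      have : u = 1 := by simpa using hu
      rw [this]; simp
    have hcopAD : (Nat.card A).Coprime (Nat.card D) := by
      obtain ⟨k, hk⟩ := (IsPGroup.iff_card).mp hD
      rw [hk]; exact Nat.Coprime.pow_right k hcop
    have hDsolv : Group.IsSolvable D := by
      haveI : Group.IsNilpotent D := hD.isNilpotent
      infer_instance
    have hcard_lt : ∀ V : Subgroup G, V < D → Nat.card V ≤ n := by
      intro V hV
      by_contra hcon
      push Not at hcon
      have h1 : Nat.card D ≤ Nat.card V := by omega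
      exact hV.ne (eq_of_le_of_card_ge hV.le h1)
    have ihM : ∀ M : Subgroup G, M < D → A ≤ normalizer (M : Set G) →
        A ≤ centralizer (M : Set G) := by
      intro M hM hAM
      exact ih M (hcard_lt M hM) (hD.to_le hM.le) hAM (fun x hx => hfix x (hM.le hx))
    -- step (a): [D, A] = D
    have hWD : ⁅D, A⁆ = D := by
      by_contra hW
      have hWlt : ⁅D, A⁆ < D := lt_of_le_of_ne (commutator_le_of_le_normalizer D A hAD) hW
      have h1 := ihM _ hWlt (le_normalizer_commutator_right D A hAD)
      have h1' : ⁅⁅D, A⁆, A⁆ = ⊥ := by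
        rw [commutator_eq_bot_iff_le_centralizer, le_centralizer_iff]
        exact h1
      rw [commutator_commutator_eq A D hAD hcopAD (Or.inr hDsolv)] at h1'
      apply hnot
      rw [← le_centralizer_iff]
      exact commutator_eq_bot_iff_le_centralizer.mp h1'
    -- step (b): proper invariant normal subgroups are central
    have hcentral : ∀ M : Subgroup G, M < D → A ≤ normalizer (M : Set G) →
        D ≤ normalizer (M : Set G) → M ≤ centralizer (D : Set G) := by
      intro M hM hAM hDM
      have h1 := ihM M hM hAM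
      have hMA : ⁅M, A⁆ = ⊥ := by
        rw [commutator_eq_bot_iff_le_centralizer, le_centralizer_iff]; exact h1
      have h2 : ⁅⁅M, A⁆, D⁆ = ⊥ := by
        rw [hMA]; exact commutator_bot_left D
      have h3 : ⁅⁅D, M⁆, A⁆ = ⊥ := by
        have hle : ⁅D, M⁆ ≤ M := by
          rw [commutator_comm]; exact commutator_le_of_le_normalizer M D hDM
        rw [eq_bot_iff, ← hMA]
        exact commutator_mono hle le_rfl
      have h4 : ⁅⁅A, D⁆, M⁆ = ⊥ := commutator_commutator_eq_bot_of_rotate h3 h2
      rw [commutator_comm A D, hWD] at h4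
      rw [le_centralizer_iff]
      exact commutator_eq_bot_iff_le_centralizer.mp h4
    -- step (c): the Frattini subgroup
    haveI : Nontrivial D := (Subgroup.nontrivial_iff_ne_bot D).mpr hD1
    set T : Subgroup G := (frattini D).map D.subtype with hT
    have hTlt : T < D := by
      have h1 : frattini D < ⊤ := frattini_lt_top
      have h2 : T ≤ D := map_subtype_le _
      refine lt_of_le_of_ne h2 ?_
      intro heq
      apply h1.ne
      rw [eq_top_iff]
      intro x _
      have hx : (x : G) ∈ T := by rw [heq]; exact x.2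
      obtain ⟨y, hy, hyx⟩ := hx
      have : y = x := Subtype.ext hyx
      rwa [← this]
    have hAT : A ≤ normalizer (T : Set G) :=
      le_trans hAD (normalizer_le_normalizer_map_of_characteristic D (frattini D))
    have hDT : D ≤ normalizer (T : Set G) :=
      le_trans le_normalizer (normalizer_le_normalizer_map_of_characteristic D (frattini D))
    have hTZ : T ≤ centralizer (D : Set G) := hcentral T hTlt hAT hDT
    have hAT' : A ≤ centralizer (T : Set G) := ihM T hTlt hAT
    -- step (d): D has class at most two, p-th powers central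
    have hle : commutator D ≤ Subgroup.center D := by
      intro c hc
      have hcT : (c : G) ∈ T := ⟨c, commutator_le_frattini_of_isPGroup hD hc, rfl⟩
      rw [Subgroup.mem_center_iff]
      intro g
      apply Subtype.ext
      have := hTZ hcT
      rw [mem_centralizer_iff] at this
      exact this g g.2
    have hpowT : ∀ x : D, ((x ^ p : D) : G) ∈ T :=
      fun x => ⟨x ^ p, pow_mem_frattini_of_isPGroup hD x, rfl⟩
    -- step (e): commutators [x, a] have p-th power one
    have hcp : ∀ x ∈ D, ∀ a ∈ A, ⁅x, a⁆ ^ p = 1 := by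
      intro x hx a ha
      have hy : a * x⁻¹ * a⁻¹ ∈ D := (mem_normalizer_iff.mp (hAD ha) x⁻¹).mp (D.inv_mem hx)
      have hYp : (⟨a * x⁻¹ * a⁻¹, hy⟩ : D) ^ p ∈ Subgroup.center D := by
        rw [Subgroup.mem_center_iff]; intro g; apply Subtype.ext
        have := hTZ (hpowT ⟨a * x⁻¹ * a⁻¹, hy⟩)
        rw [mem_centralizer_iff] at this
        exact this g g.2
      have hcm : (Cfsg.Agent.Lib.Helper29.cm (⟨a * x⁻¹ * a⁻¹, hy⟩ : D) ⟨x, hx⟩) ^ p = 1 := by
        rw [← Cfsg.Agent.Lib.Helper29.cm_pow_left hle _ _ p,
          Cfsg.Agent.Lib.Helper29.cm_eq_one_iff]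
        exact ((Subgroup.mem_center_iff.mp hYp) ⟨x, hx⟩).symm
      have hmul := Cfsg.Agent.Lib.Helper29.mul_pow_prime_classTwo hle (Fact.out : p.Prime) hp2
        (⟨x, hx⟩ : D) ⟨a * x⁻¹ * a⁻¹, hy⟩ hcm
      have hmul' : (x * (a * x⁻¹ * a⁻¹)) ^ p = x ^ p * (a * x⁻¹ * a⁻¹) ^ p := by
        have := congrArg (Subtype.val) hmul
        simpa using this
      have hxp : Commute a (x ^ p) := by
        have h1 := hAT' ha
        rw [mem_centralizer_iff] at h1
        have h2 := hpowT ⟨x, hx⟩
        exact (h1 _ h2).symm
      have e1 : ⁅x, a⁆ = x * (a * x⁻¹ * a⁻¹) := by rw [commutatorElement_def]; group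
      rw [e1, hmul']
      have e2 : (a * x⁻¹ * a⁻¹) ^ p = a * (x ^ p)⁻¹ * a⁻¹ := by
        rw [conj_pow, inv_pow]
      rw [e2, hxp.inv_right.eq]
      group
    have hfin : ⁅D, A⁆ ≤ centralizer (A : Set G) := by
      rw [commutator_le]
      intro x hx a ha
      have hcD : ⁅x, a⁆ ∈ D :=
        (commutator_le_of_le_normalizer D A hAD) (commutator_mem_commutator hx ha)
      by_cases h1 : ⁅x, a⁆ = 1
      · rw [h1]; exact one_mem _
      · have hord : orderOf ⁅x, a⁆ = p := orderOf_eq_prime (hcp x hx a ha) h1
        have h2 := hfix _ hcD hord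
        rw [mem_centralizer_iff]
        intro b hb
        have hb' := h2 hb
        rw [mem_centralizer_iff] at hb'
        exact (hb' _ (Set.mem_singleton _)).symm
    rw [hWD] at hfin
    exact hnot (le_centralizer_iff.mp hfin)

/-- **Ω₁-lemma**: for `p` odd, a `p'`-group `A` normalising a `p`-group `D` and centralising
every element of order `p` of `D` centralises `D`. -/
theorem omega1_centralizer [Finite G] {p : ℕ} [Fact p.Prime] (hp2 : p ≠ 2) (A D : Subgroup G)
    (hcop : (Nat.card A).Coprime p) (hD : IsPGroup p D) (hAD : A ≤ normalizer (D : Set G))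
    (hfix : ∀ x ∈ D, orderOf x = p → A ≤ centralizer ({x} : Set G)) :
    A ≤ centralizer (D : Set G) :=
  omega1_aux hp2 A hcop _ D le_rfl hD hAD hfix

end omega1

end Cfsg.Agent.Lib.Helper24
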