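import Mathlib.GroupTheory.Nilpotent
import Mathlib.GroupTheory.PGroup
import Mathlib.GroupTheory.OrderOfElement

set_option autoImplicit false
set_option linter.style.haveILetI false

namespace Cfsg.Agent.Lib.Helper24

section nilpcrit

/-- A finite group in which every element of order prime to `q` is central is nilpotent. -/
theorem isNilpotent_of_pPrime_central {N : Type*} [Group N] [Finite N] (q : ℕ) [hq : Fact q.Prime]
    (h : ∀ y : N, (orderOf y).Coprime q → y ∈ Subgroup.center N) : Group.IsNilpotent N := by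
  apply Group.of_quotient_center_nilpotent
  have hP : IsPGroup q (N ⧸ Subgroup.center N) := by
    intro g
    obtain ⟨n, rfl⟩ := QuotientGroup.mk_surjective g
    have hm0 : orderOf n ≠ 0 := (orderOf_pos n).ne'
    obtain ⟨e, m', hm', hm⟩ := Nat.exists_eq_pow_mul_and_not_dvd hm0 q hq.out.ne_one
    refine ⟨e, ?_⟩
    rw [← QuotientGroup.mk_pow, QuotientGroup.eq_one_iff]
    apply h
    have hord : orderOf (n ^ (q ^ e)) = m' := by
      rw [orderOf_pow, hm, Nat.gcd_mul_right_left]
      exact Nat.mul_div_cancel_left m' (pow_pos hq.out.pos e)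
    rw [hord]
    exact ((Nat.Prime.coprime_iff_not_dvd hq.out).mpr hm').symm
  exact hP.isNilpotent

/-- If `g ^ a` and `g ^ b` lie in a subgroup and `a`, `b` are coprime, then so does `g`. -/
theorem mem_of_pow_mem_of_coprime {G : Type*} [Group G] (F : Subgroup G) (g : G) {a b : ℕ}
    (hab : a.Coprime b) (ha : g ^ a ∈ F) (hb : g ^ b ∈ F) : g ∈ F := by
  have h1 : (a : ℤ) * Nat.gcdA a b + (b : ℤ) * Nat.gcdB a b = 1 := by
    have := Nat.gcd_eq_gcd_ab a b
    rw [hab.gcd_eq_one] at this
    simpa using this.symm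
  have h2 : g = (g ^ a) ^ (Nat.gcdA a b) * (g ^ b) ^ (Nat.gcdB a b) := by
    rw [← zpow_natCast, ← zpow_natCast, ← zpow_mul, ← zpow_mul, ← zpow_add, h1, zpow_one]
  rw [h2]
  exact F.mul_mem (F.zpow_mem ha _) (F.zpow_mem hb _)

end nilpcrit

end Cfsg.Agent.Lib.Helper24
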