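import Cfsg.Agent.Lib.Helper24.RelSZ

set_option autoImplicit false

universe u

namespace Cfsg.Agent.Lib.Helper24

open Subgroup
open Cfsg.Agent.Lib.Helper33
open scoped Pointwise

section glauberman
variable {G : Type u} [Group G]

theorem relIndex_sup_right_of_le_normalizer (H K : Subgroup G) (h : H ≤ normalizer (K : Set G)) :
    K.relIndex (H ⊔ K) = K.relIndex H := by
  letI := Subgroup.normal_subgroupOf_of_le_normalizer h
  letI := Subgroup.normal_subgroupOf_sup_of_le_normalizer h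
  exact Nat.card_congr (QuotientGroup.quotientInfEquivProdNormalizerQuotient H K h).toEquiv.symm

/-- If `A` normalises `K` and `A ⊓ K = ⊥` then `|AK : K| = |A|`. -/
theorem relIndex_sup_eq_card (A K : Subgroup G) (h : A ≤ normalizer (K : Set G))
    (h0 : A ⊓ K = ⊥) : K.relIndex (A ⊔ K) = Nat.card A := by
  rw [relIndex_sup_right_of_le_normalizer A K h, ← inf_relIndex_right, inf_comm, h0,
    relIndex_bot_left]

/-- If `c` normalises `A`, lies in `K`, `A` normalises `K` and `A ⊓ K = ⊥`, then `c` centralises `A`. -/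
theorem mem_centralizer_of_cj_eq (A K : Subgroup G) (hAK : A ≤ normalizer (K : Set G))
    (h0 : A ⊓ K = ⊥) (c : G) (hcK : c ∈ K) (hcA : cj c A = A) :
    c ∈ centralizer (A : Set G) := by
  rw [mem_centralizer_iff]
  intro a ha
  have h1 : c * a * c⁻¹ ∈ A := by
    have : c * a * c⁻¹ ∈ cj c A := conj_mem_cj ha
    rwa [hcA] at this
  have h2 : c * a * c⁻¹ * a⁻¹ ∈ A := A.mul_mem h1 (A.inv_mem ha)
  have h3 : c * a * c⁻¹ * a⁻¹ ∈ K := by
    have h4 : a * c⁻¹ * a⁻¹ ∈ K := (mem_normalizer_iff.mp (hAK ha) c⁻¹).mp (K.inv_mem hcK)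
    have e : c * a * c⁻¹ * a⁻¹ = c * (a * c⁻¹ * a⁻¹) := by group
    rw [e]; exact K.mul_mem hcK h4
  have h4 : c * a * c⁻¹ * a⁻¹ ∈ A ⊓ K := ⟨h2, h3⟩
  rw [h0, mem_bot] at h4
  calc a * c = (c * a * c⁻¹ * a⁻¹)⁻¹ * (c * a) := by group
    _ = c * a := by rw [h4]; simp

/-- **Glauberman's lemma**, existence, for a `K`-conjugacy class of subgroups stable under `A`. -/
theorem glauberman_exists [Finite G] (A K U : Subgroup G) (hAK : A ≤ normalizer (K : Set G))
    (hcop : (Nat.card A).Coprime (Nat.card K))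
    (hsolv : Group.IsSolvable A ∨ Group.IsSolvable K)
    (hU : ∀ a ∈ A, ∃ k ∈ K, cj a U = cj k U) :
    ∃ k ∈ K, A ≤ normalizer ((cj k U : Subgroup G) : Set G) := by
  set X := A ⊔ K with hX
  have hAX : A ≤ X := le_sup_left
  have hKX : K ≤ X := le_sup_right
  have hXK : X ≤ normalizer (K : Set G) := sup_le hAK le_normalizer
  have hA0 : A ⊓ K = ⊥ := (disjoint_of_coprime_natCard hcop).eq_bot
  set M := X ⊓ normalizer (U : Set G) with hM
  have hMX : M ≤ X := inf_le_left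
  have hMK : M ≤ normalizer (K : Set G) := le_trans hMX hXK
  set N := K ⊓ M with hN
  have hNM : N ≤ M := inf_le_right
  have hNK : N ≤ K := inf_le_left
  have hMN : M ≤ normalizer (N : Set G) := by
    intro m hm
    rw [← cj_eq_self_iff, hN, cj_inf, cj_eq_self_iff.mpr (hMK hm), cj_eq_self_of_mem hm]
  -- X = M ⊔ K
  have hMKX : M ⊔ K = X := by
    apply le_antisymm (sup_le hMX hKX)
    rw [hX]
    apply sup_le _ le_sup_right
    intro a ha
    obtain ⟨k, hk, hak⟩ := hU a ha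
    have h1 : k⁻¹ * a ∈ M := by
      refine ⟨X.mul_mem (X.inv_mem (hKX hk)) (hAX ha), ?_⟩
      change k⁻¹ * a ∈ normalizer (U : Set G)
      rw [← cj_eq_self_iff, cj_mul, hak, cj_inv_cj]
    have e : a = k * (k⁻¹ * a) := by group
    rw [e]
    exact mul_mem (mem_sup_right hk) (mem_sup_left h1)
  have hidx : N.relIndex M = Nat.card A := by
    rw [hN, inf_relIndex_right, ← relIndex_sup_right_of_le_normalizer M K hMK, hMKX, hX,
      relIndex_sup_eq_card A K hAK hA0]
  have hcopN : (Nat.card N).Coprime (N.relIndex M) := by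
    rw [hidx]
    exact (Nat.Coprime.coprime_dvd_right (card_dvd_of_le hNK) hcop).symm
  obtain ⟨B, hBM, hBcard, hBN, _⟩ := rel_sz_exists N M hNM hMN hcopN
  rw [hidx] at hBcard
  -- B is an `K`-conjugate of `A`
  have hsolv' : Group.IsSolvable K ∨ Group.IsSolvable A := hsolv.symm
  obtain ⟨x, hxK, hxB⟩ := rel_sz_conj K A B hAK hcop hsolv' (le_trans hBM hMX) hBcard
  refine ⟨x⁻¹, K.inv_mem hxK, ?_⟩
  -- A = cj x⁻¹ B normalises cj x⁻¹ U
  have hA : A = cj x⁻¹ B := by rw [← hxB, cj_inv_cj]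
  rw [normalizer_cj]
  rw [hA]
  apply cj_mono
  exact le_trans hBM inf_le_right

/-- **Glauberman's lemma**, conjugacy: two `A`-invariant members of a `K`-conjugacy class are
conjugate under `C_K(A)`. -/
theorem glauberman_conj [Finite G] (A K U : Subgroup G) (hAK : A ≤ normalizer (K : Set G))
    (hcop : (Nat.card A).Coprime (Nat.card K))
    (hsolv : Group.IsSolvable A ∨ Group.IsSolvable K)
    (hAU : A ≤ normalizer (U : Set G)) (k : G) (hk : k ∈ K)
    (hAUk : A ≤ normalizer ((cj k U : Subgroup G) : Set G)) :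
    ∃ c ∈ K ⊓ centralizer (A : Set G), cj c U = cj k U := by
  have hA0 : A ⊓ K = ⊥ := (disjoint_of_coprime_natCard hcop).eq_bot
  -- N = N_K(U) is normalised by A
  set N := K ⊓ normalizer (U : Set G) with hN
  have hNK : N ≤ K := inf_le_left
  have hAN : A ≤ normalizer (N : Set G) := by
    intro a ha
    rw [← cj_eq_self_iff, hN, cj_inf, cj_eq_self_iff.mpr (hAK ha), ← normalizer_cj,
      cj_eq_self_iff.mpr (hAU ha)]
  have hcopN : (Nat.card A).Coprime (Nat.card N) :=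
    Nat.Coprime.coprime_dvd_right (card_dvd_of_le hNK) hcop
  have hsolvN : Group.IsSolvable N ∨ Group.IsSolvable A := by
    rcases hsolv with h | h
    · exact Or.inr h
    · left
      exact Group.isSolvable_of_isSolvable_injective (f := inclusion hNK)
        (inclusion_injective hNK)
  -- B = cj k⁻¹ A normalises U and lies in A ⊔ N
  set B := cj k⁻¹ A with hB
  have hBU : B ≤ normalizer (U : Set G) := by
    have h1 : cj k⁻¹ A ≤ cj k⁻¹ (normalizer ((cj k U : Subgroup G) : Set G)) := cj_mono hAUk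
    rw [← normalizer_cj, cj_inv_cj] at h1
    exact h1
  have hBle : B ≤ A ⊔ N := by
    intro b hb
    rw [hB, mem_cj'] at hb
    obtain ⟨a, ha, rfl⟩ := hb
    -- k⁻¹ a k = a * (a⁻¹ k⁻¹ a k)
    have h1 : a⁻¹ * k⁻¹ * a * k ∈ K := by
      have h2 : a⁻¹ * k⁻¹ * a⁻¹⁻¹ ∈ K :=
        (mem_normalizer_iff.mp (hAK (A.inv_mem ha)) k⁻¹).mp (K.inv_mem hk)
      rw [inv_inv] at h2
      exact K.mul_mem h2 hk
    have h3 : k⁻¹ * a * k⁻¹⁻¹ ∈ normalizer (U : Set G) := hBU (by rw [hB]; exact conj_mem_cj ha)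
    have h4 : a⁻¹ * k⁻¹ * a * k ∈ normalizer (U : Set G) := by
      have e : a⁻¹ * k⁻¹ * a * k = a⁻¹ * (k⁻¹ * a * k⁻¹⁻¹) := by group
      rw [e]
      exact mul_mem (inv_mem (hAU ha)) h3
    have e : k⁻¹ * a * k⁻¹⁻¹ = a * (a⁻¹ * k⁻¹ * a * k) := by group
    rw [e]
    exact mul_mem (mem_sup_left ha) (mem_sup_right ⟨h1, h4⟩)
  obtain ⟨s, hs, hsB⟩ := rel_sz_conj N A B hAN hcopN hsolvN hBle (by rw [hB, card_cj])
  -- c = k * s
  refine ⟨k * s, ⟨K.mul_mem hk (hNK hs), ?_⟩, ?_⟩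
  · apply mem_centralizer_of_cj_eq A K hAK hA0 _ (K.mul_mem hk (hNK hs))
    rw [cj_mul, hsB, hB, cj_cj_inv]
  · rw [cj_mul, cj_eq_self_iff.mpr hs.2]

end glauberman

end Cfsg.Agent.Lib.Helper24
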