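import Cfsg.Agent.Lib.Helper24.Glauberman

set_option autoImplicit false

universe u

namespace Cfsg.Agent.Lib.Helper24

open Subgroup
open Cfsg.Agent.Lib.Helper33
open scoped Pointwise

section sylow
variable {G : Type u} [Group G]

theorem map_subtype_cj (K : Subgroup G) (k : K) (H : Subgroup K) :
    (cj k H).map K.subtype = cj (k : G) (H.map K.subtype) := by
  rw [cj, cj, map_map, map_map]
  congr 1

/-- A `p`-subgroup `V ≤ K` with `p ∤ |K : V|` is (the image of) a Sylow `p`-subgroup of `K`. -/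
theorem exists_sylow_map_eq {p : ℕ} [Fact p.Prime] (K V : Subgroup G) (hVK : V ≤ K)
    (hV : IsPGroup p V) (hidx : ¬ p ∣ V.relIndex K) :
    ∃ P : Sylow p K, (P : Subgroup K).map K.subtype = V := by
  have hV' : IsPGroup p (V.subgroupOf K) := hV.comap_subtype
  have hidx' : ¬ p ∣ (V.subgroupOf K).index := hidx
  refine ⟨hV'.toSylow hidx', ?_⟩
  rw [IsPGroup.toSylow_coe, subgroupOf_map_subtype, inf_of_le_left hVK]

theorem sylow_map_facts {p : ℕ} [Fact p.Prime] [Finite G] (K : Subgroup G) (P : Sylow p K) :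
    (P : Subgroup K).map K.subtype ≤ K ∧ IsPGroup p ((P : Subgroup K).map K.subtype) ∧
      ¬ p ∣ ((P : Subgroup K).map K.subtype).relIndex K := by
  refine ⟨map_subtype_le _, P.2.map _, ?_⟩
  have : ((P : Subgroup K).map K.subtype).subgroupOf K = (P : Subgroup K) := by
    rw [subgroupOf, comap_map_eq_self_of_injective K.subtype_injective]
  rw [relIndex, this]
  exact P.not_dvd_index

/-- Any two Sylow `p`-subgroups of `K` (viewed in `G`) are `K`-conjugate. -/
theorem sylow_cj_of_facts {p : ℕ} [Fact p.Prime] [Finite G] (K U V : Subgroup G)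
    (hUK : U ≤ K) (hU : IsPGroup p U) (hUi : ¬ p ∣ U.relIndex K)
    (hVK : V ≤ K) (hV : IsPGroup p V) (hcard : Nat.card V = Nat.card U) :
    ∃ k ∈ K, V = cj k U := by
  obtain ⟨c, hc, hle⟩ := sylow_sub hUK hU hUi hVK hV
  have heq : cj c V = U := eq_of_le_of_card_ge hle (by rw [card_cj, hcard])
  refine ⟨c⁻¹, K.inv_mem hc, ?_⟩
  rw [← heq, cj_inv_cj]

/-- Coprime action: there is an `A`-invariant Sylow `p`-subgroup of `K`. -/
theorem exists_invariant_sylow {p : ℕ} [Fact p.Prime] [Finite G] (A K : Subgroup G)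
    (hAK : A ≤ normalizer (K : Set G)) (hcop : (Nat.card A).Coprime (Nat.card K))
    (hsolv : Group.IsSolvable A ∨ Group.IsSolvable K) :
    ∃ P : Sylow p K, A ≤ normalizer (((P : Subgroup K).map K.subtype : Subgroup G) : Set G) := by
  obtain ⟨P₀⟩ : Nonempty (Sylow p K) := inferInstance
  set U := (P₀ : Subgroup K).map K.subtype with hU
  obtain ⟨hUK, hUp, hUi⟩ := sylow_map_facts K P₀
  have hconj : ∀ a ∈ A, ∃ k ∈ K, cj a U = cj k U := by
    intro a ha
    have h1 : cj a U ≤ K := by
      have : cj a U ≤ cj a K := cj_mono hUK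
      rwa [cj_eq_self_iff.mpr (hAK ha)] at this
    exact sylow_cj_of_facts K U (cj a U) hUK hUp hUi h1 (isPGroup_cj hUp) (card_cj a U)
  obtain ⟨k, hk, hA⟩ := glauberman_exists A K U hAK hcop hsolv hconj
  have hVK : cj k U ≤ K := by
    have : cj k U ≤ cj k K := cj_mono hUK
    rwa [cj_eq_self_of_mem hk] at this
  have hVi : ¬ p ∣ (cj k U).relIndex K := by
    have := relIndex_cj k U K
    rw [cj_eq_self_of_mem hk] at this
    rw [this]; exact hUi
  obtain ⟨P, hP⟩ := exists_sylow_map_eq K (cj k U) hVK (isPGroup_cj hUp) hVi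
  exact ⟨P, by rw [hP]; exact hA⟩

/-- Coprime action: two `A`-invariant Sylow `p`-subgroups of `K` are conjugate under `C_K(A)`. -/
theorem invariant_sylow_conj {p : ℕ} [Fact p.Prime] [Finite G] (A K : Subgroup G)
    (hAK : A ≤ normalizer (K : Set G)) (hcop : (Nat.card A).Coprime (Nat.card K))
    (hsolv : Group.IsSolvable A ∨ Group.IsSolvable K) (P Q : Sylow p K)
    (hP : A ≤ normalizer (((P : Subgroup K).map K.subtype : Subgroup G) : Set G))
    (hQ : A ≤ normalizer (((Q : Subgroup K).map K.subtype : Subgroup G) : Set G)) :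
    ∃ c ∈ K ⊓ centralizer (A : Set G),
      cj c ((P : Subgroup K).map K.subtype) = (Q : Subgroup K).map K.subtype := by
  obtain ⟨hUK, hUp, hUi⟩ := sylow_map_facts K P
  obtain ⟨hVK, hVp, _⟩ := sylow_map_facts K Q
  have hcard : Nat.card ((Q : Subgroup K).map K.subtype) = Nat.card ((P : Subgroup K).map K.subtype) := by
    rw [card_map_of_injective K.subtype_injective, card_map_of_injective K.subtype_injective,
      Sylow.card_eq_multiplicity, Sylow.card_eq_multiplicity]
  obtain ⟨k, hk, hkV⟩ := sylow_cj_of_facts K _ _ hUK hUp hUi hVK hVp hcard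
  rw [hkV] at hQ
  obtain ⟨c, hc, hcU⟩ := glauberman_conj A K _ hAK hcop hsolv hP k hk hQ
  exact ⟨c, hc, by rw [hcU, hkV]⟩

/-- Growth step: an `A`-invariant `p`-subgroup of `K` that is not Sylow is properly contained in
a larger `A`-invariant `p`-subgroup. -/
theorem invariant_pSubgroup_grow {p : ℕ} [Fact p.Prime] [Finite G] (A K : Subgroup G)
    (hAK : A ≤ normalizer (K : Set G)) (hcop : (Nat.card A).Coprime (Nat.card K))
    (hsolv : Group.IsSolvable A ∨ Group.IsSolvable K) (U : Subgroup G) (hUK : U ≤ K)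
    (hU : IsPGroup p U) (hUA : A ≤ normalizer (U : Set G)) (hdvd : p ∣ U.relIndex K) :
    ∃ V : Subgroup G, U ≤ V ∧ V ≤ K ∧ IsPGroup p V ∧ A ≤ normalizer (V : Set G) ∧
      Nat.card U < Nat.card V := by
  set L := K ⊓ normalizer (U : Set G) with hL
  have hLK : L ≤ K := inf_le_left
  have hUL : U ≤ L := le_inf hUK le_normalizer
  have hAL : A ≤ normalizer (L : Set G) := by
    intro a ha
    rw [← cj_eq_self_iff, hL, cj_inf, cj_eq_self_iff.mpr (hAK ha), ← normalizer_cj,
      cj_eq_self_iff.mpr (hUA ha)]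
  have hcopL : (Nat.card A).Coprime (Nat.card L) :=
    Nat.Coprime.coprime_dvd_right (card_dvd_of_le hLK) hcop
  have hsolvL : Group.IsSolvable A ∨ Group.IsSolvable L := by
    rcases hsolv with h | h
    · exact Or.inl h
    · right
      exact Group.isSolvable_of_isSolvable_injective (f := inclusion hLK)
        (inclusion_injective hLK)
  obtain ⟨S, hS⟩ := exists_invariant_sylow (p := p) A L hAL hcopL hsolvL
  set V := (S : Subgroup L).map L.subtype with hV
  obtain ⟨hVL, hVp, hVi⟩ := sylow_map_facts L S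
  -- U ≤ V
  have hUV : U ≤ V := by
    obtain ⟨c, hc, hle⟩ := sylow_sub hVL hVp hVi hUL hU
    rwa [cj_eq_self_iff.mpr hc.2] at hle
  -- a bigger p-subgroup W of L
  obtain ⟨T, hT⟩ := (hU.comap_subtype (K := K)).exists_le_sylow
  obtain ⟨hTK, hTp, hTi⟩ := sylow_map_facts K T
  set T' := (T : Subgroup K).map K.subtype with hT'
  have hUT : U ≤ T' := by
    intro u hu
    exact ⟨⟨u, hUK hu⟩, hT (mem_subgroupOf.mpr hu), rfl⟩
  have hUltT : U < T' := by
    refine lt_of_le_of_ne hUT ?_
    intro h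
    rw [h] at hdvd
    exact hTi hdvd
  have hgrow := normalizer_growth hTp hUltT
  set W := T' ⊓ normalizer (U : Set G) with hW
  have hWL : W ≤ L := inf_le_inf_right _ hTK
  have hWp : IsPGroup p W := hTp.to_le inf_le_left
  obtain ⟨c, hc, hle⟩ := sylow_sub hVL hVp hVi hWL hWp
  have h1 : Nat.card W ≤ Nat.card V := by
    rw [← card_cj c W]; exact card_le_of_le hle
  have h2 : Nat.card U < Nat.card W := by
    by_contra hcon
    push Not at hcon
    exact hgrow.ne (eq_of_le_of_card_ge hgrow.le hcon)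
  exact ⟨V, hUV, le_trans hVL hLK, hVp, hS, lt_of_lt_of_le h2 h1⟩

theorem invariant_pSubgroup_le_sylow_aux {p : ℕ} [Fact p.Prime] [Finite G] (A K : Subgroup G)
    (hAK : A ≤ normalizer (K : Set G)) (hcop : (Nat.card A).Coprime (Nat.card K))
    (hsolv : Group.IsSolvable A ∨ Group.IsSolvable K) (n : ℕ) :
    ∀ U : Subgroup G, U ≤ K → IsPGroup p U → A ≤ normalizer (U : Set G) →
      Nat.card K - Nat.card U ≤ n →
      ∃ P : Sylow p K, U ≤ (P : Subgroup K).map K.subtype ∧
        A ≤ normalizer (((P : Subgroup K).map K.subtype : Subgroup G) : Set G) := by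
  induction n with
  | zero =>
    intro U hUK hU hUA hn
    by_cases hdvd : p ∣ U.relIndex K
    · obtain ⟨V, _, hVK, _, _, hlt⟩ := invariant_pSubgroup_grow A K hAK hcop hsolv U hUK hU hUA hdvd
      have := card_le_of_le hVK
      omega
    · obtain ⟨P, hP⟩ := exists_sylow_map_eq K U hUK hU hdvd
      exact ⟨P, by rw [hP], by rw [hP]; exact hUA⟩
  | succ n ih =>
    intro U hUK hU hUA hn
    by_cases hdvd : p ∣ U.relIndex K
    · obtain ⟨V, hUV, hVK, hVp, hVA, hlt⟩ :=
        invariant_pSubgroup_grow A K hAK hcop hsolv U hUK hU hUA hdvd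
      have := card_le_of_le hVK
      obtain ⟨P, hP1, hP2⟩ := ih V hVK hVp hVA (by omega)
      exact ⟨P, le_trans hUV hP1, hP2⟩
    · obtain ⟨P, hP⟩ := exists_sylow_map_eq K U hUK hU hdvd
      exact ⟨P, by rw [hP], by rw [hP]; exact hUA⟩

/-- Coprime action: an `A`-invariant `p`-subgroup of `K` lies in an `A`-invariant Sylow
`p`-subgroup of `K`. -/
theorem invariant_pSubgroup_le_sylow {p : ℕ} [Fact p.Prime] [Finite G] (A K : Subgroup G)
    (hAK : A ≤ normalizer (K : Set G)) (hcop : (Nat.card A).Coprime (Nat.card K))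
    (hsolv : Group.IsSolvable A ∨ Group.IsSolvable K) (U : Subgroup G) (hUK : U ≤ K)
    (hU : IsPGroup p U) (hUA : A ≤ normalizer (U : Set G)) :
    ∃ P : Sylow p K, U ≤ (P : Subgroup K).map K.subtype ∧
      A ≤ normalizer (((P : Subgroup K).map K.subtype : Subgroup G) : Set G) :=
  invariant_pSubgroup_le_sylow_aux A K hAK hcop hsolv _ U hUK hU hUA le_rfl

end sylow

end Cfsg.Agent.Lib.Helper24
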