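import Mathlib
import Cfsg.Prelude.Def_Local
import Cfsg.Prelude.Def_OddOrderLocal

/-!
# Statement forms of Bender–Glauberman results used as hypotheses ("armed" chain)

Each `StmtNNNN` is the statement of `Cfsg.Agent.SNNNN.result` for a fixed group `G` (or a fixed
universe); the final files instantiate them with the landed results.
-/

set_option autoImplicit false

namespace Cfsg.Agent.Lib.Helper24.BG

open Cfsg

universe u

/-- B&G Theorem 10.1 (statement S1404). -/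
def Stmt1404 (G : Type u) [Group G] : Prop :=
  ∀ (M : Subgroup G), IsCoatom M → ∀ (p : ℕ) [Fact p.Prime], p ∈ Cfsg.sigma M →
    ∀ (X : Subgroup G), IsPGroup p X → X ≠ ⊥ → X ≤ M →
    (∀ g : G, X.map (MulAut.conj g).toMonoidHom ≤ M →
        ∃ m ∈ M, ∃ c ∈ Subgroup.centralizer (X : Set G), g = m * c) ∧
      Subgroup.normalizer (X : Set G) =
        (M ⊓ Subgroup.normalizer (X : Set G)) ⊔ Subgroup.centralizer (X : Set G)

/-- B&G Theorem 10.2 (statement S1405). -/
def Stmt1405 (G : Type u) [Group G] : Prop :=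
  ∀ (M : Subgroup G), IsCoatom M →
    Cfsg.IsPiHallOf (Cfsg.alpha M) (Cfsg.alphaCore M) M ∧
      Cfsg.IsPiHall (Cfsg.alpha M) (Cfsg.alphaCore M) ∧
      Cfsg.alphaCore M ≤ Cfsg.sigmaCore M ∧
      Cfsg.RankLE 2 (↥M ⧸ Cfsg.piCore (Cfsg.alpha M) ↥M) ∧
      Group.IsNilpotent
        ↥((commutator ↥M).map (QuotientGroup.mk' (Cfsg.piCore (Cfsg.alpha M) ↥M)))

/-- B&G Lemma 10.4 (statement S1407). -/
def Stmt1407 (G : Type u) [Group G] : Prop :=
  ∀ (M : Subgroup G), IsCoatom M → Cfsg.alphaCore M ≠ ⊥ → ∀ (p : ℕ) [Fact p.Prime],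
    p ∣ Nat.card M → p ∉ Cfsg.sigma M → ∀ (P : Sylow p M),
    ∃ x : G, x ∈ ((Subgroup.center ↥(P : Subgroup M)).map (P : Subgroup M).subtype).map M.subtype ∧
        orderOf x = p ∧
        IsZGroup ↥(Cfsg.alphaCore M ⊓ Subgroup.centralizer ({x} : Set G)) ∧
        ¬ (Subgroup.centralizer ({x} : Set G) ≤ M ∧
          ∀ L : Subgroup G, IsCoatom L → Subgroup.centralizer ({x} : Set G) ≤ L → L = M)

/-- B&G Theorem 3.6 (statement S1444), for all groups in the universe `u`. -/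
def Stmt1444 : Prop :=
  ∀ (X : Type u) [Group X] [Finite X] [Group.IsSolvable X], Odd (Nat.card X) →
    ∀ (H R R₀ : Subgroup X) [H.Normal],
    (Nat.card H).Coprime H.index → Subgroup.IsComplement' H R → R₀ ≤ R → (Nat.card R₀).Prime →
    IsZGroup ↥(H ⊓ Subgroup.centralizer (R₀ : Set X)) →
    ∀ (p : ℕ) [Fact p.Prime], Cfsg.PLengthLE p 1 ↥⁅H, R⁆

/-- B&G Theorem 10.6 (statement S1410). -/
def Stmt1410 (G : Type u) [Group G] : Prop :=
  ∀ (p : ℕ) [Fact p.Prime] (H : Subgroup G), H ≠ ⊤ → Cfsg.PLengthLE p 1 H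

end Cfsg.Agent.Lib.Helper24.BG
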