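import Mathlib

/-!
# A subgroup containing a Sylow subgroup for every prime is the whole group
-/

set_option autoImplicit false
set_option linter.unusedSectionVars false
set_option linter.unusedVariables false
set_option linter.style.haveILetI false

namespace Cfsg.Agent.Lib.Helper24.HH

theorem eq_top_of_sylow_le {K : Type*} [Group K] [Finite K] (H : Subgroup K)
    (h : ∀ (q : ℕ) [Fact q.Prime], q ∣ Nat.card K → ∃ P : Sylow q K, (P : Subgroup K) ≤ H) :
    H = ⊤ := by
  have hK0 : Nat.card K ≠ 0 := Nat.card_pos.ne'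
  have hH0 : Nat.card H ≠ 0 := Nat.card_pos.ne'
  have hdvd : Nat.card K ∣ Nat.card H := by
    rw [← Nat.factorization_prime_le_iff_dvd hK0 hH0]
    intro q hq
    haveI : Fact q.Prime := ⟨hq⟩
    by_cases hqK : q ∣ Nat.card K
    · obtain ⟨P, hP⟩ := h q hqK
      have h1 : Nat.card P ∣ Nat.card H := Subgroup.card_dvd_of_le hP
      rw [P.card_eq_multiplicity] at h1
      exact (hq.pow_dvd_iff_le_factorization hH0).mp h1
    · rw [Nat.factorization_eq_zero_of_not_dvd hqK]
      exact Nat.zero_le _
  have hle : Nat.card K ≤ Nat.card H := Nat.le_of_dvd Nat.card_pos hdvd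
  exact (Subgroup.card_eq_iff_eq_top H).mp (le_antisymm (Subgroup.card_le_card_group H) hle)

end Cfsg.Agent.Lib.Helper24.HH
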