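import Mathlib
import Cfsg.Prelude.Def_Local
import Cfsg.Prelude.Def_OddOrderLocal
import Cfsg.Agent.Lib.Helper24.BGStmt
import Cfsg.Agent.Lib.Helper24.HHSyl
import Cfsg.Agent.Lib.Helper24.SylowInv
import Cfsg.Agent.Lib.Helper23.AlphaB
import Cfsg.Agent.Lib.Helper49.RankOneCyclic
import Cfsg.Agent.Lib.Helper1.Carter1
import Cfsg.Agent.Lib.Helper32.Burnside
import Cfsg.Agent.Lib.Helper33.Conj

/-!
# Bender–Glauberman Lemma 12.1: the structure of a complement `E` of `M_σ` in `M`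

From the statement of 10.2 (S1405): `E' ` is nilpotent, Hall `τ₁(M)`-subgroups of `E` are cyclic, Hall
`τ₃(M)`-subgroups of `E` are cyclic, contained in `E'` and normal in `E`.
-/

set_option autoImplicit false
set_option linter.unusedSectionVars false
set_option linter.unusedVariables false
set_option linter.style.haveILetI false

namespace Cfsg.Agent.Lib.Helper24.BG

open Subgroup Cfsg Cfsg.Agent.Lib.Helper23 Cfsg.Agent.Lib.Helper63
open Cfsg.Agent.Lib.Helper33 (cj cj_def mem_cj mem_cj' cj_mul cj_mono cj_eq_self_iff card_cj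
  isPGroup_cj sylow_exists_cj cj_le_iff le_cj_iff conj_mem_cj)
open scoped commutatorElement

universe u

variable {G : Type u} [Group G] [Finite G]

/-- a subgroup of `M` whose prime divisors `q` all have `M` of `q`-rank at most one is a Z-group -/
theorem isZGroup_of_pRankLE_one (hG : IsMinSimpleOddOrder G) (M X : Subgroup G) (hXM : X ≤ M)
    (h : ∀ q : ℕ, q.Prime → q ∣ Nat.card ↥X → PRankLE q 1 ↥M) : IsZGroup ↥X := by
  refine ⟨fun q hq P => ?_⟩
  haveI : Fact q.Prime := ⟨hq⟩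
  by_cases hqX : q ∣ Nat.card ↥X
  · have hq2 : q ≠ 2 := ne_two_of_dvd_card_subgroup hG hqX
    have hr : PRankLE q 1 ↥(P : Subgroup ↥X) :=
      BG10.pRankLE_of_injective ((Subgroup.inclusion hXM).comp (P : Subgroup ↥X).subtype)
        ((Subgroup.inclusion_injective hXM).comp (Subgroup.subtype_injective _)) (h q hq hqX)
    apply Cfsg.Agent.Lib.Helper49.isCyclic_of_isPGroup_rankLEOne hq2 P.isPGroup'
    intro A hA hAe
    have := hr A hA hAe
    rwa [pow_one] at this
  · have h1 : Nat.card ↥(P : Subgroup ↥X) = 1 := by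
      obtain ⟨k, hk⟩ := IsPGroup.iff_card.mp P.isPGroup'
      rcases Nat.eq_zero_or_pos k with rfl | hk0
      · rw [hk, pow_zero]
      · exfalso
        apply hqX
        have : q ∣ Nat.card ↥(P : Subgroup ↥X) := by rw [hk]; exact dvd_pow_self q hk0.ne'
        exact this.trans (Subgroup.card_subgroup_dvd_card _)
    haveI : Subsingleton ↥(P : Subgroup ↥X) := (Nat.card_eq_one_iff_unique.mp h1).1
    exact isCyclic_of_subsingleton

/-- `M_σ` is normalized by `M` -/
theorem sigmaCore_conj_mem (M : Subgroup G) {m s : G} (hm : m ∈ M) (hs : s ∈ sigmaCore M) :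
    m * s * m⁻¹ ∈ sigmaCore M := by
  obtain ⟨s', hs', rfl⟩ := hs
  have h1 : (⟨m, hm⟩ : ↥M) * s' * (⟨m, hm⟩ : ↥M)⁻¹ ∈ piCore (sigma M) ↥M :=
    (inferInstance : (piCore (sigma M) ↥M).Normal).conj_mem s' hs' ⟨m, hm⟩
  exact ⟨_, h1, rfl⟩

theorem le_normalizer_sigmaCore (M : Subgroup G) : M ≤ normalizer ((sigmaCore M : Subgroup G) : Set G) := by
  intro m hm
  rw [Subgroup.mem_normalizer_iff]
  intro s
  constructor
  · intro hs
    exact sigmaCore_conj_mem M hm hs
  · intro hs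
    have h1 := sigmaCore_conj_mem M (M.inv_mem hm) hs
    have h2 : m⁻¹ * (m * s * m⁻¹) * m⁻¹⁻¹ = s := by group
    rwa [h2] at h1

/-- the prime divisors of `|M_σ|` lie in `σ(M)` -/
theorem mem_sigma_of_dvd_card_sigmaCore (M : Subgroup G) {q : ℕ} (hq : q.Prime)
    (hd : q ∣ Nat.card ↥(sigmaCore M)) : q ∈ sigma M := by
  have h2 : Nat.card ↥(sigmaCore M) = Nat.card ↥(piCore (sigma M) ↥M) := by
    rw [sigmaCore, Subgroup.card_map_of_injective M.subtype_injective]
  rw [h2] at hd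
  exact Cfsg.Agent.Lib.Helper62.isPi_piCore (sigma M) q hq hd

/-- `M' ≤ E' M_σ` for a complement `E` of `M_σ` in `M` -/
theorem commutator_le_sup_sigmaCore (M E : Subgroup G)
    (hE : Cfsg.IsComplIn E (Cfsg.sigmaCore M) M) : ⁅M, M⁆ ≤ ⁅E, E⁆ ⊔ sigmaCore M := by
  obtain ⟨hEM, hSM, hES, hprod⟩ := hE
  rw [Subgroup.commutator_le]
  intro m₁ hm₁ m₂ hm₂
  obtain ⟨e₁, he₁, s₁, hs₁, rfl⟩ := hprod m₁ hm₁
  obtain ⟨e₂, he₂, s₂, hs₂, rfl⟩ := hprod m₂ hm₂
  obtain ⟨s₁', hs₁', rfl⟩ := hs₁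
  obtain ⟨s₂', hs₂', rfl⟩ := hs₂
  obtain ⟨N, hN⟩ : ∃ N : Subgroup ↥M, N = piCore (sigma M) ↥M := ⟨_, rfl⟩
  haveI : N.Normal := by rw [hN]; infer_instance
  rw [← hN] at hs₁' hs₂'
  have h1 : (QuotientGroup.mk' N) ⁅(⟨e₁, hEM he₁⟩ : ↥M) * s₁', (⟨e₂, hEM he₂⟩ : ↥M) * s₂'⁆ =
      (QuotientGroup.mk' N) ⁅(⟨e₁, hEM he₁⟩ : ↥M), (⟨e₂, hEM he₂⟩ : ↥M)⁆ := by
    rw [map_commutatorElement, map_commutatorElement, map_mul, map_mul]
    have ha : (QuotientGroup.mk' N) s₁' = 1 := (QuotientGroup.eq_one_iff _).mpr hs₁'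
    have hb : (QuotientGroup.mk' N) s₂' = 1 := (QuotientGroup.eq_one_iff _).mpr hs₂'
    rw [ha, hb, mul_one, mul_one]
  have h2 : (⁅(⟨e₁, hEM he₁⟩ : ↥M), (⟨e₂, hEM he₂⟩ : ↥M)⁆)⁻¹ *
      ⁅(⟨e₁, hEM he₁⟩ : ↥M) * s₁', (⟨e₂, hEM he₂⟩ : ↥M) * s₂'⁆ ∈ N := by
    have := h1.symm
    rw [QuotientGroup.mk'_apply, QuotientGroup.mk'_apply, QuotientGroup.eq] at this
    exact this
  have h3 : ⁅e₁ * M.subtype s₁', e₂ * M.subtype s₂'⁆ =
      ⁅e₁, e₂⁆ * M.subtype ((⁅(⟨e₁, hEM he₁⟩ : ↥M), (⟨e₂, hEM he₂⟩ : ↥M)⁆)⁻¹ *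
        ⁅(⟨e₁, hEM he₁⟩ : ↥M) * s₁', (⟨e₂, hEM he₂⟩ : ↥M) * s₂'⁆) := by
    simp only [map_mul, map_inv, map_commutatorElement, Subgroup.subtype_apply]
    group
  rw [h3]
  apply Subgroup.mul_mem
  · exact Subgroup.mem_sup_left (Subgroup.commutator_mem_commutator he₁ he₂)
  · apply Subgroup.mem_sup_right
    rw [sigmaCore, ← hN]
    exact Subgroup.mem_map_of_mem _ h2

open scoped IsMulCommutative in
/-- **B&G Lemma 12.1.** -/
theorem bg121 (hG : IsMinSimpleOddOrder G) (h5 : Stmt1405 G)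
    (M : Subgroup G) (hM : IsCoatom M) (E : Subgroup G)
    (hE : Cfsg.IsComplIn E (Cfsg.sigmaCore M) M) :
    Group.IsNilpotent ↥⁅E, E⁆ ∧
      (∀ E₁ : Subgroup G, Cfsg.IsPiHallOf (Cfsg.tau1 M) E₁ E → IsCyclic E₁) ∧
      ∀ E₃ : Subgroup G, Cfsg.IsPiHallOf (Cfsg.tau3 M) E₃ E →
        IsCyclic E₃ ∧ E₃ ≤ ⁅E, E⁆ ∧ E ≤ Subgroup.normalizer (E₃ : Set G) := by
  have hE' := hE
  obtain ⟨hEM, hSM, hES, hprod⟩ := hE
  obtain ⟨-, -, hασ, -, hnil⟩ := h5 M hM
  have hE'E : ⁅E, E⁆ ≤ E := Subgroup.commutator_le_self E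
  have hE'M' : ⁅E, E⁆ ≤ ⁅M, M⁆ := Subgroup.commutator_mono hEM hEM
  have hM'M : ⁅M, M⁆ ≤ M := Subgroup.commutator_le_self M
  -- E' is nilpotent
  have hnilE : Group.IsNilpotent ↥⁅E, E⁆ := by
    have hmem : ∀ x : ↥⁅E, E⁆,
        ((QuotientGroup.mk' (piCore (alpha M) ↥M)).comp
          (Subgroup.inclusion (hE'E.trans hEM))) x ∈
          (commutator ↥M).map (QuotientGroup.mk' (piCore (alpha M) ↥M)) := by
      intro x
      refine Subgroup.mem_map_of_mem _ ?_
      have h1 : (x : G) ∈ ⁅M, M⁆ := hE'M' x.2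
      rw [← Subgroup.map_subtype_commutator] at h1
      obtain ⟨w, hw, hwx⟩ := h1
      have : w = Subgroup.inclusion (hE'E.trans hEM) x := Subtype.ext hwx
      rw [← this]; exact hw
    have hinj : Function.Injective
        (((QuotientGroup.mk' (piCore (alpha M) ↥M)).comp
          (Subgroup.inclusion (hE'E.trans hEM))).codRestrict _ hmem) := by
      rw [injective_iff_map_eq_one]
      intro x hx
      have h1 := congrArg Subtype.val hx
      simp only [MonoidHom.codRestrict_apply, MonoidHom.comp_apply, Subgroup.coe_one] at h1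
      rw [QuotientGroup.mk'_apply, QuotientGroup.eq_one_iff] at h1
      have h2 : (x : G) ∈ alphaCore M := by
        rw [alphaCore]
        exact ⟨_, h1, rfl⟩
      have h3 : (x : G) ∈ E ⊓ sigmaCore M := ⟨hE'E x.2, hασ h2⟩
      rw [hES, Subgroup.mem_bot] at h3
      exact Subtype.ext h3
    haveI := hnil
    exact (Group.isNilpotent_congr (MonoidHom.ofInjective hinj)).mpr inferInstance
  refine ⟨hnilE, ?_, ?_⟩
  · -- Hall τ₁-subgroups
    rintro E₁ ⟨hE₁E, hE₁π, -⟩
    have hdisj : E₁ ⊓ ⁅E, E⁆ = ⊥ := by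
      by_contra hne
      have hcard : Nat.card ↥(E₁ ⊓ ⁅E, E⁆ : Subgroup G) ≠ 1 := by
        intro h1
        exact hne (Subgroup.card_eq_one.mp h1)
      obtain ⟨q, hq, hqd⟩ := Nat.exists_prime_and_dvd hcard
      have h1 : q ∈ tau1 M := hE₁π q hq (hqd.trans (Subgroup.card_dvd_of_le inf_le_left))
      apply h1.2.2.2.1
      exact hqd.trans ((Subgroup.card_dvd_of_le inf_le_right).trans (Subgroup.card_dvd_of_le hE'M'))
    have hcomm : ∀ a b : ↥E₁, a * b = b * a := by
      intro a b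
      have h1 : ⁅(a : G), (b : G)⁆ ∈ E₁ ⊓ ⁅E, E⁆ := by
        refine ⟨?_, Subgroup.commutator_mem_commutator (hE₁E a.2) (hE₁E b.2)⟩
        rw [commutatorElement_def]
        exact E₁.mul_mem (E₁.mul_mem (E₁.mul_mem a.2 b.2) (E₁.inv_mem a.2)) (E₁.inv_mem b.2)
      rw [hdisj, Subgroup.mem_bot] at h1
      exact Subtype.ext (commutatorElement_eq_one_iff_mul_comm.mp h1)
    haveI : IsZGroup ↥E₁ := isZGroup_of_pRankLE_one hG M E₁ (hE₁E.trans hEM)
      (fun q hq hqd => (hE₁π q hq hqd).2.2.2.2)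
    letI : CommGroup ↥E₁ := { (inferInstance : Group ↥E₁) with mul_comm := hcomm }
    haveI : Group.IsNilpotent ↥E₁ := CommGroup.isNilpotent
    infer_instance
  · -- Hall τ₃-subgroups
    rintro E₃ ⟨hE₃E, hE₃π, hE₃idx⟩
    haveI hZ : IsZGroup ↥E₃ := isZGroup_of_pRankLE_one hG M E₃ (hE₃E.trans hEM)
      (fun q hq hqd => (hE₃π q hq hqd).2.2.2)
    -- `E₃ ≤ E'`
    have hE₃E' : E₃ ≤ ⁅E, E⁆ := by
      have h1 : (⁅E, E⁆).subgroupOf E₃ = ⊤ := by
        apply Cfsg.Agent.Lib.Helper24.HH.eq_top_of_sylow_le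
        intro q _ hqd
        have hq : q.Prime := Fact.out
        have hqτ : q ∈ tau3 M := hE₃π q hq hqd
        obtain ⟨Q₃⟩ : Nonempty (Sylow q ↥E₃) := inferInstance
        refine ⟨Q₃, ?_⟩
        obtain ⟨hQ'E₃, hQ'p, hQ'i⟩ := Cfsg.Agent.Lib.Helper24.sylow_map_facts E₃ Q₃
        obtain ⟨Q', hQ'⟩ : ∃ Q' : Subgroup G, Q' = (Q₃ : Subgroup ↥E₃).map E₃.subtype := ⟨_, rfl⟩
        rw [← hQ'] at hQ'E₃ hQ'p hQ'i
        have hQ'iE : ¬ q ∣ Q'.relIndex E := by
          rw [← Subgroup.relIndex_mul_relIndex Q' E₃ E hQ'E₃ hE₃E]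
          intro hd
          rcases (Nat.Prime.dvd_mul hq).mp hd with h | h
          · exact hQ'i h
          · exact hE₃idx q hq hqτ h
        obtain ⟨QE, hQE⟩ := Cfsg.Agent.Lib.Helper24.exists_sylow_map_eq E Q' (hQ'E₃.trans hE₃E)
          hQ'p hQ'iE
        -- `QE` is cyclic
        have hq2 : q ≠ 2 := ne_two_of_dvd_card_subgroup hG hqd
        have hcycQ' : IsCyclic ↥Q' := by
          apply Cfsg.Agent.Lib.Helper49.isCyclic_of_isPGroup_rankLEOne hq2 hQ'p
          intro A hA hAe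
          have hr : PRankLE q 1 ↥Q' :=
            BG10.pRankLE_of_injective (Subgroup.inclusion ((hQ'E₃.trans hE₃E).trans hEM))
              (Subgroup.inclusion_injective _) hqτ.2.2.2
          have := hr A hA hAe
          rwa [pow_one] at this
        haveI hcycQE : IsCyclic ↥(QE : Subgroup ↥E) := by
          have e : ↥(QE : Subgroup ↥E) ≃* ↥Q' := by
            rw [← hQE]
            exact Subgroup.equivMapOfInjective _ _ E.subtype_injective
          exact isCyclic_of_surjective e.symm.toMonoidHom e.symm.surjective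
        -- `q ∣ |E'|`
        have hqE' : q ∣ Nat.card ↥(_root_.commutator ↥E) := by
          have h1 : Nat.card ↥(_root_.commutator ↥E) = Nat.card ↥⁅E, E⁆ := by
            rw [← Subgroup.map_subtype_commutator, Subgroup.card_map_of_injective E.subtype_injective]
          rw [h1]
          have h2 : q ∣ Nat.card ↥⁅M, M⁆ := hqτ.2.2.1
          have h3 : Nat.card ↥⁅M, M⁆ ∣ Nat.card ↥(⁅E, E⁆ ⊔ sigmaCore M : Subgroup G) :=
            Subgroup.card_dvd_of_le (commutator_le_sup_sigmaCore M E hE')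
          have hnorm : ⁅E, E⁆ ≤ normalizer ((sigmaCore M : Subgroup G) : Set G) :=
            (hE'E.trans hEM).trans (le_normalizer_sigmaCore M)
          have h4 : Nat.card ↥(⁅E, E⁆ ⊔ sigmaCore M : Subgroup G) ∣
              Nat.card ↥⁅E, E⁆ * Nat.card ↥(sigmaCore M) := by
            have h5 := Cfsg.Agent.Lib.Helper32.relIndex_sup_right_of_le_normalizer hnorm
            have h6 : (sigmaCore M).relIndex (⁅E, E⁆ ⊔ sigmaCore M) * Nat.card ↥(sigmaCore M) =
                Nat.card ↥(⁅E, E⁆ ⊔ sigmaCore M : Subgroup G) :=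
              Cfsg.Agent.Lib.Helper24.relIndex_mul_card' le_sup_right
            rw [← h6, h5]
            exact Nat.mul_dvd_mul_right (Subgroup.relIndex_dvd_card _ _) _
          rcases (Nat.Prime.dvd_mul hq).mp ((h2.trans h3).trans h4) with h | h
          · exact h
          · exact absurd (mem_sigma_of_dvd_card_sigmaCore M hq h) hqτ.2.1
        -- Mathlib: a cyclic Sylow subgroup is central in its normalizer or lies in the derived group
        have hQEle : (QE : Subgroup ↥E) ≤ _root_.commutator ↥E := by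
          rcases Sylow.normalizer_le_centralizer_or_le_commutator QE with h | h
          · exfalso
            apply QE.not_dvd_index
            refine hqE'.trans ?_
            rw [(MonoidHom.ker_transferSylow_isComplement' QE h).index_eq_card]
            exact Subgroup.card_dvd_of_le (Abelianization.commutator_subset_ker _)
          · exact h
        intro x hx
        rw [Subgroup.mem_subgroupOf]
        have hxQ' : ((x : ↥E₃) : G) ∈ Q' := by rw [hQ']; exact ⟨x, hx, rfl⟩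
        rw [← hQE] at hxQ'
        obtain ⟨y, hy, hyx⟩ := hxQ'
        have h5 := hQEle hy
        rw [← Subgroup.map_subtype_commutator]
        exact ⟨y, h5, hyx⟩
      exact Subgroup.subgroupOf_eq_top.mp h1
    -- cyclic
    have hcyc : IsCyclic ↥E₃ := by
      haveI : Group.IsNilpotent ↥E₃ := Cfsg.Agent.Lib.Helper78.isNilpotent_of_le hE₃E' hnilE
      infer_instance
    refine ⟨hcyc, hE₃E', ?_⟩
    -- normal in `E`
    have hcop : (Nat.card ↥E₃).Coprime (E₃.relIndex ⁅E, E⁆) := by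
      apply Nat.coprime_of_dvd
      intro q hq hqd hqi
      apply hE₃idx q hq (hE₃π q hq hqd)
      rw [← Subgroup.relIndex_mul_relIndex E₃ ⁅E, E⁆ E hE₃E' hE'E]
      exact Dvd.dvd.mul_right hqi _
    have hE'norm : ⁅E, E⁆ ≤ normalizer (E₃ : Set G) :=
      Cfsg.Agent.Lib.Helper1.le_normalizer_of_hall_of_isNilpotent ⁅E, E⁆ E₃ hE₃E' hnilE hcop
    have hkey : ∀ x : G, x ∈ ⁅E, E⁆ → orderOf x ∣ Nat.card ↥E₃ → x ∈ E₃ := by
      intro x hx hord
      have hz : zpowers x ≤ ⁅E, E⁆ := by rw [Subgroup.zpowers_le]; exact hx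
      have h1 := Cfsg.Agent.Lib.Helper32.relIndex_sup_right_of_le_normalizer (hz.trans hE'norm)
      have h2 : E₃.relIndex (zpowers x) ∣ Nat.card ↥E₃ :=
        (Subgroup.relIndex_dvd_card _ _).trans (by rw [Nat.card_zpowers]; exact hord)
      have h3 : E₃.relIndex (zpowers x ⊔ E₃) ∣ E₃.relIndex ⁅E, E⁆ := by
        rw [← Subgroup.relIndex_mul_relIndex E₃ (zpowers x ⊔ E₃) ⁅E, E⁆ le_sup_right
          (sup_le hz hE₃E')]
        exact Dvd.intro _ rfl
      rw [h1] at h3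
      have h4 : E₃.relIndex (zpowers x) = 1 :=
        Nat.eq_one_of_dvd_coprimes hcop h2 h3
      have h5 : zpowers x ≤ E₃ := Subgroup.relIndex_eq_one.mp h4
      exact h5 (Subgroup.mem_zpowers x)
    intro e he
    rw [← cj_eq_self_iff]
    have hle : cj e E₃ ≤ E₃ := by
      intro x hx
      obtain ⟨y, hy, rfl⟩ := mem_cj'.mp hx
      apply hkey
      · have hn : (⁅E, E⁆ : Subgroup G) ≤ E := hE'E
        have h1 : e * y * e⁻¹ ∈ cj e ⁅E, E⁆ := conj_mem_cj (hE₃E' hy)
        have h2 : cj e ⁅E, E⁆ = ⁅E, E⁆ := by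
          rw [cj_def, Subgroup.map_commutator]
          have h3 : E.map (MulAut.conj e).toMonoidHom = E := by
            have := cj_eq_self_iff.mpr (Subgroup.le_normalizer he)
            exact this
          rw [h3]
        rwa [h2] at h1
      · have h1 : orderOf (e * y * e⁻¹) = orderOf y := by
          have := orderOf_injective (MulAut.conj e).toMonoidHom (MulAut.conj e).injective y
          simpa using this
        rw [h1]
        have h2 : orderOf (⟨y, hy⟩ : ↥E₃) ∣ Nat.card ↥E₃ := orderOf_dvd_natCard _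
        rwa [← Subgroup.orderOf_coe] at h2
    exact Subgroup.eq_of_le_of_card_ge hle (by rw [card_cj])

end Cfsg.Agent.Lib.Helper24.BG
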