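import Cfsg.Agent.Lib.Helper24.Coprime

set_option autoImplicit false

universe u

namespace Cfsg.Agent.Lib.Helper24

open Subgroup
open Cfsg.Agent.Lib.Helper33
open scoped Pointwise

section rel
variable {G : Type u} [Group G]

theorem normal_subgroupOf_of_le_normalizer {N X : Subgroup G} (h : X ≤ normalizer (N : Set G)) :
    (N.subgroupOf X).Normal := by
  rw [← normalizer_eq_top_iff, eq_top_iff]
  intro x _
  rw [mem_normalizer_iff]
  intro y
  have := (mem_normalizer_iff.mp (h x.2)) (y : G)
  simp only [mem_subgroupOf]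
  exact this

/-- Relative Schur–Zassenhaus conjugacy: `H₁` normalises `N`, coprime orders, `N` or `H₁` solvable,
`H₂ ≤ H₁ N` of the same order as `H₁`. Then `H₂` is an `N`-conjugate of `H₁`. -/
theorem rel_sz_conj [Finite G] (N H₁ H₂ : Subgroup G) (h₁ : H₁ ≤ normalizer (N : Set G))
    (hcop : (Nat.card H₁).Coprime (Nat.card N))
    (hsolv : Group.IsSolvable N ∨ Group.IsSolvable H₁)
    (h₂ : H₂ ≤ H₁ ⊔ N) (hcard : Nat.card H₂ = Nat.card H₁) :
    ∃ n ∈ N, cj n H₁ = H₂ := by
  set X := H₁ ⊔ N with hX
  have hAX : H₁ ≤ X := le_sup_left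
  have hNX : N ≤ X := le_sup_right
  have hXnorm : X ≤ normalizer (N : Set G) := sup_le h₁ le_normalizer
  haveI hN'n : (N.subgroupOf X).Normal := normal_subgroupOf_of_le_normalizer hXnorm
  have hcardN : Nat.card (N.subgroupOf X) = Nat.card N :=
    Nat.card_congr (subgroupOfEquivOfLe hNX).toEquiv
  have hcardA : Nat.card (H₁.subgroupOf X) = Nat.card H₁ :=
    Nat.card_congr (subgroupOfEquivOfLe hAX).toEquiv
  have hidx : (N.subgroupOf X).index = Nat.card H₁ := by
    rw [← hcardA]
    symm
    apply card_eq_index_of_sup_eq_top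
    · rw [← subgroupOf_sup hNX hAX, sup_comm, ← hX, subgroupOf_self]
    · rw [hcardN, hcardA]; exact hcop.symm
  have hcopX : (Nat.card (N.subgroupOf X)).Coprime (N.subgroupOf X).index := by
    rw [hidx, hcardN]; exact hcop.symm
  have hcA : Nat.card (H₁.subgroupOf X) = (N.subgroupOf X).index := by
    rw [hidx, hcardA]
  have hcB : Nat.card (H₂.subgroupOf X) = (N.subgroupOf X).index := by
    rw [hidx, Nat.card_congr (subgroupOfEquivOfLe h₂).toEquiv, hcard]
  have hAc := isComplement'_of_card_eq_index _ _ hcopX hcA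
  have hBc := isComplement'_of_card_eq_index _ _ hcopX hcB
  obtain ⟨x, hx, hconj⟩ : ∃ x ∈ N.subgroupOf X,
      (H₁.subgroupOf X).map (MulAut.conj x).toMonoidHom = H₂.subgroupOf X := by
    rcases hsolv with h | h
    · have hs : Group.IsSolvable (N.subgroupOf X) :=
        Group.isSolvable_of_isSolvable_injective
          (f := (subgroupOfEquivOfLe hNX).toMonoidHom) (subgroupOfEquivOfLe hNX).injective
      exact sz_conj_of_solvable_normal _ hs hcopX _ _ hAc hBc
    · have hs : Group.IsSolvable (H₁.subgroupOf X) :=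
        Group.isSolvable_of_isSolvable_injective
          (f := (subgroupOfEquivOfLe hAX).toMonoidHom) (subgroupOfEquivOfLe hAX).injective
      exact sz_conj_of_solvable_compl _ hcopX _ _ hs hAc hBc
  exact ⟨(x : G), mem_subgroupOf.mp hx, cj_subgroupOf_eq hAX h₂ x hconj⟩

/-- Relative Schur–Zassenhaus existence: `N ≤ M`, `M` normalises `N`, and `|N|` is coprime to
`|M : N|`. Then `N` has a complement in `M`. -/
theorem rel_sz_exists [Finite G] (N M : Subgroup G) (hNM : N ≤ M) (hM : M ≤ normalizer (N : Set G))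
    (hcop : (Nat.card N).Coprime (N.relIndex M)) :
    ∃ B : Subgroup G, B ≤ M ∧ Nat.card B = N.relIndex M ∧ B ⊓ N = ⊥ ∧ B ⊔ N = M := by
  haveI : (N.subgroupOf M).Normal := normal_subgroupOf_of_le_normalizer hM
  have hcardN : Nat.card (N.subgroupOf M) = Nat.card N :=
    Nat.card_congr (subgroupOfEquivOfLe hNM).toEquiv
  have hcop' : (Nat.card (N.subgroupOf M)).Coprime (N.subgroupOf M).index := by
    rw [hcardN]; exact hcop
  obtain ⟨B', hB'⟩ := exists_right_complement'_of_coprime hcop'
  refine ⟨B'.map M.subtype, map_subtype_le B', ?_, ?_, ?_⟩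
  · rw [card_map_of_injective M.subtype_injective]
    exact card_eq_index_of_isComplement' _ _ hB'
  · have h1 : B' ⊓ N.subgroupOf M = ⊥ := by
      rw [inf_comm]; exact hB'.disjoint.eq_bot
    have h2 := congrArg (map M.subtype) h1
    rw [map_inf _ _ _ M.subtype_injective, subgroupOf_map_subtype, Subgroup.map_bot,
      inf_of_le_left hNM] at h2
    exact h2
  · have h1 : B' ⊔ N.subgroupOf M = ⊤ := by
      rw [sup_comm]; exact hB'.sup_eq_top
    have h2 := congrArg (map M.subtype) h1
    rw [Subgroup.map_sup, subgroupOf_map_subtype, inf_of_le_left hNM, ← MonoidHom.range_eq_map,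
      M.range_subtype] at h2
    exact h2

end rel

end Cfsg.Agent.Lib.Helper24
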