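import Cfsg.Agent.Lib.Helper24.Glauberman
import Cfsg.Agent.Lib.Helper24.RelSZ

set_option autoImplicit false
set_option linter.style.haveILetI false

universe u

namespace Cfsg.Agent.Lib.Helper24

open Subgroup
open Cfsg.Agent.Lib.Helper33

section invcompl
variable {G : Type u} [Group G]

/-- If `H` normalises `N`, every element of `H ⊔ N` is a product `a * n`. -/
theorem exists_mul_of_mem_sup_of_le_normalizer (H N : Subgroup G)
    (h : H ≤ normalizer (N : Set G)) (x : G) (hx : x ∈ H ⊔ N) :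
    ∃ a ∈ H, ∃ n ∈ N, x = a * n := by
  let S : Subgroup G :=
    { carrier := {x | ∃ a ∈ H, ∃ n ∈ N, x = a * n}
      mul_mem' := by
        rintro _ _ ⟨a, ha, n, hn, rfl⟩ ⟨a', ha', n', hn', rfl⟩
        have h1 : a'⁻¹ * n * a'⁻¹⁻¹ ∈ N :=
          (mem_normalizer_iff.mp (h (H.inv_mem ha')) n).mp hn
        refine ⟨a * a', H.mul_mem ha ha', (a'⁻¹ * n * a'⁻¹⁻¹) * n', N.mul_mem h1 hn', ?_⟩
        group
      one_mem' := ⟨1, H.one_mem, 1, N.one_mem, by simp⟩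
      inv_mem' := by
        rintro _ ⟨a, ha, n, hn, rfl⟩
        have h1 : a * n⁻¹ * a⁻¹ ∈ N := (mem_normalizer_iff.mp (h ha) n⁻¹).mp (N.inv_mem hn)
        refine ⟨a⁻¹, H.inv_mem ha, a * n⁻¹ * a⁻¹, h1, ?_⟩
        group }
  have hle : H ⊔ N ≤ S := by
    apply sup_le
    · intro a ha; exact ⟨a, ha, 1, N.one_mem, by simp⟩
    · intro n hn; exact ⟨1, H.one_mem, n, hn, by simp⟩
  exact hle hx

/-- **Split case**: `M` a solvable normal Hall subgroup of `G`, everything `A`-invariant, `A`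
coprime to `M`, `K ≤ G` an `A`-invariant subgroup of order prime to `|M|`.  Then `K` lies in an
`A`-invariant complement of `M` in `G`. -/
theorem inv_complement_containing [Finite G] (A M L K : Subgroup G)
    (hML : M ≤ L) (hLM : L ≤ normalizer (M : Set G)) (hAM : A ≤ normalizer (M : Set G))
    (hAL : A ≤ normalizer (L : Set G)) (hAK : A ≤ normalizer (K : Set G)) (hKL : K ≤ L)
    (hcopA : (Nat.card A).Coprime (Nat.card M)) (hMs : Group.IsSolvable M)
    (hcop : (Nat.card M).Coprime (M.relIndex L)) (hK : (Nat.card K).Coprime (Nat.card M)) :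
    ∃ H : Subgroup G, H ≤ L ∧ Nat.card H = M.relIndex L ∧ A ≤ normalizer (H : Set G) ∧ K ≤ H := by
  obtain ⟨B, hBL, hBcard, hBM, hBML⟩ := rel_sz_exists M L hML hLM hcop
  have hcopBM : (Nat.card B).Coprime (Nat.card M) := by rw [hBcard]; exact hcop.symm
  -- an A-invariant complement
  have hconjA : ∀ a ∈ A, ∃ k ∈ M, cj a B = cj k B := by
    intro a ha
    have h1 : cj a B ≤ B ⊔ M := by
      rw [hBML, ← cj_eq_self_iff.mpr (hAL ha)]
      exact cj_mono hBL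
    obtain ⟨n, hn, hnB⟩ := rel_sz_conj M B (cj a B) (hBL.trans hLM) hcopBM (Or.inl hMs) h1
      (card_cj a B)
    exact ⟨n, hn, hnB.symm⟩
  obtain ⟨k, hk, hAH₀⟩ := glauberman_exists A M B hAM hcopA (Or.inr hMs) hconjA
  set H₀ := cj k B with hH₀
  have hkL : cj k L = L := cj_eq_self_of_mem (hML hk)
  have hkM : cj k M = M := cj_eq_self_of_mem hk
  have hH₀L : H₀ ≤ L := by rw [← hkL]; exact cj_mono hBL
  have hH₀card : Nat.card H₀ = M.relIndex L := by rw [hH₀, card_cj, hBcard]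
  have hH₀M : H₀ ⊓ M = ⊥ := by
    rw [hH₀, ← hkM, ← cj_inf, hBM, cj_eq_bot_iff]
  have hH₀ML : H₀ ⊔ M = L := by
    rw [hH₀, ← hkM, ← cj_sup, hBML, hkL]
  have hH₀N : H₀ ≤ normalizer (M : Set G) := hH₀L.trans hLM
  -- K₀
  set K₀ := (K ⊔ M) ⊓ H₀ with hK₀
  have hKN : K ≤ normalizer (M : Set G) := hKL.trans hLM
  have hK₀H₀ : K₀ ≤ H₀ := inf_le_right
  have hK₀N : K₀ ≤ normalizer (M : Set G) := hK₀H₀.trans hH₀N
  have hsup : K ⊔ M = K₀ ⊔ M := by
    apply le_antisymm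
    · intro x hx
      have hxL : x ∈ H₀ ⊔ M := by rw [hH₀ML]; exact (sup_le hKL hML) hx
      obtain ⟨a, ha, n, hn, rfl⟩ := exists_mul_of_mem_sup_of_le_normalizer H₀ M hH₀N x hxL
      have ha' : a ∈ K ⊔ M := by
        have e : a = (a * n) * n⁻¹ := by group
        rw [e]
        exact (K ⊔ M).mul_mem hx ((K ⊔ M).inv_mem (mem_sup_right hn))
      exact (K₀ ⊔ M).mul_mem (mem_sup_left ⟨ha', ha⟩) (mem_sup_right hn)
    · exact sup_le inf_le_left le_sup_right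
  have hKM0 : K ⊓ M = ⊥ := (disjoint_of_coprime_natCard hK).eq_bot
  have hK₀M0 : K₀ ⊓ M = ⊥ := by
    rw [eq_bot_iff, ← hH₀M]
    exact inf_le_inf_right M hK₀H₀
  have hcardK₀ : Nat.card K = Nat.card K₀ := by
    rw [← relIndex_sup_eq_card K M hKN hKM0, ← relIndex_sup_eq_card K₀ M hK₀N hK₀M0, hsup]
  have hAK₀ : A ≤ normalizer (K₀ : Set G) := by
    intro a ha
    rw [← cj_eq_self_iff, hK₀, cj_inf, cj_sup, cj_eq_self_iff.mpr (hAK ha),
      cj_eq_self_iff.mpr (hAM ha), cj_eq_self_iff.mpr (hAH₀ ha)]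
  have hcopK₀M : (Nat.card K₀).Coprime (Nat.card M) := by rw [← hcardK₀]; exact hK
  obtain ⟨n, hn, hnK⟩ := rel_sz_conj M K₀ K hK₀N hcopK₀M (Or.inl hMs)
    (by rw [← hsup]; exact le_sup_left) hcardK₀
  obtain ⟨c, hc, hcK⟩ := glauberman_conj A M K₀ hAM hcopA (Or.inr hMs) hAK₀ n hn
    (by rw [hnK]; exact hAK)
  refine ⟨cj c H₀, ?_, ?_, ?_, ?_⟩
  · rw [← cj_eq_self_of_mem (hML hc.1)]
    exact cj_mono hH₀L
  · rw [card_cj, hH₀card]
  · intro a ha
    have hca : c * a = a * c := (mem_centralizer_iff.mp hc.2) a ha |>.symm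
    rw [← cj_eq_self_iff, ← cj_mul, ← hca, cj_mul, cj_eq_self_iff.mpr (hAH₀ ha)]
  · rw [← hnK, ← hcK]
    exact cj_mono hK₀H₀

end invcompl

end Cfsg.Agent.Lib.Helper24
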