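import Cfsg.Agent.Lib.Helper24.Coprime

set_option autoImplicit false

universe u

namespace Cfsg.Agent.Lib.Helper24

open Subgroup
open Cfsg.Agent.Lib.Helper33
open scoped Pointwise IsMulCommutative commutatorElement

section abelian
variable {G : Type u} [Group G]

/-- The averaging (norm) map on an abelian subgroup `V` normalised by `A`. -/
noncomputable def normMap [Finite G] (V A : Subgroup G) [IsMulCommutative V]
    (hAV : A ≤ normalizer (V : Set G)) : V →* V :=
  letI := Fintype.ofFinite A
  ∏ a : A, (conjNormalizer V (a : G) (hAV a.2)).toMonoidHom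

theorem normMap_apply [Finite G] (V A : Subgroup G) [IsMulCommutative V]
    (hAV : A ≤ normalizer (V : Set G)) (v : V) :
    letI := Fintype.ofFinite A
    normMap V A hAV v = ∏ a : A, conjNormalizer V (a : G) (hAV a.2) v := by
  letI := Fintype.ofFinite A
  unfold normMap
  rw [MonoidHom.finset_prod_apply]
  rfl

theorem normMap_conj [Finite G] (V A : Subgroup G) [IsMulCommutative V]
    (hAV : A ≤ normalizer (V : Set G)) (b : A) (v : V) :
    normMap V A hAV (conjNormalizer V (b : G) (hAV b.2) v) = normMap V A hAV v := by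
  letI := Fintype.ofFinite A
  rw [normMap_apply, normMap_apply]
  refine Fintype.prod_equiv (Equiv.mulRight b) _ _ ?_
  intro a
  apply Subtype.ext
  simp [conjNormalizer, mul_assoc]

theorem normMap_of_fixed [Finite G] (V A : Subgroup G) [IsMulCommutative V]
    (hAV : A ≤ normalizer (V : Set G)) (v : V) (hv : (v : G) ∈ centralizer (A : Set G)) :
    normMap V A hAV v = v ^ Nat.card A := by
  letI := Fintype.ofFinite A
  rw [normMap_apply]
  have : ∀ a : A, conjNormalizer V (a : G) (hAV a.2) v = v := by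
    intro a
    apply Subtype.ext
    rw [mem_centralizer_iff] at hv
    have h1 := hv a a.2
    change (a : G) * v * (a : G)⁻¹ = v
    rw [h1]; group
  simp only [this, Finset.prod_const, Finset.card_univ, Nat.card_eq_fintype_card]

/-- Coprime action on an abelian group: `[V, A] ∩ C_V(A) = 1`. -/
theorem commutator_inf_centralizer_eq_bot_of_abelian [Finite G] (V A : Subgroup G)
    [IsMulCommutative V] (hAV : A ≤ normalizer (V : Set G))
    (hcop : (Nat.card A).Coprime (Nat.card V)) :
    ⁅V, A⁆ ⊓ centralizer (A : Set G) = ⊥ := by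
  have hVA : ⁅V, A⁆ ≤ V := commutator_le_of_le_normalizer V A hAV
  -- [V, A] ≤ ker of the norm map
  have hker : ⁅V, A⁆ ≤ ((normMap V A hAV).ker).map V.subtype := by
    rw [commutator_le]
    intro v hv a ha
    have hmem : ⁅v, a⁆ ∈ V := hVA (commutator_mem_commutator hv ha)
    refine ⟨⟨⁅v, a⁆, hmem⟩, ?_, rfl⟩
    rw [SetLike.mem_coe, MonoidHom.mem_ker]
    have e : (⟨⁅v, a⁆, hmem⟩ : V) = ⟨v, hv⟩ * (conjNormalizer V a (hAV ha) ⟨v, hv⟩)⁻¹ := by
      apply Subtype.ext
      simp [conjNormalizer, commutatorElement_def, mul_assoc]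
    rw [e, map_mul, map_inv]
    have := normMap_conj V A hAV ⟨a, ha⟩ ⟨v, hv⟩
    rw [this, mul_inv_cancel]
  rw [eq_bot_iff]
  intro c hc
  rw [mem_bot]
  obtain ⟨c', hc'ker, rfl⟩ := hker hc.1
  rw [SetLike.mem_coe, MonoidHom.mem_ker] at hc'ker
  have h1 : c' ^ Nat.card A = 1 := by
    rw [← normMap_of_fixed V A hAV c' hc.2]; exact hc'ker
  have h2 : c' ^ Nat.card V = 1 := pow_card_eq_one'
  have h3 : orderOf c' ∣ Nat.gcd (Nat.card A) (Nat.card V) :=
    Nat.dvd_gcd (orderOf_dvd_of_pow_eq_one h1) (orderOf_dvd_of_pow_eq_one h2)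
  rw [hcop, Nat.dvd_one, orderOf_eq_one_iff] at h3
  rw [h3]; rfl

end abelian

end Cfsg.Agent.Lib.Helper24
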