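import Cfsg.Agent.Lib.Helper24.InvCompl
import Cfsg.Agent.Lib.Helper1.HallConj

set_option autoImplicit false
set_option linter.style.haveILetI false

universe u

namespace Cfsg.Agent.Lib.Helper24

open Subgroup
open Cfsg.Agent.Lib.Helper33

section invhall

/-- `A`-invariant Hall domination, general form (`A` normalises `G`), for `|G| ≤ N`. -/
def InvHallDom (N : ℕ) : Prop :=
  ∀ (Γ : Type u) [Group Γ] [Finite Γ] (G A K : Subgroup Γ), Nat.card G ≤ N →
    A ≤ normalizer (G : Set Γ) → Group.IsSolvable G → (Nat.card A).Coprime (Nat.card G) →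
    ∀ m n : ℕ, Nat.card G = m * n → m.Coprime n → K ≤ G → A ≤ normalizer (K : Set Γ) →
      (Nat.card K).Coprime n →
      ∃ H : Subgroup Γ, H ≤ G ∧ Nat.card H = m ∧ A ≤ normalizer (H : Set Γ) ∧ K ≤ H

/-- the same with `G` normal in the ambient group -/
def InvHallDomNormal (N : ℕ) : Prop :=
  ∀ (Γ : Type u) [Group Γ] [Finite Γ] (G A K : Subgroup Γ), Nat.card G ≤ N →
    G.Normal → Group.IsSolvable G → (Nat.card A).Coprime (Nat.card G) →
    ∀ m n : ℕ, Nat.card G = m * n → m.Coprime n → K ≤ G → A ≤ normalizer (K : Set Γ) →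
      (Nat.card K).Coprime n →
      ∃ H : Subgroup Γ, H ≤ G ∧ Nat.card H = m ∧ A ≤ normalizer (H : Set Γ) ∧ K ≤ H

/-- transfer from the normal version to the general one (pass to `N_Γ(G)`) -/
theorem invHallDom_of_normal (N : ℕ) (h : InvHallDomNormal.{u} N) : InvHallDom.{u} N := by
  intro Γ _ _ G A K hcard hAG hs hcop m n hmn hco hKG hAK hKn
  set Γ₁ := normalizer (G : Set Γ) with hΓ₁
  have hGΓ₁ : G ≤ Γ₁ := le_normalizer
  have hKΓ₁ : K ≤ Γ₁ := hKG.trans hGΓ₁
  have hcG : Nat.card (G.subgroupOf Γ₁) = Nat.card G :=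
    Nat.card_congr (subgroupOfEquivOfLe hGΓ₁).toEquiv
  have hcA : Nat.card (A.subgroupOf Γ₁) = Nat.card A :=
    Nat.card_congr (subgroupOfEquivOfLe hAG).toEquiv
  have hcK : Nat.card (K.subgroupOf Γ₁) = Nat.card K :=
    Nat.card_congr (subgroupOfEquivOfLe hKΓ₁).toEquiv
  have hs₁ : Group.IsSolvable (G.subgroupOf Γ₁) :=
    Group.isSolvable_of_isSolvable_injective (f := (subgroupOfEquivOfLe hGΓ₁).toMonoidHom)
      (subgroupOfEquivOfLe hGΓ₁).injective
  have hAK₁ : A.subgroupOf Γ₁ ≤ normalizer ((K.subgroupOf Γ₁ : Subgroup Γ₁) : Set Γ₁) := by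
    intro a ha
    rw [mem_normalizer_iff]
    intro x
    have := (mem_normalizer_iff.mp (hAK (mem_subgroupOf.mp ha))) (x : Γ)
    simp only [mem_subgroupOf]
    simpa using this
  obtain ⟨H₁, hH₁G, hH₁c, hAH₁, hKH₁⟩ := h Γ₁ (G.subgroupOf Γ₁) (A.subgroupOf Γ₁)
    (K.subgroupOf Γ₁) (by rw [hcG]; exact hcard) normal_in_normalizer hs₁
    (by rw [hcG, hcA]; exact hcop) m n (by rw [hcG]; exact hmn) hco
    (fun x hx => hKG (mem_subgroupOf.mp hx)) hAK₁ (by rw [hcK]; exact hKn)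
  refine ⟨H₁.map Γ₁.subtype, ?_, ?_, ?_, ?_⟩
  · rintro _ ⟨x, hx, rfl⟩
    exact mem_subgroupOf.mp (hH₁G hx)
  · rw [card_map_of_injective Γ₁.subtype_injective, hH₁c]
  · intro a ha
    have haΓ₁ : a ∈ Γ₁ := hAG ha
    have h1 := hAH₁ (show (⟨a, haΓ₁⟩ : Γ₁) ∈ A.subgroupOf Γ₁ from ha)
    rw [mem_normalizer_iff] at h1 ⊢
    have key : ∀ b : Γ₁, b ∈ normalizer ((H₁ : Subgroup Γ₁) : Set Γ₁) →
        ∀ y ∈ H₁.map Γ₁.subtype, (b : Γ) * y * (b : Γ)⁻¹ ∈ H₁.map Γ₁.subtype := by
      rintro b hb _ ⟨x, hx, rfl⟩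
      exact ⟨b * x * b⁻¹, (mem_normalizer_iff.mp hb x).mp hx, by simp⟩
    intro y
    constructor
    · exact key ⟨a, haΓ₁⟩ (hAH₁ (show (⟨a, haΓ₁⟩ : Γ₁) ∈ A.subgroupOf Γ₁ from ha)) y
    · intro hy
      have h2 := key (⟨a, haΓ₁⟩⁻¹)
        (inv_mem (hAH₁ (show (⟨a, haΓ₁⟩ : Γ₁) ∈ A.subgroupOf Γ₁ from ha))) _ hy
      simpa [mul_assoc] using h2
  · intro x hx
    exact ⟨⟨x, hKΓ₁ hx⟩, hKH₁ (show (⟨x, hKΓ₁ hx⟩ : Γ₁) ∈ K.subgroupOf Γ₁ from hx), rfl⟩

/-- a prime power dividing a product of coprime numbers divides one of them -/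
theorem prime_pow_dvd_or {p k m n : ℕ} (hp : p.Prime) (h : p ^ k ∣ m * n) (hmn : m.Coprime n) :
    p ^ k ∣ m ∨ p ^ k ∣ n := by
  by_cases hpn : p ∣ n
  · right
    have hpm : ¬ p ∣ m := fun hpm => hp.one_lt.ne' (Nat.eq_one_of_dvd_coprimes hmn hpm hpn)
    have hc : (p ^ k).Coprime m := Nat.Coprime.pow_left k ((Nat.Prime.coprime_iff_not_dvd hp).mpr hpm)
    exact hc.dvd_of_dvd_mul_left h
  · left
    have hc : (p ^ k).Coprime n := Nat.Coprime.pow_left k ((Nat.Prime.coprime_iff_not_dvd hp).mpr hpn)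
    exact hc.dvd_of_dvd_mul_right h

/-- the induction step -/
theorem invHallDomNormal_succ (N : ℕ) (ih : InvHallDom.{u} N) : InvHallDomNormal.{u} (N + 1) := by
  intro Γ _ _ G A K hcard hGn hs hcop m n hmn hco hKG hAK hKn
  haveI := hGn
  by_cases hG : G = ⊥
  · have hm : m = 1 := by
      have : m * n = 1 := by rw [← hmn, hG, card_bot]
      exact Nat.eq_one_of_mul_eq_one_right this
    refine ⟨⊥, bot_le, by rw [card_bot, hm], ?_, ?_⟩
    · intro a _
      rw [mem_normalizer_iff]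
      intro x
      simp
    · rw [hG] at hKG; exact hKG
  obtain ⟨p, M, hp, hMG, hMn, hM, hMc, hMe⟩ :=
    Cfsg.Agent.Lib.Helper1.exists_normal_elementary_le G hs hG
  haveI := hMn
  haveI : Fact p.Prime := ⟨hp⟩
  have hMp : IsPGroup p M := Cfsg.Agent.Lib.Helper1.isPGroup_of_exponent M hMe
  obtain ⟨k, hk⟩ := IsPGroup.iff_card.mp hMp
  have hMs : Group.IsSolvable M := by
    haveI := hMp.isNilpotent
    infer_instance
  set φ := QuotientGroup.mk' M with hφ
  have hker : φ.ker ≤ G := by rw [hφ, QuotientGroup.ker_mk']; exact hMG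
  have hcomapG : (G.map φ).comap φ = G := comap_map_eq_self hker
  have hcardG : Nat.card (G.map φ) * Nat.card M = Nat.card G := by
    rw [← Cfsg.Agent.Lib.Helper1.card_comap_mk M (G.map φ), hcomapG]
  have hM1 : 1 < Nat.card M := by
    rcases Nat.lt_or_ge 1 (Nat.card M) with h | h
    · exact h
    · exfalso
      have : Nat.card M = 1 := le_antisymm h Nat.card_pos
      exact hM (card_eq_one.mp this)
  have hcardG' : Nat.card (G.map φ) ≤ N := by
    have hpos : 0 < Nat.card (G.map φ) := Nat.card_pos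
    nlinarith
  have hGbn : (G.map φ).Normal := hGn.map φ (QuotientGroup.mk'_surjective M)
  have hAGb : A.map φ ≤ normalizer ((G.map φ : Subgroup (Γ ⧸ M)) : Set (Γ ⧸ M)) := by
    rw [normalizer_eq_top_iff.mpr hGbn]; exact le_top
  have hsb : Group.IsSolvable (G.map φ) :=
    Group.isSolvable_of_surjective (f := φ.subgroupMap G) (φ.subgroupMap_surjective G)
  have hcopb : (Nat.card (A.map φ)).Coprime (Nat.card (G.map φ)) :=
    Nat.Coprime.coprime_dvd_left (card_map_dvd _ φ)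
      (Nat.Coprime.coprime_dvd_right (Dvd.intro _ hcardG) hcop)
  have hKb : K.map φ ≤ G.map φ := map_mono hKG
  have hAKb : A.map φ ≤ normalizer ((K.map φ : Subgroup (Γ ⧸ M)) : Set (Γ ⧸ M)) :=
    le_trans (map_mono hAK) (le_normalizer_map φ)
  have hMdvd : Nat.card M ∣ m * n := by rw [← hmn]; exact card_dvd_of_le hMG
  -- pull back an invariant subgroup of the quotient
  have pull : ∀ Hb : Subgroup (Γ ⧸ M), Hb ≤ G.map φ →
      A.map φ ≤ normalizer ((Hb : Subgroup (Γ ⧸ M)) : Set (Γ ⧸ M)) → K.map φ ≤ Hb →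
      Hb.comap φ ≤ G ∧ Nat.card (Hb.comap φ) = Nat.card Hb * Nat.card M ∧
        A ≤ normalizer ((Hb.comap φ : Subgroup Γ) : Set Γ) ∧ K ≤ Hb.comap φ := by
    intro Hb hHb hAHb hKHb
    refine ⟨?_, Cfsg.Agent.Lib.Helper1.card_comap_mk M Hb, ?_, map_le_iff_le_comap.mp hKHb⟩
    · rw [← hcomapG]; exact comap_mono hHb
    · intro a ha
      apply le_normalizer_comap φ
      rw [mem_comap]
      exact hAHb (mem_map_of_mem φ ha)
  rw [hk] at hMdvd
  rcases prime_pow_dvd_or hp hMdvd hco with hd | hd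
  · -- |M| divides m
    obtain ⟨m', hm'⟩ := hd
    rw [← hk] at hm'
    have hGb : Nat.card (G.map φ) = m' * n := by
      have : Nat.card (G.map φ) * Nat.card M = (m' * n) * Nat.card M := by
        rw [hcardG, hmn, hm']; ring
      exact Nat.eq_of_mul_eq_mul_right Nat.card_pos this
    have hco' : m'.Coprime n := Nat.Coprime.coprime_dvd_left (Dvd.intro_left _ hm'.symm) hco
    obtain ⟨Hb, hHb, hHbc, hAHb, hKHb⟩ := ih (Γ ⧸ M) (G.map φ) (A.map φ) (K.map φ) hcardG' hAGb
      hsb hcopb m' n hGb hco' hKb hAKb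
      (Nat.Coprime.coprime_dvd_left (card_map_dvd _ φ) hKn)
    obtain ⟨h1, h2, h3, h4⟩ := pull Hb hHb hAHb hKHb
    exact ⟨Hb.comap φ, h1, by rw [h2, hHbc, hm', mul_comm], h3, h4⟩
  · -- |M| divides n
    obtain ⟨n', hn'⟩ := hd
    rw [← hk] at hn'
    have hGb : Nat.card (G.map φ) = m * n' := by
      have : Nat.card (G.map φ) * Nat.card M = (m * n') * Nat.card M := by
        rw [hcardG, hmn, hn']; ring
      exact Nat.eq_of_mul_eq_mul_right Nat.card_pos this
    have hMn' : Nat.card M ∣ n := Dvd.intro _ hn'.symm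
    have hco' : m.Coprime n' := Nat.Coprime.coprime_dvd_right (Dvd.intro_left _ hn'.symm) hco
    obtain ⟨Hb, hHb, hHbc, hAHb, hKHb⟩ := ih (Γ ⧸ M) (G.map φ) (A.map φ) (K.map φ) hcardG' hAGb
      hsb hcopb m n' hGb hco' hKb hAKb
      (Nat.Coprime.coprime_dvd_left (card_map_dvd _ φ)
        (Nat.Coprime.coprime_dvd_right (Dvd.intro_left _ hn'.symm) hKn))
    obtain ⟨hLG, hLc, hAL, hKL⟩ := pull Hb hHb hAHb hKHb
    set L := Hb.comap φ with hL
    rw [hHbc] at hLc
    have hML : M ≤ L := by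
      intro x hx
      rw [hL, mem_comap]
      have : φ x = 1 := (QuotientGroup.eq_one_iff x).mpr hx
      rw [this]; exact Hb.one_mem
    have hcopM : m.Coprime (Nat.card M) := Nat.Coprime.coprime_dvd_right hMn' hco
    have hKM : (Nat.card K).Coprime (Nat.card M) := Nat.Coprime.coprime_dvd_right hMn' hKn
    have hcopAM : (Nat.card A).Coprime (Nat.card M) :=
      Nat.Coprime.coprime_dvd_right (card_dvd_of_le hMG) hcop
    have hcopAL : (Nat.card A).Coprime (Nat.card L) :=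
      Nat.Coprime.coprime_dvd_right (card_dvd_of_le hLG) hcop
    by_cases hLN : Nat.card L ≤ N
    · have hLs : Group.IsSolvable L := Cfsg.Agent.Lib.Helper1.isSolvable_of_le hLG hs
      obtain ⟨H, hHL, hHc, hAH, hKH⟩ := ih Γ L A K hLN hAL hLs hcopAL m (Nat.card M) hLc hcopM
        hKL hAK hKM
      exact ⟨H, hHL.trans hLG, hHc, hAH, hKH⟩
    · -- L = G : split case
      have hLG' : L = G := by
        apply eq_of_le_of_card_ge hLG
        have := card_le_of_le hLG
        omega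
      have hNtop : normalizer (M : Set Γ) = ⊤ := normalizer_eq_top_iff.mpr hMn
      have hrel : M.relIndex L = m := by
        have h1 := relIndex_mul_card' hML
        rw [hLc] at h1
        exact Nat.eq_of_mul_eq_mul_right Nat.card_pos h1
      obtain ⟨H, hHL, hHc, hAH, hKH⟩ := inv_complement_containing A M L K hML
        (by rw [hNtop]; exact le_top) (by rw [hNtop]; exact le_top) hAL hAK hKL hcopAM hMs
        (by rw [hrel]; exact hcopM.symm) hKM
      exact ⟨H, hHL.trans hLG, by rw [hHc, hrel], hAH, hKH⟩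

/-- **`A`-invariant Hall domination**: `G` solvable, `A` normalising `G` with coprime order,
`|G| = m n` with `(m, n) = 1`.  Every `A`-invariant subgroup `K ≤ G` of order prime to `n` lies in
an `A`-invariant subgroup of `G` of order `m`. -/
theorem invHallDom_all (N : ℕ) : InvHallDom.{u} N := by
  induction N with
  | zero =>
    intro Γ _ _ G A K hcard
    have : 0 < Nat.card G := Nat.card_pos
    omega
  | succ N ih => exact invHallDom_of_normal (N + 1) (invHallDomNormal_succ N ih)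

theorem exists_invariant_hall_ge {Γ : Type u} [Group Γ] [Finite Γ] (G A K : Subgroup Γ)
    (hAG : A ≤ normalizer (G : Set Γ)) (hs : Group.IsSolvable G)
    (hcop : (Nat.card A).Coprime (Nat.card G)) (m n : ℕ) (hmn : Nat.card G = m * n)
    (hco : m.Coprime n) (hKG : K ≤ G) (hAK : A ≤ normalizer (K : Set Γ))
    (hKn : (Nat.card K).Coprime n) :
    ∃ H : Subgroup Γ, H ≤ G ∧ Nat.card H = m ∧ A ≤ normalizer (H : Set Γ) ∧ K ≤ H :=
  invHallDom_all (Nat.card G) Γ G A K le_rfl hAG hs hcop m n hmn hco hKG hAK hKn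

end invhall

end Cfsg.Agent.Lib.Helper24
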