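import Cfsg.Agent.Lib.Helper24.WardB
import Cfsg.Agent.Lib.Helper31.GenRank

/-!
# Ward's theorem: the two-layer analysis (`A = E_{r²}` acting on `V S`)
-/

set_option autoImplicit false
set_option linter.unusedSectionVars false
set_option linter.unusedVariables false
set_option linter.style.haveILetI false

universe u

namespace Cfsg.Agent.Lib.Helper24.Ward

open Subgroup
open Cfsg.Agent.Lib.Helper33 Cfsg.Agent.Lib.Helper24
open scoped Pointwise IsMulCommutative commutatorElement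

variable {Γ : Type u} [Group Γ]

/-! ### small general facts -/

theorem mem_normalizer_inf {H K : Subgroup Γ} {g : Γ} (hH : g ∈ normalizer (H : Set Γ))
    (hK : g ∈ normalizer (K : Set Γ)) : g ∈ normalizer ((H ⊓ K : Subgroup Γ) : Set Γ) := by
  rw [← cj_eq_self_iff, cj_inf, cj_eq_self_iff.mpr hH, cj_eq_self_iff.mpr hK]

theorem mem_normalizer_centralizer {H : Subgroup Γ} {g : Γ} (hH : g ∈ normalizer (H : Set Γ)) :
    g ∈ normalizer ((centralizer (H : Set Γ) : Subgroup Γ) : Set Γ) := by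
  rw [← cj_eq_self_iff, ← centralizer_cj, cj_eq_self_iff.mpr hH]

theorem le_normalizer_inf' {A H K : Subgroup Γ} (hH : A ≤ normalizer (H : Set Γ))
    (hK : A ≤ normalizer (K : Set Γ)) : A ≤ normalizer ((H ⊓ K : Subgroup Γ) : Set Γ) :=
  fun _ ha => mem_normalizer_inf (hH ha) (hK ha)

theorem le_normalizer_centralizer' {A H : Subgroup Γ} (hH : A ≤ normalizer (H : Set Γ)) :
    A ≤ normalizer ((centralizer (H : Set Γ) : Subgroup Γ) : Set Γ) :=
  fun _ ha => mem_normalizer_centralizer (hH ha)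

theorem le_normalizer_of_le_centralizer {A H : Subgroup Γ} (h : A ≤ centralizer (H : Set Γ)) :
    A ≤ normalizer (H : Set Γ) :=
  fun _ ha => Subgroup.centralizer_le_normalizer _ (h ha)

theorem coprime_of_isPGroup [Finite Γ] {p q : ℕ} (hp : p.Prime) (hq : q.Prime) (hpq : p ≠ q)
    {H K : Subgroup Γ} (hH : IsPGroup p H) (hK : IsPGroup q K) :
    (Nat.card H).Coprime (Nat.card K) := by
  haveI : Fact p.Prime := ⟨hp⟩
  haveI : Fact q.Prime := ⟨hq⟩
  exact IsPGroup.coprime_card_of_ne p q hpq H K hH hK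

theorem isPGroup_of_card_prime {r : ℕ} (hr : r.Prime) {B : Subgroup Γ} (hB : Nat.card B = r) :
    IsPGroup r B := by
  haveI : Fact r.Prime := ⟨hr⟩
  exact IsPGroup.of_card (n := 1) (by rw [hB, pow_one])

/-! ### subgroups of order `r` of `A = E_{r²}` -/

section ordr
variable [Finite Γ] {r : ℕ} {A : Subgroup Γ}

theorem card_eq_of_le_of_card_sq (hr : r.Prime) (hAcard : Nat.card A = r ^ 2) {D : Subgroup Γ}
    (hD : D ≤ A) : Nat.card D = 1 ∨ Nat.card D = r ∨ D = A := by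
  have h1 : Nat.card D ∣ r ^ 2 := hAcard ▸ card_dvd_of_le hD
  obtain ⟨k, hk, hkc⟩ := (Nat.dvd_prime_pow hr).mp h1
  interval_cases k
  · left; simpa using hkc
  · right; left; simpa using hkc
  · right; right
    exact eq_of_le_of_card_ge hD (by rw [hkc, hAcard])

/-- two distinct subgroups of order `r` of a group of order `r²` generate it. -/
theorem sup_eq_of_card (hr : r.Prime) (hAcard : Nat.card A = r ^ 2) {B B' : Subgroup Γ}
    (hB : B ≤ A) (hB' : B' ≤ A) (hcB : Nat.card B = r) (hcB' : Nat.card B' = r) (hne : B ≠ B') :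
    B ⊔ B' = A := by
  rcases card_eq_of_le_of_card_sq hr hAcard (sup_le hB hB') with h | h | h
  · exfalso
    have : Nat.card B ∣ 1 := h ▸ card_dvd_of_le (le_sup_left : B ≤ B ⊔ B')
    rw [hcB] at this
    exact hr.one_lt.ne' (Nat.dvd_one.mp this)
  · exfalso
    have h1 : B = B ⊔ B' := eq_of_le_of_card_ge le_sup_left (by rw [h, hcB])
    have h2 : B' ≤ B := by rw [h1]; exact le_sup_right
    exact hne (eq_of_le_of_card_ge h2 (by rw [hcB, hcB'])).symm
  · exact h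

theorem centralizer_inf_le_of_sup_eq {B B' : Subgroup Γ} (h : B ⊔ B' = A) :
    centralizer (B : Set Γ) ⊓ centralizer (B' : Set Γ) ≤ centralizer (A : Set Γ) := by
  rw [← h, le_centralizer_iff]
  refine sup_le ?_ ?_
  · rw [← le_centralizer_iff]; exact inf_le_left
  · rw [← le_centralizer_iff]; exact inf_le_right

theorem exists_ordr (hr : r.Prime) (hAcard : Nat.card A = r ^ 2) :
    ∃ B : Subgroup Γ, B ≤ A ∧ Nat.card B = r := by
  haveI : Fact r.Prime := ⟨hr⟩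
  obtain ⟨K, hK⟩ := Sylow.exists_subgroup_card_pow_prime (G := A) r (n := 1)
    (by rw [hAcard]; exact Dvd.intro _ (by ring))
  refine ⟨K.map A.subtype, map_subtype_le K, ?_⟩
  rw [Nat.card_congr (K.equivMapOfInjective A.subtype A.subtype_injective).symm.toEquiv, hK, pow_one]

/-- generation by the fixed points of the subgroups of order `r`. -/
theorem gen_ordr (hr : r.Prime) (hA : Cfsg.IsElementaryAbelian r A) (hAcard : Nat.card A = r ^ 2)
    {X : Subgroup Γ} (hAX : A ≤ normalizer (X : Set Γ)) (hX : ¬ r ∣ Nat.card X) :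
    X ≤ ⨆ B : {B : Subgroup Γ // B ≤ A ∧ Nat.card B = r}, X ⊓ centralizer ((B : Subgroup Γ) : Set Γ) := by
  haveI : Fact r.Prime := ⟨hr⟩
  haveI := hA.1
  have h1 := Cfsg.Agent.Lib.Helper31.gen_rank (p := r) (E := A) (Y := X)
    (fun x hx y hy => setLike_mul_comm hx hy) hA.2 hAX hX 1 (by rw [hAcard])
  refine le_trans h1 (iSup_le ?_)
  rintro ⟨D, hDA, hDc⟩
  obtain ⟨B₀, hB₀A, hB₀c⟩ := exists_ordr hr hAcard
  rcases card_eq_of_le_of_card_sq hr hAcard hDA with h | h | h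
  · exfalso
    rw [h, pow_one] at hDc
    exact absurd hDc (not_le.mpr hr.one_lt)
  · exact le_iSup (fun B : {B : Subgroup Γ // B ≤ A ∧ Nat.card B = r} =>
      X ⊓ centralizer ((B : Subgroup Γ) : Set Γ)) ⟨D, hDA, h⟩
  · refine le_trans ?_ (le_iSup (fun B : {B : Subgroup Γ // B ≤ A ∧ Nat.card B = r} =>
      X ⊓ centralizer ((B : Subgroup Γ) : Set Γ)) ⟨B₀, hB₀A, hB₀c⟩)
    change X ⊓ centralizer (D : Set Γ) ≤ X ⊓ centralizer (B₀ : Set Γ)
    rw [h]
    exact inf_le_inf_left _ (centralizer_le hB₀A)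

end ordr

/-! ### the two-layer context -/

/-- the centre of `S`, as a subgroup of the ambient group. -/
abbrev Zc (S : Subgroup Γ) : Subgroup Γ := S ⊓ centralizer (S : Set Γ)

/-- the "`B`-supported part" of `V`: the fixed points of `[Z(S), B]`. -/
abbrev VB (V S B : Subgroup Γ) : Subgroup Γ := V ⊓ centralizer ((⁅Zc S, B⁆ : Subgroup Γ) : Set Γ)

/-- the two-layer context. -/
structure Ctx2 (r q s : ℕ) (A V S : Subgroup Γ) : Prop where
  hr : r.Prime
  hq : q.Prime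
  hs : s.Prime
  hqs : q ≠ s
  hrq : r ≠ q
  hrs : r ≠ s
  hA : Cfsg.IsElementaryAbelian r A
  hAcard : Nat.card A = r ^ 2
  hV : IsPGroup q V
  hVab : ∀ x ∈ V, ∀ y ∈ V, x * y = y * x
  hS : IsPGroup s S
  hAV : A ≤ normalizer (V : Set Γ)
  hAS : A ≤ normalizer (S : Set Γ)
  hSV : S ≤ normalizer (V : Set Γ)
  hfV : V ⊓ centralizer (A : Set Γ) = ⊥
  hfS : S ⊓ centralizer (A : Set Γ) = ⊥
  hfaith : S ⊓ centralizer (V : Set Γ) = ⊥
  hZ0 : V ⊓ centralizer ((Zc S : Subgroup Γ) : Set Γ) = ⊥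
  hN1 : ∀ B : Subgroup Γ, B ≤ A → Nat.card B = r →
    ∀ x ∈ S ⊓ centralizer (B : Set Γ), ∀ v ∈ V ⊓ centralizer (B : Set Γ), x * v = v * x

namespace Ctx2

variable [Finite Γ] {r q s : ℕ} {A V S : Subgroup Γ} (c : Ctx2 r q s A V S)
include c

theorem Z_le : Zc S ≤ S := inf_le_left

theorem Z_comm : ∀ x ∈ Zc S, ∀ y ∈ Zc S, x * y = y * x := by
  intro x hx y hy
  exact ((mem_centralizer_iff.mp hy.2) x hx.1)

theorem S_le_centZ : S ≤ centralizer ((Zc S : Subgroup Γ) : Set Γ) := by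
  rw [le_centralizer_iff]; exact inf_le_right

theorem Z_le_centZ : Zc S ≤ centralizer ((Zc S : Subgroup Γ) : Set Γ) :=
  le_trans c.Z_le c.S_le_centZ

theorem norm_Z {g : Γ} (hg : g ∈ normalizer (S : Set Γ)) :
    g ∈ normalizer ((Zc S : Subgroup Γ) : Set Γ) :=
  mem_normalizer_inf hg (mem_normalizer_centralizer hg)

theorem A_norm_Z : A ≤ normalizer ((Zc S : Subgroup Γ) : Set Γ) := fun _ ha => c.norm_Z (c.hAS ha)

theorem Z_norm_V : Zc S ≤ normalizer (V : Set Γ) := le_trans c.Z_le c.hSV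

theorem Z_pgroup : IsPGroup s (Zc S) := c.hS.to_le c.Z_le

theorem A_comm : ∀ x ∈ A, ∀ y ∈ A, x * y = y * x := by
  haveI := c.hA.1
  exact fun x hx y hy => setLike_mul_comm hx hy

theorem A_norm_sub {B : Subgroup Γ} (hB : B ≤ A) : A ≤ normalizer (B : Set Γ) := by
  apply le_normalizer_of_le_centralizer
  rw [le_centralizer_iff]
  intro b hb
  rw [mem_centralizer_iff]
  intro a ha
  exact c.A_comm a ha b (hB hb)

theorem A_norm_cent {B : Subgroup Γ} (hB : B ≤ A) :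
    A ≤ normalizer ((centralizer (B : Set Γ) : Subgroup Γ) : Set Γ) :=
  le_normalizer_centralizer' (c.A_norm_sub hB)

/-- coprimality facts -/
theorem cop_B_Z {B : Subgroup Γ} (hcB : Nat.card B = r) {X : Subgroup Γ} (hX : X ≤ Zc S) :
    (Nat.card B).Coprime (Nat.card X) :=
  coprime_of_isPGroup c.hr c.hs c.hrs (isPGroup_of_card_prime c.hr hcB) (c.Z_pgroup.to_le hX)

theorem cop_S_V {X Y : Subgroup Γ} (hX : X ≤ S) (hY : Y ≤ V) :
    (Nat.card X).Coprime (Nat.card Y) :=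
  coprime_of_isPGroup c.hs c.hq c.hqs.symm (c.hS.to_le hX) (c.hV.to_le hY)

theorem not_dvd_Z : ¬ r ∣ Nat.card (Zc S) := by
  intro h
  haveI : Fact s.Prime := ⟨c.hs⟩
  obtain ⟨k, hk⟩ := IsPGroup.iff_card.mp c.Z_pgroup
  rw [hk] at h
  exact c.hrs ((Nat.prime_dvd_prime_iff_eq c.hr c.hs).mp (c.hr.dvd_of_dvd_pow h))

/-- `Z` is generated by the `Z ∩ C(B)`. -/
theorem Z_gen : Zc S ≤ ⨆ B : {B : Subgroup Γ // B ≤ A ∧ Nat.card B = r},
    Zc S ⊓ centralizer ((B : Subgroup Γ) : Set Γ) :=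
  gen_ordr c.hr c.hA c.hAcard c.A_norm_Z c.not_dvd_Z

/-- `Z = [Z,B] (Z ∩ C(B))`. -/
theorem Z_decomp {B : Subgroup Γ} (hB : B ≤ A) (hcB : Nat.card B = r) :
    ⁅Zc S, B⁆ ⊔ (Zc S ⊓ centralizer (B : Set Γ)) = Zc S :=
  commutator_sup_centralizer_eq B (Zc S) (le_trans hB c.A_norm_Z) (c.cop_B_Z hcB le_rfl)
    (Or.inr (Group.isSolvable_of_comm (fun a b => Subtype.ext (c.Z_comm a a.2 b b.2))))

theorem DB_le {B : Subgroup Γ} (hB : B ≤ A) : ⁅Zc S, B⁆ ≤ Zc S :=
  commutator_le_of_le_normalizer (Zc S) B (le_trans hB c.A_norm_Z)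

theorem DB_inf {B : Subgroup Γ} (hB : B ≤ A) (hcB : Nat.card B = r) :
    ⁅Zc S, B⁆ ⊓ centralizer (B : Set Γ) = ⊥ := by
  haveI : IsMulCommutative (Zc S) := isMulCommutative_of_forall c.Z_comm
  exact commutator_inf_centralizer_eq_bot_of_abelian (Zc S) B (le_trans hB c.A_norm_Z)
    (c.cop_B_Z hcB le_rfl)

theorem A_norm_DB {B : Subgroup Γ} (hB : B ≤ A) :
    A ≤ normalizer ((⁅Zc S, B⁆ : Subgroup Γ) : Set Γ) :=
  le_normalizer_commutator c.A_norm_Z (c.A_norm_sub hB)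

theorem A_norm_ZB {B : Subgroup Γ} (hB : B ≤ A) :
    A ≤ normalizer ((Zc S ⊓ centralizer (B : Set Γ) : Subgroup Γ) : Set Γ) :=
  le_normalizer_inf' c.A_norm_Z (c.A_norm_cent hB)

/-- anything in `S` centralizes, hence normalizes, any subgroup of `Z`. -/
theorem S_cent_sub {X : Subgroup Γ} (hX : X ≤ Zc S) : S ≤ centralizer (X : Set Γ) :=
  le_trans c.S_le_centZ (centralizer_le hX)

theorem S_norm_sub {X : Subgroup Γ} (hX : X ≤ Zc S) : S ≤ normalizer (X : Set Γ) :=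
  le_normalizer_of_le_centralizer (c.S_cent_sub hX)

theorem A_norm_VB {B : Subgroup Γ} (hB : B ≤ A) : A ≤ normalizer ((VB V S B : Subgroup Γ) : Set Γ) :=
  le_normalizer_inf' c.hAV (le_normalizer_centralizer' (c.A_norm_DB hB))

theorem S_norm_VB {B : Subgroup Γ} (hB : B ≤ A) : S ≤ normalizer ((VB V S B : Subgroup Γ) : Set Γ) :=
  le_normalizer_inf' c.hSV (le_normalizer_centralizer' (c.S_norm_sub (c.DB_le hB)))

theorem VB_le {B : Subgroup Γ} : VB V S B ≤ V := inf_le_left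

theorem VB_inf {B : Subgroup Γ} (hB : B ≤ A) (hcB : Nat.card B = r) :
    VB V S B ⊓ centralizer ((Zc S ⊓ centralizer (B : Set Γ) : Subgroup Γ) : Set Γ) = ⊥ := by
  rw [eq_bot_iff, ← c.hZ0]
  intro x hx
  exact ⟨hx.1.1, centralizer_inf_le_of_sup_eq (c.Z_decomp hB hcB) ⟨hx.1.2, hx.2⟩⟩

end Ctx2


namespace Ctx2

variable [Finite Γ] {r q s : ℕ} {A V S : Subgroup Γ} (c : Ctx2 r q s A V S)
include c

theorem V_sub_comm {X : Subgroup Γ} (hX : X ≤ V) : ∀ x ∈ X, ∀ y ∈ X, x * y = y * x :=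
  fun x hx y hy => c.hVab x (hX hx) y (hX hy)

/-- **Step 2a.** `[V, Z ∩ C(B)]` is centralized by `[Z, B]`. -/
theorem step2a {B : Subgroup Γ} (hB : B ≤ A) (hcB : Nat.card B = r) :
    ⁅V, Zc S ⊓ centralizer (B : Set Γ)⁆ ≤ VB V S B := by
  set ZB : Subgroup Γ := Zc S ⊓ centralizer (B : Set Γ) with hZB
  have hZBZ : ZB ≤ Zc S := inf_le_left
  have hZBV : ZB ≤ normalizer (V : Set Γ) := le_trans hZBZ c.Z_norm_V
  have hW : ⁅V, ZB⁆ ≤ V := commutator_le_of_le_normalizer V ZB hZBV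
  refine le_inf hW ?_
  have hZnZB : Zc S ≤ normalizer (ZB : Set Γ) :=
    le_trans c.Z_le (c.S_norm_sub hZBZ)
  apply frob_trivial c.hr ⁅Zc S, B⁆ B ⁅V, ZB⁆ hcB (le_trans hB (c.A_norm_DB hB)) (c.DB_inf hB hcB)
    (c.V_sub_comm hW)
    (le_trans (c.DB_le hB) (le_normalizer_commutator c.Z_norm_V hZnZB))
    (le_normalizer_commutator (le_trans hB c.hAV) (le_trans hB (c.A_norm_ZB hB)))
    (c.cop_S_V (le_trans (c.DB_le hB) c.Z_le) hW)
  -- `[V, Z_B] ∩ C(B) = 1`
  rw [eq_bot_iff]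
  intro w hw
  have hwV : w ∈ V := hW hw.1
  have h1 : w ∈ centralizer (ZB : Set Γ) := by
    rw [mem_centralizer_iff]
    intro x hx
    exact c.hN1 B hB hcB x ⟨c.Z_le hx.1, hx.2⟩ w ⟨hwV, hw.2⟩
  haveI : IsMulCommutative V := isMulCommutative_of_forall c.hVab
  have h2 := commutator_inf_centralizer_eq_bot_of_abelian V ZB hZBV
    (c.cop_S_V (le_trans hZBZ c.Z_le) le_rfl)
  rw [← h2]
  exact ⟨hw.1, h1⟩

/-- **Support lemma.** A minimal `Z`-invariant subgroup of `V` is supported on a single `B`. -/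
theorem support {X : Subgroup Γ} (hXV : X ≤ V) (hX1 : X ≠ ⊥)
    (hZX : Zc S ≤ normalizer (X : Set Γ))
    (hmin : ∀ Y : Subgroup Γ, Y ≤ X → Zc S ≤ normalizer (Y : Set Γ) → Y ≠ ⊥ → Y = X) :
    ∃ B : Subgroup Γ, B ≤ A ∧ Nat.card B = r ∧
      X ≤ ⁅X, Zc S ⊓ centralizer (B : Set Γ)⁆ ∧ X ≤ VB V S B := by
  -- some `Z_B` does not centralize `X`
  have h1 : ∃ B : Subgroup Γ, B ≤ A ∧ Nat.card B = r ∧
      ¬ X ≤ centralizer ((Zc S ⊓ centralizer (B : Set Γ) : Subgroup Γ) : Set Γ) := by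
    by_contra hcon
    push Not at hcon
    have h2 : Zc S ≤ centralizer (X : Set Γ) := by
      refine le_trans c.Z_gen (iSup_le ?_)
      rintro ⟨B, hB, hcB⟩
      rw [le_centralizer_iff]
      exact hcon B hB hcB
    have h3 : X ≤ V ⊓ centralizer ((Zc S : Subgroup Γ) : Set Γ) :=
      le_inf hXV (le_centralizer_iff.mp h2)
    rw [c.hZ0] at h3
    exact hX1 (eq_bot_iff.mpr h3)
  obtain ⟨B, hB, hcB, hnot⟩ := h1
  refine ⟨B, hB, hcB, ?_⟩
  set ZB : Subgroup Γ := Zc S ⊓ centralizer (B : Set Γ) with hZB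
  have hZBZ : ZB ≤ Zc S := inf_le_left
  have hZBX : ZB ≤ normalizer (X : Set Γ) := le_trans hZBZ hZX
  have hZnZB : Zc S ≤ normalizer (ZB : Set Γ) := le_trans c.Z_le (c.S_norm_sub hZBZ)
  have hY : X ⊓ centralizer (ZB : Set Γ) = ⊥ := by
    by_contra hne
    have h2 := hmin (X ⊓ centralizer (ZB : Set Γ)) inf_le_left
      (le_normalizer_inf' hZX (le_normalizer_centralizer' hZnZB)) hne
    exact hnot (h2 ▸ inf_le_right)
  have hdec := commutator_sup_centralizer_eq ZB X hZBX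
    (c.cop_S_V (le_trans hZBZ c.Z_le) hXV)
    (Or.inr (Group.isSolvable_of_comm
      (fun a b => Subtype.ext (c.hVab a (hXV a.2) b (hXV b.2)))))
  rw [hY, sup_bot_eq] at hdec
  have h4 : X ≤ ⁅X, ZB⁆ := hdec.ge
  exact ⟨h4, le_trans h4 (le_trans (commutator_mono hXV le_rfl) (c.step2a hB hcB))⟩

/-- **Step 4.** For `B ≠ B'`, `S ∩ C(B')` centralizes the `B`-supported part of `V`. -/
theorem step4 {B B' : Subgroup Γ} (hB : B ≤ A) (hcB : Nat.card B = r) (hB' : B' ≤ A)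
    (hcB' : Nat.card B' = r) (hne : B ≠ B') :
    S ⊓ centralizer (B' : Set Γ) ≤ centralizer ((VB V S B : Subgroup Γ) : Set Γ) := by
  set ZB : Subgroup Γ := Zc S ⊓ centralizer (B : Set Γ) with hZB
  set SB' : Subgroup Γ := S ⊓ centralizer (B' : Set Γ) with hSB'
  set U : Subgroup Γ := VB V S B with hU
  have hZBZ : ZB ≤ Zc S := inf_le_left
  have hSB'S : SB' ≤ S := inf_le_left
  have hSB'U : SB' ≤ normalizer (U : Set Γ) := le_trans hSB'S (c.S_norm_VB hB)
  have hUV : U ≤ V := inf_le_left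
  have hW : ⁅U, SB'⁆ ≤ U := commutator_le_of_le_normalizer U SB' hSB'U
  have hWV : ⁅U, SB'⁆ ≤ V := le_trans hW hUV
  -- `Z_B` centralizes `S_{B'}`
  have hZBc : ZB ≤ centralizer (SB' : Set Γ) := by
    intro z hz
    rw [mem_centralizer_iff]
    intro x hx
    exact ((mem_centralizer_iff.mp hz.1.2) x hx.1)
  have hfix : ZB ⊓ centralizer (B' : Set Γ) = ⊥ := by
    rw [eq_bot_iff, ← c.hfS]
    intro z hz
    exact ⟨c.Z_le hz.1.1,
      centralizer_inf_le_of_sup_eq (sup_eq_of_card c.hr c.hAcard hB hB' hcB hcB' hne)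
        ⟨hz.1.2, hz.2⟩⟩
  have key := frob_trivial c.hr ZB B' ⁅U, SB'⁆ hcB' (le_trans hB' (c.A_norm_ZB hB)) hfix
    (c.V_sub_comm hWV)
    (le_normalizer_commutator (le_trans hZBZ (le_trans c.Z_le (c.S_norm_VB hB)))
      (le_normalizer_of_le_centralizer hZBc))
    (le_normalizer_commutator (le_trans hB' (c.A_norm_VB hB))
      (le_trans hB' (le_normalizer_inf' c.hAS (c.A_norm_cent hB'))))
    (c.cop_S_V (le_trans hZBZ c.Z_le) hWV)
    (by
      rw [eq_bot_iff]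
      intro w hw
      have hwV : w ∈ V := hWV hw.1
      have h1 : w ∈ centralizer (SB' : Set Γ) := by
        rw [mem_centralizer_iff]
        intro x hx
        exact c.hN1 B' hB' hcB' x hx w ⟨hwV, hw.2⟩
      haveI : IsMulCommutative U := isMulCommutative_of_forall (c.V_sub_comm hUV)
      have h2 := commutator_inf_centralizer_eq_bot_of_abelian U SB' hSB'U
        (c.cop_S_V hSB'S hUV)
      rw [← h2]
      exact ⟨hw.1, h1⟩)
  have h5 : ⁅U, SB'⁆ ≤ U ⊓ centralizer (ZB : Set Γ) := le_inf hW key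
  rw [c.VB_inf hB hcB, le_bot_iff] at h5
  rw [le_centralizer_iff]
  exact commutator_eq_bot_iff_le_centralizer.mp h5

/-- **Step 2b.** `V` is generated by its `B`-supported parts. -/
theorem step2b : V ≤ ⨆ B : {B : Subgroup Γ // B ≤ A ∧ Nat.card B = r},
    VB V S (B : Subgroup Γ) := by
  set U : Subgroup Γ := ⨆ B : {B : Subgroup Γ // B ≤ A ∧ Nat.card B = r},
    VB V S (B : Subgroup Γ) with hU
  have hUV : U ≤ V := iSup_le (fun _ => inf_le_left)
  -- `Z` normalizes `U`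
  have hZU : Zc S ≤ normalizer (U : Set Γ) := by
    intro z hz
    rw [← cj_eq_self_iff]
    apply le_antisymm
    · rw [cj_le_iff]
      refine iSup_le ?_
      rintro ⟨B, hB, hcB⟩
      rw [← cj_le_iff]
      have h1 : cj z (VB V S B) = VB V S B :=
        cj_eq_self_iff.mpr (c.S_norm_VB hB (c.Z_le hz))
      rw [h1]
      exact le_iSup (fun B : {B : Subgroup Γ // B ≤ A ∧ Nat.card B = r} =>
        VB V S (B : Subgroup Γ)) ⟨B, hB, hcB⟩
    · refine iSup_le ?_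
      rintro ⟨B, hB, hcB⟩
      have h1 : cj z (VB V S B) = VB V S B :=
        cj_eq_self_iff.mpr (c.S_norm_VB hB (c.Z_le hz))
      rw [← h1]
      exact cj_mono (le_iSup (fun B : {B : Subgroup Γ // B ≤ A ∧ Nat.card B = r} =>
        VB V S (B : Subgroup Γ)) ⟨B, hB, hcB⟩)
  -- every `z ∈ Z` moves `V` inside `U`
  have hmove : ∀ z ∈ Zc S, ∀ v ∈ V, ⁅v, z⁆ ∈ U := by
    intro z hz
    have hz' := c.Z_gen hz
    have hP : z ∈ Zc S ∧ ∀ v ∈ V, ⁅v, z⁆ ∈ U := by
      refine Subgroup.iSup_induction (C := fun z => z ∈ Zc S ∧ ∀ v ∈ V, ⁅v, z⁆ ∈ U)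
        (fun B : {B : Subgroup Γ // B ≤ A ∧ Nat.card B = r} =>
          Zc S ⊓ centralizer ((B : Subgroup Γ) : Set Γ)) hz' ?_ ?_ ?_
      · rintro ⟨B, hB, hcB⟩ x hx
        refine ⟨hx.1, fun v hv => ?_⟩
        have h1 : ⁅v, x⁆ ∈ VB V S B := c.step2a hB hcB (commutator_mem_commutator hv hx)
        exact le_iSup (fun B : {B : Subgroup Γ // B ≤ A ∧ Nat.card B = r} =>
          VB V S (B : Subgroup Γ)) ⟨B, hB, hcB⟩ h1
      · exact ⟨one_mem _, fun v _ => by simp [commutatorElement_def, U.one_mem]⟩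
      · rintro x y ⟨hx, hxU⟩ ⟨hy, hyU⟩
        refine ⟨mul_mem hx hy, fun v hv => ?_⟩
        have e : ⁅v, x * y⁆ = ⁅v, x⁆ * (x * ⁅v, y⁆ * x⁻¹) := by
          simp only [commutatorElement_def]; group
        rw [e]
        exact U.mul_mem (hxU v hv) (conj_mem_of_mem_normalizer (hZU hx) (hyU v hv))
    exact hP.2
  have h1 : ⁅V, Zc S⁆ ≤ U := by
    rw [commutator_le]
    intro v hv z hz
    exact hmove z hz v hv
  have hdec := commutator_sup_centralizer_eq (Zc S) V c.Z_norm_V (c.cop_S_V c.Z_le le_rfl)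
    (Or.inr (Group.isSolvable_of_comm (fun a b => Subtype.ext (c.hVab a a.2 b b.2))))
  rw [c.hZ0, sup_bot_eq] at hdec
  rw [← hdec]
  exact h1

end Ctx2

end Cfsg.Agent.Lib.Helper24.Ward
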