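import Mathlib
import Cfsg.Prelude.Def_Local
import Cfsg.Agent.Lib.Helper63.PLength
import Cfsg.Agent.Lib.Helper54.Exp6
import Cfsg.Agent.Lib.Helper24.Coprime

/-!
# `p`-length one passes from a normal subgroup of `p'`-index to the whole group
-/

set_option autoImplicit false
set_option linter.unusedSectionVars false
set_option linter.unusedVariables false
set_option linter.style.haveILetI false

namespace Cfsg.Agent.Lib.Helper24.BG

open Subgroup Cfsg Cfsg.Agent.Lib.Helper63

variable {G : Type*} [Group G] [Finite G]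

/-- the terms of the upper `p`-series are invariant under automorphisms -/
theorem ups_map_le (p : ℕ) [Fact p.Prime] (φ : G ≃* G) (i : ℕ) :
    ((upperPSeries p G i).1).map φ.toMonoidHom ≤ (upperPSeries p G i).1 := by
  have h := (isPSeries_ups (G := G) p).map φ.toMonoidHom φ.surjective
  exact h.le_ups i

/-- the image in `G` of a term of the upper `p`-series of a normal subgroup is normal -/
theorem ups_map_subtype_normal (p : ℕ) [Fact p.Prime] (N : Subgroup G) [hN : N.Normal] (i : ℕ) :
    (((upperPSeries p ↥N i).1).map N.subtype).Normal := by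
  constructor
  rintro _ ⟨x, hx, rfl⟩ g
  have hg : g ∈ normalizer (N : Set G) := by
    rw [normalizer_eq_top_iff.mpr hN]; exact mem_top g
  have h1 := ups_map_le p (Cfsg.Agent.Lib.Helper24.conjNormalizer N g hg) i
  have h2 : (Cfsg.Agent.Lib.Helper24.conjNormalizer N g hg) x ∈ (upperPSeries p ↥N i).1 :=
    h1 ⟨x, hx, rfl⟩
  refine ⟨_, h2, ?_⟩
  rfl

/-- If `N` is normal in `G` of index prime to `p` and `N` has `p`-length at most one, then so does
`G`. -/
theorem pLengthLE_one_of_normal (p : ℕ) [Fact p.Prime] (N : Subgroup G) [hN : N.Normal]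
    (hidx : (N.index).Coprime p) (h : PLengthLE p 1 ↥N) : PLengthLE p 1 G := by
  rw [pLengthLE_iff]
  refine ⟨Cfsg.Agent.Lib.Helper54.exp6Series (((upperPSeries p ↥N 1).1).map N.subtype)
    (((upperPSeries p ↥N 2).1).map N.subtype), ⟨rfl, ?_, ?_, ?_⟩, rfl⟩
  · intro i
    match i with
    | 0 => exact (inferInstance : (⊥ : Subgroup G).Normal)
    | 1 => exact ups_map_subtype_normal p N 1
    | 2 => exact ups_map_subtype_normal p N 2
    | (j + 3) => exact (inferInstance : (⊤ : Subgroup G).Normal)
  · intro i hi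
    match i with
    | 0 =>
      rintro _ ⟨x, hx, rfl⟩
      obtain ⟨n, hn, hxn⟩ := (isPSeries_ups (G := ↥N) p).2.2.1 0 (by decide) x hx
      refine ⟨n, hn, ?_⟩
      show (N.subtype x) ^ n ∈ (⊥ : Subgroup G)
      have h0 : x ^ n = 1 := by
        have : x ^ n ∈ (⊥ : Subgroup ↥N) := hxn
        simpa using this
      rw [← map_pow, h0, map_one]
      exact one_mem _
    | 1 => exact absurd hi (by decide)
    | 2 =>
      intro x _
      have hxN : x ^ N.index ∈ N := Subgroup.pow_index_mem N x
      have htop : (⟨x ^ N.index, hxN⟩ : ↥N) ∈ (upperPSeries p ↥N 3).1 := by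
        have : (upperPSeries p ↥N (2 * 1 + 1)).1 = ⊤ := h
        rw [show (3 : ℕ) = 2 * 1 + 1 from rfl, this]
        exact mem_top _
      obtain ⟨n, hn, hxn⟩ := (isPSeries_ups (G := ↥N) p).2.2.1 2 (by decide) _ htop
      refine ⟨N.index * n, Nat.Coprime.mul_left hidx hn, ?_⟩
      show x ^ (N.index * n) ∈ ((upperPSeries p ↥N 2).1).map N.subtype
      refine ⟨_, hxn, ?_⟩
      simp [pow_mul]
    | (j + 3) =>
      intro x _
      exact ⟨1, Nat.coprime_one_left p, Subgroup.mem_top _⟩
  · intro i hi
    match i with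
    | 0 => exact absurd (by decide : Even 0) hi
    | 1 =>
      rintro _ ⟨x, hx, rfl⟩
      obtain ⟨m, hxm⟩ := (isPSeries_ups (G := ↥N) p).2.2.2 1 (by decide) x hx
      refine ⟨m, ?_⟩
      show (N.subtype x) ^ (p ^ m) ∈ ((upperPSeries p ↥N 1).1).map N.subtype
      rw [← map_pow]
      exact ⟨_, hxm, rfl⟩
    | 2 => exact absurd (by decide : Even 2) hi
    | (j + 3) =>
      intro x _
      exact ⟨0, Subgroup.mem_top _⟩

end Cfsg.Agent.Lib.Helper24.BG
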