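import Mathlib
import Cfsg.Prelude.Def_Local
import Cfsg.Prelude.Def_OddOrderLocal
import Cfsg.Agent.Lib.Helper24.BGStmt
import Cfsg.Agent.Lib.Helper24.BG106a
import Cfsg.Agent.Lib.Helper24.HHSyl
import Cfsg.Agent.Lib.Helper23.AlphaB
import Cfsg.Agent.S1450
import Cfsg.Agent.S1459

/-!
# Bender–Glauberman Theorem 10.6: proper subgroups have `p`-length one

From the statements of 10.1, 10.2, 10.4 and 3.6.
-/

set_option autoImplicit false
set_option linter.unusedSectionVars false
set_option linter.unusedVariables false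
set_option linter.style.haveILetI false

namespace Cfsg.Agent.Lib.Helper24.BG

open Subgroup Cfsg Cfsg.Agent.Lib.Helper23 Cfsg.Agent.Lib.Helper63
open scoped Pointwise

universe u

/-- a normal subgroup containing one Sylow `q`-subgroup contains them all -/
theorem sylow_le_of_normal {K : Type*} [Group K] [Finite K] {q : ℕ} [Fact q.Prime]
    (N : Subgroup K) [hN : N.Normal] (P₀ P : Sylow q K) (h : (P₀ : Subgroup K) ≤ N) :
    (P : Subgroup K) ≤ N := by
  obtain ⟨g, rfl⟩ := MulAction.exists_smul_eq K P₀ P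
  intro x hx
  have hcoe := Sylow.coe_smul (g := g) (P := P₀)
  replace hx : x ∈ MulAut.conj g • (P₀ : Subgroup K) := hx
  rw [Subgroup.mem_pointwise_smul_iff_inv_smul_mem] at hx
  have h1 : (MulAut.conj g)⁻¹ • x = g⁻¹ * x * g := by
    simp [MulAut.smul_def]
  rw [h1] at hx
  have h2 := hN.conj_mem _ (h hx) g
  have h3 : g * (g⁻¹ * x * g) * g⁻¹ = x := by group
  rwa [h3] at h2

variable {G : Type u} [Group G] [Finite G]

/-- for `q ∈ σ(M)` every Sylow `q`-subgroup of `M` lies in `M'` -/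
theorem sylow_le_commutator_of_mem_sigma (hG : IsMinSimpleOddOrder G) {M : Subgroup G}
    (hF : SigmaFusion M) {q : ℕ} [Fact q.Prime] (hq : q ∈ sigma M) (P : Sylow q ↥M) :
    (P : Subgroup ↥M) ≤ commutator ↥M := by
  obtain ⟨P₀, hN⟩ := hq.2.2
  have h0 := sylow_le_commutator_of_sigma hG hF hq P₀ hN
  exact sylow_le_of_normal (commutator ↥M) P₀ P h0

/-- a subgroup of `M` all of whose prime divisors lie in `σ(M)` is contained in `M'` -/
theorem le_commutator_of_sigma_primes (hG : IsMinSimpleOddOrder G) {M : Subgroup G}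
    (hF : SigmaFusion M) (A : Subgroup ↥M)
    (hA : ∀ q : ℕ, q.Prime → q ∣ Nat.card A → q ∈ sigma M) : A ≤ commutator ↥M := by
  have h1 : (commutator ↥M).subgroupOf A = ⊤ := by
    apply Cfsg.Agent.Lib.Helper24.HH.eq_top_of_sylow_le
    intro q _ hq
    obtain ⟨Sq⟩ : Nonempty (Sylow q ↥A) := inferInstance
    refine ⟨Sq, ?_⟩
    have hp : IsPGroup q ((Sq : Subgroup ↥A).map A.subtype) := Sq.isPGroup'.map _
    obtain ⟨P, hP⟩ := hp.exists_le_sylow
    have hPc := sylow_le_commutator_of_mem_sigma hG hF (hA q Fact.out hq) P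
    intro x hx
    rw [Subgroup.mem_subgroupOf]
    exact hPc (hP ⟨x, hx, rfl⟩)
  exact Subgroup.subgroupOf_eq_top.mp h1

/-- **B&G Theorem 10.6** for a maximal subgroup. -/
theorem plen_coatom (hG : IsMinSimpleOddOrder G) (h4 : Stmt1404 G) (h5 : Stmt1405 G)
    (h7 : Stmt1407 G) (h44 : Stmt1444.{u}) (M : Subgroup G) (hM : IsCoatom M)
    (p : ℕ) [hp : Fact p.Prime] : PLengthLE p 1 ↥M := by
  haveI hsolv : Group.IsSolvable ↥M := isSolvable_of_ne_top hG hM.1
  have hodd : Odd (Nat.card ↥M) := odd_card_subgroup hG M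
  by_cases hr : PRankLE p 2 ↥M
  · by_cases hpM : p ∣ Nat.card ↥M
    · obtain ⟨-, -, -, -, -, h6⟩ := Cfsg.Agent.S1450.result hodd p hpM hr
      haveI := Cfsg.Agent.Lib.Helper32.pPrimePCore_normal p ↥M
      exact Cfsg.Agent.Lib.Helper54.pLengthLE_one_of_forall p
        (fun g => ⟨(pPrimePCore p ↥M).index, h6, Subgroup.pow_index_mem _ g⟩)
    · refine Cfsg.Agent.Lib.Helper54.pLengthLE_one_of_forall p
        (fun g => ⟨Nat.card ↥M, ?_, ?_⟩)
      · rw [Nat.coprime_comm]
        exact (Nat.Prime.coprime_iff_not_dvd hp.out).mpr hpM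
      · rw [pow_card_eq_one']
        exact one_mem _
  · -- `p ∈ α(M)`
    have hpα : p ∈ alpha M := ⟨hp.out, hr⟩
    obtain ⟨hHallM, -, hασ, -, -⟩ := h5 M hM
    obtain ⟨A, hAdef⟩ : ∃ A : Subgroup ↥M, A = piCore (alpha M) ↥M := ⟨_, rfl⟩
    haveI hAn : A.Normal := by rw [hAdef]; infer_instance
    have hAmap : alphaCore M = A.map M.subtype := by rw [hAdef]; rfl
    have hcardA : Nat.card ↥(alphaCore M) = Nat.card ↥A := by
      rw [hAmap, Subgroup.card_map_of_injective M.subtype_injective]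
    have hrel : (alphaCore M).relIndex M = A.index := by
      rw [hAmap, Subgroup.relIndex, Subgroup.subgroupOf,
        Subgroup.comap_map_eq_self_of_injective M.subtype_injective]
    have hApi : ∀ q : ℕ, q.Prime → q ∣ Nat.card ↥A → q ∈ alpha M := by
      intro q hq hd
      exact hHallM.2.1 q hq (hcardA ▸ hd)
    have hAidx : ∀ q : ℕ, q.Prime → q ∈ alpha M → ¬ q ∣ A.index := by
      intro q hq hqα
      rw [← hrel]
      exact hHallM.2.2 q hq hqα
    have hcop : (Nat.card ↥A).Coprime A.index :=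
      Nat.coprime_of_dvd (fun q hq hd => hAidx q hq (hApi q hq hd))
    -- primes dividing `|A|` are in `σ(M)`
    have hσ_of_dvd : ∀ q : ℕ, q.Prime → q ∣ Nat.card ↥A → q ∈ sigma M := by
      intro q hq hd
      have h1 : q ∣ Nat.card ↥(sigmaCore M) :=
        (hcardA ▸ hd).trans (Subgroup.card_dvd_of_le hασ)
      have h2 : Nat.card ↥(sigmaCore M) = Nat.card ↥(piCore (sigma M) ↥M) := by
        rw [sigmaCore, Subgroup.card_map_of_injective M.subtype_injective]
      rw [h2] at h1
      exact Cfsg.Agent.Lib.Helper62.isPi_piCore (sigma M) q hq h1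
    have hF : SigmaFusion M :=
      fun q _ hq X hXp hX1 hXM g hg => (h4 M hM q hq X hXp hX1 hXM).1 g hg
    have hAcomm : A ≤ commutator ↥M := le_commutator_of_sigma_primes hG hF A hσ_of_dvd
    -- `p ∣ |M|`, `p ∣ |A|`
    have hpM : p ∣ Nat.card ↥M := by
      unfold PRankLE at hr
      push Not at hr
      obtain ⟨B, hBc, hBe, hBcard⟩ := hr
      have h1 : 1 < Nat.card ↥B := lt_of_le_of_lt (Nat.one_le_pow _ _ hp.out.pos) hBcard
      haveI : Nontrivial ↥B := (Finite.one_lt_card_iff_nontrivial).mp h1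
      obtain ⟨b, hb⟩ := exists_ne (1 : ↥B)
      have hbp : b ^ p = 1 := Subtype.ext (by simpa using hBe b b.2)
      have hord : orderOf b = p := orderOf_eq_prime hbp hb
      have h2 : orderOf b ∣ Nat.card ↥B := orderOf_dvd_natCard b
      rw [hord] at h2
      exact h2.trans (Subgroup.card_subgroup_dvd_card B)
    have hpA : p ∣ Nat.card ↥A := by
      have h1 : Nat.card ↥A * A.index = Nat.card ↥M := Subgroup.card_mul_index A
      rw [← h1] at hpM
      rcases (Nat.Prime.dvd_mul hp.out).mp hpM with h | h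
      · exact h
      · exact absurd h (hAidx p hp.out hpα)
    have hAbot : A ≠ ⊥ := by
      intro h
      rw [h, Subgroup.card_bot] at hpA
      exact hp.out.one_lt.ne' (Nat.dvd_one.mp hpA)
    have hMα : alphaCore M ≠ ⊥ := by
      rw [hAmap]
      intro h
      exact hAbot ((Subgroup.map_eq_bot_iff_of_injective A M.subtype_injective).mp h)
    -- a prime `q ∈ π(M) − σ(M)`
    obtain ⟨q, hq, hqM, hqσ⟩ : ∃ q : ℕ, q.Prime ∧ q ∣ Nat.card ↥M ∧ q ∉ sigma M := by
      by_contra hcon
      push Not at hcon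
      have h1 : (⊤ : Subgroup ↥M) ≤ commutator ↥M :=
        le_commutator_of_sigma_primes hG hF ⊤ (fun q hq hd => by
          rw [Subgroup.card_top] at hd
          exact hcon q hq hd)
      haveI : Nontrivial ↥M := by
        refine (Finite.one_lt_card_iff_nontrivial).mp ?_
        have h2 : p ≤ Nat.card ↥M := Nat.le_of_dvd Nat.card_pos hpM
        exact lt_of_lt_of_le hp.out.one_lt h2
      exact absurd (top_le_iff.mp h1)
        (Group.IsSolvable.commutator_lt_top_of_nontrivial ↥M).ne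
    haveI : Fact q.Prime := ⟨hq⟩
    have hqA : ¬ q ∣ Nat.card ↥A := fun hd => hqσ (hσ_of_dvd q hq hd)
    -- complement
    obtain ⟨R, hR⟩ := Subgroup.exists_right_complement'_of_coprime hcop
    -- a Sylow `q`-subgroup of `M` inside `R`
    obtain ⟨QR⟩ : Nonempty (Sylow q ↥R) := inferInstance
    obtain ⟨Q', hQ'⟩ : ∃ Q' : Subgroup ↥M, Q' = (QR : Subgroup ↥R).map R.subtype := ⟨_, rfl⟩
    have hQ'p : IsPGroup q ↥Q' := by rw [hQ']; exact QR.isPGroup'.map _
    have hQ'R : Q' ≤ R := by rw [hQ']; exact Subgroup.map_subtype_le _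
    have hQ'idx : ¬ q ∣ Q'.index := by
      rw [← Subgroup.relIndex_mul_index hQ'R, hR.index_eq_card]
      intro hd
      rcases (Nat.Prime.dvd_mul hq).mp hd with h | h
      · have h1 : Q'.relIndex R = (QR : Subgroup ↥R).index := by
          rw [Subgroup.relIndex, hQ', Subgroup.subgroupOf,
            Subgroup.comap_map_eq_self_of_injective R.subtype_injective]
        rw [h1] at h
        exact QR.not_dvd_index h
      · exact hqA h
    obtain ⟨Q, hQ⟩ : ∃ Q : Sylow q ↥M, (Q : Subgroup ↥M) = Q' :=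
      ⟨hQ'p.toSylow hQ'idx, IsPGroup.toSylow_coe _ _⟩
    obtain ⟨x, hxmem, hxord, hxZ, -⟩ := h7 M hM hMα q hqM hqσ Q
    obtain ⟨z, ⟨c, hc, rfl⟩, rfl⟩ := hxmem
    obtain ⟨x', hx'⟩ : ∃ x' : ↥M, x' = ((Q : Subgroup ↥M).subtype c) := ⟨_, rfl⟩
    have hx'R : x' ∈ R := by
      apply hQ'R
      rw [← hQ, hx']
      exact c.2
    have hx'ord : orderOf x' = q := by
      rw [← Subgroup.orderOf_coe x', hx']
      exact hxord
    obtain ⟨R₀, hR₀⟩ : ∃ R₀ : Subgroup ↥M, R₀ = zpowers x' := ⟨_, rfl⟩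
    have hR₀R : R₀ ≤ R := by
      rw [hR₀, Subgroup.zpowers_le]; exact hx'R
    have hR₀card : (Nat.card ↥R₀).Prime := by
      rw [hR₀, Nat.card_zpowers, hx'ord]; exact hq
    have hZ : IsZGroup ↥(A ⊓ centralizer (R₀ : Set ↥M)) := by
      haveI := hxZ
      have hmem : ∀ a : ↥(A ⊓ centralizer (R₀ : Set ↥M)),
          (M.subtype.comp (A ⊓ centralizer (R₀ : Set ↥M)).subtype) a ∈
            alphaCore M ⊓ centralizer ({M.subtype ((Q : Subgroup ↥M).subtype c)} : Set G) := by
        intro a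
        refine Subgroup.mem_inf.mpr ⟨?_, ?_⟩
        · rw [hAmap]
          exact ⟨a.1, a.2.1, rfl⟩
        · rw [Subgroup.mem_centralizer_iff]
          intro y hy
          rw [Set.mem_singleton_iff] at hy
          have h1 := Subgroup.mem_centralizer_iff.mp a.2.2 x'
            (by rw [hR₀]; exact Subgroup.mem_zpowers x')
          rw [hy, ← hx']
          exact congrArg (fun t : ↥M => (t : G)) h1
      have hf : Function.Injective
          ((M.subtype.comp (A ⊓ centralizer (R₀ : Set ↥M)).subtype).codRestrict _ hmem) := by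
        intro a b hab
        have h1 := congrArg Subtype.val hab
        exact Subtype.ext (Subtype.ext h1)
      exact IsZGroup.of_injective hf
    have h36 := h44 ↥M hodd A R R₀ hcop hR hR₀R hR₀card hZ p
    have hAeq : A = ⁅A, R⁆ :=
      ((Cfsg.Agent.S1459.result (G := ↥M)).1 A R hAn hcop hR hAcomm).1
    rw [← hAeq] at h36
    have hidx : (A.index).Coprime p := by
      rw [Nat.coprime_comm]
      exact (Nat.Prime.coprime_iff_not_dvd hp.out).mpr (hAidx p hp.out hpα)
    exact pLengthLE_one_of_normal p A hidx h36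

/-- **B&G Theorem 10.6.** -/
theorem bg106 (hG : IsMinSimpleOddOrder G) (h4 : Stmt1404 G) (h5 : Stmt1405 G)
    (h7 : Stmt1407 G) (h44 : Stmt1444.{u}) : Stmt1410 G := by
  intro p _ H hH
  rcases eq_top_or_exists_le_coatom H with h | ⟨M, hM, hHM⟩
  · exact absurd h hH
  · have h1 := plen_coatom hG h4 h5 h7 h44 M hM p
    exact pLengthLE_of_injective h1 (Subgroup.inclusion hHM) (Subgroup.inclusion_injective hHM)

end Cfsg.Agent.Lib.Helper24.BG
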