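import Mathlib.GroupTheory.Solvable
import Mathlib.GroupTheory.PGroup
import Mathlib.GroupTheory.Perm.Cycle.Type

set_option autoImplicit false

namespace Cfsg.Agent.Lib.Helper24

open Subgroup
open scoped commutatorElement

/-- A nontrivial solvable group has a nontrivial normal abelian subgroup (the last nontrivial term
of the derived series). -/
theorem exists_normal_abelian_of_solvable (H : Type*) [Group H] [Group.IsSolvable H] [Nontrivial H] :
    ∃ A : Subgroup H, A.Normal ∧ A ≠ ⊥ ∧ ∀ a ∈ A, ∀ b ∈ A, a * b = b * a := by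
  classical
  obtain ⟨n, hn⟩ := (inferInstance : Group.IsSolvable H)
  let m := Nat.find (⟨n, hn⟩ : ∃ k, derivedSeries H k = ⊥)
  have hm : derivedSeries H m = ⊥ := Nat.find_spec (⟨n, hn⟩ : ∃ k, derivedSeries H k = ⊥)
  have hm0 : m ≠ 0 := by
    intro h0
    rw [h0, derivedSeries_zero] at hm
    exact top_ne_bot hm
  obtain ⟨k, hk⟩ := Nat.exists_eq_succ_of_ne_zero hm0
  have hkne : derivedSeries H k ≠ ⊥ := by
    intro h
    have : m ≤ k := Nat.find_min' _ h
    omega
  refine ⟨derivedSeries H k, derivedSeries_normal H k, hkne, ?_⟩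
  intro a ha b hb
  have h1 : ⁅a, b⁆ ∈ derivedSeries H (k + 1) := by
    rw [derivedSeries_succ]
    exact commutator_mem_commutator ha hb
  rw [← Nat.succ_eq_add_one, ← hk, hm, mem_bot, commutatorElement_eq_one_iff_mul_comm] at h1
  exact h1

/-- A nontrivial finite solvable group has a nontrivial normal `p`-subgroup for some prime `p`. -/
theorem exists_normal_pSubgroup_of_solvable (H : Type*) [Group H] [Finite H] [Group.IsSolvable H]
    [Nontrivial H] :
    ∃ (p : ℕ) (_ : p.Prime) (D : Subgroup H), D.Normal ∧ D ≠ ⊥ ∧ IsPGroup p D := by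
  obtain ⟨A, hAn, hAne, hAc⟩ := exists_normal_abelian_of_solvable H
  have hcard : Nat.card A ≠ 1 := by
    intro h
    exact hAne ((Subgroup.card_eq_one).mp h)
  obtain ⟨p, hp, hpd⟩ := Nat.exists_prime_and_dvd hcard
  haveI : Fact p.Prime := ⟨hp⟩
  let D : Subgroup H :=
    { carrier := {a | a ∈ A ∧ a ^ p = 1}
      one_mem' := ⟨A.one_mem, one_pow p⟩
      mul_mem' := by
        rintro a b ⟨ha, hap⟩ ⟨hb, hbp⟩
        refine ⟨A.mul_mem ha hb, ?_⟩
        have hc : Commute a b := hAc a ha b hb
        rw [hc.mul_pow, hap, hbp, one_mul]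
      inv_mem' := by
        rintro a ⟨ha, hap⟩
        exact ⟨A.inv_mem ha, by rw [inv_pow, hap, inv_one]⟩ }
  refine ⟨p, hp, D, ?_, ?_, ?_⟩
  · constructor
    rintro a ⟨ha, hap⟩ g
    refine ⟨hAn.conj_mem a ha g, ?_⟩
    rw [conj_pow, hap, mul_one, mul_inv_cancel]
  · obtain ⟨x, hx⟩ := exists_prime_orderOf_dvd_card' (G := A) p hpd
    intro hD
    have hxD : (x : H) ∈ D := by
      refine ⟨x.2, ?_⟩
      have : x ^ p = 1 := by rw [← hx]; exact pow_orderOf_eq_one x
      have := congrArg Subtype.val this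
      simpa using this
    rw [hD, mem_bot] at hxD
    have hx1 : x = 1 := Subtype.ext hxD
    rw [hx1, orderOf_one] at hx
    exact hp.one_lt.ne hx
  · intro g
    refine ⟨1, ?_⟩
    apply Subtype.ext
    have := g.2.2
    simpa using this

end Cfsg.Agent.Lib.Helper24
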