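import Cfsg.Agent.Lib.Helper24.SZSolvable
import Cfsg.Agent.Lib.Helper24.SolvableMin
import Cfsg.Agent.Lib.Helper33.SylowSub

set_option autoImplicit false

universe u

namespace Cfsg.Agent.Lib.Helper24

open Subgroup
open Cfsg.Agent.Lib.Helper33
open scoped Pointwise

section basic
variable {G : Type*} [Group G]

/-- If `N` is normal, `N ⊔ H = ⊤` and the orders are coprime, then `|H| = |G : N|`. -/
theorem card_eq_index_of_sup_eq_top (N H : Subgroup G) [N.Normal] (hsup : N ⊔ H = ⊤)
    (hcop : (Nat.card N).Coprime (Nat.card H)) : Nat.card H = N.index := by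
  have hdisj : Disjoint N H := disjoint_of_coprime_natCard hcop
  have hmul : (N : Set G) * (H : Set G) = Set.univ := by rw [← normal_mul, hsup]; rfl
  exact card_eq_index_of_isComplement' N H (isComplement'_of_disjoint_and_mul_eq_univ hdisj hmul)

/-- Dedekind: if `N ≤ R`, `N` normal and `K ⊔ N = ⊤` then `(K ⊓ R) ⊔ N = R`. -/
theorem inf_sup_eq_of_sup_eq_top (K R N : Subgroup G) [N.Normal] (hNR : N ≤ R) (h : K ⊔ N = ⊤) :
    (K ⊓ R) ⊔ N = R := by
  apply le_antisymm (sup_le inf_le_right hNR)
  intro r hr
  have hr' : r ∈ ((K ⊔ N : Subgroup G) : Set G) := by rw [h]; trivial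
  rw [mul_normal] at hr'
  obtain ⟨k, hk, n, hn, rfl⟩ := hr'
  have hkR : k ∈ R := by
    have : k = k * n * n⁻¹ := by group
    rw [this]
    exact R.mul_mem hr (R.inv_mem (hNR hn))
  exact mul_mem_sup ⟨hk, hkR⟩ hn

theorem relIndex_mul_card' {H K : Subgroup G} (h : H ≤ K) :
    H.relIndex K * Nat.card H = Nat.card K := by
  have := relIndex_mul_relIndex (⊥ : Subgroup G) H K bot_le h
  rwa [relIndex_bot_left, relIndex_bot_left, mul_comm] at this

theorem cj_def' (g : G) (H : Subgroup G) : H.map (MulAut.conj g).toMonoidHom = cj g H := rfl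

end basic

section main

/-- Schur–Zassenhaus conjugacy, solvable complement, induction form. -/
theorem sz_conj_compl_aux (n : ℕ) : ∀ (G : Type u) [Group G] [Finite G] (N : Subgroup G) [N.Normal],
    Nat.card G ≤ n → (Nat.card N).Coprime N.index →
    ∀ H K : Subgroup G, Group.IsSolvable H → Nat.card H = N.index → Nat.card K = N.index →
    ∃ x ∈ N, H.map (MulAut.conj x).toMonoidHom = K := by
  induction n with
  | zero =>
    intro G _ _ N _ hcard
    have : 0 < Nat.card G := Nat.card_pos
    omega
  | succ n ih =>
    intro G _ _ N _ hcard hcop H K hsolv hH hK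
    by_cases hHbot : H = ⊥
    · subst hHbot
      have h1 : N.index = 1 := by rw [← hH]; exact card_bot
      have hK1 : K = ⊥ := card_eq_one.mp (by rw [hK, h1])
      exact ⟨1, N.one_mem, by rw [hK1, Subgroup.map_bot]⟩
    · haveI : Nontrivial H := (nontrivial_iff_ne_bot H).mpr hHbot
      obtain ⟨p, hp, D₀, hD₀n, hD₀ne, hD₀p⟩ := exists_normal_pSubgroup_of_solvable H
      haveI : Fact p.Prime := ⟨hp⟩
      set D := D₀.map H.subtype with hD
      have hDH : D ≤ H := map_subtype_le D₀
      have hDp : IsPGroup p D := hD₀p.map H.subtype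
      have hDne : D ≠ ⊥ := by
        rw [hD, Ne, map_eq_bot_iff_of_injective _ H.subtype_injective]; exact hD₀ne
      have hDnorm : H ≤ normalizer (D : Set G) := by
        have h1 := le_normalizer_map (H := D₀) H.subtype
        rw [normalizer_eq_top, ← MonoidHom.range_eq_map, H.range_subtype] at h1
        exact h1
      -- coprimality facts
      have hcopNH : (Nat.card N).Coprime (Nat.card H) := by rw [hH]; exact hcop
      have hcopNK : (Nat.card N).Coprime (Nat.card K) := by rw [hK]; exact hcop
      have hcopND : (Nat.card N).Coprime (Nat.card D) :=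
        Nat.Coprime.coprime_dvd_right (card_dvd_of_le hDH) hcopNH
      have hpD : p ∣ Nat.card D :=
        (hDp.card_eq_or_dvd).resolve_left (fun h => hDne (card_eq_one.mp h))
      have hpN : ¬ p ∣ Nat.card N := by
        intro h
        have h2 : p ∣ Nat.gcd (Nat.card N) (Nat.card D) := Nat.dvd_gcd h hpD
        rw [hcopND] at h2
        exact hp.one_lt.ne' (Nat.dvd_one.mp h2)
      set R := D ⊔ N with hR
      have hDN : D ⊓ N = ⊥ := (disjoint_of_coprime_natCard hcopND.symm).eq_bot
      have hRidx : N.relIndex R = Nat.card D := relIndex_sup_of_inf_eq_bot D N hDN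
      have hNR : N ≤ R := le_sup_right
      have hDR : D ≤ R := le_sup_left
      have hsupNH : N ⊔ H = ⊤ := (isComplement'_of_card_eq_index N H hcop hH).sup_eq_top
      have hsupNK : N ⊔ K = ⊤ := (isComplement'_of_card_eq_index N K hcop hK).sup_eq_top
      have hRnorm : normalizer (R : Set G) = ⊤ := by
        rw [eq_top_iff, ← hsupNH]
        apply sup_le
        · exact le_trans hNR le_normalizer
        · intro h hh
          rw [← cj_eq_self_iff, hR, cj_sup]
          have h1 : cj h D = D := cj_eq_self_iff.mpr (hDnorm hh)
          have h2 : cj h N = N := cj_eq_self_iff.mpr (by rw [normalizer_eq_top]; trivial)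
          rw [h1, h2]
      -- P = K ⊓ R
      set P := K ⊓ R with hP
      have hPR : P ≤ R := inf_le_right
      have hPK : P ≤ K := inf_le_left
      have hKN : K ⊓ N = ⊥ := (disjoint_of_coprime_natCard hcopNK.symm).eq_bot
      have hPN : P ⊓ N = ⊥ := by
        rw [eq_bot_iff, ← hKN]
        exact inf_le_inf_right N hPK
      have hPsup : P ⊔ N = R :=
        inf_sup_eq_of_sup_eq_top K R N hNR (by rw [sup_comm]; exact hsupNK)
      have hPcard : Nat.card P = Nat.card D := by
        rw [← relIndex_sup_of_inf_eq_bot P N hPN, hPsup, hRidx]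
      have hPp : IsPGroup p P := by
        obtain ⟨k, hk⟩ := (IsPGroup.iff_card).mp hDp
        exact IsPGroup.of_card (hPcard.trans hk)
      have hRcard : Nat.card R = Nat.card D * Nat.card N := by
        rw [← hRidx]; exact (relIndex_mul_card' hNR).symm
      have hPidx : P.relIndex R = Nat.card N := by
        have h1 : P.relIndex R * Nat.card P = Nat.card R := relIndex_mul_card' hPR
        rw [hPcard, hRcard, mul_comm] at h1
        exact Nat.eq_of_mul_eq_mul_left Nat.card_pos h1
      have hPi : ¬ p ∣ P.relIndex R := by rw [hPidx]; exact hpN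
      obtain ⟨c, hcR, hcD⟩ := sylow_sub hPR hPp hPi hDR hDp
      have hcD' : cj c D = P :=
        eq_of_le_of_card_ge hcD (by rw [card_cj, hPcard])
      -- write c = x₁ * d with x₁ ∈ N, d ∈ D
      have hc' : c ∈ ((N ⊔ D : Subgroup G) : Set G) := by rw [sup_comm]; exact hcR
      rw [normal_mul] at hc'
      obtain ⟨x₁, hx₁, d, hd, rfl⟩ := hc'
      have hx₁D : cj x₁ D = P := by
        rw [← hcD', cj_mul, cj_eq_self_of_mem hd]
      set H₁ := cj x₁ H with hH₁
      have hPH₁ : P ≤ H₁ := by rw [← hx₁D]; exact cj_mono hDH
      have hH₁norm : H₁ ≤ normalizer (P : Set G) := by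
        rw [← hx₁D, normalizer_cj]; exact cj_mono hDnorm
      have hKnorm : K ≤ normalizer (P : Set G) := by
        intro k hk
        rw [← cj_eq_self_iff, hP, cj_inf]
        have h1 : cj k K = K := cj_eq_self_of_mem hk
        have h2 : cj k R = R := cj_eq_self_iff.mpr (by rw [hRnorm]; trivial)
        rw [h1, h2]
      have hH₁card : Nat.card H₁ = N.index := by rw [hH₁, card_cj, hH]
      have hPne : P ≠ ⊥ := by
        intro h
        rw [h, card_bot] at hPcard
        exact hDne (card_eq_one.mp hPcard.symm)
      have hH₁solv : Group.IsSolvable H₁ := by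
        have : Function.Surjective ((MulAut.conj x₁).toMonoidHom.subgroupMap H) :=
          MonoidHom.subgroupMap_surjective _ _
        exact Group.isSolvable_of_surjective this
      suffices h : ∃ y ∈ N, cj y H₁ = K by
        obtain ⟨y, hy, hyK⟩ := h
        refine ⟨y * x₁, N.mul_mem hy hx₁, ?_⟩
        rw [cj_def', cj_mul]; exact hyK
      have hsupNH₁ : N ⊔ H₁ = ⊤ := (isComplement'_of_card_eq_index N H₁ hcop hH₁card).sup_eq_top
      by_cases hL : normalizer (P : Set G) = ⊤
      · -- P normal in G: pass to the quotient
        haveI hPn : P.Normal := normalizer_eq_top_iff.mp hL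
        let f := QuotientGroup.mk' P
        have hsurj : Function.Surjective f := QuotientGroup.mk'_surjective P
        haveI : (N.map f).Normal := Normal.map inferInstance f hsurj
        have hQcard : Nat.card (G ⧸ P) ≤ n := by
          have h1 : Nat.card G = Nat.card (G ⧸ P) * Nat.card P :=
            card_eq_card_quotient_mul_card_subgroup P
          have h2 : 2 ≤ Nat.card P := by
            have h3 : Nat.card P ≠ 1 := fun h => hPne (card_eq_one.mp h)
            have h4 : 0 < Nat.card P := Nat.card_pos
            omega
          have h5 : 0 < Nat.card (G ⧸ P) := Nat.card_pos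
          nlinarith
        have hdvdN : Nat.card (N.map f) ∣ Nat.card N := card_map_dvd N f
        have hdvdH : Nat.card (H₁.map f) ∣ Nat.card H₁ := card_map_dvd H₁ f
        have hdvdK : Nat.card (K.map f) ∣ Nat.card K := card_map_dvd K f
        have hcopNH₁ : (Nat.card N).Coprime (Nat.card H₁) := by rw [hH₁card]; exact hcop
        have hcopbar1 : (Nat.card (N.map f)).Coprime (Nat.card (H₁.map f)) :=
          Nat.Coprime.coprime_dvd_left hdvdN (Nat.Coprime.coprime_dvd_right hdvdH hcopNH₁)
        have hcopbarK : (Nat.card (N.map f)).Coprime (Nat.card (K.map f)) :=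
          Nat.Coprime.coprime_dvd_left hdvdN (Nat.Coprime.coprime_dvd_right hdvdK hcopNK)
        have hsup1 : N.map f ⊔ H₁.map f = ⊤ := by
          rw [← Subgroup.map_sup, hsupNH₁, map_top_of_surjective f hsurj]
        have hsupK : N.map f ⊔ K.map f = ⊤ := by
          rw [← Subgroup.map_sup, hsupNK, map_top_of_surjective f hsurj]
        have hH₁bar : Nat.card (H₁.map f) = (N.map f).index :=
          card_eq_index_of_sup_eq_top _ _ hsup1 hcopbar1
        have hKbar : Nat.card (K.map f) = (N.map f).index :=
          card_eq_index_of_sup_eq_top _ _ hsupK hcopbarK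
        have hcopbar : (Nat.card (N.map f)).Coprime (N.map f).index := by
          rw [← hH₁bar]; exact hcopbar1
        have hsolvbar : Group.IsSolvable (H₁.map f) := by
          have : Function.Surjective (f.subgroupMap H₁) := MonoidHom.subgroupMap_surjective _ _
          exact Group.isSolvable_of_surjective this
        obtain ⟨ybar, hybar, hconj⟩ := ih (G ⧸ P) (N.map f) hQcard hcopbar (H₁.map f) (K.map f)
          hsolvbar hH₁bar hKbar
        obtain ⟨y, hyN, rfl⟩ := hybar
        refine ⟨y, hyN, ?_⟩
        have h3 : (cj y H₁).map f = K.map f := by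
          rw [← hconj, cj, map_map, map_map]; congr 1
        have h4 := congrArg (comap f) h3
        rw [comap_map_eq, comap_map_eq, QuotientGroup.ker_mk'] at h4
        have h5 : P ≤ cj y H₁ := by
          have : cj y P = P := cj_eq_self_iff.mpr (by rw [hL]; trivial)
          rw [← this]; exact cj_mono hPH₁
        rwa [sup_of_le_left h5, sup_of_le_left hPK] at h4
      · -- proper normalizer: induction inside L
        set L := normalizer (P : Set G) with hLdef
        have hLcard : Nat.card L ≤ n := by
          by_contra hcon
          push Not at hcon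
          have h1 : Nat.card G ≤ Nat.card L := by omega
          exact hL (eq_top_of_card_eq L (le_antisymm (card_le_card_group L) h1))
        have hsupL : L ⊔ N = ⊤ := by
          rw [eq_top_iff, ← hsupNK, sup_comm]
          exact sup_le_sup_right hKnorm N
        have hidxL : (N.subgroupOf L).index = N.index := by
          change N.relIndex L = _
          rw [← relIndex_sup_right (H := L) (K := N), hsupL, relIndex_top_right]
        have hcardNL : Nat.card (N.subgroupOf L) ∣ Nat.card N := by
          have h1 : Nat.card (N.subgroupOf L) = Nat.card (N ⊓ L : Subgroup G) := by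
            rw [← subgroupOf_map_subtype N L]
            exact (card_map_of_injective L.subtype_injective).symm
          rw [h1]; exact card_dvd_of_le inf_le_left
        have hcopL : (Nat.card (N.subgroupOf L)).Coprime (N.subgroupOf L).index := by
          rw [hidxL]; exact Nat.Coprime.coprime_dvd_left hcardNL hcop
        have hcH : Nat.card (H₁.subgroupOf L) = (N.subgroupOf L).index := by
          rw [hidxL, Nat.card_congr (subgroupOfEquivOfLe hH₁norm).toEquiv, hH₁card]
        have hcK : Nat.card (K.subgroupOf L) = (N.subgroupOf L).index := by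
          rw [hidxL, Nat.card_congr (subgroupOfEquivOfLe hKnorm).toEquiv, hK]
        have hsolvL : Group.IsSolvable (H₁.subgroupOf L) :=
          Group.isSolvable_of_isSolvable_injective
            (f := (subgroupOfEquivOfLe hH₁norm).toMonoidHom) (subgroupOfEquivOfLe hH₁norm).injective
        obtain ⟨y, hy, hyconj⟩ := ih L (N.subgroupOf L) hLcard hcopL _ _ hsolvL hcH hcK
        refine ⟨(y : G), mem_subgroupOf.mp hy, ?_⟩
        have h5 := congrArg (map L.subtype) hyconj
        rw [map_map, subgroupOf_map_subtype, inf_of_le_left hKnorm] at h5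
        rw [← h5]
        have h7 : H₁ = (H₁.subgroupOf L).map L.subtype := by
          rw [subgroupOf_map_subtype, inf_of_le_left hH₁norm]
        conv_lhs => rw [h7]
        rw [cj, map_map]
        congr 1

/-- Schur–Zassenhaus conjugacy when a complement is solvable. -/
theorem sz_conj_of_solvable_compl {G : Type u} [Group G] [Finite G] (N : Subgroup G) [N.Normal]
    (hcop : (Nat.card N).Coprime N.index) (H K : Subgroup G) (hsolv : Group.IsSolvable H)
    (hH : IsComplement' N H) (hK : IsComplement' N K) :
    ∃ x ∈ N, H.map (MulAut.conj x).toMonoidHom = K :=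
  sz_conj_compl_aux (Nat.card G) G N le_rfl hcop H K hsolv
    (card_eq_index_of_isComplement' N H hH) (card_eq_index_of_isComplement' N K hK)

/-- Schur–Zassenhaus conjugacy: `N` a normal Hall subgroup, `N` or `G ⧸ N` solvable. Any two
complements are conjugate by an element of `N`. -/
theorem sz_conj {G : Type u} [Group G] [Finite G] (N : Subgroup G) [N.Normal]
    (hcop : (Nat.card N).Coprime N.index)
    (hsolv : Group.IsSolvable N ∨ Group.IsSolvable (G ⧸ N)) (H K : Subgroup G)
    (hH : IsComplement' N H) (hK : IsComplement' N K) :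
    ∃ x ∈ N, H.map (MulAut.conj x).toMonoidHom = K := by
  rcases hsolv with h | h
  · exact sz_conj_of_solvable_normal N h hcop H K hH hK
  · have hHs : Group.IsSolvable H := by
      have e : G ⧸ N ≃* H := hH.symm.QuotientMulEquiv
      exact Group.isSolvable_of_surjective (f := e.toMonoidHom) e.surjective
    exact sz_conj_of_solvable_compl N hcop H K hHs hH hK

end main

end Cfsg.Agent.Lib.Helper24
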