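import Cfsg.Agent.Lib.Helper24.Coprime
import Cfsg.Agent.Lib.Helper24.SZCompl
import Mathlib.GroupTheory.Nilpotent

set_option autoImplicit false
set_option linter.style.haveILetI false

/-!
# A coprime factorization lemma for nilpotent groups

If two commuting elements `u`, `v` of order dividing `p` normalise the nilpotent `p'`-group `Q`,
and `X, Y ≤ Q` are such that the centraliser in `Q` of each of the elements `u v ^ j`, `v ^ m`
lies in the set `X Y`, then `Q = X Y`.
-/

namespace Cfsg.Agent.Lib.Helper24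

open Subgroup
open Cfsg.Agent.Lib.Helper33
open scoped Pointwise commutatorElement

section factor
variable {H : Type*} [Group H]

/-- an element normalising `Q` normalises each term of its lower central series -/
theorem mem_normalizer_lowerCentralSeries (Q : Subgroup H) (g : H)
    (hg : g ∈ normalizer (Q : Set H)) (n : ℕ) :
    g ∈ normalizer ((Q.lowerCentralSeries n : Subgroup H) : Set H) := by
  induction n with
  | zero => simpa using hg
  | succ n ih =>
    rw [Subgroup.lowerCentralSeries_succ, ← cj_eq_self_iff, cj, map_commutator, cj_def', cj_def',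
      cj_eq_self_iff.mpr ih, cj_eq_self_iff.mpr hg]

/-- conjugate of `z` by `g`, as an element of `L` (junk value `1` if it is not in `L`) -/
noncomputable def cz (L : Subgroup H) (z : H) (g : H) : ↥L := by
  classical
  exact if h : g * z * g⁻¹ ∈ L then ⟨g * z * g⁻¹, h⟩ else 1

theorem cz_val (L : Subgroup H) {z g : H} (hz : z ∈ L) (hg : g ∈ normalizer (L : Set H)) :
    ((cz L z g : ↥L) : H) = g * z * g⁻¹ := by
  have h : g * z * g⁻¹ ∈ L := (mem_normalizer_iff.mp hg z).mp hz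
  unfold cz
  rw [dif_pos h]

/-- ordered product of the conjugates of `z` by `f 0, …, f (m-1)` -/
noncomputable def nuProd (L : Subgroup H) (z : H) (f : ℕ → H) : ℕ → ↥L
  | 0 => 1
  | m + 1 => nuProd L z f m * cz L z (f m)

theorem nuProd_conj (L : Subgroup H) {z : H} (hz : z ∈ L) (f : ℕ → H)
    (hf : ∀ k, f k ∈ normalizer (L : Set H)) (h : H) (hh : h ∈ normalizer (L : Set H)) (m : ℕ) :
    h * ((nuProd L z f m : ↥L) : H) * h⁻¹ = ((nuProd L z (fun k => h * f k) m : ↥L) : H) := by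
  induction m with
  | zero => simp [nuProd]
  | succ m ih =>
    simp only [nuProd, Subgroup.coe_mul]
    rw [← ih, cz_val L hz (hf m), cz_val L hz ((normalizer (L : Set H)).mul_mem hh (hf m))]
    group

theorem map_nuProd (L : Subgroup H) (z : H) (f : ℕ → H) {M : Type*} [CommGroup M] (φ : ↥L →* M)
    (m : ℕ) : φ (nuProd L z f m) = ∏ k ∈ Finset.range m, φ (cz L z (f k)) := by
  induction m with
  | zero => simp [nuProd]
  | succ m ih => rw [nuProd, map_mul, ih, Finset.prod_range_succ]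

/-- the combinatorial identity behind the generation theorem -/
theorem prod_identity {M : Type*} [CommGroup M] (F : H → M) (u v : H) (huv : Commute u v) (p : ℕ)
    (hp : 0 < p) :
    ∏ j ∈ Finset.range p, ∏ k ∈ Finset.range p, F (1 * (u * v ^ j) ^ k) =
      F 1 ^ p * ∏ m ∈ Finset.Ico 1 p, ∏ j ∈ Finset.range p, F (u ^ m * (v ^ m) ^ j) := by
  have h1 : ∀ j k : ℕ, F (1 * (u * v ^ j) ^ k) = F (u ^ k * (v ^ k) ^ j) := by
    intro j k
    rw [one_mul, (huv.pow_right j).mul_pow, ← pow_mul, ← pow_mul, mul_comm j k]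
  simp_rw [h1]
  rw [Finset.prod_comm, Finset.range_eq_Ico, Finset.prod_eq_prod_Ico_succ_bot hp]
  congr 1
  simp

/-- the set of elements whose commutator with `k` lies in `N`, inside the normaliser of `N` -/
theorem comm_mem_of_mem_zpowers (N : Subgroup H) (g k : H) (hg : g ∈ normalizer (N : Set H))
    (h : g * k * g⁻¹ * k⁻¹ ∈ N) : ∀ a ∈ zpowers g, a * k * a⁻¹ * k⁻¹ ∈ N := by
  let St : Subgroup H :=
    { carrier := {a | a ∈ normalizer (N : Set H) ∧ a * k * a⁻¹ * k⁻¹ ∈ N}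
      one_mem' := ⟨(normalizer (N : Set H)).one_mem, by simp⟩
      mul_mem' := by
        rintro a b ⟨ha, hak⟩ ⟨hb, hbk⟩
        refine ⟨(normalizer (N : Set H)).mul_mem ha hb, ?_⟩
        have h1 : a * (b * k * b⁻¹ * k⁻¹) * a⁻¹ ∈ N := (mem_normalizer_iff.mp ha _).mp hbk
        have e : a * b * k * (a * b)⁻¹ * k⁻¹ =
            (a * (b * k * b⁻¹ * k⁻¹) * a⁻¹) * (a * k * a⁻¹ * k⁻¹) := by group
        rw [e]
        exact N.mul_mem h1 hak
      inv_mem' := by
        rintro a ⟨ha, hak⟩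
        have ha' := (normalizer (N : Set H)).inv_mem ha
        refine ⟨ha', ?_⟩
        have h1 : a⁻¹ * (a * k * a⁻¹ * k⁻¹)⁻¹ * a⁻¹⁻¹ ∈ N :=
          (mem_normalizer_iff.mp ha' _).mp (N.inv_mem hak)
        have e : a⁻¹ * k * a⁻¹⁻¹ * k⁻¹ = a⁻¹ * (a * k * a⁻¹ * k⁻¹)⁻¹ * a⁻¹⁻¹ := by group
        rw [e]
        exact h1 }
  have hle : zpowers g ≤ St := by
    rw [zpowers_le]
    exact ⟨hg, h⟩
  intro a ha
  exact (hle ha).2

theorem factor_step [Finite H] {p : ℕ} [Fact p.Prime] (Q L N X Y : Subgroup H) (u v : H)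
    (hLQ : L ≤ Q) (hNL : N ≤ L) (hcLQ : ⁅L, Q⁆ ≤ N) (hYQ : Y ≤ Q)
    (hQN : Q ≤ normalizer (N : Set H))
    (huL : u ∈ normalizer (L : Set H)) (hvL : v ∈ normalizer (L : Set H))
    (huN : u ∈ normalizer (N : Set H)) (hvN : v ∈ normalizer (N : Set H))
    (huv : Commute u v) (hup : u ^ p = 1) (hvp : v ^ p = 1)
    (hQp : (Nat.card Q).Coprime p)
    (hT : ∀ g : H, ((∃ j, j < p ∧ g = u * v ^ j) ∨ (∃ m, 0 < m ∧ m < p ∧ g = v ^ m)) →
      ∀ c ∈ Q, g * c = c * g → c ∈ (X : Set H) * (Y : Set H))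
    (hPi : (Q : Set H) ⊆ (X : Set H) * (Y : Set H) * (L : Set H)) :
    (Q : Set H) ⊆ (X : Set H) * (Y : Set H) * (N : Set H) := by
  classical
  have hpp : p.Prime := Fact.out
  set W : Set H := (X : Set H) * (Y : Set H) * (N : Set H) with hW
  have memW : ∀ s, s ∈ W ↔ ∃ x ∈ X, ∃ y ∈ Y, ∃ n ∈ N, s = x * y * n := by
    intro s
    constructor
    · intro hs
      obtain ⟨xy, hxy, n, hn, rfl⟩ := Set.mem_mul.mp hs
      obtain ⟨x, hx, y, hy, rfl⟩ := Set.mem_mul.mp hxy
      exact ⟨x, hx, y, hy, n, hn, rfl⟩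
    · rintro ⟨x, hx, y, hy, n, hn, rfl⟩
      exact Set.mul_mem_mul (Set.mul_mem_mul hx hy) hn
  -- absorption
  have abs : ∀ c ∈ L, c ∈ (X : Set H) * (Y : Set H) → ∀ s ∈ W, s * c ∈ W := by
    intro c hcL hcXY s hs
    obtain ⟨x, hx, y, hy, n, hn, rfl⟩ := (memW s).mp hs
    obtain ⟨x₀, hx₀, y₀, hy₀, hc⟩ := Set.mem_mul.mp hcXY
    have hcQ : c ∈ Q := hLQ hcL
    have h1 : c⁻¹ * n * c ∈ N := by
      have := (mem_normalizer_iff.mp (hQN (Q.inv_mem hcQ)) n).mp hn
      simpa using this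
    have h2 : ⁅y⁻¹, c⁻¹⁆ ∈ N := by
      apply hcLQ
      rw [commutator_comm]
      exact commutator_mem_commutator (Q.inv_mem (hYQ hy)) (L.inv_mem hcL)
    refine (memW _).mpr ⟨x * x₀, X.mul_mem hx hx₀, y₀ * y, Y.mul_mem hy₀ hy,
      ⁅y⁻¹, c⁻¹⁆ * (c⁻¹ * n * c), N.mul_mem h2 h1, ?_⟩
    rw [commutatorElement_def, ← hc]
    group
  -- the subgroup of absorbed elements
  let 𝒜 : Subgroup H :=
    { carrier := {w | w ∈ L ∧ ∀ s, s ∈ W ↔ s * w ∈ W}
      one_mem' := ⟨L.one_mem, fun s => by rw [mul_one]⟩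
      mul_mem' := by
        rintro a b ⟨haL, ha⟩ ⟨hbL, hb⟩
        refine ⟨L.mul_mem haL hbL, fun s => ?_⟩
        rw [ha s, hb (s * a), mul_assoc]
      inv_mem' := by
        rintro a ⟨haL, ha⟩
        refine ⟨L.inv_mem haL, fun s => ?_⟩
        rw [ha (s * a⁻¹), inv_mul_cancel_right] }
  have mem𝒜 : ∀ w, w ∈ 𝒜 ↔ w ∈ L ∧ ∀ s, s ∈ W ↔ s * w ∈ W := fun w => Iff.rfl
  have gen : ∀ g : H, ((∃ j, j < p ∧ g = u * v ^ j) ∨ (∃ m, 0 < m ∧ m < p ∧ g = v ^ m)) →
      ∀ c ∈ L, g * c = c * g → c ∈ 𝒜 := by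
    intro g hg c hcL hgc
    have hc1 : c ∈ (X : Set H) * (Y : Set H) := hT g hg c (hLQ hcL) hgc
    have hc2 : c⁻¹ ∈ (X : Set H) * (Y : Set H) :=
      hT g hg c⁻¹ (Q.inv_mem (hLQ hcL)) (Commute.inv_right (show Commute g c from hgc)).eq
    refine (mem𝒜 c).mpr ⟨hcL, fun s => ⟨fun hs => abs c hcL hc1 s hs, fun hs => ?_⟩⟩
    have := abs c⁻¹ (L.inv_mem hcL) hc2 (s * c) hs
    rwa [mul_inv_cancel_right] at this
  have hN𝒜 : N ≤ 𝒜 := by
    intro n hn
    refine (mem𝒜 n).mpr ⟨hNL hn, fun s => ⟨?_, ?_⟩⟩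
    · intro hs
      obtain ⟨x, hx, y, hy, n', hn', rfl⟩ := (memW s).mp hs
      exact (memW _).mpr ⟨x, hx, y, hy, n' * n, N.mul_mem hn' hn, by group⟩
    · intro hs
      obtain ⟨x, hx, y, hy, n', hn', h⟩ := (memW _).mp hs
      refine (memW _).mpr ⟨x, hx, y, hy, n' * n⁻¹, N.mul_mem hn' (N.inv_mem hn), ?_⟩
      have : s = (s * n) * n⁻¹ := by group
      rw [this, h]
      group
  -- the abelian quotient
  haveI hNn : (N.subgroupOf L).Normal :=
    (normal_subgroupOf_iff_le_normalizer hNL).mpr (hLQ.trans hQN)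
  letI : CommGroup (↥L ⧸ N.subgroupOf L) :=
    { (inferInstance : Group (↥L ⧸ N.subgroupOf L)) with
      mul_comm := by
        intro a b
        induction a using QuotientGroup.induction_on with | H a => ?_
        induction b using QuotientGroup.induction_on with | H b => ?_
        rw [← QuotientGroup.mk_mul, ← QuotientGroup.mk_mul, QuotientGroup.eq, mem_subgroupOf]
        have e : (((a * b)⁻¹ * (b * a) : ↥L) : H) = ⁅(b : H)⁻¹, (a : H)⁻¹⁆ := by
          rw [commutatorElement_def]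
          simp only [Subgroup.coe_mul, Subgroup.coe_inv]
          group
        rw [e]
        apply hcLQ
        exact commutator_mem_commutator (L.inv_mem b.2) (Q.inv_mem (hLQ a.2)) }
  let φ : ↥L →* ↥L ⧸ N.subgroupOf L := QuotientGroup.mk' _
  have φ_eq_one : ∀ x : ↥L, φ x = 1 ↔ (x : H) ∈ N := fun x => by
    rw [QuotientGroup.mk'_apply, QuotientGroup.eq_one_iff, mem_subgroupOf]
  have hLp : (Nat.card L).Coprime p :=
    Nat.Coprime.coprime_dvd_left (Subgroup.card_dvd_of_le hLQ) hQp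
  have hNp : (Nat.card N).Coprime p :=
    Nat.Coprime.coprime_dvd_left (Subgroup.card_dvd_of_le hNL) hLp
  -- every `p`-th power of an element of `L` is absorbed
  have hpow : ∀ z : ↥L, ((z ^ p : ↥L) : H) ∈ 𝒜 := by
    intro z
    have hzL : (z : H) ∈ L := z.2
    let F : H → ↥L ⧸ N.subgroupOf L := fun g => φ (cz L (z : H) g)
    -- fixed points
    have fp : ∀ a g : H, a ∈ normalizer (L : Set H) → g ∈ normalizer (L : Set H) →
        g ∈ normalizer (N : Set H) → Commute a g → g ^ p = 1 →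
        ∃ c : ↥L, g * (c : H) = (c : H) * g ∧ φ c = ∏ k ∈ Finset.range p, F (a * g ^ k) := by
      intro a g haL hgL hgN hag hgp
      have hf : ∀ k, a * g ^ k ∈ normalizer (L : Set H) := fun k =>
        (normalizer (L : Set H)).mul_mem haL ((normalizer (L : Set H)).pow_mem hgL k)
      set w : ↥L := nuProd L (z : H) (fun k => a * g ^ k) p with hw
      have hφw : φ w = ∏ k ∈ Finset.range p, F (a * g ^ k) := map_nuProd L _ _ φ p
      set w' : ↥L := nuProd L (z : H) (fun k => g * (a * g ^ k)) p with hw'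
      have hww' : g * (w : H) * g⁻¹ = (w' : H) := nuProd_conj L hzL _ hf g hgL p
      have hφw' : φ w' = φ w := by
        rw [hφw, hw', map_nuProd]
        have h1 : ∀ k, φ (cz L (z : H) (g * (a * g ^ k))) = F (a * g ^ (k + 1)) := by
          intro k
          have : g * (a * g ^ k) = a * g ^ (k + 1) := by
            rw [← mul_assoc, ← hag.eq, mul_assoc, ← pow_succ']
          rw [this]
        simp_rw [h1]
        have h2 := Finset.prod_range_succ' (fun k => F (a * g ^ k)) p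
        have h3 := Finset.prod_range_succ (fun k => F (a * g ^ k)) p
        rw [h3, hgp, pow_zero] at h2
        exact (mul_right_cancel h2).symm
      have hk : g * (w : H) * g⁻¹ * (w : H)⁻¹ ∈ N := by
        rw [hww']
        have : φ (w' * w⁻¹) = 1 := by rw [map_mul, map_inv, hφw', mul_inv_cancel]
        have h4 := (φ_eq_one _).mp this
        simpa using h4
      have hk' := comm_mem_of_mem_zpowers N g (w : H) hgN hk
      have hzn : zpowers g ≤ normalizer (N : Set H) := by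
        rw [zpowers_le]; exact hgN
      have hcop : (Nat.card (zpowers g)).Coprime (Nat.card N) := by
        rw [Nat.card_zpowers]
        have hdvd : orderOf g ∣ p := orderOf_dvd_of_pow_eq_one hgp
        exact (Nat.Coprime.coprime_dvd_left hdvd hNp.symm)
      have hsolv : Group.IsSolvable N ∨ Group.IsSolvable (zpowers g) := by
        right
        exact Group.isSolvable_of_comm (fun a b => mul_comm' a b)
      obtain ⟨n, hn, hfix⟩ := fixed_point_lemma N (zpowers g) hzn hcop hsolv (w : H) hk'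
      refine ⟨⟨n⁻¹ * (w : H), L.mul_mem (L.inv_mem (hNL hn)) w.2⟩, ?_, ?_⟩
      · rw [mem_centralizer_iff] at hfix
        exact hfix g (mem_zpowers g)
      · rw [← hφw]
        have e : (⟨n⁻¹ * (w : H), L.mul_mem (L.inv_mem (hNL hn)) w.2⟩ : ↥L) =
            (⟨n, hNL hn⟩ : ↥L)⁻¹ * w := Subtype.ext (by simp)
        rw [e, map_mul, map_inv, (φ_eq_one ⟨n, hNL hn⟩).mpr hn, inv_one, one_mul]
    -- the two families of fixed points
    have hu_pow : ∀ m, u ^ m ∈ normalizer (L : Set H) := fun m =>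
      (normalizer (L : Set H)).pow_mem huL m
    have hv_powL : ∀ m, v ^ m ∈ normalizer (L : Set H) := fun m =>
      (normalizer (L : Set H)).pow_mem hvL m
    have hv_powN : ∀ m, v ^ m ∈ normalizer (N : Set H) := fun m =>
      (normalizer (N : Set H)).pow_mem hvN m
    have fp1 : ∀ j : ℕ, ∃ c : ↥L, (u * v ^ j) * (c : H) = (c : H) * (u * v ^ j) ∧
        φ c = ∏ k ∈ Finset.range p, F (1 * (u * v ^ j) ^ k) := by
      intro j
      refine fp 1 (u * v ^ j) (normalizer (L : Set H)).one_mem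
        ((normalizer (L : Set H)).mul_mem huL (hv_powL j))
        ((normalizer (N : Set H)).mul_mem huN (hv_powN j)) (Commute.one_left _) ?_
      rw [(huv.pow_right j).mul_pow, hup, ← pow_mul, mul_comm j p, pow_mul, hvp, one_pow, one_mul]
    have fp2 : ∀ m : ℕ, ∃ c : ↥L, (v ^ m) * (c : H) = (c : H) * (v ^ m) ∧
        φ c = ∏ j ∈ Finset.range p, F (u ^ m * (v ^ m) ^ j) := by
      intro m
      refine fp (u ^ m) (v ^ m) (hu_pow m) (hv_powL m) (hv_powN m)
        ((huv.pow_left m).pow_right m) ?_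
      rw [← pow_mul, mul_comm m p, pow_mul, hvp, one_pow]
    choose c1 hc1comm hc1φ using fp1
    choose c2 hc2comm hc2φ using fp2
    have hc1𝒜 : ∀ j ∈ Finset.range p, φ (c1 j) ∈ (𝒜.subgroupOf L).map φ := by
      intro j hj
      apply mem_map_of_mem
      rw [mem_subgroupOf]
      exact gen (u * v ^ j) (Or.inl ⟨j, Finset.mem_range.mp hj, rfl⟩) _ (c1 j).2 (hc1comm j)
    have hc2𝒜 : ∀ m ∈ Finset.Ico 1 p, φ (c2 m) ∈ (𝒜.subgroupOf L).map φ := by
      intro m hm
      apply mem_map_of_mem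
      rw [mem_subgroupOf]
      obtain ⟨hm1, hm2⟩ := Finset.mem_Ico.mp hm
      exact gen (v ^ m) (Or.inr ⟨m, hm1, hm2, rfl⟩) _ (c2 m).2 (hc2comm m)
    have hid := prod_identity F u v huv p hpp.pos
    have hF1 : F 1 = φ z := by
      show φ (cz L (z : H) 1) = φ z
      congr 1
      apply Subtype.ext
      rw [cz_val L hzL (normalizer (L : Set H)).one_mem]
      group
    have hzp : φ (z ^ p) ∈ (𝒜.subgroupOf L).map φ := by
      have e : φ (z ^ p) = (∏ j ∈ Finset.range p, φ (c1 j)) *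
          (∏ m ∈ Finset.Ico 1 p, φ (c2 m))⁻¹ := by
        rw [map_pow, ← hF1, eq_mul_inv_iff_mul_eq]
        simp_rw [hc1φ, hc2φ]
        exact hid.symm
      rw [e]
      exact Subgroup.mul_mem _ (Subgroup.prod_mem _ hc1𝒜)
        (Subgroup.inv_mem _ (Subgroup.prod_mem _ hc2𝒜))
    obtain ⟨a, ha, hφa⟩ := hzp
    rw [SetLike.mem_coe, mem_subgroupOf] at ha
    have h5 : φ (a⁻¹ * z ^ p) = 1 := by rw [map_mul, map_inv, hφa, inv_mul_cancel]
    have h6 : ((a⁻¹ * z ^ p : ↥L) : H) ∈ 𝒜 := hN𝒜 ((φ_eq_one _).mp h5)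
    have h7 : ((z ^ p : ↥L) : H) = (a : H) * ((a⁻¹ * z ^ p : ↥L) : H) := by
      simp
    rw [h7]
    exact 𝒜.mul_mem ha h6
  have hL𝒜 : L ≤ 𝒜 := by
    intro z' hz'
    obtain ⟨z, hz⟩ := (powCoprime hLp).surjective ⟨z', hz'⟩
    rw [powCoprime_apply] at hz
    have := hpow z
    rw [hz] at this
    exact this
  intro g hg
  obtain ⟨xy, hxy, l, hl, rfl⟩ := Set.mem_mul.mp (hPi hg)
  obtain ⟨x, hx, y, hy, rfl⟩ := Set.mem_mul.mp hxy
  have h8 : x * y ∈ W := (memW _).mpr ⟨x, hx, y, hy, 1, N.one_mem, by group⟩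
  exact (((mem𝒜 l).mp (hL𝒜 hl)).2 (x * y)).mp h8

/-- **Factorization lemma** for nilpotent `p'`-groups. -/
theorem factor_nilpotent [Finite H] {p : ℕ} [Fact p.Prime] (Q X Y : Subgroup H) (u v : H)
    (hQn : Group.IsNilpotent ↥Q) (hYQ : Y ≤ Q)
    (hu : u ∈ normalizer (Q : Set H)) (hv : v ∈ normalizer (Q : Set H))
    (huv : Commute u v) (hup : u ^ p = 1) (hvp : v ^ p = 1)
    (hQp : (Nat.card Q).Coprime p)
    (hT : ∀ g : H, ((∃ j, j < p ∧ g = u * v ^ j) ∨ (∃ m, 0 < m ∧ m < p ∧ g = v ^ m)) →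
      ∀ c ∈ Q, g * c = c * g → c ∈ (X : Set H) * (Y : Set H)) :
    (Q : Set H) ⊆ (X : Set H) * (Y : Set H) := by
  obtain ⟨n, hn⟩ := (isNilpotent_iff_lowerCentralSeries Q).mp hQn
  have key : ∀ i, (Q : Set H) ⊆ (X : Set H) * (Y : Set H) *
      ((Q.lowerCentralSeries i : Subgroup H) : Set H) := by
    intro i
    induction i with
    | zero =>
      intro g hg
      have h1 : (1 : H) * 1 * g ∈ (X : Set H) * (Y : Set H) *
          ((Q.lowerCentralSeries 0 : Subgroup H) : Set H) :=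
        Set.mul_mem_mul (Set.mul_mem_mul X.one_mem Y.one_mem) (by simpa using hg)
      simpa using h1
    | succ i ih =>
      exact factor_step Q (Q.lowerCentralSeries i) (Q.lowerCentralSeries (i + 1)) X Y u v
        (lowerCentralSeries_le_self Q i) (Q.lowerCentralSeries_antitone (Nat.le_succ i))
        (le_of_eq rfl) hYQ
        (fun g hg => mem_normalizer_lowerCentralSeries Q g (le_normalizer hg) (i + 1))
        (mem_normalizer_lowerCentralSeries Q u hu i) (mem_normalizer_lowerCentralSeries Q v hv i)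
        (mem_normalizer_lowerCentralSeries Q u hu (i + 1))
        (mem_normalizer_lowerCentralSeries Q v hv (i + 1)) huv hup hvp hQp hT ih
  have h2 := key n
  rw [hn] at h2
  intro g hg
  obtain ⟨xy, hxy, l, hl, rfl⟩ := Set.mem_mul.mp (h2 hg)
  have hl1 : l = 1 := by simpa using hl
  rw [hl1, mul_one]
  exact hxy

end factor

end Cfsg.Agent.Lib.Helper24
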