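import Mathlib

/-!
# The dual representation of `MulAut A` on additive functions `A → K`

For a commutative group `A` and a field `K` the automorphism group `MulAut A` acts linearly on
the `K`-space `Additive A →+ K`.  For `A` finite elementary abelian of exponent `p` and `K` of
characteristic `p` this representation is faithful, and an automorphism without nontrivial fixed
points has no nonzero fixed vector.
-/

set_option autoImplicit false
set_option linter.unusedSectionVars false
set_option linter.unusedVariables false
set_option linter.style.haveILetI false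

namespace Cfsg.Agent.Lib.Helper24.HH

variable {A : Type*} [CommGroup A] (K : Type*) [Field K]

/-- the dual representation of `MulAut A` on additive functions `A → K` -/
noncomputable def dualRep : MulAut A →* Module.End K (Additive A →+ K) where
  toFun a :=
    { toFun := fun f => f.comp (MonoidHom.toAdditive ((a⁻¹ : MulAut A).toMonoidHom))
      map_add' := fun f g => by ext v; simp
      map_smul' := fun s f => by ext v; simp }
  map_one' := by
    apply LinearMap.ext
    intro f
    apply AddMonoidHom.ext
    intro v
    simp
  map_mul' := fun a b => by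
    apply LinearMap.ext
    intro f
    apply AddMonoidHom.ext
    intro v
    simp [mul_inv_rev]

theorem dualRep_apply (a : MulAut A) (f : Additive A →+ K) (v : A) :
    dualRep K a f (Additive.ofMul v) = f (Additive.ofMul ((a⁻¹ : MulAut A) v)) := rfl

instance dual_finiteDimensional [Finite A] : FiniteDimensional K (Additive A →+ K) := by
  let φ : (Additive A →+ K) →ₗ[K] (A → K) :=
    { toFun := fun f v => f (Additive.ofMul v)
      map_add' := fun f g => by funext v; simp
      map_smul' := fun s f => by funext v; simp }
  have hφ : Function.Injective φ := by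
    intro f g hfg
    apply AddMonoidHom.ext
    intro v
    exact congrFun hfg (Additive.toMul v)
  exact Module.Finite.of_injective φ hφ

/-- an automorphism without nontrivial fixed points has no nonzero fixed vector -/
theorem dualRep_fixed [Finite A] (x : MulAut A) (hx : ∀ v, x v = v → v = 1)
    (f : Additive A →+ K) (hf : dualRep K x f = f) : f = 0 := by
  let ψ : A →* A := (x⁻¹ : MulAut A).toMonoidHom / MonoidHom.id A
  have hψ : ∀ v, ψ v = (x⁻¹ : MulAut A) v / v := fun v => rfl
  have hinj : Function.Injective ψ := by
    rw [injective_iff_map_eq_one]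
    intro v hv
    rw [hψ, div_eq_one] at hv
    apply hx
    have : x ((x⁻¹ : MulAut A) v) = v := by
      rw [← MulAut.mul_apply, mul_inv_cancel, MulAut.one_apply]
    rw [hv] at this
    exact this
  have hsurj : Function.Surjective ψ := Finite.injective_iff_surjective.mp hinj
  apply AddMonoidHom.ext
  intro w
  obtain ⟨v, hv⟩ := hsurj (Additive.toMul w)
  have h1 : f (Additive.ofMul ((x⁻¹ : MulAut A) v)) = f (Additive.ofMul v) := by
    rw [← dualRep_apply, hf]
  have h2 : w = Additive.ofMul ((x⁻¹ : MulAut A) v) - Additive.ofMul v := by
    rw [← ofMul_div, ← hψ, hv]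
    rfl
  rw [h2, map_sub, h1, sub_self]
  rfl

theorem exists_addHom_ne_zero_aux {p : ℕ} [Fact p.Prime] [CharP K p] {B : Type*} [AddCommGroup B]
    [Module (ZMod p) B] (w : B) (hw : w ≠ 0) : ∃ f : B →+ K, f w ≠ 0 := by
  have key : ∃ φ : B →ₗ[ZMod p] ZMod p, φ w ≠ 0 :=
    Module.Projective.exists_dual_ne_zero (ZMod p) hw
  obtain ⟨φ, hφ⟩ := key
  refine ⟨(ZMod.castHom (dvd_refl p) K).toAddMonoidHom.comp φ.toAddMonoidHom, ?_⟩
  intro h
  apply hφ
  have h' : (ZMod.castHom (dvd_refl p) K) (φ w) = 0 := h
  exact (map_eq_zero_iff _ (ZMod.castHom (dvd_refl p) K).injective).mp h'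

/-- additive characters into a field of characteristic `p` separate the points of an elementary
abelian `p`-group -/
theorem exists_addHom_ne_zero {p : ℕ} [Fact p.Prime] [CharP K p] (hA : ∀ v : A, v ^ p = 1)
    (w : A) (hw : w ≠ 1) : ∃ f : Additive A →+ K, f (Additive.ofMul w) ≠ 0 := by
  have h : ∀ v : Additive A, p • v = 0 := by
    intro v
    have := hA (Additive.toMul v)
    rw [← toMul_nsmul] at this
    exact Additive.toMul.injective this
  have hw' : Additive.ofMul w ≠ 0 := by
    intro h
    exact hw (Additive.ofMul.injective h)
  exact @exists_addHom_ne_zero_aux K _ p _ _ (Additive A) _ (AddCommGroup.zmodModule h) _ hw'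

/-- the dual representation is faithful on an elementary abelian `p`-group -/
theorem dualRep_eq_one {p : ℕ} [Fact p.Prime] [CharP K p] (hA : ∀ v : A, v ^ p = 1)
    (a : MulAut A) (h : dualRep K a = 1) : a = 1 := by
  by_contra hne
  have hne' : (a⁻¹ : MulAut A) ≠ 1 := by
    intro h1
    apply hne
    rw [← inv_inv a, h1, inv_one]
  obtain ⟨v, hv⟩ : ∃ v, (a⁻¹ : MulAut A) v ≠ v := by
    by_contra hall
    simp only [not_exists, not_not] at hall
    apply hne'
    apply MulEquiv.ext
    intro v
    rw [hall v, MulAut.one_apply]
  have hw : (a⁻¹ : MulAut A) v / v ≠ 1 := by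
    intro h1
    exact hv (div_eq_one.mp h1)
  obtain ⟨f, hf⟩ := exists_addHom_ne_zero K hA _ hw
  apply hf
  have h1 : dualRep K a f (Additive.ofMul v) = f (Additive.ofMul v) := by rw [h]; rfl
  rw [dualRep_apply] at h1
  rw [ofMul_div, map_sub, h1, sub_self]

end Cfsg.Agent.Lib.Helper24.HH
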