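import Mathlib

/-!
# Commutant dimension of a finite-order operator without fixed vectors

`X` an endomorphism of a finite-dimensional `K`-space with `X ^ r = 1`, `K` containing a primitive
`r`-th root of unity, and `X` without non-zero fixed vectors.  Then
`(dim U)² ≤ (r - 1) · dim (centralizer of X in End U)`  (Cauchy–Schwarz on eigenvalue multiplicities).
-/

set_option autoImplicit false
set_option linter.unusedSectionVars false
set_option linter.unusedVariables false
set_option linter.style.haveILetI false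

namespace Cfsg.Agent.Lib.Helper24.HH

open Module Finset

variable {K U : Type*} [Field K] [AddCommGroup U] [Module K U]

/-- Fourier component of `u` for the eigenvalue `ζ ^ k`. -/
noncomputable def comp (X : Module.End K U) (ζ : K) (r k : ℕ) (u : U) : U :=
  ∑ i ∈ range r, (ζ⁻¹) ^ (i * k) • (X ^ i) u

theorem comp_eigen (X : Module.End K U) (ζ : K) (r k : ℕ) (hζ0 : ζ ≠ 0) (hζr : ζ ^ r = 1)
    (hXr : X ^ r = 1) (u : U) : X (comp X ζ r k u) = ζ ^ k • comp X ζ r k u := by
  unfold comp
  set g : ℕ → U := fun i => (ζ⁻¹) ^ (i * k) • (X ^ i) u with hg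
  have h1 : ∀ i, X (g i) = ζ ^ k • g (i + 1) := by
    intro i
    simp only [hg, map_smul]
    rw [smul_smul]
    congr 1
    · rw [add_mul, one_mul, pow_add, inv_pow ζ k]
      field_simp
    · rw [pow_succ', Module.End.mul_apply]
  have h0 : g r = g 0 := by
    simp only [hg]
    have hz : (ζ⁻¹) ^ (r * k) = 1 := by rw [pow_mul, inv_pow, hζr, inv_one, one_pow]
    rw [hXr, zero_mul, pow_zero, pow_zero, hz]
  have h2 : ∑ i ∈ range r, g (i + 1) = ∑ i ∈ range r, g i := by
    have e1 := Finset.sum_range_succ g r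
    have e2 := Finset.sum_range_succ' g r
    rw [e1, h0] at e2
    exact (add_right_cancel e2).symm
  rw [map_sum]
  rw [Finset.sum_congr rfl (fun i _ => h1 i), ← Finset.smul_sum, h2]

theorem sum_comp (X : Module.End K U) (ζ : K) (r : ℕ) (hζ : IsPrimitiveRoot ζ r) (u : U) :
    ∑ k ∈ range r, comp X ζ r k u = (r : K) • u := by
  unfold comp
  rw [Finset.sum_comm]
  have h : ∀ i ∈ range r, ∑ k ∈ range r, (ζ⁻¹) ^ (i * k) • (X ^ i) u
      = if i = 0 then (r : K) • u else 0 := by
    intro i hi
    rw [← Finset.sum_smul]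
    split_ifs with h0
    · subst h0
      simp
    · have hir : i < r := Finset.mem_range.mp hi
      have hy : (ζ⁻¹) ^ i ≠ 1 := by
        rw [inv_pow]
        intro h
        have := inv_eq_one.mp h
        exact hζ.pow_ne_one_of_pos_of_lt h0 hir this
      have hyr : ((ζ⁻¹) ^ i) ^ r = 1 := by
        rw [← pow_mul, mul_comm, pow_mul, inv_pow, hζ.pow_eq_one, inv_one, one_pow]
      have hsum : ∑ k ∈ range r, (ζ⁻¹) ^ (i * k) = 0 := by
        have := mul_geom_sum ((ζ⁻¹) ^ i) r
        rw [hyr, sub_self] at this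
        rcases mul_eq_zero.mp this with h | h
        · exact absurd (sub_eq_zero.mp h) hy
        · simpa [pow_mul] using h
      rw [hsum, zero_smul]
  rw [Finset.sum_congr rfl h]
  rcases Nat.eq_zero_or_pos r with h0 | hpos
  · subst h0; simp
  · rw [Finset.sum_ite_eq' (range r) 0]
    simp [hpos]

/-- The eigenspaces for the `r`-th roots of unity span. -/
theorem iSup_eigenspace_eq_top (X : Module.End K U) (ζ : K) (r : ℕ) (hζ : IsPrimitiveRoot ζ r)
    (hrK : (r : K) ≠ 0) (hXr : X ^ r = 1) :
    ⨆ k : Fin r, X.eigenspace (ζ ^ (k : ℕ)) = ⊤ := by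
  have hr0 : r ≠ 0 := by rintro rfl; simp at hrK
  have hζ0 : ζ ≠ 0 := hζ.ne_zero hr0
  rw [eq_top_iff]
  intro u _
  have hu : u = (r : K)⁻¹ • ∑ k : Fin r, comp X ζ r k u := by
    rw [← Finset.sum_range (fun k => comp X ζ r k u), sum_comp X ζ r hζ u, smul_smul,
      inv_mul_cancel₀ hrK, one_smul]
  rw [hu]
  apply Submodule.smul_mem
  apply Submodule.sum_mem
  intro k _
  apply Submodule.mem_iSup_of_mem k
  rw [Module.End.mem_eigenspace_iff]
  exact comp_eigen X ζ r k hζ0 hζ.pow_eq_one hXr u


/-- The commutant of a set of endomorphisms, as a submodule of `End K U`. -/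
def cent (S : Set (Module.End K U)) : Submodule K (Module.End K U) where
  carrier := {φ | ∀ g ∈ S, g * φ = φ * g}
  add_mem' := by
    intro a b ha hb g hg
    rw [mul_add, add_mul, ha g hg, hb g hg]
  zero_mem' := by
    intro g hg
    rw [mul_zero, zero_mul]
  smul_mem' := by
    intro c a ha g hg
    rw [mul_smul_comm, smul_mul_assoc, ha g hg]

theorem mem_cent {S : Set (Module.End K U)} {φ : Module.End K U} :
    φ ∈ cent S ↔ ∀ g ∈ S, g * φ = φ * g := Iff.rfl

theorem one_mem_cent (S : Set (Module.End K U)) : (1 : Module.End K U) ∈ cent S := by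
  intro g hg
  rw [mul_one, one_mul]

theorem card_pairs {r : ℕ} (d : Fin r → ℕ) :
    Fintype.card {p : (Σ k : Fin r, Fin (d k)) × (Σ k : Fin r, Fin (d k)) // p.2.1 = p.1.1}
      = ∑ k : Fin r, d k ^ 2 := by
  classical
  rw [Fintype.card_congr (Equiv.subtypeProdEquivSigmaSubtype
    (fun (i j : Σ k : Fin r, Fin (d k)) => j.1 = i.1))]
  rw [Fintype.card_sigma]
  have h : ∀ i : (Σ k : Fin r, Fin (d k)),
      Fintype.card {j : (Σ k : Fin r, Fin (d k)) // j.1 = i.1} = d i.1 := by
    intro i
    rw [Fintype.card_congr (Equiv.sigmaSubtype i.1), Fintype.card_fin]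
  rw [Finset.sum_congr rfl (fun i _ => h i)]
  rw [Fintype.sum_sigma]
  apply Finset.sum_congr rfl
  intro k _
  simp [sq]

variable [FiniteDimensional K U]

/-- **Cauchy–Schwarz bound** for the commutant of a fixed-point-free operator of order `r`. -/
theorem finrank_sq_le (X : Module.End K U) (ζ : K) (r : ℕ) (hζ : IsPrimitiveRoot ζ r)
    (hrK : (r : K) ≠ 0) (hXr : X ^ r = 1) (hfix : ∀ u, X u = u → u = 0) :
    (finrank K U) ^ 2 ≤ (r - 1) * finrank K (cent ({X} : Set (Module.End K U))) := by
  classical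
  have hr0 : r ≠ 0 := by rintro rfl; simp at hrK
  haveI : NeZero r := ⟨hr0⟩
  set A : Fin r → Submodule K U := fun k => X.eigenspace (ζ ^ (k : ℕ)) with hA
  have hinj : Function.Injective (fun k : Fin r => ζ ^ (k : ℕ)) := by
    intro i j hij
    exact Fin.ext (hζ.pow_inj i.2 j.2 hij)
  have hind : iSupIndep A := (X.eigenspaces_iSupIndep).comp hinj
  have hint : DirectSum.IsInternal A :=
    DirectSum.isInternal_submodule_of_iSupIndep_of_iSup_eq_top hind
      (iSup_eigenspace_eq_top X ζ r hζ hrK hXr)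
  set d : Fin r → ℕ := fun k => finrank K (A k) with hd
  let v : ∀ k : Fin r, Basis (Fin (d k)) K (A k) := fun k => Module.finBasis K (A k)
  let b := hint.collectedBasis v
  have hb : ∀ a, X (b a) = ζ ^ (a.1 : ℕ) • b a := fun a =>
    Module.End.mem_eigenspace_iff.mp (hint.collectedBasis_mem v a)
  have hd0 : d 0 = 0 := by
    have : A 0 = ⊥ := by
      rw [eq_bot_iff]
      intro u hu
      rw [hA] at hu
      simp only [Fin.val_zero, pow_zero] at hu
      rw [Module.End.mem_eigenspace_iff, one_smul] at hu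
      rw [Submodule.mem_bot]
      exact hfix u hu
    simp only [hd]
    rw [this]
    exact finrank_bot K U
  -- the index types
  let ι := Σ k : Fin r, Fin (d k)
  let S' := {p : ι × ι // p.2.1 = p.1.1}
  let E : (S' → K) →ₗ[K] Matrix ι ι K :=
    { toFun := fun f => Matrix.of fun i j => if h : j.1 = i.1 then f ⟨(i, j), h⟩ else 0
      map_add' := by
        intro f g
        ext i j
        simp only [Matrix.of_apply, Matrix.add_apply, Pi.add_apply]
        split_ifs <;> simp
      map_smul' := by
        intro c f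
        ext i j
        simp only [Matrix.of_apply, Matrix.smul_apply, Pi.smul_apply, RingHom.id_apply]
        split_ifs <;> simp }
  have hE : ∀ (f : S' → K) (i j : ι), E f i j = if h : j.1 = i.1 then f ⟨(i, j), h⟩ else 0 :=
    fun f i j => rfl
  let L : (S' → K) →ₗ[K] Module.End K U := (Matrix.toLin b b).toLinearMap ∘ₗ E
  have hLinj : Function.Injective L := by
    intro f g hfg
    have h1 : E f = E g := (Matrix.toLin b b).injective hfg
    funext s
    obtain ⟨⟨i, j⟩, h⟩ := s
    have h2 := congrFun (congrFun h1 i) j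
    rw [hE, hE, dif_pos h, dif_pos h] at h2
    exact h2
  have hLmem : ∀ f, L f ∈ cent ({X} : Set (Module.End K U)) := by
    intro f g hg
    rw [Set.mem_singleton_iff] at hg
    subst hg
    apply b.ext
    intro j
    rw [Module.End.mul_apply, Module.End.mul_apply, hb j, map_smul]
    show g ((Matrix.toLin b b) (E f) (b j)) = ζ ^ (j.1 : ℕ) • (Matrix.toLin b b) (E f) (b j)
    rw [Matrix.toLin_self, map_sum, Finset.smul_sum]
    apply Finset.sum_congr rfl
    intro i _
    rw [map_smul, hb i, hE]
    split_ifs with h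
    · rw [h, smul_comm]
    · simp
  let L' : (S' → K) →ₗ[K] cent ({X} : Set (Module.End K U)) := L.codRestrict _ hLmem
  have hL'inj : Function.Injective L' := by
    intro f g hfg
    apply hLinj
    exact congrArg Subtype.val hfg
  have h1 : Fintype.card S' ≤ finrank K (cent ({X} : Set (Module.End K U))) := by
    have := LinearMap.finrank_le_finrank_of_injective hL'inj
    rwa [Module.finrank_fintype_fun_eq_card] at this
  have h2 : Fintype.card S' = ∑ k : Fin r, d k ^ 2 := card_pairs d
  have h3 : finrank K U = ∑ k : Fin r, d k := by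
    rw [Module.finrank_eq_card_basis b, Fintype.card_sigma]
    simp
  have h4 : (∑ k : Fin r, d k) ^ 2 ≤ (r - 1) * ∑ k : Fin r, d k ^ 2 := by
    have e1 : ∑ k : Fin r, d k = ∑ k ∈ (Finset.univ.erase (0 : Fin r)), d k := by
      rw [← Finset.add_sum_erase Finset.univ d (Finset.mem_univ 0), hd0, zero_add]
    have e2 : ∑ k ∈ (Finset.univ.erase (0 : Fin r)), d k ^ 2 ≤ ∑ k : Fin r, d k ^ 2 :=
      Finset.sum_le_sum_of_subset (Finset.erase_subset _ _)
    have e3 := sq_sum_le_card_mul_sum_sq (s := Finset.univ.erase (0 : Fin r)) (f := d)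
    rw [Finset.card_erase_of_mem (Finset.mem_univ _), Finset.card_univ, Fintype.card_fin] at e3
    rw [e1]
    calc (∑ k ∈ (Finset.univ.erase (0 : Fin r)), d k) ^ 2
        ≤ ((r - 1 : ℕ) : ℕ) * ∑ k ∈ (Finset.univ.erase (0 : Fin r)), d k ^ 2 := by exact_mod_cast e3
      _ ≤ (r - 1) * ∑ k : Fin r, d k ^ 2 := Nat.mul_le_mul_left _ e2
  rw [h3]
  calc (∑ k : Fin r, d k) ^ 2 ≤ (r - 1) * ∑ k : Fin r, d k ^ 2 := h4
    _ = (r - 1) * Fintype.card S' := by rw [h2]
    _ ≤ (r - 1) * finrank K (cent ({X} : Set (Module.End K U))) := Nat.mul_le_mul_left _ h1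

end Cfsg.Agent.Lib.Helper24.HH
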