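import Mathlib
import Cfsg.Agent.Lib.Helper24.HHLin

/-!
# Fourier analysis on `End K U` for a Heisenberg-like representation

`ρ : Q →* End K U` with `ρ g * ρ t = c g t • (ρ t * ρ g)` (scalar commutators), `Z` the radical of
the bicharacter `c`.  The conjugation action of `Q` decomposes `End K U` into the translates
`ρ t * C` (`t` running over `Q / Z`) of the commutant `C` of `ρ`.
-/

set_option autoImplicit false
set_option linter.unusedSectionVars false
set_option linter.unusedVariables false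
set_option linter.style.haveILetI false

namespace Cfsg.Agent.Lib.Helper24.HH

open Module Finset

variable {K U Q : Type*} [Field K] [AddCommGroup U] [Module K U] [Group Q]

/-- A representation with scalar commutators; `Z` is the radical of the bicharacter `c`. -/
structure Heis (ρ : Q →* Module.End K U) (Z : Subgroup Q) (c : Q → Q → K) : Prop where
  comm : ∀ g t, ρ g * ρ t = c g t • (ρ t * ρ g)
  scal : ∀ z ∈ Z, ∃ s : K, ρ z = s • (1 : Module.End K U)
  nd : ∀ t, (∀ g, c g t = 1) → t ∈ Z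

theorem rho_mul_inv (ρ : Q →* Module.End K U) (g : Q) : ρ g * ρ g⁻¹ = 1 := by
  rw [← map_mul, mul_inv_cancel, map_one]

theorem rho_inv_mul (ρ : Q →* Module.End K U) (g : Q) : ρ g⁻¹ * ρ g = 1 := by
  rw [← map_mul, inv_mul_cancel, map_one]

theorem end_one_ne_zero [Nontrivial U] : (1 : Module.End K U) ≠ 0 := by
  intro h
  obtain ⟨u, hu⟩ := exists_ne (0 : U)
  apply hu
  have := congrArg (fun f : Module.End K U => f u) h
  simpa using this

theorem rho_ne_zero [Nontrivial U] (ρ : Q →* Module.End K U) (g : Q) : ρ g ≠ 0 := by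
  intro h
  have := rho_mul_inv ρ g
  rw [h, zero_mul] at this
  exact end_one_ne_zero this.symm

theorem smul_cancel {A : Module.End K U} (hA : A ≠ 0) {s s' : K} (h : s • A = s' • A) : s = s' := by
  have h1 : (s - s') • A = 0 := by rw [sub_smul, h, sub_self]
  rcases smul_eq_zero.mp h1 with h2 | h2
  · exact sub_eq_zero.mp h2
  · exact absurd h2 hA

namespace Heis

variable [Nontrivial U] {ρ : Q →* Module.End K U} {Z : Subgroup Q} {c : Q → Q → K}

theorem c_mul_left (h : Heis ρ Z c) (g g' t : Q) : c (g * g') t = c g t * c g' t := by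
  have h1 : ρ (g * g') * ρ t = c (g * g') t • (ρ t * ρ (g * g')) := h.comm _ _
  have h2 : ρ (g * g') * ρ t = (c g t * c g' t) • (ρ t * ρ (g * g')) := by
    rw [map_mul, mul_assoc, h.comm g' t, mul_smul_comm, ← mul_assoc, h.comm g t, smul_mul_assoc,
      smul_smul, mul_assoc, mul_comm (c g' t)]
  rw [h1] at h2
  apply smul_cancel _ h2
  rw [← map_mul]
  exact rho_ne_zero ρ _

theorem c_mul_right (h : Heis ρ Z c) (g t t' : Q) : c g (t * t') = c g t * c g t' := by
  have h1 : ρ g * ρ (t * t') = c g (t * t') • (ρ (t * t') * ρ g) := h.comm _ _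
  have h2 : ρ g * ρ (t * t') = (c g t * c g t') • (ρ (t * t') * ρ g) := by
    rw [map_mul, ← mul_assoc, h.comm g t, smul_mul_assoc, mul_assoc, h.comm g t', mul_smul_comm,
      smul_smul, mul_assoc]
  rw [h1] at h2
  apply smul_cancel _ h2
  rw [← map_mul]
  exact rho_ne_zero ρ _

theorem c_one_left (h : Heis ρ Z c) (t : Q) : c 1 t = 1 := by
  have h1 := h.comm 1 t
  rw [map_one, one_mul, mul_one] at h1
  have h2 : (1 : K) • ρ t = c 1 t • ρ t := by rw [one_smul]; exact h1
  exact (smul_cancel (rho_ne_zero ρ t) h2).symm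

theorem c_one_right (h : Heis ρ Z c) (g : Q) : c g 1 = 1 := by
  have h1 := h.comm g 1
  rw [map_one, one_mul, mul_one] at h1
  have h2 : (1 : K) • ρ g = c g 1 • ρ g := by rw [one_smul]; exact h1
  exact (smul_cancel (rho_ne_zero ρ g) h2).symm

theorem c_inv_left (h : Heis ρ Z c) (g t : Q) : c g⁻¹ t = (c g t)⁻¹ := by
  have h1 : c g⁻¹ t * c g t = 1 := by rw [← h.c_mul_left, inv_mul_cancel, h.c_one_left]
  exact eq_inv_of_mul_eq_one_left h1

theorem c_inv_right (h : Heis ρ Z c) (g t : Q) : c g t⁻¹ = (c g t)⁻¹ := by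
  have h1 : c g t⁻¹ * c g t = 1 := by rw [← h.c_mul_right, inv_mul_cancel, h.c_one_right]
  exact eq_inv_of_mul_eq_one_left h1

theorem c_ne_zero (h : Heis ρ Z c) (g t : Q) : c g t ≠ 0 := by
  intro h0
  have h1 : c g⁻¹ t * c g t = 1 := by rw [← h.c_mul_left, inv_mul_cancel, h.c_one_left]
  rw [h0, mul_zero] at h1
  exact zero_ne_one h1

theorem c_symm (h : Heis ρ Z c) (g t : Q) : c g t * c t g = 1 := by
  have h1 : ρ g * ρ t = (c g t * c t g) • (ρ g * ρ t) := by
    conv_lhs => rw [h.comm g t, h.comm t g]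
    rw [smul_smul]
  have h2 : (1 : K) • (ρ g * ρ t) = (c g t * c t g) • (ρ g * ρ t) := by rw [one_smul]; exact h1
  refine (smul_cancel ?_ h2).symm
  rw [← map_mul]
  exact rho_ne_zero ρ _

theorem c_mem_right (h : Heis ρ Z c) (g : Q) {t : Q} (ht : t ∈ Z) : c g t = 1 := by
  obtain ⟨s, hs⟩ := h.scal t ht
  have h1 := h.comm g t
  have h2 : ρ g * ρ t = ρ t * ρ g := by
    rw [hs, mul_smul_comm, smul_mul_assoc, mul_one, one_mul]
  rw [h2] at h1
  have h3 : (1 : K) • (ρ t * ρ g) = c g t • (ρ t * ρ g) := by rw [one_smul]; exact h1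
  refine (smul_cancel ?_ h3).symm
  rw [← map_mul]
  exact rho_ne_zero ρ _

theorem c_mem_left (h : Heis ρ Z c) {g : Q} (hg : g ∈ Z) (t : Q) : c g t = 1 := by
  have h1 := h.c_symm g t
  rw [h.c_mem_right t hg, mul_one] at h1
  exact h1

theorem nd_left (h : Heis ρ Z c) (g : Q) (hg : ∀ t, c g t = 1) : g ∈ Z := by
  apply h.nd
  intro t
  have h1 := h.c_symm t g
  rw [hg t, mul_one] at h1
  exact h1

theorem normal (h : Heis ρ Z c) : Z.Normal := by
  constructor
  intro z hz g
  apply h.nd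
  intro x
  rw [h.c_mul_right, h.c_mul_right, h.c_mem_right x hz, mul_one, h.c_inv_right,
    mul_inv_cancel₀ (h.c_ne_zero x g)]

variable [Fintype Q]

open Classical in
theorem char_sum_right (h : Heis ρ Z c) (t : Q) :
    ∑ g : Q, c g t = if t ∈ Z then (Fintype.card Q : K) else 0 := by
  split_ifs with ht
  · rw [Finset.sum_congr rfl (fun g _ => h.c_mem_right g ht)]
    simp
  · have : ∃ g, c g t ≠ 1 := by
      by_contra hcon
      push Not at hcon
      exact ht (h.nd t hcon)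
    obtain ⟨g₀, hg₀⟩ := this
    have h1 : ∑ g : Q, c g t = c g₀ t * ∑ g : Q, c g t := by
      rw [Finset.mul_sum]
      rw [← Fintype.sum_equiv (Equiv.mulLeft g₀) (fun g => c g₀ t * c g t) (fun g => c g t)]
      intro g
      simp [h.c_mul_left]
    have h2 : (1 - c g₀ t) * ∑ g : Q, c g t = 0 := by
      rw [sub_mul, one_mul, ← h1, sub_self]
    rcases mul_eq_zero.mp h2 with h3 | h3
    · exact absurd (sub_eq_zero.mp h3).symm hg₀
    · exact h3

open Classical in
theorem char_sum_left (h : Heis ρ Z c) (g : Q) :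
    ∑ t : Q, c g t = if g ∈ Z then (Fintype.card Q : K) else 0 := by
  split_ifs with hg
  · rw [Finset.sum_congr rfl (fun t _ => h.c_mem_left hg t)]
    simp
  · have : ∃ t, c g t ≠ 1 := by
      by_contra hcon
      push Not at hcon
      exact hg (h.nd_left g hcon)
    obtain ⟨t₀, ht₀⟩ := this
    have h1 : ∑ t : Q, c g t = c g t₀ * ∑ t : Q, c g t := by
      rw [Finset.mul_sum]
      rw [← Fintype.sum_equiv (Equiv.mulLeft t₀) (fun t => c g t₀ * c g t) (fun t => c g t)]
      intro t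
      simp [h.c_mul_right]
    have h2 : (1 - c g t₀) * ∑ t : Q, c g t = 0 := by
      rw [sub_mul, one_mul, ← h1, sub_self]
    rcases mul_eq_zero.mp h2 with h3 | h3
    · exact absurd (sub_eq_zero.mp h3).symm ht₀
    · exact h3

end Heis


/-- The Fourier projection of `End K U` onto the `t`-component. -/
noncomputable def P [Fintype Q] (ρ : Q →* Module.End K U) (c : Q → Q → K) (t : Q) :
    Module.End K U →ₗ[K] Module.End K U :=
  ∑ g : Q, (c g t)⁻¹ • (LinearMap.mulLeft K (ρ g) ∘ₗ LinearMap.mulRight K (ρ g⁻¹))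

theorem P_apply [Fintype Q] (ρ : Q →* Module.End K U) (c : Q → Q → K) (t : Q)
    (φ : Module.End K U) : P ρ c t φ = ∑ g : Q, (c g t)⁻¹ • (ρ g * φ * ρ g⁻¹) := by
  simp [P, LinearMap.sum_apply, mul_assoc]

namespace Heis

variable [Nontrivial U] [Fintype Q] {ρ : Q →* Module.End K U} {Z : Subgroup Q} {c : Q → Q → K}

/-- (P1) the image of `P t` is an eigenspace for conjugation. -/
theorem P_conj (h : Heis ρ Z c) (x t : Q) (φ : Module.End K U) :
    ρ x * P ρ c t φ * ρ x⁻¹ = c x t • P ρ c t φ := by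
  rw [P_apply, Finset.mul_sum, Finset.sum_mul, Finset.smul_sum]
  rw [← Fintype.sum_equiv (Equiv.mulLeft x)
    (fun g => ρ x * ((c g t)⁻¹ • (ρ g * φ * ρ g⁻¹)) * ρ x⁻¹)
    (fun g => c x t • ((c g t)⁻¹ • (ρ g * φ * ρ g⁻¹)))]
  intro g
  simp only [Equiv.coe_mulLeft]
  have e1 : c x t * (c (x * g) t)⁻¹ = (c g t)⁻¹ := by
    rw [h.c_mul_left, mul_inv, ← mul_assoc, mul_inv_cancel₀ (h.c_ne_zero x t), one_mul]
  have e2 : ρ (x * g) * φ * ρ (x * g)⁻¹ = ρ x * (ρ g * φ * ρ g⁻¹) * ρ x⁻¹ := by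
    rw [mul_inv_rev, map_mul, map_mul]
    simp only [mul_assoc]
  rw [mul_smul_comm, smul_mul_assoc, smul_smul, e1, e2]

/-- (P3) `P t` on a conjugation-eigenvector. -/
theorem P_of_eigen (h : Heis ρ Z c) (t s : Q) (ψ : Module.End K U)
    (hψ : ∀ x, ρ x * ψ * ρ x⁻¹ = c x s • ψ) [Decidable (t⁻¹ * s ∈ Z)] :
    P ρ c t ψ = (if t⁻¹ * s ∈ Z then (Fintype.card Q : K) else 0) • ψ := by
  classical
  rw [P_apply]
  have h1 : ∀ g : Q, (c g t)⁻¹ • (ρ g * ψ * ρ g⁻¹) = c g (t⁻¹ * s) • ψ := by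
    intro g
    rw [hψ g, smul_smul, h.c_mul_right, h.c_inv_right]
  rw [Finset.sum_congr rfl (fun g _ => h1 g), ← Finset.sum_smul, h.char_sum_right]
  congr 1
  split_ifs <;> rfl

/-- (P5) `P t` only depends on the coset of `t`. -/
theorem P_mul_mem (h : Heis ρ Z c) (t : Q) {z : Q} (hz : z ∈ Z) : P ρ c (t * z) = P ρ c t := by
  apply LinearMap.ext
  intro φ
  rw [P_apply, P_apply]
  apply Finset.sum_congr rfl
  intro g _
  rw [h.c_mul_right, h.c_mem_right g hz, mul_one]

/-- (P6) -/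
theorem rho_inv_mul_P_mem (h : Heis ρ Z c) (t : Q) (φ : Module.End K U) :
    ρ t⁻¹ * P ρ c t φ ∈ cent (Set.range ρ) := by
  rintro _ ⟨x, rfl⟩
  have h1 : ρ x * P ρ c t φ = c x t • (P ρ c t φ * ρ x) := by
    have := h.P_conj x t φ
    calc ρ x * P ρ c t φ = ρ x * P ρ c t φ * (ρ x⁻¹ * ρ x) := by rw [rho_inv_mul, mul_one]
      _ = (ρ x * P ρ c t φ * ρ x⁻¹) * ρ x := by simp only [mul_assoc]
      _ = c x t • (P ρ c t φ * ρ x) := by rw [this, smul_mul_assoc]
  rw [← mul_assoc, h.comm x t⁻¹, smul_mul_assoc, mul_assoc, h1, mul_smul_comm, smul_smul,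
    h.c_inv_right, inv_mul_cancel₀ (h.c_ne_zero x t), one_smul, mul_assoc]

/-- conjugating a translate of the commutant -/
theorem conj_rho_mul (h : Heis ρ Z c) (s x : Q) {f : Module.End K U}
    (hf : f ∈ cent (Set.range ρ)) : ρ x * (ρ s * f) * ρ x⁻¹ = c x s • (ρ s * f) := by
  have h1 : ρ x * f = f * ρ x := hf (ρ x) ⟨x, rfl⟩
  calc ρ x * (ρ s * f) * ρ x⁻¹ = (ρ x * ρ s) * (f * ρ x⁻¹) := by simp only [mul_assoc]
    _ = c x s • (ρ s * ((ρ x * f) * ρ x⁻¹)) := by
      rw [h.comm x s, smul_mul_assoc]; simp only [mul_assoc]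
    _ = c x s • (ρ s * f) := by rw [h1, mul_assoc, rho_mul_inv, mul_one]

open Classical in
/-- (P2) an endomorphism all of whose Fourier components vanish is zero. -/
theorem eq_zero_of_P_eq_zero (h : Heis ρ Z c) (hQ : (Fintype.card Q : K) ≠ 0)
    (φ : Module.End K U) (hφ : ∀ t, P ρ c t φ = 0) : φ = 0 := by
  have h1 : ∑ t : Q, P ρ c t φ = 0 := Finset.sum_eq_zero (fun t _ => hφ t)
  have h2 : ∑ t : Q, P ρ c t φ
      = ∑ g : Q, (if g ∈ Z then (Fintype.card Q : K) else 0) • (ρ g * φ * ρ g⁻¹) := by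
    simp only [P_apply]
    rw [Finset.sum_comm]
    apply Finset.sum_congr rfl
    intro g _
    rw [← Finset.sum_smul]
    congr 1
    rw [← h.char_sum_left g]
    exact Fintype.sum_equiv (Equiv.inv Q) _ _ (fun t => by simp [h.c_inv_right])
  have h3 : ∀ g : Q, (if g ∈ Z then (Fintype.card Q : K) else 0) • (ρ g * φ * ρ g⁻¹)
      = (if g ∈ Z then (Fintype.card Q : K) else 0) • φ := by
    intro g
    split_ifs with hg
    · obtain ⟨s, hs⟩ := h.scal g hg
      have : ρ g * φ = φ * ρ g := by rw [hs, smul_mul_assoc, mul_smul_comm, one_mul, mul_one]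
      rw [this, mul_assoc, rho_mul_inv, mul_one]
    · rw [zero_smul, zero_smul]
  rw [h2, Finset.sum_congr rfl (fun g _ => h3 g), ← Finset.sum_smul] at h1
  have h4 : ∑ g : Q, (if g ∈ Z then (Fintype.card Q : K) else 0)
      = (Fintype.card Z : K) * (Fintype.card Q : K) := by
    rw [Finset.sum_ite, Finset.sum_const_zero, add_zero, Finset.sum_const, nsmul_eq_mul]
    congr 2
    rw [Fintype.card_subtype]
  rw [h4] at h1
  have h5 : (Fintype.card Z : K) ≠ 0 := by
    intro h0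
    apply hQ
    obtain ⟨k, hk⟩ := Subgroup.card_subgroup_dvd_card Z
    rw [Nat.card_eq_fintype_card, Nat.card_eq_fintype_card] at hk
    rw [hk, Nat.cast_mul, h0, zero_mul]
  rcases smul_eq_zero.mp h1 with h6 | h6
  · exact absurd h6 (mul_ne_zero h5 hQ)
  · exact h6

/-- (P4) transport of the Fourier projections by an automorphism implemented by `X`. -/
theorem P_twist (h : Heis ρ Z c) (α : Q ≃* Q) (X Y : Module.End K U) (hXY : X * Y = 1)
    (hYX : Y * X = 1) (hX : ∀ g, X * ρ g = ρ (α g) * X) (t : Q) (φ : Module.End K U) :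
    X * P ρ c t φ * Y = P ρ c (α t) (X * φ * Y) := by
  have hconj : ∀ g, X * ρ g * Y = ρ (α g) := by
    intro g
    rw [hX g, mul_assoc, hXY, mul_one]
  have hc : ∀ g s, c (α g) (α s) = c g s := by
    intro g s
    have h1 : ρ (α g) * ρ (α s) = c g s • (ρ (α s) * ρ (α g)) := by
      calc ρ (α g) * ρ (α s) = X * ρ g * Y * (X * ρ s * Y) := by rw [hconj, hconj]
        _ = X * (ρ g * ρ s) * Y := by
          calc X * ρ g * Y * (X * ρ s * Y) = X * ρ g * (Y * X) * ρ s * Y := by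
                simp only [mul_assoc]
            _ = X * (ρ g * ρ s) * Y := by rw [hYX, mul_one]; simp only [mul_assoc]
        _ = c g s • (X * (ρ s * ρ g) * Y) := by
          rw [h.comm g s, mul_smul_comm, smul_mul_assoc]
        _ = c g s • (X * ρ s * (Y * X) * ρ g * Y) := by rw [hYX, mul_one]; simp only [mul_assoc]
        _ = c g s • (ρ (α s) * ρ (α g)) := by
          rw [← hconj s, ← hconj g]; simp only [mul_assoc]
    have h2 := h.comm (α g) (α s)
    rw [h1] at h2
    refine (smul_cancel ?_ h2).symm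
    rw [← map_mul]
    exact rho_ne_zero ρ _
  rw [P_apply, P_apply, Finset.mul_sum, Finset.sum_mul]
  rw [← Fintype.sum_equiv α.toEquiv
    (fun g => X * ((c g t)⁻¹ • (ρ g * φ * ρ g⁻¹)) * Y)
    (fun g => (c g (α t))⁻¹ • (ρ g * (X * φ * Y) * ρ g⁻¹))]
  intro g
  simp only [MulEquiv.toEquiv_eq_coe, MulEquiv.coe_toEquiv]
  rw [hc, mul_smul_comm, smul_mul_assoc, ← map_inv, ← hconj g, ← hconj g⁻¹]
  congr 1
  calc X * (ρ g * φ * ρ g⁻¹) * Y = X * ρ g * 1 * φ * 1 * ρ g⁻¹ * Y := by
        simp only [mul_assoc, mul_one]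
    _ = X * ρ g * (Y * X) * φ * (Y * X) * ρ g⁻¹ * Y := by rw [hYX]
    _ = X * ρ g * Y * (X * φ * Y) * (X * ρ g⁻¹ * Y) := by simp only [mul_assoc]

end Heis

end Cfsg.Agent.Lib.Helper24.HH
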