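import Mathlib

/-!
# Orbit representatives for a fixed-point-free automorphism of prime order
-/

set_option autoImplicit false
set_option linter.unusedSectionVars false
set_option linter.unusedVariables false
set_option linter.style.haveILetI false

namespace Cfsg.Agent.Lib.Helper24.HH

open MulAction

/-- Orbit representatives for an automorphism `a` of a finite group `H` with `a ^ r = 1`,
`r` prime, fixing only the identity. -/
theorem exists_orbit_reps {H : Type*} [Group H] [Finite H] (a : MulAut H) (r : ℕ) (hr : r.Prime)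
    (har : a ^ r = 1) (hfree : ∀ b : H, a b = b → b = 1) :
    ∃ T : Finset H, (∀ b : H, ∃ t ∈ T, ∃ i : ℕ, (a ^ i) t = b) ∧
      Nat.card H + r = 1 + r * T.card := by
  classical
  by_cases ha1 : a = 1
  · have hH : ∀ b : H, b = 1 := fun b => hfree b (by rw [ha1]; rfl)
    refine ⟨{1}, ?_, ?_⟩
    · intro b
      exact ⟨1, by simp, 0, by rw [hH b]; simp⟩
    · have : Nat.card H = 1 := by
        rw [Nat.card_eq_one_iff_unique]
        exact ⟨⟨fun x y => by rw [hH x, hH y]⟩, ⟨1⟩⟩
      rw [this]
      simp
  · haveI := Fact.mk hr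
    have hord : orderOf a = r := orderOf_eq_prime har ha1
    let 𝒜 : Subgroup (MulAut H) := Subgroup.zpowers a
    have hcardA : Nat.card 𝒜 = r := by rw [Nat.card_zpowers, hord]
    have haA : a ∈ 𝒜 := Subgroup.mem_zpowers a
    have hfin : IsOfFinOrder a := isOfFinOrder_iff_pow_eq_one.mpr ⟨r, hr.pos, har⟩
    -- the action
    have hsmul : ∀ (σ : 𝒜) (b : H), σ • b = (σ : MulAut H) b := fun σ b => rfl
    have horb1 : orbit 𝒜 (1 : H) = {1} := by
      ext x
      rw [mem_orbit_iff, Set.mem_singleton_iff]
      constructor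
      · rintro ⟨σ, rfl⟩
        rw [hsmul, map_one]
      · rintro rfl
        exact ⟨1, by rw [one_smul]⟩
    have horb : ∀ b : H, b ≠ 1 → (orbit 𝒜 b).ncard = r := by
      intro b hb
      have h1 : (orbit 𝒜 b).ncard ∣ r := by
        rw [← index_stabilizer, ← hcardA]
        exact Subgroup.index_dvd_card _
      rcases (Nat.dvd_prime hr).mp h1 with h2 | h2
      · exfalso
        obtain ⟨x, hx⟩ := Set.ncard_eq_one.mp h2
        have hb1 : b ∈ orbit 𝒜 b := mem_orbit_self b
        have hb2 : (⟨a, haA⟩ : 𝒜) • b ∈ orbit 𝒜 b := mem_orbit b _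
        rw [hx, Set.mem_singleton_iff] at hb1 hb2
        rw [hsmul] at hb2
        apply hb
        apply hfree
        rw [hb2, hb1]
      · exact h2
    -- the orbit space
    let O := orbitRel.Quotient 𝒜 H
    haveI : Finite O := Quotient.finite _
    haveI : Fintype O := Fintype.ofFinite O
    let ω₁ : O := Quotient.mk'' 1
    have hout : ∀ ω : O, ω.out = 1 ↔ ω = ω₁ := by
      intro ω
      constructor
      · intro h
        rw [← Quotient.out_eq' ω, h]
      · intro h
        have h1 : (Quotient.mk'' ω.out : O) = Quotient.mk'' 1 := by rw [Quotient.out_eq' ω, h]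
        have h2 : ω.out ∈ orbit 𝒜 (1 : H) := by
          rw [← orbitRel_apply]
          exact Quotient.exact' h1
        rw [horb1, Set.mem_singleton_iff] at h2
        exact h2
    have hcount : Nat.card H = ∑ ω : O, (if ω = ω₁ then 1 else r) := by
      rw [Nat.card_congr (selfEquivSigmaOrbits 𝒜 H), Nat.card_sigma]
      apply Finset.sum_congr rfl
      intro ω _
      rw [Nat.card_coe_set_eq]
      split_ifs with h
      · rw [(hout ω).mpr h, horb1, Set.ncard_singleton]
      · exact horb _ (fun h' => h ((hout ω).mp h'))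
    have hsum : ∑ ω : O, (if ω = ω₁ then 1 else r) = 1 + (Fintype.card O - 1) * r := by
      rw [← Finset.add_sum_erase Finset.univ _ (Finset.mem_univ ω₁), if_pos rfl]
      congr 1
      rw [Finset.sum_congr rfl (fun ω hω => if_neg (Finset.ne_of_mem_erase hω)),
        Finset.sum_const, Finset.card_erase_of_mem (Finset.mem_univ _), Finset.card_univ,
        smul_eq_mul]
    refine ⟨Finset.univ.image (fun ω : O => ω.out), ?_, ?_⟩
    · intro b
      let ω : O := Quotient.mk'' b
      refine ⟨ω.out, Finset.mem_image.mpr ⟨ω, Finset.mem_univ _, rfl⟩, ?_⟩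
      have h1 : (Quotient.mk'' ω.out : O) = Quotient.mk'' b := Quotient.out_eq' ω
      have h2 : b ∈ orbit 𝒜 ω.out := by
        rw [← orbitRel_apply]
        exact Quotient.exact' h1.symm
      obtain ⟨σ, hσ⟩ := h2
      have h3 : (σ : MulAut H) ∈ Submonoid.powers a :=
        hfin.mem_powers_iff_mem_zpowers.mpr σ.2
      obtain ⟨i, hi⟩ := h3
      refine ⟨i, ?_⟩
      have hi' : a ^ i = (σ : MulAut H) := hi
      rw [hi']
      exact hσ
    · rw [Finset.card_image_of_injective _ Quotient.out_injective, Finset.card_univ, hcount, hsum]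
      have hpos : 1 ≤ Fintype.card O := Fintype.card_pos_iff.mpr ⟨ω₁⟩
      obtain ⟨k, hk⟩ := Nat.exists_eq_add_of_le hpos
      rw [hk]
      simp
      ring

end Cfsg.Agent.Lib.Helper24.HH
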