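import Mathlib
import Cfsg.Agent.Lib.Helper24.HHFourier
import Cfsg.Agent.Lib.Helper24.HHOrb

/-!
# Dimension counts and the core Hall–Higman type inequality
-/

set_option autoImplicit false
set_option linter.unusedSectionVars false
set_option linter.unusedVariables false
set_option linter.style.haveILetI false

namespace Cfsg.Agent.Lib.Helper24.HH

open Module Finset

variable {K U Q : Type*} [Field K] [AddCommGroup U] [Module K U] [Group Q]
variable [Nontrivial U] [Fintype Q] [FiniteDimensional K U]
variable {ρ : Q →* Module.End K U} {Z : Subgroup Q} {c : Q → Q → K}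

/-- the translates of the commutant are independent -/
theorem Heis.index_mul_finrank_le (h : Heis ρ Z c) (hQ : (Fintype.card Q : K) ≠ 0) :
    Z.index * finrank K (cent (Set.range ρ)) ≤ finrank K (Module.End K U) := by
  classical
  haveI := h.normal
  set C := cent (Set.range ρ) with hC
  let F : ((Q ⧸ Z) → C) →ₗ[K] Module.End K U :=
    ∑ a : Q ⧸ Z, (LinearMap.mulLeft K (ρ a.out)) ∘ₗ C.subtype ∘ₗ (LinearMap.proj a)
  have hF : ∀ f, F f = ∑ a : Q ⧸ Z, ρ a.out * (f a : Module.End K U) := by
    intro f
    simp [F, LinearMap.sum_apply]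
  have hinj : Function.Injective F := by
    rw [injective_iff_map_eq_zero]
    intro f hf
    funext b
    have h1 : P ρ c b.out (F f) = 0 := by rw [hf, map_zero]
    rw [hF, map_sum] at h1
    have h2 : ∀ a : Q ⧸ Z, P ρ c b.out (ρ a.out * (f a : Module.End K U))
        = (if b = a then (Fintype.card Q : K) else 0) • (ρ a.out * (f a : Module.End K U)) := by
      intro a
      rw [h.P_of_eigen b.out a.out _ (fun x => h.conj_rho_mul a.out x (f a).2)]
      congr 1
      have : (b.out)⁻¹ * a.out ∈ Z ↔ b = a := by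
        rw [← QuotientGroup.eq, QuotientGroup.out_eq', QuotientGroup.out_eq']
      simp only [this]
    rw [Finset.sum_congr rfl (fun a _ => h2 a)] at h1
    simp only [ite_smul, zero_smul, Finset.sum_ite_eq, Finset.mem_univ, if_true] at h1
    have h3 : ρ b.out * (f b : Module.End K U) = 0 := by
      rcases smul_eq_zero.mp h1 with h4 | h4
      · exact absurd h4 hQ
      · exact h4
    have h4 : (f b : Module.End K U) = 0 := by
      calc (f b : Module.End K U) = ρ (b.out)⁻¹ * (ρ b.out * (f b : Module.End K U)) := by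
            rw [← mul_assoc, rho_inv_mul, one_mul]
        _ = 0 := by rw [h3, mul_zero]
    exact Subtype.ext h4
  have h3 := LinearMap.finrank_le_finrank_of_injective hinj
  rw [Module.finrank_pi_fintype] at h3
  simp only [Finset.sum_const, Finset.card_univ, smul_eq_mul] at h3
  rw [Subgroup.index_eq_card, Nat.card_eq_fintype_card]
  exact h3

/-- the commutant of `X` is determined by the Fourier components at orbit representatives -/
theorem Heis.finrank_centX_le (h : Heis ρ Z c) (hQ : (Fintype.card Q : K) ≠ 0) (α : Q ≃* Q)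
    (X Y : Module.End K U) (hXY : X * Y = 1) (hYX : Y * X = 1)
    (hX : ∀ g, X * ρ g = ρ (α g) * X)
    (T : Finset Q) (hT : ∀ s : Q, ∃ t ∈ T, ∃ i : ℕ, ((⇑α)^[i] t)⁻¹ * s ∈ Z) :
    finrank K (cent ({X} : Set (Module.End K U)))
      ≤ T.card * finrank K (cent (Set.range ρ)) := by
  classical
  set C := cent (Set.range ρ) with hC
  set CX := cent ({X} : Set (Module.End K U)) with hCX
  let G : CX →ₗ[K] (T → C) :=
    LinearMap.pi (fun t : T =>
      ((LinearMap.mulLeft K (ρ (t : Q)⁻¹)) ∘ₗ P ρ c t ∘ₗ CX.subtype).codRestrict C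
        (fun φ => h.rho_inv_mul_P_mem t φ))
  have hG : ∀ (φ : CX) (t : T), ((G φ t : C) : Module.End K U) = ρ (t : Q)⁻¹ * P ρ c t φ :=
    fun φ t => rfl
  have hinj : Function.Injective G := by
    rw [injective_iff_map_eq_zero]
    intro φ hφ
    have key1 : ∀ t ∈ T, P ρ c t (φ : Module.End K U) = 0 := by
      intro t ht
      have h1 : ((G φ ⟨t, ht⟩ : C) : Module.End K U) = 0 := by rw [hφ]; rfl
      rw [hG] at h1
      calc P ρ c t (φ : Module.End K U) = ρ t * (ρ t⁻¹ * P ρ c t (φ : Module.End K U)) := by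
            rw [← mul_assoc, rho_mul_inv, one_mul]
        _ = 0 := by rw [h1, mul_zero]
    have key2 : X * (φ : Module.End K U) * Y = φ := by
      have : X * (φ : Module.End K U) = (φ : Module.End K U) * X := φ.2 X rfl
      rw [this, mul_assoc, hXY, mul_one]
    have key3 : ∀ t, P ρ c t (φ : Module.End K U) = 0 → P ρ c (α t) (φ : Module.End K U) = 0 := by
      intro t ht
      have := h.P_twist α X Y hXY hYX hX t (φ : Module.End K U)
      rw [key2, ht, mul_zero, zero_mul] at this
      exact this.symm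
    have key4 : ∀ (i : ℕ) t, P ρ c t (φ : Module.End K U) = 0 →
        P ρ c ((⇑α)^[i] t) (φ : Module.End K U) = 0 := by
      intro i
      induction i with
      | zero => intro t ht; exact ht
      | succ i ih =>
        intro t ht
        rw [Function.iterate_succ_apply']
        exact key3 _ (ih t ht)
    have key5 : ∀ s, P ρ c s (φ : Module.End K U) = 0 := by
      intro s
      obtain ⟨t, ht, i, hz⟩ := hT s
      have hs : s = ((⇑α)^[i] t) * (((⇑α)^[i] t)⁻¹ * s) := by group
      rw [hs, h.P_mul_mem _ hz]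
      exact key4 i t (key1 t ht)
    exact Subtype.ext (h.eq_zero_of_P_eq_zero hQ _ key5)
  have h3 := LinearMap.finrank_le_finrank_of_injective hinj
  rw [Module.finrank_pi_fintype] at h3
  simp only [Finset.sum_const, Finset.card_univ, smul_eq_mul, Fintype.card_coe] at h3
  exact h3

/-- invariance of the bicharacter under an automorphism implemented by `X` -/
theorem Heis.c_twist (h : Heis ρ Z c) (α : Q ≃* Q) (X Y : Module.End K U) (hXY : X * Y = 1)
    (hYX : Y * X = 1) (hX : ∀ g, X * ρ g = ρ (α g) * X) (g s : Q) : c (α g) (α s) = c g s := by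
  have hconj : ∀ g, X * ρ g * Y = ρ (α g) := by
    intro g
    rw [hX g, mul_assoc, hXY, mul_one]
  have h1 : ρ (α g) * ρ (α s) = c g s • (ρ (α s) * ρ (α g)) := by
    calc ρ (α g) * ρ (α s) = X * ρ g * Y * (X * ρ s * Y) := by rw [hconj, hconj]
      _ = X * (ρ g * ρ s) * Y := by
        calc X * ρ g * Y * (X * ρ s * Y) = X * ρ g * (Y * X) * ρ s * Y := by
              simp only [mul_assoc]
          _ = X * (ρ g * ρ s) * Y := by rw [hYX, mul_one]; simp only [mul_assoc]
      _ = c g s • (X * (ρ s * ρ g) * Y) := by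
        rw [h.comm g s, mul_smul_comm, smul_mul_assoc]
      _ = c g s • (X * ρ s * (Y * X) * ρ g * Y) := by rw [hYX, mul_one]; simp only [mul_assoc]
      _ = c g s • (ρ (α s) * ρ (α g)) := by
        rw [← hconj s, ← hconj g]; simp only [mul_assoc]
  have h2 := h.comm (α g) (α s)
  rw [h1] at h2
  refine (smul_cancel ?_ h2).symm
  rw [← map_mul]
  exact rho_ne_zero ρ _

/-- if `ρ g' = ρ g` then `g'⁻¹ g` lies in the radical -/
theorem Heis.mem_of_rho_eq (h : Heis ρ Z c) {g g' : Q} (hgg : ρ g' = ρ g) : g'⁻¹ * g ∈ Z := by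
  apply h.nd
  intro x
  have h1 : c x g' = c x g := by
    have e1 := h.comm x g'
    have e2 := h.comm x g
    rw [hgg] at e1
    rw [e1] at e2
    refine smul_cancel ?_ e2
    rw [← map_mul]
    exact rho_ne_zero ρ _
  rw [h.c_mul_right, h.c_inv_right, h1, inv_mul_cancel₀ (h.c_ne_zero x g)]

/-- **Core theorem**: a fixed-point-free operator of prime order `r` normalizing a Heisenberg-like
representation with radical `Z` and acting freely on `Q / Z` forces `|Q : Z| ≤ (r - 1)²`. -/
theorem hh_core (h : Heis ρ Z c) (hQ : (Fintype.card Q : K) ≠ 0) (r : ℕ) (hr : r.Prime) (ζ : K)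
    (hζ : IsPrimitiveRoot ζ r) (hrK : (r : K) ≠ 0) (α : Q ≃* Q) (X : Module.End K U)
    (hXr : X ^ r = 1) (hX : ∀ g, X * ρ g = ρ (α g) * X) (hfix : ∀ u, X u = u → u = 0)
    (hfree : ∀ g, (α g)⁻¹ * g ∈ Z → g ∈ Z) :
    ∃ k : ℕ, Z.index = 1 + r * k ∧ k + 2 ≤ r := by
  classical
  haveI := h.normal
  obtain ⟨r', rfl⟩ : ∃ r', r = r' + 1 := ⟨r - 1, (Nat.succ_pred_eq_of_pos hr.pos).symm⟩
  set Y : Module.End K U := X ^ r' with hY
  have hXY : X * Y = 1 := by rw [hY, ← pow_succ', hXr]
  have hYX : Y * X = 1 := by rw [hY, ← pow_succ, hXr]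
  have hct := h.c_twist α X Y hXY hYX hX
  have hαZ : ∀ z, z ∈ Z ↔ α z ∈ Z := by
    intro z
    constructor
    · intro hz
      apply h.nd
      intro g
      have := hct (α.symm g) z
      rw [MulEquiv.apply_symm_apply] at this
      rw [this]
      exact h.c_mem_right _ hz
    · intro hz
      apply h.nd
      intro g
      rw [← hct g z]
      exact h.c_mem_right _ hz
  have hmap : Z.map (α : Q →* Q) = Z := by
    ext x
    rw [Subgroup.mem_map]
    constructor
    · rintro ⟨z, hz, rfl⟩
      exact (hαZ z).mp hz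
    · intro hx
      refine ⟨α.symm x, ?_, by simp⟩
      rw [hαZ]
      simpa using hx
  let a : MulAut (Q ⧸ Z) := QuotientGroup.congr Z Z α hmap
  have ha_mk : ∀ g : Q, a (QuotientGroup.mk g) = QuotientGroup.mk (α g) := fun g => rfl
  have ha_pow : ∀ (i : ℕ) (g : Q), (a ^ i) (QuotientGroup.mk g) = QuotientGroup.mk ((⇑α)^[i] g) := by
    intro i
    induction i with
    | zero => intro g; simp
    | succ i ih =>
      intro g
      rw [pow_succ', MulAut.mul_apply, ih, ha_mk, Function.iterate_succ_apply']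
  have hρpow : ∀ (i : ℕ) (g : Q), ρ ((⇑α)^[i] g) = X ^ i * ρ g * Y ^ i := by
    intro i
    induction i with
    | zero => intro g; simp
    | succ i ih =>
      intro g
      rw [Function.iterate_succ_apply', pow_succ', pow_succ]
      have e : ρ (α ((⇑α)^[i] g)) = X * ρ ((⇑α)^[i] g) * Y := by
        rw [hX, mul_assoc, hXY, mul_one]
      rw [e, ih]
      simp only [mul_assoc]
  have hYr : Y ^ (r' + 1) = 1 := by
    rw [hY, ← pow_mul, mul_comm, pow_mul, hXr, one_pow]
  have har : a ^ (r' + 1) = 1 := by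
    apply MulEquiv.ext
    intro b
    induction b using QuotientGroup.induction_on with
    | H g =>
      rw [ha_pow, MulAut.one_apply, QuotientGroup.eq]
      apply h.mem_of_rho_eq
      rw [hρpow, hXr, hYr, one_mul, mul_one]
  have hfree' : ∀ b : Q ⧸ Z, a b = b → b = 1 := by
    intro b
    induction b using QuotientGroup.induction_on with
    | H g =>
      intro hb
      rw [ha_mk, QuotientGroup.eq] at hb
      exact (QuotientGroup.eq_one_iff g).mpr (hfree g hb)
  obtain ⟨TH, hcov, hcard⟩ := exists_orbit_reps a (r' + 1) hr har hfree'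
  let T : Finset Q := TH.image Quotient.out
  have hTcard : T.card = TH.card := Finset.card_image_of_injective _ Quotient.out_injective
  have hT : ∀ s : Q, ∃ t ∈ T, ∃ i : ℕ, ((⇑α)^[i] t)⁻¹ * s ∈ Z := by
    intro s
    obtain ⟨tH, htH, i, hi⟩ := hcov (QuotientGroup.mk s)
    refine ⟨tH.out, Finset.mem_image.mpr ⟨tH, htH, rfl⟩, i, ?_⟩
    rw [← QuotientGroup.eq, ← ha_pow, QuotientGroup.out_eq']
    exact hi
  have e1 := h.index_mul_finrank_le hQ
  have e2 := finrank_sq_le X ζ (r' + 1) hζ hrK hXr hfix
  have e3 := h.finrank_centX_le hQ α X Y hXY hYX hX T hT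
  have e4 : finrank K (Module.End K U) = finrank K U * finrank K U := Module.finrank_linearMap _ _ _ _
  have hcpos : 0 < finrank K (cent (Set.range ρ)) := by
    rw [Module.finrank_pos_iff_exists_ne_zero]
    refine ⟨⟨1, one_mem_cent _⟩, ?_⟩
    intro h0
    exact end_one_ne_zero (congrArg Subtype.val h0)
  have hN : Nat.card (Q ⧸ Z) = Z.index := (Subgroup.index_eq_card Z).symm
  rw [hN, hTcard.symm] at hcard
  set N := Z.index with hNdef
  set m := T.card with hm
  set cd := finrank K (cent (Set.range ρ)) with hcd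
  have e5 : N * cd ≤ r' * (m * cd) := by
    calc N * cd ≤ finrank K (Module.End K U) := e1
      _ = finrank K U ^ 2 := by rw [e4, sq]
      _ ≤ (r' + 1 - 1) * finrank K (cent ({X} : Set (Module.End K U))) := e2
      _ ≤ r' * (m * cd) := by
        rw [Nat.add_sub_cancel]
        exact Nat.mul_le_mul_left _ e3
  have e6 : N ≤ r' * m := by
    have : N * cd ≤ (r' * m) * cd := by rw [mul_assoc]; exact e5
    exact Nat.le_of_mul_le_mul_right this hcpos
  have hNpos : 1 ≤ N := Nat.one_le_iff_ne_zero.mpr (Subgroup.index_ne_zero_of_finite)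
  have hmpos : 1 ≤ m := by
    by_contra hcon
    have : m = 0 := by omega
    rw [this] at e6
    omega
  obtain ⟨k, hk⟩ := Nat.exists_eq_add_of_le hmpos
  refine ⟨k, ?_, ?_⟩
  · rw [hk] at hcard
    have : N + (r' + 1) = 1 + (r' + 1) * k + (r' + 1) := by rw [hcard]; ring
    omega
  · rw [hk] at hcard e6
    have e7 : N = 1 + (r' + 1) * k := by
      have : N + (r' + 1) = 1 + (r' + 1) * k + (r' + 1) := by rw [hcard]; ring
      omega
    rw [e7] at e6
    have : 1 + (r' + 1) * k ≤ r' * (1 + k) := e6
    have e8 : (r' + 1) * k = r' * k + k := by ring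
    have e9 : r' * (1 + k) = r' + r' * k := by ring
    omega

end Cfsg.Agent.Lib.Helper24.HH
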