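import Mathlib

/-!
# Invariant subspaces, irreducible families of operators, Schur's lemma
-/

set_option autoImplicit false
set_option linter.unusedSectionVars false
set_option linter.unusedVariables false
set_option linter.style.haveILetI false

namespace Cfsg.Agent.Lib.Helper24.HH

open Module

variable {K U Q : Type*} [Field K] [AddCommGroup U] [Module K U] [Group Q]

/-- `W` is invariant under every operator of the family -/
def Inv (S : Set (Module.End K U)) (W : Submodule K U) : Prop := ∀ T ∈ S, ∀ w ∈ W, T w ∈ W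

/-- no invariant subspaces except `⊥` and `⊤` -/
def Irr (S : Set (Module.End K U)) : Prop := ∀ W : Submodule K U, Inv S W → W = ⊥ ∨ W = ⊤

/-- the operators on `W` induced by the family `S` -/
def resSet (S : Set (Module.End K U)) (W : Submodule K U) : Set (Module.End K W) :=
  {T' | ∃ T ∈ S, ∀ w : W, ((T' w : W) : U) = T (w : U)}

/-- a nonzero invariant subspace contains an irreducible one -/
theorem exists_irr [FiniteDimensional K U] (S : Set (Module.End K U)) (U₁ : Submodule K U)
    (h₁ : Inv S U₁) (hne : U₁ ≠ ⊥) :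
    ∃ W : Submodule K U, W ≤ U₁ ∧ W ≠ ⊥ ∧ Inv S W ∧ Irr (resSet S W) := by
  have hwf : WellFounded ((· < ·) : Submodule K U → Submodule K U → Prop) := wellFounded_lt
  let C : Set (Submodule K U) := {W | W ≤ U₁ ∧ W ≠ ⊥ ∧ Inv S W}
  have hC : C.Nonempty := ⟨U₁, le_refl _, hne, h₁⟩
  obtain ⟨W, hWC, hmin⟩ := hwf.has_min C hC
  refine ⟨W, hWC.1, hWC.2.1, hWC.2.2, ?_⟩
  intro W' hW'
  let W₂ : Submodule K U := W'.map W.subtype
  have hW₂le : W₂ ≤ W := by
    rintro u ⟨w, _, rfl⟩
    exact w.2
  have hW₂inv : Inv S W₂ := by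
    rintro T hT u ⟨w, hw, rfl⟩
    have hTw : T (w : U) ∈ W := hWC.2.2 T hT _ w.2
    let T' : Module.End K W := T.restrict (hWC.2.2 T hT)
    have hT' : T' ∈ resSet S W := ⟨T, hT, fun w => rfl⟩
    exact ⟨T' w, hW' T' hT' w hw, rfl⟩
  by_cases h0 : W₂ = ⊥
  · left
    rw [Submodule.eq_bot_iff]
    intro w hw
    have : (w : U) ∈ W₂ := ⟨w, hw, rfl⟩
    rw [h0, Submodule.mem_bot] at this
    exact Subtype.ext this
  · right
    have hW₂C : W₂ ∈ C := ⟨hW₂le.trans hWC.1, h0, hW₂inv⟩
    have hnlt : ¬ W₂ < W := hmin W₂ hW₂C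
    have heq : W₂ = W := by
      rcases lt_or_eq_of_le hW₂le with h | h
      · exact absurd h hnlt
      · exact h
    rw [Submodule.eq_top_iff']
    intro w
    have : (w : U) ∈ W₂ := by rw [heq]; exact w.2
    obtain ⟨w', hw', hww'⟩ := this
    have : w' = w := Subtype.ext hww'
    rw [← this]
    exact hw'

/-- restriction of a representation to an invariant subspace -/
def resHom (ρ : Q →* Module.End K U) (W : Submodule K U) (hW : ∀ g, ∀ w ∈ W, ρ g w ∈ W) :
    Q →* Module.End K W where
  toFun g := (ρ g).restrict (hW g)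
  map_one' := by
    apply LinearMap.ext
    intro w
    apply Subtype.ext
    simp [LinearMap.restrict_apply]
  map_mul' := fun g t => by
    apply LinearMap.ext
    intro w
    apply Subtype.ext
    simp [LinearMap.restrict_apply]

theorem resHom_apply (ρ : Q →* Module.End K U) (W : Submodule K U)
    (hW : ∀ g, ∀ w ∈ W, ρ g w ∈ W) (g : Q) (w : W) :
    ((resHom ρ W hW g w : W) : U) = ρ g (w : U) := rfl

/-- **Schur's lemma**: over an algebraically closed field an operator commuting with an
irreducible family is a scalar -/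
theorem schur [IsAlgClosed K] [FiniteDimensional K U] [Nontrivial U]
    (S : Set (Module.End K U)) (hirr : Irr S) (T : Module.End K U)
    (hT : ∀ R ∈ S, T * R = R * T) : ∃ μ : K, T = μ • (1 : Module.End K U) := by
  obtain ⟨μ, hμ⟩ := Module.End.exists_eigenvalue T
  refine ⟨μ, ?_⟩
  have hinv : Inv S (Module.End.eigenspace T μ) := by
    intro R hR w hw
    rw [Module.End.mem_eigenspace_iff] at hw ⊢
    have h1 : T (R w) = R (T w) := by
      have := congrArg (fun f : Module.End K U => f w) (hT R hR)
      simpa using this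
    rw [h1, hw, map_smul]
  rcases hirr _ hinv with h | h
  · exact absurd h hμ
  · apply LinearMap.ext
    intro u
    have : u ∈ Module.End.eigenspace T μ := by rw [h]; trivial
    rw [Module.End.mem_eigenspace_iff] at this
    rw [this]
    simp

end Cfsg.Agent.Lib.Helper24.HH
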