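import Mathlib
import Cfsg.Agent.Lib.Helper24.HHDim
import Cfsg.Agent.Lib.Helper24.HHIrr

/-!
# The index of the radical of a Heisenberg-like representation is a square
-/

set_option autoImplicit false
set_option linter.unusedSectionVars false
set_option linter.unusedVariables false
set_option linter.style.haveILetI false

namespace Cfsg.Agent.Lib.Helper24.HH

open Module Finset

variable {K U Q : Type*} [Field K] [AddCommGroup U] [Module K U] [Group Q]

/-- restriction of a Heisenberg-like representation to an invariant subspace -/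
theorem Heis.restrict {ρ : Q →* Module.End K U} {Z : Subgroup Q} {c : Q → Q → K}
    (h : Heis ρ Z c) (W : Submodule K U) (hW : ∀ g, ∀ w ∈ W, ρ g w ∈ W) :
    Heis (resHom ρ W hW) Z c where
  comm := by
    intro g t
    apply LinearMap.ext
    intro w
    apply Subtype.ext
    have := congrArg (fun f : Module.End K U => f (w : U)) (h.comm g t)
    simpa [resHom_apply] using this
  scal := by
    intro z hz
    obtain ⟨s, hs⟩ := h.scal z hz
    refine ⟨s, ?_⟩
    apply LinearMap.ext
    intro w
    apply Subtype.ext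
    have := congrArg (fun f : Module.End K U => f (w : U)) hs
    simpa [resHom_apply] using this
  nd := h.nd

variable [Nontrivial U] [Fintype Q] [FiniteDimensional K U]
variable {ρ : Q →* Module.End K U} {Z : Subgroup Q} {c : Q → Q → K}

/-- the translates of the commutant span `End K U` -/
theorem Heis.finrank_end_le (h : Heis ρ Z c) (hQ : (Fintype.card Q : K) ≠ 0) :
    finrank K (Module.End K U) ≤ Z.index * finrank K (cent (Set.range ρ)) := by
  classical
  haveI := h.normal
  let T : Finset Q := (Finset.univ : Finset (Q ⧸ Z)).image Quotient.out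
  have hTcard : T.card = Z.index := by
    rw [Finset.card_image_of_injective _ Quotient.out_injective, Finset.card_univ,
      Subgroup.index_eq_card, Nat.card_eq_fintype_card]
    rfl
  have hT : ∀ s : Q, ∃ t ∈ T, ∃ i : ℕ, ((⇑(MulEquiv.refl Q))^[i] t)⁻¹ * s ∈ Z := by
    intro s
    refine ⟨(QuotientGroup.mk s : Q ⧸ Z).out, Finset.mem_image.mpr ⟨_, Finset.mem_univ _, rfl⟩,
      0, ?_⟩
    rw [Function.iterate_zero, id, ← QuotientGroup.eq, QuotientGroup.out_eq']
  have e := h.finrank_centX_le hQ (MulEquiv.refl Q) 1 1 (one_mul 1) (one_mul 1)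
    (fun g => by rw [one_mul, MulEquiv.refl_apply, mul_one]) T hT
  have htop : cent ({1} : Set (Module.End K U)) = ⊤ := by
    rw [Submodule.eq_top_iff']
    intro φ g hg
    rw [Set.mem_singleton_iff.mp hg, one_mul, mul_one]
  rw [htop, finrank_top, hTcard] at e
  exact e

theorem Heis.index_mul_finrank_eq (h : Heis ρ Z c) (hQ : (Fintype.card Q : K) ≠ 0) :
    Z.index * finrank K (cent (Set.range ρ)) = finrank K U * finrank K U := by
  rw [← Module.finrank_linearMap K K U U]
  exact le_antisymm (h.index_mul_finrank_le hQ) (h.finrank_end_le hQ)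

/-- the index of the radical is a square -/
theorem Heis.index_eq_sq [IsAlgClosed K] (h : Heis ρ Z c) (hQ : (Fintype.card Q : K) ≠ 0) :
    ∃ d : ℕ, Z.index = d * d := by
  classical
  have htopinv : Inv (Set.range ρ) (⊤ : Submodule K U) := fun _ _ _ _ => trivial
  have htopne : (⊤ : Submodule K U) ≠ ⊥ := top_ne_bot
  obtain ⟨W, -, hWne, hWinv, hWirr⟩ := exists_irr (Set.range ρ) ⊤ htopinv htopne
  have hW : ∀ g, ∀ w ∈ W, ρ g w ∈ W := fun g w hw => hWinv (ρ g) ⟨g, rfl⟩ w hw
  haveI : Nontrivial W := Submodule.nontrivial_iff_ne_bot.mpr hWne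
  have h' := h.restrict W hW
  have hres : ∀ T' ∈ resSet (Set.range ρ) W, ∃ g, T' = resHom ρ W hW g := by
    rintro T' ⟨T, ⟨g, rfl⟩, hT⟩
    refine ⟨g, ?_⟩
    apply LinearMap.ext
    intro w
    apply Subtype.ext
    rw [hT w, resHom_apply]
  have hcd : finrank K (cent (Set.range (resHom ρ W hW))) = 1 := by
    apply finrank_eq_one (⟨1, one_mem_cent _⟩ : cent (Set.range (resHom ρ W hW)))
    · intro h0
      exact end_one_ne_zero (congrArg Subtype.val h0)
    · intro φ
      have hcomm : ∀ R ∈ resSet (Set.range ρ) W, (φ : Module.End K W) * R = R * φ := by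
        intro R hR
        obtain ⟨g, rfl⟩ := hres R hR
        exact (φ.2 _ ⟨g, rfl⟩).symm
      obtain ⟨μ, hμ⟩ := schur (resSet (Set.range ρ) W) hWirr φ hcomm
      refine ⟨μ, ?_⟩
      apply Subtype.ext
      rw [hμ]
      rfl
  have e := h'.index_mul_finrank_eq hQ
  rw [hcd, mul_one] at e
  exact ⟨_, e⟩

end Cfsg.Agent.Lib.Helper24.HH
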