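import Mathlib
import Cfsg.Agent.Lib.Helper24.HHSq
import Cfsg.Agent.Lib.Helper24.HHDual

/-!
# Hall–Higman type theorem, linear form

A fixed-point-free operator `X₀` of prime order `r` normalising a faithful representation of a
group `Q` of class two, such that the induced automorphism acts trivially on the centre, freely
on `Q / Z(Q)`, and such that `Q` is "central-irreducible", forces
`|Q : Z(Q)| = d² = 1 + r k` with `k + 2 ≤ r`.
-/

set_option autoImplicit false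
set_option linter.unusedSectionVars false
set_option linter.unusedVariables false
set_option linter.style.haveILetI false

namespace Cfsg.Agent.Lib.Helper24.HH

open Module
open scoped commutatorElement

theorem restrict_pow {K U : Type*} [Field K] [AddCommGroup U] [Module K U]
    (X₀ : Module.End K U) (W : Submodule K U) (hWX : ∀ w ∈ W, X₀ w ∈ W) (i : ℕ) (w : W) :
    ((((X₀.restrict hWX : Module.End K W) ^ i) w : W) : U) = (X₀ ^ i) (w : U) := by
  induction i generalizing w with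
  | zero => simp
  | succ i ih =>
    rw [pow_succ, pow_succ, Module.End.mul_apply, Module.End.mul_apply, ih]
    rfl

theorem hh_linear {K U Q : Type*} [Field K] [IsAlgClosed K] [AddCommGroup U] [Module K U]
    [FiniteDimensional K U] [Group Q] [Finite Q]
    (ρ₀ : Q →* Module.End K U) (X₀ : Module.End K U) (α : Q ≃* Q) (r : ℕ) (hr : r.Prime)
    (hrK : (r : K) ≠ 0) (hQK : (Nat.card Q : K) ≠ 0)
    (hXr : X₀ ^ r = 1) (hX : ∀ g, X₀ * ρ₀ g = ρ₀ (α g) * X₀) (hfix : ∀ u, X₀ u = u → u = 0)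
    (hinj : ∀ g, ρ₀ g = 1 → g = 1)
    (H1 : ∀ g t : Q, ⁅g, t⁆ ∈ Subgroup.center Q)
    (H2 : ∀ z ∈ Subgroup.center Q, α z = z)
    (H3 : ∀ M : Subgroup Q, M ≤ Subgroup.center Q → (∃ g t : Q, ⁅g, t⁆ ∉ M) →
      ∀ t : Q, (∀ g : Q, ⁅g, t⁆ ∈ M) → t ∈ Subgroup.center Q)
    (H4 : ∀ g : Q, (α g)⁻¹ * g ∈ Subgroup.center Q → g ∈ Subgroup.center Q)
    (H5 : ∃ g t : Q, ⁅g, t⁆ ≠ 1) :
    ∃ k d : ℕ, (Subgroup.center Q).index = 1 + r * k ∧ k + 2 ≤ r ∧
      (Subgroup.center Q).index = d * d := by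
  classical
  haveI : Fintype Q := Fintype.ofFinite Q
  have hQK' : (Fintype.card Q : K) ≠ 0 := by rwa [← Nat.card_eq_fintype_card]
  obtain ⟨g₀, t₀, hz₀⟩ := H5
  set z₀ : Q := ⁅g₀, t₀⁆ with hz₀def
  have hz₀c : z₀ ∈ Subgroup.center Q := H1 g₀ t₀
  have hcomm_z : ∀ z ∈ Subgroup.center Q, ∀ g : Q, ρ₀ z * ρ₀ g = ρ₀ g * ρ₀ z := by
    intro z hz g
    rw [← map_mul, ← map_mul, (Subgroup.mem_center_iff.mp hz g)]
  have hcomm_X : ∀ z ∈ Subgroup.center Q, ρ₀ z * X₀ = X₀ * ρ₀ z := by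
    intro z hz
    rw [hX z, H2 z hz]
  have hρz₀ : ρ₀ z₀ ≠ 1 := fun h => hz₀ (hinj _ h)
  set n := Fintype.card Q with hn
  haveI : NeZero (n : K) := ⟨hQK'⟩
  obtain ⟨ζ, hζ⟩ := HasEnoughRootsOfUnity.exists_primitiveRoot K n
  have hpow : (ρ₀ z₀) ^ n = 1 := by rw [← map_pow, hn, pow_card_eq_one, map_one]
  have hsup := iSup_eigenspace_eq_top (ρ₀ z₀) ζ n hζ hQK' hpow
  have hex : ∃ k : Fin n, ζ ^ (k : ℕ) ≠ 1 ∧ (ρ₀ z₀).eigenspace (ζ ^ (k : ℕ)) ≠ ⊥ := by
    by_contra hcon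
    simp only [not_exists, not_and, not_not] at hcon
    apply hρz₀
    have h1 : (ρ₀ z₀).eigenspace 1 = ⊤ := by
      rw [eq_top_iff, ← hsup]
      apply iSup_le
      intro k
      by_cases hk : ζ ^ (k : ℕ) = 1
      · rw [hk]
      · rw [hcon k hk]; exact bot_le
    apply LinearMap.ext
    intro u
    have hu : u ∈ (ρ₀ z₀).eigenspace 1 := by rw [h1]; trivial
    rw [Module.End.mem_eigenspace_iff, one_smul] at hu
    simpa using hu
  obtain ⟨k₁, hζ₁, hU₁⟩ := hex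
  set ζ₁ := ζ ^ (k₁ : ℕ) with hζ₁def
  set U₁ := (ρ₀ z₀).eigenspace ζ₁ with hU₁def
  set S : Set (Module.End K U) := Set.range ρ₀ ∪ {X₀} with hS
  have hU₁inv : Inv S U₁ := by
    rintro T (⟨g, rfl⟩ | hT) w hw
    · rw [hU₁def, Module.End.mem_eigenspace_iff] at hw ⊢
      calc ρ₀ z₀ (ρ₀ g w) = (ρ₀ z₀ * ρ₀ g) w := rfl
        _ = (ρ₀ g * ρ₀ z₀) w := by rw [hcomm_z z₀ hz₀c g]
        _ = ρ₀ g (ρ₀ z₀ w) := rfl
        _ = ζ₁ • ρ₀ g w := by rw [hw, map_smul]
    · rw [Set.mem_singleton_iff] at hT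
      rw [hT]
      rw [hU₁def, Module.End.mem_eigenspace_iff] at hw ⊢
      calc ρ₀ z₀ (X₀ w) = (ρ₀ z₀ * X₀) w := rfl
        _ = (X₀ * ρ₀ z₀) w := by rw [hcomm_X z₀ hz₀c]
        _ = X₀ (ρ₀ z₀ w) := rfl
        _ = ζ₁ • X₀ w := by rw [hw, map_smul]
  obtain ⟨W, hWU₁, hWne, hWinv, hWirr⟩ := exists_irr S U₁ hU₁inv hU₁
  have hW : ∀ g, ∀ w ∈ W, ρ₀ g w ∈ W := fun g w hw => hWinv (ρ₀ g) (Or.inl ⟨g, rfl⟩) w hw
  have hWX : ∀ w ∈ W, X₀ w ∈ W := fun w hw => hWinv X₀ (Or.inr rfl) w hw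
  haveI : Nontrivial W := Submodule.nontrivial_iff_ne_bot.mpr hWne
  set ρ := resHom ρ₀ W hW with hρ
  set X : Module.End K W := X₀.restrict hWX with hXdef
  have hρapp : ∀ g (w : W), ((ρ g w : W) : U) = ρ₀ g (w : U) := fun g w => rfl
  have hXapp : ∀ (w : W), ((X w : W) : U) = X₀ (w : U) := fun w => rfl
  have hres : ∀ T' ∈ resSet S W, (∃ g, T' = ρ g) ∨ T' = X := by
    rintro T' ⟨T, (⟨g, rfl⟩ | hT), hTT'⟩
    · left
      refine ⟨g, ?_⟩
      apply LinearMap.ext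
      intro w
      apply Subtype.ext
      rw [hTT' w, hρapp]
    · right
      rw [Set.mem_singleton_iff] at hT
      apply LinearMap.ext
      intro w
      apply Subtype.ext
      rw [hTT' w, hXapp, hT]
  have hρX : ∀ z ∈ Subgroup.center Q, ρ z * X = X * ρ z := by
    intro z hz
    apply LinearMap.ext
    intro w
    apply Subtype.ext
    have := congrArg (fun f : Module.End K U => f (w : U)) (hcomm_X z hz)
    simpa [hρapp, hXapp] using this
  have hscal : ∀ z ∈ Subgroup.center Q, ∃ s : K, ρ z = s • (1 : Module.End K W) := by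
    intro z hz
    apply schur (resSet S W) hWirr
    intro R hR
    rcases hres R hR with ⟨g, rfl⟩ | rfl
    · rw [← map_mul, ← map_mul, (Subgroup.mem_center_iff.mp hz g)]
    · exact hρX z hz
  let lam : Q → K := fun z =>
    if hz : z ∈ Subgroup.center Q then Classical.choose (hscal z hz) else 0
  have hlam : ∀ z ∈ Subgroup.center Q, ρ z = lam z • (1 : Module.End K W) := by
    intro z hz
    have := Classical.choose_spec (hscal z hz)
    simp only [lam, dif_pos hz]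
    exact this
  let c : Q → Q → K := fun g t => lam ⁅g, t⁆
  have hc : ∀ g t, ρ ⁅g, t⁆ = c g t • (1 : Module.End K W) := fun g t => hlam _ (H1 g t)
  have hz₀W : ρ z₀ ≠ 1 := by
    intro h1
    obtain ⟨w, hw⟩ := exists_ne (0 : W)
    apply hw
    have h2 : ((ρ z₀ w : W) : U) = (w : U) := by rw [h1]; rfl
    rw [hρapp] at h2
    have h3 : (w : U) ∈ U₁ := hWU₁ w.2
    rw [hU₁def, Module.End.mem_eigenspace_iff] at h3
    rw [h3] at h2
    have h4 : (ζ₁ - 1) • (w : U) = 0 := by rw [sub_smul, h2, one_smul, sub_self]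
    rcases smul_eq_zero.mp h4 with h5 | h5
    · exact absurd (sub_eq_zero.mp h5) hζ₁
    · exact Subtype.ext h5
  have hHeis : Heis ρ (Subgroup.center Q) c := by
    refine ⟨?_, hscal, ?_⟩
    · intro g t
      have e : g * t = ⁅g, t⁆ * (t * g) := by rw [commutatorElement_def]; group
      rw [← map_mul, e, map_mul, hc, map_mul, smul_mul_assoc, one_mul]
    · intro t ht
      let M : Subgroup Q := Subgroup.center Q ⊓ ρ.ker
      have hz₀M : z₀ ∉ M := by
        intro hm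
        exact hz₀W (MonoidHom.mem_ker.mp hm.2)
      apply H3 M inf_le_left ⟨g₀, t₀, hz₀M⟩ t
      intro g
      refine ⟨H1 g t, ?_⟩
      show ⁅g, t⁆ ∈ ρ.ker
      rw [MonoidHom.mem_ker, hc, ht g, one_smul]
  haveI : NeZero (r : K) := ⟨hrK⟩
  obtain ⟨ζr, hζr⟩ := HasEnoughRootsOfUnity.exists_primitiveRoot K r
  have hXr' : X ^ r = 1 := by
    apply LinearMap.ext
    intro w
    apply Subtype.ext
    rw [hXdef, restrict_pow, hXr]
    rfl
  have hX' : ∀ g, X * ρ g = ρ (α g) * X := by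
    intro g
    apply LinearMap.ext
    intro w
    apply Subtype.ext
    have := congrArg (fun f : Module.End K U => f (w : U)) (hX g)
    simpa [hρapp, hXapp] using this
  have hfix' : ∀ w : W, X w = w → w = 0 := by
    intro w hw
    apply Subtype.ext
    apply hfix
    rw [← hXapp, hw]
  obtain ⟨k, hk1, hk2⟩ := hh_core hHeis hQK' r hr ζr hζr hrK α X hXr' hX' hfix' H4
  obtain ⟨d, hd⟩ := hHeis.index_eq_sq hQK'
  exact ⟨k, d, hk1, hk2, hd⟩

end Cfsg.Agent.Lib.Helper24.HH
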