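import Mathlib
import Cfsg.Agent.Lib.Helper24.HHRep

/-!
# Hall–Higman type theorem for automorphisms of an elementary abelian group, and arithmetic
-/

set_option autoImplicit false
set_option linter.unusedSectionVars false
set_option linter.unusedVariables false
set_option linter.style.haveILetI false

namespace Cfsg.Agent.Lib.Helper24.HH

open scoped commutatorElement

theorem natCast_ne_zero_of_not_dvd (K : Type*) [Field K] (p : ℕ) [CharP K p] (n : ℕ)
    (h : ¬ p ∣ n) : (n : K) ≠ 0 := by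
  intro h0
  exact h ((CharP.cast_eq_zero_iff K p n).mp h0)

theorem hh_aut {A : Type*} [CommGroup A] [Finite A] {p : ℕ} [Fact p.Prime]
    (hA : ∀ a : A, a ^ p = 1) {Q : Type*} [Group Q] [Finite Q] (ψ : Q →* MulAut A)
    (hψ : Function.Injective ψ) (x : MulAut A) (α : Q ≃* Q) (r : ℕ) (hr : r.Prime)
    (hpr : p ≠ r) (hpQ : ¬ p ∣ Nat.card Q) (hxr : x ^ r = 1)
    (hx : ∀ g, x * ψ g = ψ (α g) * x) (hfix : ∀ v, x v = v → v = 1)
    (H1 : ∀ g t : Q, ⁅g, t⁆ ∈ Subgroup.center Q)
    (H2 : ∀ z ∈ Subgroup.center Q, α z = z)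
    (H3 : ∀ M : Subgroup Q, M ≤ Subgroup.center Q → (∃ g t : Q, ⁅g, t⁆ ∉ M) →
      ∀ t : Q, (∀ g : Q, ⁅g, t⁆ ∈ M) → t ∈ Subgroup.center Q)
    (H4 : ∀ g : Q, (α g)⁻¹ * g ∈ Subgroup.center Q → g ∈ Subgroup.center Q)
    (H5 : ∃ g t : Q, ⁅g, t⁆ ≠ 1) :
    ∃ k d : ℕ, (Subgroup.center Q).index = 1 + r * k ∧ k + 2 ≤ r ∧
      (Subgroup.center Q).index = d * d := by
  let K := AlgebraicClosure (ZMod p)
  haveI : CharP K p := charP_of_injective_algebraMap (algebraMap (ZMod p) K).injective p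
  have hp : p.Prime := Fact.out
  have hrK : (r : K) ≠ 0 := natCast_ne_zero_of_not_dvd K p r (by
    intro h
    exact hpr ((Nat.prime_dvd_prime_iff_eq hp hr).mp h))
  have hQK : (Nat.card Q : K) ≠ 0 := natCast_ne_zero_of_not_dvd K p _ hpQ
  refine hh_linear (K := K) ((dualRep K).comp ψ) (dualRep K x) α r hr hrK hQK ?_ ?_ ?_ ?_
    H1 H2 H3 H4 H5
  · rw [← map_pow, hxr, map_one]
  · intro g
    rw [MonoidHom.comp_apply, MonoidHom.comp_apply, ← map_mul, ← map_mul, hx]
  · intro u hu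
    exact dualRep_fixed K x hfix u hu
  · intro g hg
    rw [MonoidHom.comp_apply] at hg
    have := dualRep_eq_one K hA _ hg
    exact hψ (by rw [this, map_one])

/-- the arithmetic conclusion -/
theorem hh_arith {q r N k d a : ℕ} (hq : q.Prime) (hr : r.Prime) (hN : N = q ^ a) (hN1 : N ≠ 1)
    (h1 : N = 1 + r * k) (h2 : k + 2 ≤ r) (h3 : N = d * d) :
    q = 2 ∧ ∃ n : ℕ, r = 2 ^ n + 1 ∧ N = 2 ^ (2 * n) := by
  have hdq : d ∣ q ^ a := by rw [← hN, h3]; exact dvd_mul_right d d
  obtain ⟨m, -, hm⟩ := (Nat.dvd_prime_pow hq).mp hdq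
  have hd2 : 2 ≤ d := by
    rcases Nat.lt_or_ge d 2 with h | h
    · interval_cases d
      · exfalso; omega
      · exfalso; exact hN1 (by rw [h3])
    · exact h
  -- d + 1 ≤ r
  have hle : d + 1 ≤ r := by
    by_contra hlt
    have hrd : r ≤ d := by omega
    have : r * k + 2 * r ≤ r * r := by
      calc r * k + 2 * r = r * (k + 2) := by ring
        _ ≤ r * r := Nat.mul_le_mul_left r h2
    have h4 : d * d ≤ 1 + r * k := by rw [← h3, ← h1]
    have h5 : r * r ≤ d * d := Nat.mul_le_mul hrd hrd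
    have hr2 : 2 ≤ r := hr.two_le
    nlinarith
  have hdvd : r ∣ (d - 1) * (d + 1) := by
    have : (d - 1) * (d + 1) = r * k := by
      have hd1 : 1 ≤ d := by omega
      zify [hd1]
      have : (d : ℤ) * d = 1 + r * k := by exact_mod_cast (h3.symm.trans h1)
      linarith
    rw [this]
    exact dvd_mul_right r k
  have hr_eq : r = d + 1 := by
    rcases (Nat.Prime.dvd_mul hr).mp hdvd with h | h
    · exfalso
      have := Nat.le_of_dvd (by omega) h
      omega
    · have := Nat.le_of_dvd (by omega) h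
      omega
  have hm1 : 1 ≤ m := by
    rcases Nat.eq_zero_or_pos m with h | h
    · rw [h, pow_zero] at hm; omega
    · exact h
  have hq2 : q = 2 := by
    rcases hq.eq_two_or_odd' with h | h
    · exact h
    · exfalso
      have hodd : Odd d := by rw [hm]; exact h.pow
      have hev : Even r := by
        rw [hr_eq]
        exact hodd.add_one
      have : r = 2 := (Nat.Prime.even_iff hr).mp hev
      omega
  refine ⟨hq2, m, ?_, ?_⟩
  · rw [hr_eq, hm, hq2]
  · rw [h3, hm, hq2, two_mul, pow_add]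

end Cfsg.Agent.Lib.Helper24.HH
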