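import Mathlib
import Cfsg.Agent.Lib.Helper24.HHLin
import Cfsg.Agent.Lib.Helper24.HHIrr
import Cfsg.Agent.Lib.Helper24.HHDual
import Cfsg.Agent.Lib.Helper24.HHAut

/-!
# The abelian case: a fixed-point-free operator of prime order normalising a faithful abelian
group of operators, acting freely on it, cannot exist.
-/

set_option autoImplicit false
set_option linter.unusedSectionVars false
set_option linter.unusedVariables false
set_option linter.style.haveILetI false

namespace Cfsg.Agent.Lib.Helper24.HH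

open Module

theorem exists_eigenspace_ne_one {K U : Type*} [Field K] [IsAlgClosed K] [AddCommGroup U]
    [Module K U] (T : Module.End K U) (n : ℕ) (hn : (n : K) ≠ 0) (hT : T ^ n = 1) (hT1 : T ≠ 1) :
    ∃ ζ₁ : K, ζ₁ ≠ 1 ∧ T.eigenspace ζ₁ ≠ ⊥ := by
  haveI : NeZero (n : K) := ⟨hn⟩
  obtain ⟨ζ, hζ⟩ := HasEnoughRootsOfUnity.exists_primitiveRoot K n
  have hsup := iSup_eigenspace_eq_top T ζ n hζ hn hT
  by_contra hcon
  simp only [not_exists, not_and, not_not] at hcon
  apply hT1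
  have h1 : T.eigenspace 1 = ⊤ := by
    rw [eq_top_iff, ← hsup]
    apply iSup_le
    intro k
    by_cases hk : ζ ^ (k : ℕ) = 1
    · rw [hk]
    · rw [hcon _ hk]; exact bot_le
  apply LinearMap.ext
  intro u
  have hu : u ∈ T.eigenspace 1 := by rw [h1]; trivial
  rw [Module.End.mem_eigenspace_iff, one_smul] at hu
  simpa using hu

theorem exists_common_eigenvector {K U S : Type*} [Field K] [IsAlgClosed K] [AddCommGroup U]
    [Module K U] [FiniteDimensional K U] [Group S]
    (ρ₀ : S →* Module.End K U) (hcomm : ∀ s t, ρ₀ s * ρ₀ t = ρ₀ t * ρ₀ s)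
    (U₁ : Submodule K U) (hU₁ : ∀ s, ∀ u ∈ U₁, ρ₀ s u ∈ U₁) (hne : U₁ ≠ ⊥) :
    ∃ w ∈ U₁, w ≠ 0 ∧ ∃ lam : S → K, ∀ s, ρ₀ s w = lam s • w := by
  have hinv : Inv (Set.range ρ₀) U₁ := by
    rintro T ⟨s, rfl⟩ u hu
    exact hU₁ s u hu
  obtain ⟨W, hWU₁, hWne, hWinv, hWirr⟩ := exists_irr (Set.range ρ₀) U₁ hinv hne
  have hW : ∀ g, ∀ w ∈ W, ρ₀ g w ∈ W := fun g w hw => hWinv (ρ₀ g) ⟨g, rfl⟩ w hw
  haveI : Nontrivial W := Submodule.nontrivial_iff_ne_bot.mpr hWne
  have hres : ∀ T' ∈ resSet (Set.range ρ₀) W, ∃ g, T' = resHom ρ₀ W hW g := by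
    rintro T' ⟨T, ⟨g, rfl⟩, hT⟩
    refine ⟨g, ?_⟩
    apply LinearMap.ext
    intro w
    apply Subtype.ext
    rw [hT w, resHom_apply]
  have hscal : ∀ s, ∃ μ : K, resHom ρ₀ W hW s = μ • (1 : Module.End K W) := by
    intro s
    apply schur (resSet (Set.range ρ₀) W) hWirr
    intro R hR
    obtain ⟨t, rfl⟩ := hres R hR
    apply LinearMap.ext
    intro w
    apply Subtype.ext
    have := congrArg (fun f : Module.End K U => f (w : U)) (hcomm s t)
    simpa [resHom_apply] using this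
  obtain ⟨w, hw⟩ := exists_ne (0 : W)
  refine ⟨w, hWU₁ w.2, fun h => hw (Subtype.ext h), fun s => Classical.choose (hscal s), ?_⟩
  intro s
  have h1 := Classical.choose_spec (hscal s)
  have h2 := congrArg (fun f : Module.End K W => ((f w : W) : U)) h1
  simpa [resHom_apply] using h2

theorem sum_char_eq_zero {S K : Type*} [Group S] [Fintype S] [Field K] (χ : S → K)
    (hmul : ∀ s t, χ (s * t) = χ s * χ t) (s₁ : S) (h1 : χ s₁ ≠ 1) : ∑ s, χ s = 0 := by
  have h2 : ∑ s, χ s = χ s₁ * ∑ s, χ s := by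
    rw [Finset.mul_sum, ← Equiv.sum_comp (Equiv.mulLeft s₁)]
    apply Finset.sum_congr rfl
    intro s _
    rw [Equiv.coe_mulLeft, hmul]
  have h3 : (1 - χ s₁) * ∑ s, χ s = 0 := by
    rw [sub_mul, one_mul, ← h2, sub_self]
  rcases mul_eq_zero.mp h3 with h | h
  · exact absurd (sub_eq_zero.mp h).symm h1
  · exact h

theorem hh_abelian_linear {K U S : Type*} [Field K] [IsAlgClosed K] [AddCommGroup U]
    [Module K U] [FiniteDimensional K U] [Group S] [Finite S]
    (hScomm : ∀ s t : S, s * t = t * s)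
    (ρ₀ : S →* Module.End K U) (X₀ : Module.End K U) (α : MulAut S) (r : ℕ) (hr : r.Prime)
    (hSK : (Nat.card S : K) ≠ 0) (hXr : X₀ ^ r = 1) (hαr : α ^ r = 1)
    (hX : ∀ s, X₀ * ρ₀ s = ρ₀ (α s) * X₀) (hfix : ∀ u, X₀ u = u → u = 0)
    (hinj : ∀ s, ρ₀ s = 1 → s = 1) (hfree : ∀ s, α s = s → s = 1) : ∀ s : S, s = 1 := by
  classical
  haveI : Fintype S := Fintype.ofFinite S
  by_contra hcon
  simp only [not_forall] at hcon
  obtain ⟨s₀, hs₀⟩ := hcon
  have hρs₀ : ρ₀ s₀ ≠ 1 := fun h => hs₀ (hinj _ h)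
  have hpow : (ρ₀ s₀) ^ (Nat.card S) = 1 := by
    rw [← map_pow, pow_card_eq_one', map_one]
  obtain ⟨ζ₁, hζ₁, hU₁⟩ := exists_eigenspace_ne_one (ρ₀ s₀) (Nat.card S) hSK hpow hρs₀
  have hcomm : ∀ s t, ρ₀ s * ρ₀ t = ρ₀ t * ρ₀ s := by
    intro s t
    rw [← map_mul, ← map_mul, hScomm]
  have hU₁inv : ∀ s, ∀ u ∈ (ρ₀ s₀).eigenspace ζ₁, ρ₀ s u ∈ (ρ₀ s₀).eigenspace ζ₁ := by
    intro s u hu
    rw [Module.End.mem_eigenspace_iff] at hu ⊢
    calc ρ₀ s₀ (ρ₀ s u) = (ρ₀ s₀ * ρ₀ s) u := rfl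
      _ = (ρ₀ s * ρ₀ s₀) u := by rw [hcomm]
      _ = ρ₀ s (ρ₀ s₀ u) := rfl
      _ = ζ₁ • ρ₀ s u := by rw [hu, map_smul]
  obtain ⟨w, hwU₁, hw0, lam, hlam⟩ := exists_common_eigenvector ρ₀ hcomm _ hU₁inv hU₁
  have hcancel : ∀ a b : K, a • w = b • w → a = b := by
    intro a b hab
    have h1 : (a - b) • w = 0 := by rw [sub_smul, hab, sub_self]
    rcases smul_eq_zero.mp h1 with h | h
    · exact sub_eq_zero.mp h
    · exact absurd h hw0
  have hlam_s₀ : lam s₀ = ζ₁ := by
    apply hcancel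
    rw [← hlam s₀]
    exact Module.End.mem_eigenspace_iff.mp hwU₁
  have hlam_mul : ∀ s t, lam (s * t) = lam s * lam t := by
    intro s t
    apply hcancel
    rw [← hlam, map_mul, Module.End.mul_apply, hlam t, map_smul, hlam s, smul_smul, mul_comm]
  have hlam_one : lam 1 = 1 := by
    apply hcancel
    rw [← hlam, map_one, one_smul]
    rfl
  have hlam_inv : ∀ s, lam s * lam s⁻¹ = 1 := by
    intro s
    rw [← hlam_mul, mul_inv_cancel, hlam_one]
  have hlam_ne : ∀ s, lam s ≠ 0 := by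
    intro s h
    have := hlam_inv s
    rw [h, zero_mul] at this
    exact zero_ne_one this
  have hu : ∀ (i : ℕ) (s : S), ρ₀ ((α ^ i) s) ((X₀ ^ i) w) = lam s • (X₀ ^ i) w := by
    intro i
    induction i with
    | zero => intro s; simpa using hlam s
    | succ i ih =>
      intro s
      rw [pow_succ', pow_succ', MulAut.mul_apply, Module.End.mul_apply]
      calc ρ₀ (α ((α ^ i) s)) (X₀ ((X₀ ^ i) w))
          = (ρ₀ (α ((α ^ i) s)) * X₀) ((X₀ ^ i) w) := rfl
        _ = (X₀ * ρ₀ ((α ^ i) s)) ((X₀ ^ i) w) := by rw [hX]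
        _ = X₀ (ρ₀ ((α ^ i) s) ((X₀ ^ i) w)) := rfl
        _ = lam s • X₀ ((X₀ ^ i) w) := by rw [ih, map_smul]
  have hsum0 : ∑ i ∈ Finset.range r, (X₀ ^ i) w = 0 := by
    apply hfix
    rw [map_sum]
    have h1 : ∀ i ∈ Finset.range r, X₀ ((X₀ ^ i) w) = (X₀ ^ (i + 1)) w := by
      intro i _
      rw [pow_succ']
      rfl
    rw [Finset.sum_congr rfl h1]
    have h2 := Finset.sum_range_succ' (fun i => (X₀ ^ i) w) r
    have h3 := Finset.sum_range_succ (fun i => (X₀ ^ i) w) r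
    rw [h3] at h2
    simp only [hXr, pow_zero] at h2
    have h4 : ∑ i ∈ Finset.range r, (X₀ ^ (i + 1)) w + (1 : Module.End K U) w
        = ∑ x ∈ Finset.range r, (X₀ ^ x) w + (1 : Module.End K U) w := h2.symm
    exact add_right_cancel h4
  let Pi : Module.End K U := ∑ t : S, (lam t)⁻¹ • ρ₀ t
  have hPi : ∀ i : ℕ, Pi ((X₀ ^ i) w)
      = (∑ s : S, (lam ((α ^ i) s))⁻¹ * lam s) • (X₀ ^ i) w := by
    intro i
    simp only [Pi, LinearMap.sum_apply, LinearMap.smul_apply]
    rw [← Equiv.sum_comp ((α ^ i : MulAut S).toEquiv), Finset.sum_smul]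
    apply Finset.sum_congr rfl
    intro s _
    show (lam ((α ^ i) s))⁻¹ • ρ₀ ((α ^ i) s) ((X₀ ^ i) w) = _
    rw [hu, smul_smul]
  have hchi : ∀ i : ℕ, 0 < i → i < r → ∑ s : S, (lam ((α ^ i) s))⁻¹ * lam s = 0 := by
    intro i hi0 hir
    have hmul : ∀ s t, (lam ((α ^ i) (s * t)))⁻¹ * lam (s * t)
        = ((lam ((α ^ i) s))⁻¹ * lam s) * ((lam ((α ^ i) t))⁻¹ * lam t) := by
      intro s t
      rw [map_mul, hlam_mul, hlam_mul, mul_inv]
      ring
    by_contra hne
    have hall : ∀ s, lam ((α ^ i) s) = lam s := by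
      intro s
      by_contra hs
      apply hne
      apply sum_char_eq_zero _ hmul s
      intro h1
      apply hs
      have h2 : lam ((α ^ i) s) ≠ 0 := hlam_ne _
      field_simp at h1
      exact h1.symm
    have hall' : ∀ (m : ℕ) s, lam (((α ^ i) ^ m) s) = lam s := by
      intro m
      induction m with
      | zero => intro s; simp
      | succ m ih =>
        intro s
        rw [pow_succ', MulAut.mul_apply, hall, ih]
    have hcop : Nat.Coprime i r := by
      rw [Nat.coprime_comm, Nat.Prime.coprime_iff_not_dvd hr]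
      intro hdvd
      have := Nat.le_of_dvd hi0 hdvd
      omega
    obtain ⟨j, -, hj⟩ := Nat.exists_mul_mod_eq_one_of_coprime hcop hr.one_lt
    have hαij : (α ^ i) ^ j = α := by
      rw [← pow_mul, ← Nat.div_add_mod (i * j) r, hj, pow_add, pow_mul, hαr, one_pow, one_mul,
        pow_one]
    have hα1 : ∀ s, lam (α s) = lam s := by
      intro s
      have := hall' j s
      rwa [hαij] at this
    let β : S →* S :=
      { toFun := fun s => α s * s⁻¹
        map_one' := by simp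
        map_mul' := fun s t => by
          rw [map_mul, mul_inv_rev]
          calc α s * α t * (t⁻¹ * s⁻¹) = α s * (α t * t⁻¹) * s⁻¹ := by group
            _ = α s * (s⁻¹ * (α t * t⁻¹)) := by rw [mul_assoc, hScomm (α t * t⁻¹) s⁻¹]
            _ = α s * s⁻¹ * (α t * t⁻¹) := by group }
    have hβinj : Function.Injective β := by
      rw [injective_iff_map_eq_one]
      intro s hs
      apply hfree
      have : α s * s⁻¹ = 1 := hs
      exact mul_inv_eq_one.mp this
    have hβsurj : Function.Surjective β := Finite.injective_iff_surjective.mp hβinj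
    obtain ⟨s', hs'⟩ := hβsurj s₀
    have h1 : lam s₀ = 1 := by
      rw [← hs']
      show lam (α s' * s'⁻¹) = 1
      rw [hlam_mul, hα1, hlam_inv]
    rw [hlam_s₀] at h1
    exact hζ₁ h1
  have hfinal : Pi (∑ i ∈ Finset.range r, (X₀ ^ i) w) = (Nat.card S : K) • w := by
    rw [map_sum]
    rw [Finset.sum_eq_single 0]
    · rw [hPi 0]
      simp only [pow_zero, MulAut.one_apply]
      have : ∑ s : S, (lam s)⁻¹ * lam s = (Nat.card S : K) := by
        rw [Finset.sum_congr rfl (fun s _ => inv_mul_cancel₀ (hlam_ne s))]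
        simp [Nat.card_eq_fintype_card]
      rw [this]
      rfl
    · intro i hi hi0
      rw [hPi i, hchi i (Nat.pos_of_ne_zero hi0) (Finset.mem_range.mp hi), zero_smul]
    · intro h
      exact absurd (Finset.mem_range.mpr hr.pos) h
  rw [hsum0, map_zero] at hfinal
  rcases smul_eq_zero.mp hfinal.symm with h | h
  · exact hSK h
  · exact hw0 h

/-- the abelian case for automorphism groups of elementary abelian groups -/
theorem hh_abelian_aut {A : Type*} [CommGroup A] [Finite A] {p : ℕ} [Fact p.Prime]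
    (hA : ∀ a : A, a ^ p = 1) {S : Type*} [Group S] [Finite S] (hScomm : ∀ s t : S, s * t = t * s)
    (ψ : S →* MulAut A) (hψ : Function.Injective ψ) (x : MulAut A) (α : MulAut S) (r : ℕ)
    (hr : r.Prime) (hpS : ¬ p ∣ Nat.card S) (hxr : x ^ r = 1) (hαr : α ^ r = 1)
    (hx : ∀ g, x * ψ g = ψ (α g) * x) (hfix : ∀ v, x v = v → v = 1)
    (hfree : ∀ s, α s = s → s = 1) : ∀ s : S, s = 1 := by
  let K := AlgebraicClosure (ZMod p)
  haveI : CharP K p := charP_of_injective_algebraMap (algebraMap (ZMod p) K).injective p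
  have hSK : (Nat.card S : K) ≠ 0 := natCast_ne_zero_of_not_dvd K p _ hpS
  refine hh_abelian_linear (K := K) hScomm ((dualRep K).comp ψ) (dualRep K x) α r hr hSK ?_ hαr
    ?_ ?_ ?_ hfree
  · rw [← map_pow, hxr, map_one]
  · intro g
    rw [MonoidHom.comp_apply, MonoidHom.comp_apply, ← map_mul, ← map_mul, hx]
  · intro u hu
    exact dualRep_fixed K x hfix u hu
  · intro g hg
    rw [MonoidHom.comp_apply] at hg
    have := dualRep_eq_one K hA _ hg
    exact hψ (by rw [this, map_one])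

end Cfsg.Agent.Lib.Helper24.HH
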