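import Mathlib

/-!
# Structure of a minimal configuration: a nonabelian solvable group `Q` with an automorphism `α`
fixing every proper invariant subgroup pointwise, and such that `Q` is generated modulo any
invariant normal subgroup by the elements `(α g)⁻¹ g`.
-/

set_option autoImplicit false
set_option linter.unusedSectionVars false
set_option linter.unusedVariables false
set_option linter.style.haveILetI false

namespace Cfsg.Agent.Lib.Helper24.HH

open scoped commutatorElement

variable {Q : Type*} [Group Q]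

theorem normal_of_commutator_le (H : Subgroup Q) (h : commutator Q ≤ H) : H.Normal := by
  constructor
  intro n hn g
  have h1 : ⁅g, n⁆ ∈ H := by
    apply h
    rw [commutator_def]
    exact Subgroup.commutator_mem_commutator (Subgroup.mem_top g) (Subgroup.mem_top n)
  have h2 : g * n * g⁻¹ = ⁅g, n⁆ * n := by rw [commutatorElement_def]; group
  rw [h2]
  exact H.mul_mem h1 hn

theorem comm_mul_right_of_central (g t₁ t₂ : Q) (h : ⁅g, t₂⁆ ∈ Subgroup.center Q) :
    ⁅g, t₁ * t₂⁆ = ⁅g, t₁⁆ * ⁅g, t₂⁆ := by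
  have hc := Subgroup.mem_center_iff.mp h t₁
  have e : ⁅g, t₁ * t₂⁆ = ⁅g, t₁⁆ * (t₁ * ⁅g, t₂⁆) * t₁⁻¹ := by
    simp only [commutatorElement_def]; group
  rw [e, hc]
  group

theorem comm_inv_right_of_central (g t : Q) (h : ⁅g, t⁆ ∈ Subgroup.center Q) :
    ⁅g, t⁻¹⁆ = (⁅g, t⁆)⁻¹ := by
  have hc := Subgroup.mem_center_iff.mp (Subgroup.inv_mem _ h) t⁻¹
  have e : ⁅g, t⁻¹⁆ = t⁻¹ * (⁅g, t⁆)⁻¹ * t := by
    simp only [commutatorElement_def]; group
  rw [e, hc, mul_assoc, inv_mul_cancel, mul_one]

theorem min_structure [Finite Q] (α : MulAut Q) (hsolv : Group.IsSolvable Q)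
    (hnonab : ∃ g t : Q, g * t ≠ t * g)
    (Min : ∀ T : Subgroup Q, T ≠ ⊤ → (∀ t ∈ T, α t ∈ T) → ∀ t ∈ T, α t = t)
    (Gen : ∀ T : Subgroup Q, T.Normal → (∀ t ∈ T, α t ∈ T) → (∀ g, (α g)⁻¹ * g ∈ T) → T = ⊤) :
    (∀ g t : Q, ⁅g, t⁆ ∈ Subgroup.center Q) ∧
    (∀ z ∈ Subgroup.center Q, α z = z) ∧
    (∀ M : Subgroup Q, M ≤ Subgroup.center Q → (∃ g t : Q, ⁅g, t⁆ ∉ M) →
      ∀ t : Q, (∀ g : Q, ⁅g, t⁆ ∈ M) → t ∈ Subgroup.center Q) ∧
    (∀ g : Q, (α g)⁻¹ * g ∈ Subgroup.center Q → g ∈ Subgroup.center Q) ∧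
    (∃ g t : Q, ⁅g, t⁆ ≠ 1) := by
  classical
  obtain ⟨g₀, t₀, hg₀t₀⟩ := hnonab
  have hcenter_ne : Subgroup.center Q ≠ ⊤ := by
    intro h
    apply hg₀t₀
    have : t₀ ∈ Subgroup.center Q := by rw [h]; trivial
    exact Subgroup.mem_center_iff.mp this g₀
  -- proper normal invariant subgroups are central
  have central : ∀ T : Subgroup Q, T.Normal → (∀ t ∈ T, α t ∈ T) → T ≠ ⊤ →
      T ≤ Subgroup.center Q := by
    intro T hTn hTinv hTne
    have hfixT := Min T hTne hTinv
    haveI := hTn
    have hCn : (Subgroup.centralizer (T : Set Q)).Normal := Subgroup.normal_centralizer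
    have hCinv : ∀ c ∈ Subgroup.centralizer (T : Set Q), α c ∈ Subgroup.centralizer (T : Set Q) := by
      intro c hc
      rw [Subgroup.mem_centralizer_iff] at hc ⊢
      intro t ht
      have h1 := hc t ht
      have h2 : α t = t := hfixT t ht
      calc t * α c = α t * α c := by rw [h2]
        _ = α (t * c) := (map_mul α t c).symm
        _ = α (c * t) := by rw [h1]
        _ = α c * α t := map_mul α c t
        _ = α c * t := by rw [h2]
    have hCgen : ∀ g, (α g)⁻¹ * g ∈ Subgroup.centralizer (T : Set Q) := by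
      intro g
      rw [Subgroup.mem_centralizer_iff]
      intro t ht
      have h1 : g * t * g⁻¹ ∈ T := hTn.conj_mem t ht g
      have h2 : α (g * t * g⁻¹) = g * t * g⁻¹ := hfixT _ h1
      have h3 : α t = t := hfixT t ht
      rw [map_mul, map_mul, map_inv, h3] at h2
      calc t * ((α g)⁻¹ * g) = (α g)⁻¹ * (α g * t * (α g)⁻¹) * g := by group
        _ = (α g)⁻¹ * (g * t * g⁻¹) * g := by rw [h2]
        _ = (α g)⁻¹ * g * t := by group
    have hCtop := Gen _ hCn hCinv hCgen
    intro t ht
    rw [Subgroup.mem_center_iff]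
    intro g
    have hg : g ∈ Subgroup.centralizer (T : Set Q) := by rw [hCtop]; trivial
    exact (Subgroup.mem_centralizer_iff.mp hg t ht).symm
  have hchar_inv : ∀ (T : Subgroup Q) [T.Characteristic], ∀ t ∈ T, α t ∈ T := by
    intro T hT t ht
    have h1 : T.map (α : Q ≃* Q).toMonoidHom = T := (Subgroup.characteristic_iff_map_eq.mp hT) α
    rw [← h1]
    exact Subgroup.mem_map_of_mem _ ht
  -- H1
  have hcomm_le : commutator Q ≤ Subgroup.center Q := by
    haveI : Nontrivial Q := ⟨⟨g₀ * t₀, t₀ * g₀, hg₀t₀⟩⟩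
    haveI := hsolv
    haveI : (commutator Q).Characteristic := by rw [commutator_def]; infer_instance
    have hne : commutator Q ≠ ⊤ := (Group.IsSolvable.commutator_lt_top_of_nontrivial Q).ne
    exact central _ inferInstance (hchar_inv _) hne
  have H1 : ∀ g t : Q, ⁅g, t⁆ ∈ Subgroup.center Q := by
    intro g t
    apply hcomm_le
    rw [commutator_def]
    exact Subgroup.commutator_mem_commutator (Subgroup.mem_top g) (Subgroup.mem_top t)
  -- H2
  have H2 : ∀ z ∈ Subgroup.center Q, α z = z :=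
    Min _ hcenter_ne (hchar_inv _)
  have H5 : ∃ g t : Q, ⁅g, t⁆ ≠ 1 := by
    refine ⟨g₀, t₀, ?_⟩
    rw [Ne, commutatorElement_eq_one_iff_mul_comm]
    exact hg₀t₀
  refine ⟨H1, H2, ?_, ?_, H5⟩
  · -- H3
    rintro M hM ⟨g₁, t₁, hg₁t₁⟩
    let TM : Subgroup Q :=
      { carrier := {t | ∀ g, ⁅g, t⁆ ∈ M}
        one_mem' := by
          intro g
          have : ⁅g, (1 : Q)⁆ = 1 := by rw [commutatorElement_def]; group
          rw [this]
          exact M.one_mem
        mul_mem' := by
          intro a b ha hb g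
          rw [comm_mul_right_of_central g a b (H1 g b)]
          exact M.mul_mem (ha g) (hb g)
        inv_mem' := by
          intro a ha g
          rw [comm_inv_right_of_central g a (H1 g a)]
          exact M.inv_mem (ha g) }
    have hTM_mem : ∀ t, t ∈ TM ↔ ∀ g, ⁅g, t⁆ ∈ M := fun t => Iff.rfl
    have hcenTM : Subgroup.center Q ≤ TM := by
      intro z hz
      rw [hTM_mem]
      intro g
      have : ⁅g, z⁆ = 1 := by
        rw [commutatorElement_eq_one_iff_mul_comm]
        exact Subgroup.mem_center_iff.mp hz g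
      rw [this]
      exact M.one_mem
    have hTMn : TM.Normal := normal_of_commutator_le TM (hcomm_le.trans hcenTM)
    have hTMinv : ∀ t ∈ TM, α t ∈ TM := by
      intro t ht
      rw [hTM_mem] at ht ⊢
      intro g
      have h1 : ⁅g, α t⁆ = α ⁅α.symm g, t⁆ := by
        simp only [commutatorElement_def, map_mul, map_inv, MulEquiv.apply_symm_apply]
      rw [h1, H2 _ (hM (ht _))]
      exact ht _
    have hTMne : TM ≠ ⊤ := by
      intro h
      have : t₁ ∈ TM := by rw [h]; trivial
      exact hg₁t₁ (this g₁)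
    intro t ht
    exact central TM hTMn hTMinv hTMne ((hTM_mem t).mpr ht)
  · -- H4
    let TZ : Subgroup Q :=
      { carrier := {g | (α g)⁻¹ * g ∈ Subgroup.center Q}
        one_mem' := by
          show (α 1)⁻¹ * 1 ∈ Subgroup.center Q
          rw [map_one, inv_one, mul_one]
          exact Subgroup.one_mem _
        mul_mem' := by
          intro a b ha hb
          show (α (a * b))⁻¹ * (a * b) ∈ Subgroup.center Q
          have ha' : (α a)⁻¹ * a ∈ Subgroup.center Q := ha
          have hb' : (α b)⁻¹ * b ∈ Subgroup.center Q := hb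
          have hc := Subgroup.mem_center_iff.mp ha' (α b)⁻¹
          have e : (α (a * b))⁻¹ * (a * b) = ((α b)⁻¹ * ((α a)⁻¹ * a)) * b := by
            rw [map_mul]; group
          rw [e, hc, mul_assoc]
          exact Subgroup.mul_mem _ ha' hb'
        inv_mem' := by
          intro a ha
          show (α a⁻¹)⁻¹ * a⁻¹ ∈ Subgroup.center Q
          have ha' : (α a)⁻¹ * a ∈ Subgroup.center Q := ha
          have e2 : (α a⁻¹)⁻¹ * a⁻¹ = a * ((α a)⁻¹ * a)⁻¹ * a⁻¹ := by
            rw [map_inv]; group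
          rw [e2]
          have hn : (Subgroup.center Q).Normal := inferInstance
          exact hn.conj_mem _ (Subgroup.inv_mem _ ha') a }
    have hTZ_mem : ∀ g, g ∈ TZ ↔ (α g)⁻¹ * g ∈ Subgroup.center Q := fun g => Iff.rfl
    have hcenTZ : Subgroup.center Q ≤ TZ := by
      intro z hz
      rw [hTZ_mem, H2 z hz, inv_mul_cancel]
      exact Subgroup.one_mem _
    have hTZn : TZ.Normal := normal_of_commutator_le TZ (hcomm_le.trans hcenTZ)
    have hTZinv : ∀ t ∈ TZ, α t ∈ TZ := by
      intro t ht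
      rw [hTZ_mem] at ht ⊢
      have h1 : (α (α t))⁻¹ * α t = α ((α t)⁻¹ * t) := by rw [map_mul, map_inv]
      rw [h1, H2 _ ht]
      exact ht
    have hTZne : TZ ≠ ⊤ := by
      intro h
      apply hcenter_ne
      apply Gen _ inferInstance (fun z hz => by rw [H2 z hz]; exact hz)
      intro g
      have : g ∈ TZ := by rw [h]; trivial
      exact this
    intro g hg
    exact central TZ hTZn hTZinv hTZne ((hTZ_mem g).mpr hg)

end Cfsg.Agent.Lib.Helper24.HH
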