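import Mathlib
import Cfsg.Agent.Lib.Helper24.HHAb
import Cfsg.Agent.Lib.Helper24.HHMin
import Cfsg.Agent.Lib.Helper24.CoprimeAbelian

/-!
# Main theorem: a fixed-point-free automorphism of prime order `r` of an elementary abelian
`p`-group centralises every `q`-group of automorphisms it normalises (`q ≠ p, r`), except
possibly when `q = 2`, `r` is a Fermat prime and the `q`-group is nonabelian.
-/

set_option autoImplicit false
set_option linter.unusedSectionVars false
set_option linter.unusedVariables false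
set_option linter.style.haveILetI false

namespace Cfsg.Agent.Lib.Helper24.HH

open Subgroup
open scoped commutatorElement

theorem mem_normalizer_of_conj_mem {G : Type*} [Group G] (T : Subgroup G) [Finite T] (x : G)
    (h : ∀ t ∈ T, x * t * x⁻¹ ∈ T) : x ∈ normalizer (T : Set G) := by
  rw [mem_normalizer_iff_map_conj_eq]
  apply eq_of_le_of_card_ge
  · rintro _ ⟨t, ht, rfl⟩
    exact h t ht
  · rw [Subgroup.card_map_of_injective (MulAut.conj x).injective]

theorem normalizerMonoidHom_pow_apply {G : Type*} [Group G] (S : Subgroup G)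
    (xS : normalizer (S : Set G)) (n : ℕ) (g : S) :
    (((S.normalizerMonoidHom xS ^ n) g : S) : G) = (xS : G) ^ n * g * ((xS : G) ^ n)⁻¹ := by
  induction n generalizing g with
  | zero => simp
  | succ n ih =>
    rw [pow_succ', MulAut.mul_apply]
    have h1 : ((S.normalizerMonoidHom xS ((S.normalizerMonoidHom xS ^ n) g) : S) : G)
        = (xS : G) * (((S.normalizerMonoidHom xS ^ n) g : S) : G) * (xS : G)⁻¹ := rfl
    rw [h1, ih, pow_succ']
    group

variable {A : Type*} [CommGroup A] [Finite A]

theorem hh_main_aux {p q r : ℕ} [Fact p.Prime] (hq : q.Prime) (hr : r.Prime) (hpq : p ≠ q)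
    (hpr : p ≠ r) (hqr : q ≠ r) (hA : ∀ a : A, a ^ p = 1) (x : MulAut A) (hxr : x ^ r = 1)
    (hfix : ∀ v, x v = v → v = 1) (n : ℕ) :
    ∀ S : Subgroup (MulAut A), Nat.card S ≤ n → IsPGroup q S →
      x ∈ normalizer (S : Set (MulAut A)) →
      (q = 2 → (∃ m : ℕ, r = 2 ^ m + 1) → ∀ a ∈ S, ∀ b ∈ S, a * b = b * a) →
      ∀ s ∈ S, s * x = x * s := by
  classical
  haveI : Fact q.Prime := ⟨hq⟩
  have hp : p.Prime := Fact.out
  induction n with
  | zero =>
    intro S hS
    exfalso
    have : 0 < Nat.card S := Nat.card_pos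
    omega
  | succ n ih =>
    intro S hScard hSq hxS hexc
    by_contra hcon
    simp only [not_forall] at hcon
    obtain ⟨s₁, hs₁S, hs₁⟩ := hcon
    set Xs : Subgroup (MulAut A) := zpowers x with hXs
    have hxXs : x ∈ Xs := mem_zpowers x
    have hXsN : Xs ≤ normalizer (S : Set (MulAut A)) := zpowers_le.mpr hxS
    have hcentXs : ∀ t : MulAut A, t * x = x * t → t ∈ centralizer (Xs : Set (MulAut A)) := by
      intro t ht
      rw [mem_centralizer_iff]
      rintro y ⟨k, rfl⟩
      have : Commute t x := ht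
      exact (this.zpow_right k).eq.symm
    obtain ⟨e, he⟩ := IsPGroup.iff_card.mp hSq
    have hcop : (Nat.card Xs).Coprime (Nat.card S) := by
      rw [he, hXs, Nat.card_zpowers]
      apply Nat.Coprime.pow_right
      have h1 : orderOf x ∣ r := orderOf_dvd_of_pow_eq_one hxr
      exact Nat.Coprime.coprime_dvd_left h1 ((Nat.coprime_primes hr hq).mpr (Ne.symm hqr))
    have hsolvXs : Group.IsSolvable Xs := by
      have : ∀ a b : Xs, a * b = b * a := by
        rintro ⟨a, k, rfl⟩ ⟨b, l, rfl⟩
        apply Subtype.ext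
        show x ^ k * x ^ l = x ^ l * x ^ k
        rw [← zpow_add, ← zpow_add, add_comm]
      exact Group.isSolvable_of_comm this
    -- (i) proper invariant subgroups are centralised
    have hI : ∀ T : Subgroup (MulAut A), T ≤ S → T ≠ S → x ∈ normalizer (T : Set (MulAut A)) →
        ∀ t ∈ T, t * x = x * t := by
      intro T hTS hTne hxT
      have hlt : Nat.card T < Nat.card S := by
        by_contra hge
        exact hTne (eq_of_le_of_card_ge hTS (not_lt.mp hge))
      apply ih T (by omega) (hSq.to_le hTS) hxT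
      intro h2 hm a ha b hb
      exact hexc h2 hm a (hTS ha) b (hTS hb)
    -- (ii) S = [S, Xs]
    have hII : ⁅S, Xs⁆ = S := by
      by_contra hne
      have hle : ⁅S, Xs⁆ ≤ S := commutator_le_of_le_normalizer S Xs hXsN
      have hxT : x ∈ normalizer ((⁅S, Xs⁆ : Subgroup (MulAut A)) : Set (MulAut A)) :=
        le_normalizer_commutator_right S Xs hXsN hxXs
      have h1 := hI _ hle hne hxT
      have h2 : ⁅⁅S, Xs⁆, Xs⁆ = ⊥ := by
        rw [commutator_eq_bot_iff_le_centralizer]
        intro t ht
        exact hcentXs t (h1 t ht)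
      rw [commutator_commutator_eq Xs S hXsN hcop (Or.inl hsolvXs)] at h2
      have h3 : S ≤ centralizer (Xs : Set (MulAut A)) := by
        rw [← commutator_eq_bot_iff_le_centralizer]
        exact h2
      exact hs₁ ((mem_centralizer_iff.mp (h3 hs₁S) x hxXs).symm)
    -- the abstract data
    let xS : normalizer (S : Set (MulAut A)) := ⟨x, hxS⟩
    let α : MulAut ↥S := S.normalizerMonoidHom xS
    have hαapp : ∀ g : ↥S, ((α g : ↥S) : MulAut A) = x * g * x⁻¹ := fun g => rfl
    have hαpow : ∀ (k : ℕ) (g : ↥S), (((α ^ k) g : ↥S) : MulAut A) = x ^ k * g * (x ^ k)⁻¹ :=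
      fun k g => normalizerMonoidHom_pow_apply S xS k g
    have hαr : α ^ r = 1 := by
      have : xS ^ r = 1 := by
        apply Subtype.ext
        simpa [xS] using hxr
      show (S.normalizerMonoidHom xS) ^ r = 1
      rw [← map_pow, this, map_one]
    have hψ : Function.Injective S.subtype := Subgroup.subtype_injective S
    have hxψ : ∀ g : ↥S, x * S.subtype g = S.subtype (α g) * x := by
      intro g
      show x * (g : MulAut A) = ((α g : ↥S) : MulAut A) * x
      rw [hαapp]
      group
    have hpS : ¬ p ∣ Nat.card ↥S := by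
      rw [he]
      intro h
      exact hpq ((Nat.prime_dvd_prime_iff_eq hp hq).mp (hp.dvd_of_dvd_pow h))
    have hfixα : ∀ g : ↥S, α g = g ↔ (g : MulAut A) * x = x * g := by
      intro g
      constructor
      · intro h
        have h1 : x * (g : MulAut A) * x⁻¹ = g := by rw [← hαapp, h]
        calc (g : MulAut A) * x = (x * g * x⁻¹) * x := by rw [h1]
          _ = x * g := by group
      · intro h
        apply Subtype.ext
        rw [hαapp, ← h]
        group
    -- (Min)
    have hMin : ∀ T' : Subgroup ↥S, T' ≠ ⊤ → (∀ t ∈ T', α t ∈ T') → ∀ t ∈ T', α t = t := by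
      intro T' hT'ne hT'inv
      have hTS : T'.map S.subtype ≤ S := by
        rintro _ ⟨t, _, rfl⟩
        exact t.2
      have hTne : T'.map S.subtype ≠ S := by
        intro h
        apply hT'ne
        rw [eq_top_iff']
        intro s
        have : (s : MulAut A) ∈ T'.map S.subtype := by rw [h]; exact s.2
        obtain ⟨t, ht, hts⟩ := this
        have : t = s := Subtype.ext hts
        rw [← this]
        exact ht
      have hxT : x ∈ normalizer ((T'.map S.subtype : Subgroup (MulAut A)) : Set (MulAut A)) := by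
        apply mem_normalizer_of_conj_mem
        rintro _ ⟨t, ht, rfl⟩
        exact ⟨α t, hT'inv t ht, rfl⟩
      have h1 := hI _ hTS hTne hxT
      intro t ht
      rw [hfixα]
      exact h1 _ ⟨t, ht, rfl⟩
    -- (Gen)
    have hGen : ∀ T' : Subgroup ↥S, T'.Normal → (∀ t ∈ T', α t ∈ T') →
        (∀ g, (α g)⁻¹ * g ∈ T') → T' = ⊤ := by
      intro T' hT'n hT'inv hT'gen
      have hgen' : ∀ g, g⁻¹ * α g ∈ T' := by
        intro g
        have := T'.inv_mem (hT'gen g)
        rwa [mul_inv_rev, inv_inv] at this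
      have hclaim : ∀ (k : ℕ) (s : ↥S), s⁻¹ * (α ^ k) s ∈ T' := by
        intro k
        induction k with
        | zero => intro s; simp
        | succ k ihk =>
          intro s
          have e : s⁻¹ * (α ^ (k + 1)) s
              = (s⁻¹ * (α ^ k) s) * (((α ^ k) s)⁻¹ * α ((α ^ k) s)) := by
            rw [pow_succ', MulAut.mul_apply]; group
          rw [e]
          exact T'.mul_mem (ihk s) (hgen' _)
      have hST : S ≤ T'.map S.subtype := by
        refine le_of_eq_of_le hII.symm ?_
        rw [commutator_le]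
        intro s hs y hy
        have hy' : y ∈ Submonoid.powers x := mem_powers_iff_mem_zpowers.mpr hy
        obtain ⟨k, rfl⟩ := hy'
        refine ⟨(⟨s, hs⟩ : ↥S) * (α ^ k) (⟨s, hs⟩ : ↥S)⁻¹, ?_, ?_⟩
        · have := hclaim k (⟨s, hs⟩ : ↥S)⁻¹
          rwa [inv_inv] at this
        · show s * (((α ^ k) (⟨s, hs⟩ : ↥S)⁻¹ : ↥S) : MulAut A) = ⁅s, x ^ k⁆
          rw [hαpow, commutatorElement_def]
          show s * (x ^ k * s⁻¹ * (x ^ k)⁻¹) = _
          group
      rw [eq_top_iff']
      intro s
      obtain ⟨t, ht, hts⟩ := hST s.2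
      have : t = s := Subtype.ext hts
      rw [← this]
      exact ht
    by_cases hab : ∀ a b : ↥S, a * b = b * a
    · -- abelian case
      haveI : IsMulCommutative ↥S := ⟨⟨hab⟩⟩
      have h0 := commutator_inf_centralizer_eq_bot_of_abelian S Xs hXsN hcop
      rw [hII] at h0
      have hfree : ∀ s : ↥S, α s = s → s = 1 := by
        intro s hs
        have h1 : (s : MulAut A) ∈ S ⊓ centralizer (Xs : Set (MulAut A)) :=
          ⟨s.2, hcentXs _ ((hfixα s).mp hs)⟩
        rw [h0, mem_bot] at h1
        exact Subtype.ext h1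
      have hall := hh_abelian_aut hA hab S.subtype hψ x α r hr hpS hxr hαr hxψ hfix hfree
      have : (⟨s₁, hs₁S⟩ : ↥S) = 1 := hall _
      have hs₁1 : s₁ = 1 := congrArg Subtype.val this
      apply hs₁
      rw [hs₁1, one_mul, mul_one]
    · -- nonabelian case
      simp only [not_forall] at hab
      obtain ⟨a, b, hab⟩ := hab
      have hsolvS : Group.IsSolvable ↥S := by
        haveI : Group.IsNilpotent ↥S := hSq.isNilpotent
        infer_instance
      obtain ⟨H1, H2, H3, H4, H5⟩ := min_structure α hsolvS ⟨a, b, hab⟩ hMin hGen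
      obtain ⟨k, d, hk1, hk2, hd⟩ := hh_aut hA S.subtype hψ x α r hr hpr hpS hxr hxψ hfix
        H1 H2 H3 H4 H5
      have hidx : (center ↥S).index ∣ q ^ e := by
        rw [← he]
        exact Subgroup.index_dvd_card _
      obtain ⟨a', -, ha'⟩ := (Nat.dvd_prime_pow hq).mp hidx
      have hN1 : (center ↥S).index ≠ 1 := by
        intro h1
        have htop : center ↥S = ⊤ := Subgroup.index_eq_one.mp h1
        apply hab
        have : b ∈ center ↥S := by rw [htop]; trivial
        exact Subgroup.mem_center_iff.mp this a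
      obtain ⟨hq2, m, hrm, -⟩ := hh_arith hq hr ha' hN1 hk1 hk2 hd
      have := hexc hq2 ⟨m, hrm⟩ a a.2 b b.2
      exact hab (Subtype.ext this)

/-- **Main theorem** -/
theorem hh_main {p q r : ℕ} [Fact p.Prime] (hq : q.Prime) (hr : r.Prime) (hpq : p ≠ q)
    (hpr : p ≠ r) (hqr : q ≠ r) (hA : ∀ a : A, a ^ p = 1) (x : MulAut A) (hxr : x ^ r = 1)
    (hfix : ∀ v, x v = v → v = 1) (S : Subgroup (MulAut A)) (hSq : IsPGroup q S)
    (hxS : x ∈ normalizer (S : Set (MulAut A)))
    (hexc : q = 2 → (∃ m : ℕ, r = 2 ^ m + 1) → ∀ a ∈ S, ∀ b ∈ S, a * b = b * a) :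
    ∀ s ∈ S, s * x = x * s :=
  hh_main_aux hq hr hpq hpr hqr hA x hxr hfix (Nat.card S) S le_rfl hSq hxS hexc

end Cfsg.Agent.Lib.Helper24.HH
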