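import Mathlib
import Cfsg.Agent.Lib.Helper24.HHMain

/-!
# Transfer of the main theorem to subgroups of an ambient finite group
-/

set_option autoImplicit false
set_option linter.unusedSectionVars false
set_option linter.unusedVariables false
set_option linter.style.haveILetI false

namespace Cfsg.Agent.Lib.Helper24.HH

open Subgroup

/-- Let `V` be an elementary abelian `p`-subgroup, `x` an element of prime order `r` normalising
`V` with `C_V(x) = 1`, and `Q` a `q`-subgroup normalising `V` and normalised by `x` (`p, q, r`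
distinct; if `q = 2` and `r` is a Fermat prime assume `Q` abelian).  Then `[Q, x]` centralises
`V`. -/
theorem hh_transfer {G : Type*} [Group G] [Finite G] {p q r : ℕ} (hp : p.Prime) (hq : q.Prime)
    (hr : r.Prime) (hpq : p ≠ q) (hpr : p ≠ r) (hqr : q ≠ r) (V Q : Subgroup G)
    (hV : IsMulCommutative V) (hVp : ∀ a ∈ V, a ^ p = 1) (x : G)
    (hxV : x ∈ normalizer (V : Set G)) (hxQ : x ∈ normalizer (Q : Set G)) (hxr : x ^ r = 1)
    (hfix : ∀ v ∈ V, x * v = v * x → v = 1) (hQ : IsPGroup q Q)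
    (hQV : Q ≤ normalizer (V : Set G))
    (hexc : q = 2 → (∃ m : ℕ, r = 2 ^ m + 1) → ∀ a ∈ Q, ∀ b ∈ Q, a * b = b * a) :
    ∀ g ∈ Q, g * x * g⁻¹ * x⁻¹ ∈ centralizer (V : Set G) := by
  classical
  haveI : Fact p.Prime := ⟨hp⟩
  haveI := hV
  letI : CommGroup ↥V := { (inferInstance : Group ↥V) with mul_comm := fun a b => mul_comm' a b }
  have hA : ∀ a : ↥V, a ^ p = 1 := by
    intro a
    apply Subtype.ext
    have := hVp a a.2
    simpa using this
  let xN : ↥(normalizer (V : Set G)) := ⟨x, hxV⟩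
  let xa : MulAut ↥V := V.normalizerMonoidHom xN
  let ψ : ↥Q →* MulAut ↥V := V.normalizerMonoidHom.comp (Subgroup.inclusion hQV)
  let S : Subgroup (MulAut ↥V) := ψ.range
  have hxaapp : ∀ v : ↥V, ((xa v : ↥V) : G) = x * v * x⁻¹ := fun v => rfl
  have hxar : xa ^ r = 1 := by
    have : xN ^ r = 1 := by
      apply Subtype.ext
      simpa [xN] using hxr
    show (V.normalizerMonoidHom xN) ^ r = 1
    rw [← map_pow, this, map_one]
  have hfix' : ∀ v : ↥V, xa v = v → v = 1 := by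
    intro v hv
    have h1 : x * (v : G) * x⁻¹ = v := by rw [← hxaapp, hv]
    have h2 : x * (v : G) = v * x := by
      calc x * (v : G) = (x * v * x⁻¹) * x := by group
        _ = v * x := by rw [h1]
    exact Subtype.ext (hfix v v.2 h2)
  have hSq : IsPGroup q S := by
    rintro ⟨s, g, rfl⟩
    obtain ⟨k, hk⟩ := hQ g
    refine ⟨k, ?_⟩
    apply Subtype.ext
    show (ψ g) ^ (q ^ k) = 1
    rw [← map_pow, hk, map_one]
  have hconj : ∀ g : ↥Q, xa * ψ g * xa⁻¹
      = ψ ⟨x * g * x⁻¹, (mem_normalizer_iff.mp hxQ g).mp g.2⟩ := by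
    intro g
    show V.normalizerMonoidHom xN * V.normalizerMonoidHom (Subgroup.inclusion hQV g)
      * (V.normalizerMonoidHom xN)⁻¹ = V.normalizerMonoidHom (Subgroup.inclusion hQV _)
    rw [← map_inv, ← map_mul, ← map_mul]
    congr 1
  have hxS : xa ∈ normalizer (S : Set (MulAut ↥V)) := by
    apply mem_normalizer_of_conj_mem
    rintro _ ⟨g, rfl⟩
    rw [hconj g]
    exact ⟨_, rfl⟩
  have hexc' : q = 2 → (∃ m : ℕ, r = 2 ^ m + 1) → ∀ a ∈ S, ∀ b ∈ S, a * b = b * a := by
    rintro h2 hm _ ⟨g, rfl⟩ _ ⟨h, rfl⟩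
    rw [← map_mul, ← map_mul]
    congr 1
    apply Subtype.ext
    exact hexc h2 hm g g.2 h h.2
  have hmain := hh_main hq hr hpq hpr hqr hA xa hxar hfix' S hSq hxS hexc'
  intro g hg
  have h1 : ψ ⟨g, hg⟩ * xa = xa * ψ ⟨g, hg⟩ := hmain _ ⟨⟨g, hg⟩, rfl⟩
  let gN : ↥(normalizer (V : Set G)) := ⟨g, hQV hg⟩
  have h2 : V.normalizerMonoidHom (gN * xN * gN⁻¹ * xN⁻¹) = 1 := by
    rw [map_mul, map_mul, map_mul, map_inv, map_inv]
    have h3 : V.normalizerMonoidHom gN * V.normalizerMonoidHom xN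
        = V.normalizerMonoidHom xN * V.normalizerMonoidHom gN := h1
    rw [h3]
    group
  have h4 : gN * xN * gN⁻¹ * xN⁻¹ ∈ V.normalizerMonoidHom.ker := h2
  rw [Subgroup.normalizerMonoidHom_ker, Subgroup.mem_subgroupOf] at h4
  exact h4

end Cfsg.Agent.Lib.Helper24.HH
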