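import Mathlib
import Cfsg.Agent.Lib.Helper24.HHTransfer
import Cfsg.Agent.Lib.Helper24.HHSyl
import Cfsg.Agent.Lib.Helper24.SylowInv

/-!
# The odd order version: a group of odd order prime to `p r` normalised by `x`
-/

set_option autoImplicit false
set_option linter.unusedSectionVars false
set_option linter.unusedVariables false
set_option linter.style.haveILetI false

namespace Cfsg.Agent.Lib.Helper24.HH

open Subgroup
open scoped commutatorElement

theorem normalizerMonoidHom_comm_iff {G : Type*} [Group G] (V : Subgroup G)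
    (n m : normalizer (V : Set G)) :
    V.normalizerMonoidHom n * V.normalizerMonoidHom m
      = V.normalizerMonoidHom m * V.normalizerMonoidHom n
    ↔ (n : G) * m * (n : G)⁻¹ * (m : G)⁻¹ ∈ centralizer (V : Set G) := by
  have key : (n : G) * m * (n : G)⁻¹ * (m : G)⁻¹ ∈ centralizer (V : Set G)
      ↔ V.normalizerMonoidHom (n * m * n⁻¹ * m⁻¹) = 1 := by
    rw [← MonoidHom.mem_ker, Subgroup.normalizerMonoidHom_ker, Subgroup.mem_subgroupOf]
    rfl
  rw [key, map_mul, map_mul, map_mul, map_inv, map_inv]
  constructor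
  · intro h
    rw [h]
    group
  · intro h
    calc V.normalizerMonoidHom n * V.normalizerMonoidHom m
        = (V.normalizerMonoidHom n * V.normalizerMonoidHom m * (V.normalizerMonoidHom n)⁻¹
            * (V.normalizerMonoidHom m)⁻¹) * V.normalizerMonoidHom m * V.normalizerMonoidHom n := by
          group
      _ = V.normalizerMonoidHom m * V.normalizerMonoidHom n := by rw [h, one_mul]

/-- Let `V` be an elementary abelian `p`-subgroup, `x` an element of prime order `r` normalising
`V` with `C_V(x) = 1`, and `K` a subgroup of odd order prime to `p` and `r` normalising `V` and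
normalised by `x`.  Then `[⟨x⟩, K]` centralises `V`. -/
theorem hh_transfer_odd {G : Type*} [Group G] [Finite G] {p r : ℕ} (hp : p.Prime) (hr : r.Prime)
    (hpr : p ≠ r) (V K : Subgroup G) (hV : IsMulCommutative V) (hVp : ∀ a ∈ V, a ^ p = 1) (x : G)
    (hxV : x ∈ normalizer (V : Set G)) (hxK : x ∈ normalizer (K : Set G)) (hxr : x ^ r = 1)
    (hfix : ∀ v ∈ V, x * v = v * x → v = 1) (hKV : K ≤ normalizer (V : Set G))
    (hKodd : Odd (Nat.card K)) (hKp : ¬ p ∣ Nat.card K) (hKr : ¬ r ∣ Nat.card K) :
    ⁅zpowers x, K⁆ ≤ centralizer (V : Set G) := by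
  classical
  set R : Subgroup G := zpowers x with hR
  have hRK : R ≤ normalizer (K : Set G) := zpowers_le.mpr hxK
  have hRV : R ≤ normalizer (V : Set G) := zpowers_le.mpr hxV
  have hcop : (Nat.card R).Coprime (Nat.card K) := by
    rw [hR, Nat.card_zpowers]
    have h1 : orderOf x ∣ r := orderOf_dvd_of_pow_eq_one hxr
    exact Nat.Coprime.coprime_dvd_left h1 ((Nat.Prime.coprime_iff_not_dvd hr).mpr hKr)
  have hsolvR : Group.IsSolvable R := by
    have : ∀ a b : R, a * b = b * a := by
      rintro ⟨a, k, rfl⟩ ⟨b, l, rfl⟩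
      apply Subtype.ext
      show x ^ k * x ^ l = x ^ l * x ^ k
      rw [← zpow_add, ← zpow_add, add_comm]
    exact Group.isSolvable_of_comm this
  let xN : normalizer (V : Set G) := ⟨x, hxV⟩
  let ψ : ↥K →* MulAut ↥V := V.normalizerMonoidHom.comp (Subgroup.inclusion hKV)
  let D : Subgroup ↥K := (centralizer {V.normalizerMonoidHom xN}).comap ψ
  have hD : ∀ k : ↥K, k ∈ D ↔ (k : G) * x * (k : G)⁻¹ * x⁻¹ ∈ centralizer (V : Set G) := by
    intro k
    have hiff := normalizerMonoidHom_comm_iff V (Subgroup.inclusion hKV k) xN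
    refine Iff.trans ?_ hiff
    show ψ k ∈ centralizer {V.normalizerMonoidHom xN} ↔ _
    rw [mem_centralizer_iff]
    constructor
    · intro h
      exact (h _ rfl).symm
    · intro h y hy
      rw [Set.mem_singleton_iff.mp hy]
      exact h.symm
  have hDtop : D = ⊤ := by
    apply eq_top_of_sylow_le
    intro q hqF hqK
    have hq : q.Prime := hqF.out
    obtain ⟨P, hP⟩ := exists_invariant_sylow (p := q) R K hRK hcop (Or.inl hsolvR)
    obtain ⟨hSK, hSq, -⟩ := sylow_map_facts K P
    have hq2 : q ≠ 2 := by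
      rintro rfl
      exact (Nat.not_even_iff_odd.mpr hKodd) (even_iff_two_dvd.mpr hqK)
    have hpq : p ≠ q := by
      rintro rfl
      exact hKp hqK
    have hqr : q ≠ r := by
      rintro rfl
      exact hKr hqK
    have hT := hh_transfer hp hq hr hpq hpr hqr V _ hV hVp x hxV (hP (mem_zpowers x)) hxr hfix hSq
      (hSK.trans hKV) (fun h2 => absurd h2 hq2)
    refine ⟨P, ?_⟩
    intro k hk
    rw [hD]
    exact hT _ ⟨k, hk, rfl⟩
  rw [commutator_le]
  intro y hy k hk
  obtain ⟨n, rfl⟩ := hy
  have hkD : (⟨k, hk⟩ : ↥K) ∈ D := by rw [hDtop]; trivial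
  rw [hD] at hkD
  let kN : normalizer (V : Set G) := ⟨k, hKV hk⟩
  have h1 := (normalizerMonoidHom_comm_iff V kN xN).mpr hkD
  have h2 : Commute (V.normalizerMonoidHom xN) (V.normalizerMonoidHom kN) := h1.symm
  have h3 := (h2.zpow_left n).eq
  rw [← map_zpow] at h3
  have h4 := (normalizerMonoidHom_comm_iff V (xN ^ n) kN).mp h3
  rw [commutatorElement_def]
  simpa [xN, kN] using h4

end Cfsg.Agent.Lib.Helper24.HH
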