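import Cfsg.Agent.Lib.Helper24.SZAbelian
import Mathlib.GroupTheory.Solvable
import Mathlib.GroupTheory.Index

set_option autoImplicit false

universe u

namespace Cfsg.Agent.Lib.Helper24

open Subgroup
open scoped commutatorElement

section basic
variable {G : Type*} [Group G]

/-- For a Hall subgroup `N` of a finite group, a subgroup of order `|G:N|` is a complement. -/
theorem isComplement'_of_card_eq_index [Finite G] (N H : Subgroup G)
    (hN : (Nat.card N).Coprime N.index) (hH : Nat.card H = N.index) : IsComplement' N H :=
  isComplement'_of_coprime (by rw [hH]; exact N.card_mul_index) (by rw [hH]; exact hN)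

theorem card_eq_index_of_isComplement' (N H : Subgroup G) (h : IsComplement' N H) :
    Nat.card H = N.index :=
  h.symm.index_eq_card.symm

theorem conj_map_card (H : Subgroup G) (x : G) :
    Nat.card (H.map (MulAut.conj x).toMonoidHom) = Nat.card H :=
  Subgroup.card_map_of_injective (MulAut.conj x).injective

/-- If `K ⊓ M = ⊥` and `M` is normal then `|KM : M| = |K|`. -/
theorem relIndex_sup_of_inf_eq_bot (K M : Subgroup G) [M.Normal] (h : K ⊓ M = ⊥) :
    M.relIndex (K ⊔ M) = Nat.card K := by
  rw [relIndex_sup_right, ← inf_relIndex_right, inf_comm, h, relIndex_bot_left]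

end basic

section quotient
variable {G : Type*} [Group G]

/-- Image of a complement of a normal Hall subgroup in a quotient by `M ≤ N`. -/
theorem isComplement'_map_mk [Finite G] (N H M : Subgroup G) [N.Normal] [M.Normal] (hMN : M ≤ N)
    (hN : (Nat.card N).Coprime N.index) (hH : Nat.card H = N.index) :
    (Nat.card (N.map (QuotientGroup.mk' M))).Coprime (N.map (QuotientGroup.mk' M)).index ∧
    Nat.card (H.map (QuotientGroup.mk' M)) = (N.map (QuotientGroup.mk' M)).index := by
  have hsurj : Function.Surjective (QuotientGroup.mk' M) := QuotientGroup.mk'_surjective M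
  have hidx : (N.map (QuotientGroup.mk' M)).index = N.index :=
    index_map_eq N hsurj (by rw [QuotientGroup.ker_mk']; exact hMN)
  have hdvd : Nat.card (N.map (QuotientGroup.mk' M)) ∣ Nat.card N := card_map_dvd N _
  refine ⟨?_, ?_⟩
  · rw [hidx]; exact Nat.Coprime.coprime_dvd_left hdvd hN
  · rw [hidx, ← hH]
    -- the map is injective on H
    have hinj : Function.Injective ((QuotientGroup.mk' M).comp H.subtype) := by
      rw [← MonoidHom.ker_eq_bot_iff]
      rw [eq_bot_iff]
      intro h hh
      rw [MonoidHom.mem_ker, MonoidHom.comp_apply, QuotientGroup.mk'_apply,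
        QuotientGroup.eq_one_iff] at hh
      have h1 : (h : G) ∈ H ⊓ N := ⟨h.2, hMN hh⟩
      have h2 : H ⊓ N = ⊥ := by
        apply (disjoint_of_coprime_natCard _).eq_bot
        rw [hH]; exact hN.symm
      rw [h2, mem_bot] at h1
      rw [mem_bot]
      exact Subtype.ext h1
    have : Nat.card (H.map (QuotientGroup.mk' M)) = Nat.card ((QuotientGroup.mk' M).comp H.subtype).range := by
      rw [MonoidHom.range_comp, H.range_subtype]
    rw [this]
    exact Nat.card_congr (Equiv.ofInjective _ hinj).symm

end quotient

section main

/-- Schur–Zassenhaus conjugacy, solvable normal Hall subgroup, induction form. -/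
theorem sz_conj_solvable_aux (n : ℕ) : ∀ (G : Type u) [Group G] [Finite G] (N : Subgroup G) [N.Normal],
    Nat.card N ≤ n → Group.IsSolvable N → (Nat.card N).Coprime N.index →
    ∀ H K : Subgroup G, Nat.card H = N.index → Nat.card K = N.index →
    ∃ x ∈ N, H.map (MulAut.conj x).toMonoidHom = K := by
  induction n with
  | zero =>
    intro G _ _ N _ hcard
    have : 0 < Nat.card N := Nat.card_pos
    omega
  | succ n ih =>
    intro G _ _ N _ hcard hsolv hcop H K hH hK
    by_cases hab : ⁅N, N⁆ = ⊥
    · -- abelian case
      haveI : IsMulCommutative N := by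
        refine ⟨⟨fun a b => ?_⟩⟩
        have h1 : ⁅(a : G), (b : G)⁆ ∈ ⁅N, N⁆ := commutator_mem_commutator a.2 b.2
        rw [hab, mem_bot, commutatorElement_eq_one_iff_mul_comm] at h1
        exact Subtype.ext h1
      exact sz_conj_abelian N hcop H K (isComplement'_of_card_eq_index N H hcop hH)
        (isComplement'_of_card_eq_index N K hcop hK)
    · -- nonabelian case: M = [N,N]
      set M : Subgroup G := ⁅N, N⁆ with hM
      have hMN : M ≤ N := commutator_le_left N N
      haveI hMnormal : M.Normal := commutator_normal N N
      have hNbot : N ≠ ⊥ := by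
        rintro rfl
        apply hab
        rw [eq_bot_iff]
        exact commutator_le_left ⊥ ⊥
      have hMltN : M < N := by
        haveI : Nontrivial N := (nontrivial_iff_ne_bot N).mpr hNbot
        have h1 : commutator N < ⊤ := Group.IsSolvable.commutator_lt_top_of_nontrivial N
        have h2 : (commutator N).map N.subtype = M := map_subtype_commutator N
        rw [← h2]
        have h3 : (commutator N).map N.subtype < (⊤ : Subgroup N).map N.subtype :=
          (map_lt_map_iff_of_injective N.subtype_injective).mpr h1
        have h4 : (⊤ : Subgroup N).map N.subtype = N := by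
          rw [← MonoidHom.range_eq_map, N.range_subtype]
        rwa [h4] at h3
      have hMcard : Nat.card M ≤ n := by
        by_contra hcon
        push Not at hcon
        have h1 : Nat.card N ≤ Nat.card M := by omega
        have := eq_of_le_of_card_ge hMltN.le h1
        exact hMltN.ne this
      -- Step 1: quotient by M
      let f := QuotientGroup.mk' M
      have hsurj : Function.Surjective f := QuotientGroup.mk'_surjective M
      haveI : (N.map f).Normal := Normal.map inferInstance f hsurj
      haveI : IsMulCommutative (N.map f) := by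
        refine ⟨⟨fun a b => ?_⟩⟩
        obtain ⟨x, hx, hxa⟩ := a.2
        obtain ⟨y, hy, hyb⟩ := b.2
        apply Subtype.ext
        change (a : G ⧸ M) * b = b * a
        rw [← hxa, ← hyb, ← map_mul, ← map_mul]
        have h1 : ⁅x, y⁆ ∈ M := commutator_mem_commutator hx hy
        have h2 : x * y = ⁅x, y⁆ * (y * x) := by rw [commutatorElement_def]; group
        rw [h2, map_mul]
        have h3 : f ⁅x, y⁆ = 1 := (QuotientGroup.eq_one_iff _).mpr h1
        rw [h3, one_mul]
      obtain ⟨hcop', hH'⟩ := isComplement'_map_mk N H M hMN hcop hH
      obtain ⟨_, hK'⟩ := isComplement'_map_mk N K M hMN hcop hK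
      obtain ⟨xbar, hxbar, hconj⟩ := sz_conj_abelian (N.map f) hcop' (H.map f) (K.map f)
        (isComplement'_of_card_eq_index _ _ hcop' hH') (isComplement'_of_card_eq_index _ _ hcop' hK')
      obtain ⟨x, hxN, rfl⟩ := hxbar
      set H₁ := H.map (MulAut.conj x).toMonoidHom with hH₁
      have hH₁f : H₁.map f = K.map f := by
        rw [← hconj, hH₁, map_map, map_map]
        congr 1
      have hsup : H₁ ⊔ M = K ⊔ M := by
        have h1 := congrArg (comap f) hH₁f
        rwa [comap_map_eq, comap_map_eq, QuotientGroup.ker_mk'] at h1
      -- Step 2: work in L = K ⊔ M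
      set L := K ⊔ M with hL
      have hKL : K ≤ L := le_sup_left
      have hML : M ≤ L := le_sup_right
      have hH₁L : H₁ ≤ L := by rw [← hsup]; exact le_sup_left
      have hKM : K ⊓ M = ⊥ := by
        apply (disjoint_of_coprime_natCard _).eq_bot
        rw [hK]
        exact (Nat.Coprime.coprime_dvd_left (card_dvd_of_le hMN) hcop).symm
      have hidxL : (M.subgroupOf L).index = N.index := by
        change M.relIndex L = _
        rw [hL, relIndex_sup_of_inf_eq_bot K M hKM, hK]
      have hcardML : Nat.card (M.subgroupOf L) = Nat.card M :=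
        Nat.card_congr (subgroupOfEquivOfLe hML).toEquiv
      have hcopL : (Nat.card (M.subgroupOf L)).Coprime (M.subgroupOf L).index := by
        rw [hidxL, hcardML]; exact Nat.Coprime.coprime_dvd_left (card_dvd_of_le hMN) hcop
      have hsolvL : Group.IsSolvable (M.subgroupOf L) := by
        let g : ↥(M.subgroupOf L) →* ↥N :=
          (Subgroup.inclusion hMN).comp (subgroupOfEquivOfLe hML).toMonoidHom
        have hg : Function.Injective g :=
          (Subgroup.inclusion_injective hMN).comp (subgroupOfEquivOfLe hML).injective
        exact Group.isSolvable_of_isSolvable_injective hg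
      have hcH : Nat.card (H₁.subgroupOf L) = (M.subgroupOf L).index := by
        rw [hidxL, Nat.card_congr (subgroupOfEquivOfLe hH₁L).toEquiv, hH₁, conj_map_card, hH]
      have hcK : Nat.card (K.subgroupOf L) = (M.subgroupOf L).index := by
        rw [hidxL, Nat.card_congr (subgroupOfEquivOfLe hKL).toEquiv, hK]
      obtain ⟨y, hy, hyconj⟩ := ih L (M.subgroupOf L) (by rw [hcardML]; exact hMcard) hsolvL hcopL
        _ _ hcH hcK
      refine ⟨(y : G) * x, mul_mem (hMN (mem_subgroupOf.mp hy)) hxN, ?_⟩
      have h5 := congrArg (map L.subtype) hyconj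
      rw [map_map, subgroupOf_map_subtype, inf_of_le_left hKL] at h5
      rw [← h5]
      have h6 : H.map (MulAut.conj ((y : G) * x)).toMonoidHom
          = H₁.map (MulAut.conj (y : G)).toMonoidHom := by
        rw [hH₁, map_map]
        congr 1
        ext g
        simp [mul_assoc]
      rw [h6]
      have h7 : H₁ = (H₁.subgroupOf L).map L.subtype := by
        rw [subgroupOf_map_subtype, inf_of_le_left hH₁L]
      conv_lhs => rw [h7]
      rw [map_map]
      congr 1

/-- Schur–Zassenhaus conjugacy when the normal Hall subgroup is solvable: complements are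
conjugate by an element of the normal subgroup. -/
theorem sz_conj_of_solvable_normal {G : Type u} [Group G] [Finite G] (N : Subgroup G) [N.Normal]
    (hsolv : Group.IsSolvable N) (hcop : (Nat.card N).Coprime N.index) (H K : Subgroup G)
    (hH : IsComplement' N H) (hK : IsComplement' N K) :
    ∃ x ∈ N, H.map (MulAut.conj x).toMonoidHom = K :=
  sz_conj_solvable_aux (Nat.card N) G N le_rfl hsolv hcop H K
    (card_eq_index_of_isComplement' N H hH) (card_eq_index_of_isComplement' N K hK)

end main

end Cfsg.Agent.Lib.Helper24
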