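import Mathlib
import Cfsg.Agent.Lib.Helper24.HHOdd
import Cfsg.Agent.Lib.Helper24.Omega1
import Cfsg.Agent.Lib.Helper32.Rank2Ker

/-!
# Transfer of the main theorem to an arbitrary `p`-subgroup `P` (via `P / Φ(P)`)
-/

set_option autoImplicit false
set_option linter.unusedSectionVars false
set_option linter.unusedVariables false
set_option linter.style.haveILetI false

namespace Cfsg.Agent.Lib.Helper24.HH

open Subgroup
open scoped commutatorElement
open Cfsg.Agent.Lib.Helper32.Rank2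

/-- Let `P` be a `p`-subgroup, `x` an element of prime order `r` normalising `P` with
`C_P(x) = 1`, and `Q` a `q`-subgroup normalising `P` and normalised by `x` (`p, q, r` distinct; if
`q = 2` and `r` is a Fermat prime assume `Q` abelian).  Then `[Q, x]` centralises `P`. -/
theorem hh_transfer_pgroup {G : Type*} [Group G] [Finite G] {p q r : ℕ} (hp : p.Prime)
    (hq : q.Prime) (hr : r.Prime) (hpq : p ≠ q) (hpr : p ≠ r) (hqr : q ≠ r) (P Q : Subgroup G)
    (hP : IsPGroup p P) (x : G)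
    (hxP : x ∈ normalizer (P : Set G)) (hxQ : x ∈ normalizer (Q : Set G)) (hxr : x ^ r = 1)
    (hfix : ∀ v ∈ P, x * v = v * x → v = 1) (hQ : IsPGroup q Q)
    (hQP : Q ≤ normalizer (P : Set G))
    (hexc : q = 2 → (∃ m : ℕ, r = 2 ^ m + 1) → ∀ a ∈ Q, ∀ b ∈ Q, a * b = b * a) :
    ∀ g ∈ Q, g * x * g⁻¹ * x⁻¹ ∈ centralizer (P : Set G) := by
  classical
  haveI : Fact p.Prime := ⟨hp⟩
  have hPt : IsPGroup p ↥P := hP
  -- the Frattini quotient as an elementary abelian group
  letI : CommGroup (↥P ⧸ frattini ↥P) :=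
    { (inferInstance : Group (↥P ⧸ frattini ↥P)) with
      mul_comm := by
        intro a b
        induction a using QuotientGroup.induction_on with
        | H a =>
          induction b using QuotientGroup.induction_on with
          | H b =>
            rw [← QuotientGroup.mk_mul, ← QuotientGroup.mk_mul, QuotientGroup.eq]
            have h1 : (a * b)⁻¹ * (b * a) = ⁅b⁻¹, a⁻¹⁆ := by
              rw [commutatorElement_def]; group
            rw [h1]
            apply commutator_le_frattini_of_isPGroup hPt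
            rw [_root_.commutator_def]
            exact Subgroup.commutator_mem_commutator (Subgroup.mem_top _) (Subgroup.mem_top _) }
  have hA : ∀ a : ↥P ⧸ frattini ↥P, a ^ p = 1 := by
    intro a
    induction a using QuotientGroup.induction_on with
    | H a =>
      rw [← QuotientGroup.mk_pow, QuotientGroup.eq_one_iff]
      exact pow_mem_frattini_of_isPGroup hPt a
  let Θ : ↥(normalizer (P : Set G)) →* MulAut (↥P ⧸ frattini ↥P) :=
    (autQuot (frattini ↥P)).comp P.normalizerMonoidHom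
  let xN : ↥(normalizer (P : Set G)) := ⟨x, hxP⟩
  let xa : MulAut (↥P ⧸ frattini ↥P) := Θ xN
  let ψ : ↥Q →* MulAut (↥P ⧸ frattini ↥P) := Θ.comp (Subgroup.inclusion hQP)
  let S : Subgroup (MulAut (↥P ⧸ frattini ↥P)) := ψ.range
  have hxar : xa ^ r = 1 := by
    have : xN ^ r = 1 := by
      apply Subtype.ext
      simpa [xN] using hxr
    show (Θ xN) ^ r = 1
    rw [← map_pow, this, map_one]
  -- fixed points
  set Φ : Subgroup G := (frattini ↥P).map P.subtype with hΦ
  have hΦP : Φ ≤ P := by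
    rintro _ ⟨v, _, rfl⟩
    exact v.2
  have hxΦ : x ∈ normalizer (Φ : Set G) :=
    normalizer_le_normalizer_map_of_characteristic P (frattini ↥P) hxP
  set R : Subgroup G := zpowers x with hR
  have hRΦ : R ≤ normalizer (Φ : Set G) := zpowers_le.mpr hxΦ
  have hcopΦ : (Nat.card R).Coprime (Nat.card Φ) := by
    obtain ⟨e, he⟩ := IsPGroup.iff_card.mp (hP.to_le hΦP)
    rw [he, hR, Nat.card_zpowers]
    apply Nat.Coprime.pow_right
    have h1 : orderOf x ∣ r := orderOf_dvd_of_pow_eq_one hxr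
    exact Nat.Coprime.coprime_dvd_left h1 ((Nat.coprime_primes hr hp).mpr (Ne.symm hpr))
  have hsolvR : Group.IsSolvable R := by
    have : ∀ a b : R, a * b = b * a := by
      rintro ⟨a, k, rfl⟩ ⟨b, l, rfl⟩
      apply Subtype.ext
      show x ^ k * x ^ l = x ^ l * x ^ k
      rw [← zpow_add, ← zpow_add, add_comm]
    exact Group.isSolvable_of_comm this
  have hfix' : ∀ a : ↥P ⧸ frattini ↥P, xa a = a → a = 1 := by
    intro a
    induction a using QuotientGroup.induction_on with
    | H v =>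
      intro hv
      have h1 : (QuotientGroup.mk (P.normalizerMonoidHom xN v) : ↥P ⧸ frattini ↥P)
          = QuotientGroup.mk v := hv
      rw [QuotientGroup.eq] at h1
      have h2 : x * (v : G) * x⁻¹ * (v : G)⁻¹ ∈ Φ := by
        have h3 : (P.normalizerMonoidHom xN v)⁻¹ * v ∈ frattini ↥P := h1
        have h4 := (frattini ↥P).inv_mem h3
        have hn : (frattini ↥P).Normal := inferInstance
        have h4' := hn.conj_mem _ h4 v
        refine ⟨_, h4', ?_⟩
        show (v : G) * (((P.normalizerMonoidHom xN v)⁻¹ * v)⁻¹ : ↥P).1 * (v : G)⁻¹ = _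
        rw [mul_inv_rev, inv_inv]
        show (v : G) * ((v : G)⁻¹ * (x * (v : G) * x⁻¹)) * (v : G)⁻¹ = _
        group
      have hk : ∀ a ∈ R, a * (v : G) * a⁻¹ * (v : G)⁻¹ ∈ Φ := by
        intro a ha
        have ha' : a ∈ Submonoid.powers x := mem_powers_iff_mem_zpowers.mpr ha
        obtain ⟨n, rfl⟩ := ha'
        induction n with
        | zero => simp
        | succ n ih =>
          have e : x ^ (n + 1) * (v : G) * (x ^ (n + 1))⁻¹ * (v : G)⁻¹
              = (x * (x ^ n * (v : G) * (x ^ n)⁻¹ * (v : G)⁻¹) * x⁻¹)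
                * (x * (v : G) * x⁻¹ * (v : G)⁻¹) := by
            rw [pow_succ']; group
          rw [e]
          refine Φ.mul_mem ?_ h2
          exact (mem_normalizer_iff.mp hxΦ _).mp (ih (Subgroup.npow_mem_zpowers x n))
      obtain ⟨n, hn, hnv⟩ := fixed_point_lemma Φ R hRΦ hcopΦ (Or.inr hsolvR) (v : G) hk
      have h5 : n⁻¹ * (v : G) ∈ P := P.mul_mem (P.inv_mem (hΦP hn)) v.2
      have h6 : x * (n⁻¹ * (v : G)) = (n⁻¹ * (v : G)) * x :=
        (mem_centralizer_iff.mp hnv x (mem_zpowers x))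
      have h7 := hfix _ h5 h6
      have h8 : (v : G) = n := by
        calc (v : G) = n * (n⁻¹ * (v : G)) := by group
          _ = n := by rw [h7, mul_one]
      rw [QuotientGroup.eq_one_iff]
      obtain ⟨w, hw, hwn⟩ := hn
      have : w = v := Subtype.ext (by rw [h8]; exact hwn)
      rw [← this]
      exact hw
  have hSq : IsPGroup q S := by
    rintro ⟨s, g, rfl⟩
    obtain ⟨k, hk⟩ := hQ g
    refine ⟨k, ?_⟩
    apply Subtype.ext
    show (ψ g) ^ (q ^ k) = 1
    rw [← map_pow, hk, map_one]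
  have hconj : ∀ g : ↥Q, xa * ψ g * xa⁻¹
      = ψ ⟨x * g * x⁻¹, (mem_normalizer_iff.mp hxQ g).mp g.2⟩ := by
    intro g
    show Θ xN * Θ (Subgroup.inclusion hQP g) * (Θ xN)⁻¹ = Θ (Subgroup.inclusion hQP _)
    rw [← map_inv, ← map_mul, ← map_mul]
    congr 1
  have hxS : xa ∈ normalizer (S : Set (MulAut (↥P ⧸ frattini ↥P))) := by
    apply mem_normalizer_of_conj_mem
    rintro _ ⟨g, rfl⟩
    rw [hconj g]
    exact ⟨_, rfl⟩
  have hexc' : q = 2 → (∃ m : ℕ, r = 2 ^ m + 1) → ∀ a ∈ S, ∀ b ∈ S, a * b = b * a := by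
    rintro h2 hm _ ⟨g, rfl⟩ _ ⟨h, rfl⟩
    rw [← map_mul, ← map_mul]
    congr 1
    apply Subtype.ext
    exact hexc h2 hm g g.2 h h.2
  have hmain := hh_main hq hr hpq hpr hqr hA xa hxar hfix' S hSq hxS hexc'
  intro g hg
  have h1 : ψ ⟨g, hg⟩ * xa = xa * ψ ⟨g, hg⟩ := hmain _ ⟨⟨g, hg⟩, rfl⟩
  let gN : ↥(normalizer (P : Set G)) := ⟨g, hQP hg⟩
  let cN : ↥(normalizer (P : Set G)) := gN * xN * gN⁻¹ * xN⁻¹
  have h2 : Θ cN = 1 := by
    show Θ (gN * xN * gN⁻¹ * xN⁻¹) = 1
    rw [map_mul, map_mul, map_mul, map_inv, map_inv]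
    have h3 : Θ gN * Θ xN = Θ xN * Θ gN := h1
    rw [h3]
    group
  -- Burnside: the automorphism induced by `c` has `p`-power order
  obtain ⟨k, hk⟩ := pKer_autQuot_frattini hPt (P.normalizerMonoidHom cN) h2
  -- and `q`-power order
  have hcQ : (cN : G) ∈ Q := by
    show g * x * g⁻¹ * x⁻¹ ∈ Q
    have h4 : x * g⁻¹ * x⁻¹ ∈ Q := (mem_normalizer_iff.mp hxQ g⁻¹).mp (Q.inv_mem hg)
    have e : g * x * g⁻¹ * x⁻¹ = g * (x * g⁻¹ * x⁻¹) := by group
    rw [e]
    exact Q.mul_mem hg h4
  obtain ⟨m, hm⟩ := hQ ⟨(cN : G), hcQ⟩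
  have hm' : cN ^ (q ^ m) = 1 := by
    apply Subtype.ext
    have := congrArg Subtype.val hm
    simpa using this
  have hm'' : (P.normalizerMonoidHom cN) ^ (q ^ m) = 1 := by
    rw [← map_pow, hm', map_one]
  have hcop : (p ^ k).Coprime (q ^ m) :=
    Nat.Coprime.pow _ _ ((Nat.coprime_primes hp hq).mpr hpq)
  have h5 : P.normalizerMonoidHom cN = 1 := by
    have h6 := orderOf_dvd_of_pow_eq_one hk
    have h7 := orderOf_dvd_of_pow_eq_one hm''
    have h8 : orderOf (P.normalizerMonoidHom cN) ∣ Nat.gcd (p ^ k) (q ^ m) := Nat.dvd_gcd h6 h7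
    rw [hcop] at h8
    exact orderOf_eq_one_iff.mp (Nat.dvd_one.mp h8)
  have h9 : cN ∈ P.normalizerMonoidHom.ker := h5
  rw [Subgroup.normalizerMonoidHom_ker, Subgroup.mem_subgroupOf] at h9
  exact h9

end Cfsg.Agent.Lib.Helper24.HH
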