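import Cfsg.Agent.Lib.Helper24.Glauberman
import Cfsg.Agent.Lib.Helper63.PLength
import Cfsg.Agent.Lib.Helper55.Cores

set_option autoImplicit false
set_option linter.style.haveILetI false

namespace Cfsg.Agent.Lib.Helper24

open Subgroup Cfsg
open Cfsg.Agent.Lib.Helper33

section plenone
variable {G : Type*} [Group G]

/-- Structure of a group of `p`-length at most one: with `K = O_{p'}(G)` and `S` a Sylow
`p`-subgroup, `K S` is normal and `G = K N_G(S)`. -/
theorem plen_one_struct [Finite G] {p : ℕ} [Fact p.Prime] (hpl : PLengthLE p 1 G) (S : Sylow p G) :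
    (pPrimeCore p G ⊔ (S : Subgroup G)).Normal ∧
      pPrimeCore p G ⊔ normalizer ((S : Subgroup G) : Set G) = ⊤ := by
  obtain ⟨_, hnorm, heven, hodd⟩ := Cfsg.Agent.Lib.Helper63.isPSeries_ups (G := G) p
  set N1 := (upperPSeries p G 1).1 with hN1
  set N2 := (upperPSeries p G 2).1 with hN2
  have hN3 : (upperPSeries p G 3).1 = ⊤ := hpl
  have h01 : Cfsg.Agent.Lib.Helper63.PPrimeFac p ⊥ N1 := heven 0 (by decide)
  have h12 : Cfsg.Agent.Lib.Helper63.PFac p N1 N2 := hodd 1 (by decide)
  have h23 : Cfsg.Agent.Lib.Helper63.PPrimeFac p N2 ⊤ := by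
    have := heven 2 (by decide)
    simp only [] at this
    rwa [hN3] at this
  haveI hN1n : N1.Normal := hnorm 1
  haveI hN2n : N2.Normal := hnorm 2
  set K := pPrimeCore p G with hK
  haveI hKn : K.Normal := Cfsg.Agent.Lib.Helper55.pPrimeCore_normal' p
  -- N1 ≤ K
  have hN1K : N1 ≤ K := by
    apply Cfsg.Agent.Lib.Helper55.le_pPrimeCore p N1
    apply Cfsg.Agent.Lib.Helper63.card_coprime_of_forall
    intro x
    obtain ⟨n, hn, hxn⟩ := h01 x x.2
    refine ⟨n, hn, ?_⟩
    apply Subtype.ext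
    simpa using hxn
  -- S ≤ N2
  have hSN2 : (S : Subgroup G) ≤ N2 := by
    intro x hx
    obtain ⟨n, hn, hxn⟩ := h23 x (mem_top x)
    obtain ⟨k, hk⟩ := (S.2 : IsPGroup p (S : Subgroup G)) ⟨x, hx⟩
    have hk' : x ^ (p ^ k) = 1 := by
      have := congrArg Subtype.val hk
      simpa using this
    have hord : orderOf x ∣ p ^ k := orderOf_dvd_of_pow_eq_one hk'
    have hcop : n.Coprime (orderOf x) :=
      Nat.Coprime.coprime_dvd_right hord (Nat.Coprime.pow_right k hn)
    obtain ⟨m, hm⟩ := exists_pow_eq_self_of_coprime hcop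
    rw [← hm]
    exact N2.pow_mem hxn m
  -- N2 ≤ N1 ⊔ S
  have hN2le : N2 ≤ N1 ⊔ (S : Subgroup G) := by
    rw [← relIndex_eq_one]
    have hd1 : (N1 ⊔ (S : Subgroup G)).relIndex N2 ∣ N1.relIndex N2 :=
      relIndex_dvd_of_le_left N2 le_sup_left
    have hd2 : (N1 ⊔ (S : Subgroup G)).relIndex N2 ∣ (S : Subgroup G).index := by
      have h1 : (N1 ⊔ (S : Subgroup G)).relIndex N2 ∣ (S : Subgroup G).relIndex N2 :=
        relIndex_dvd_of_le_left N2 le_sup_right
      have h2 : (S : Subgroup G).relIndex N2 ∣ (S : Subgroup G).index :=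
        Dvd.intro _ (relIndex_mul_index hSN2)
      exact h1.trans h2
    -- N1.relIndex N2 is a p-power
    have hpow : ∃ n, N1.relIndex N2 = p ^ n := by
      haveI : (N1.subgroupOf N2).Normal := inferInstance
      have hP : IsPGroup p (N2 ⧸ N1.subgroupOf N2) := by
        intro g
        obtain ⟨y, rfl⟩ := QuotientGroup.mk_surjective g
        obtain ⟨m, hm⟩ := h12 y y.2
        refine ⟨m, ?_⟩
        rw [← QuotientGroup.mk_pow, QuotientGroup.eq_one_iff, mem_subgroupOf]
        simpa using hm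
      obtain ⟨n, hn⟩ := IsPGroup.iff_card.mp hP
      exact ⟨n, hn⟩
    obtain ⟨n, hn⟩ := hpow
    have hnd : ¬ p ∣ (S : Subgroup G).index := S.not_dvd_index
    have hc : ((N1 ⊔ (S : Subgroup G)).relIndex N2).Coprime (p ^ n) := by
      apply Nat.Coprime.pow_right
      rw [Nat.coprime_comm, Nat.Prime.coprime_iff_not_dvd (Fact.out : p.Prime)]
      exact fun h => hnd (h.trans hd2)
    rw [hn] at hd1
    exact Nat.Coprime.eq_one_of_dvd hc hd1
  have hKS : K ⊔ (S : Subgroup G) = K ⊔ N2 := by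
    apply le_antisymm
    · exact sup_le_sup_left hSN2 K
    · exact sup_le le_sup_left (hN2le.trans (sup_le_sup_right hN1K _))
  have hMn : (K ⊔ (S : Subgroup G)).Normal := by
    rw [hKS]; infer_instance
  refine ⟨hMn, ?_⟩
  haveI := hMn
  have hF := Sylow.normalizer_sup_eq_top' S (le_sup_right : (S : Subgroup G) ≤ K ⊔ (S : Subgroup G))
  rw [eq_top_iff, ← hF]
  apply sup_le le_sup_right
  exact sup_le le_sup_left (le_trans le_normalizer le_sup_right)

end plenone

end Cfsg.Agent.Lib.Helper24
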