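import Mathlib
import Cfsg.Prelude.Def_Local
import Cfsg.Prelude.Def_OddOrderLocal
import Cfsg.Agent.Lib.Helper24.BGStmt
import Cfsg.Agent.Lib.Helper24.SylowInv
import Cfsg.Agent.Lib.Helper23.AlphaB
import Cfsg.Agent.Lib.Helper23.LargeFitA
import Cfsg.Agent.Lib.Helper33.Conj
import Cfsg.Agent.S1461

/-!
# Bender–Glauberman Lemma 10.8: the normalizer of a Sylow subgroup controls fusion

From the statements of 10.1 and 10.6.
-/

set_option autoImplicit false
set_option linter.unusedSectionVars false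
set_option linter.unusedVariables false
set_option linter.style.haveILetI false

namespace Cfsg.Agent.Lib.Helper24.BG

open Subgroup Cfsg Cfsg.Agent.Lib.Helper23 Cfsg.Agent.Lib.Helper63
open Cfsg.Agent.Lib.Helper33 (cj cj_def mem_cj mem_cj' cj_mul cj_mono cj_eq_self_iff card_cj
  isPGroup_cj sylow_exists_cj cj_le_iff le_cj_iff conj_mem_cj)

universe u

variable {G : Type u} [Group G] [Finite G]

theorem cj_mul_centralizer (Q : Subgroup G) (y c : G) (hc : c ∈ centralizer (Q : Set G)) :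
    cj (y * c) Q = cj y Q := by
  rw [cj_mul]
  congr 1
  ext z
  rw [mem_cj]
  have key : ∀ w : G, w ∈ Q → c⁻¹ * w * c = w := by
    intro w hw
    have := Subgroup.mem_centralizer_iff.mp hc w hw
    calc c⁻¹ * w * c = c⁻¹ * (w * c) := by group
      _ = c⁻¹ * (c * w) := by rw [this]
      _ = w := by group
  have key2 : ∀ w : G, w ∈ Q → c * w * c⁻¹ = w := by
    intro w hw
    have := Subgroup.mem_centralizer_iff.mp hc w hw
    calc c * w * c⁻¹ = (w * c) * c⁻¹ := by rw [this]
      _ = w := by group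
  constructor
  · intro h
    have h3 : c * (c⁻¹ * z * c) * c⁻¹ = z := by group
    rw [← h3, key2 _ h]
    exact h
  · intro h
    rw [key z h]; exact h

/-- a maximal subgroup containing the normalizer of a nontrivial Sylow subgroup, with `p ∈ σ(M)` -/
theorem exists_coatom_sigma (hG : IsMinSimpleOddOrder G) (p : ℕ) [hp : Fact p.Prime]
    (P : Sylow p G) (hP1 : (P : Subgroup G) ≠ ⊥) :
    ∃ M : Subgroup G, IsCoatom M ∧ normalizer ((P : Subgroup G) : Set G) ≤ M ∧ p ∈ sigma M := by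
  have hPtop : (P : Subgroup G) ≠ ⊤ := by
    intro h
    apply not_isPGroup_top hG p
    rw [← h]
    exact P.isPGroup'
  have hN : normalizer ((P : Subgroup G) : Set G) ≠ ⊤ := BG10.normalizer_ne_top hG hP1 hPtop
  rcases eq_top_or_exists_le_coatom (normalizer ((P : Subgroup G) : Set G)) with h | ⟨M, hM, hNM⟩
  · exact absurd h hN
  · refine ⟨M, hM, hNM, hp.out, ?_, P.subtype (le_normalizer.trans hNM), ?_⟩
    · have h1 : p ∣ Nat.card ↥(P : Subgroup G) := by
        obtain ⟨k, hk⟩ := IsPGroup.iff_card.mp P.isPGroup'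
        have hk0 : k ≠ 0 := by
          rintro rfl
          rw [pow_zero] at hk
          exact hP1 (Subgroup.card_eq_one.mp hk)
        rw [hk]; exact dvd_pow_self p hk0
      exact h1.trans (Subgroup.card_dvd_of_le (le_normalizer.trans hNM))
    · rw [Sylow.coe_subtype, Subgroup.map_subgroupOf_eq_of_le (le_normalizer.trans hNM)]
      exact hNM

/-- **Control of fusion** by the normalizer of a Sylow subgroup (the strong form of
B&G Lemma 10.8(c)). -/
theorem fus (hG : IsMinSimpleOddOrder G) (h4 : Stmt1404 G) (h10 : Stmt1410 G)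
    (p : ℕ) [hp : Fact p.Prime] (P : Sylow p G) (Q : Subgroup G) (x : G)
    (hQP : Q ≤ (P : Subgroup G)) (hx : cj x Q ≤ (P : Subgroup G)) :
    ∃ y ∈ normalizer ((P : Subgroup G) : Set G), ∃ c ∈ centralizer (Q : Set G), x = y * c := by
  by_cases hQ : Q = ⊥
  · refine ⟨1, one_mem _, x, ?_, (one_mul x).symm⟩
    rw [hQ, Subgroup.mem_centralizer_iff]
    intro h hh
    rw [SetLike.mem_coe, Subgroup.mem_bot] at hh
    rw [hh, one_mul, mul_one]
  · have hP1 : (P : Subgroup G) ≠ ⊥ := by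
      intro h
      rw [h, le_bot_iff] at hQP
      exact hQ hQP
    obtain ⟨M, hM, hNM, hpσ⟩ := exists_coatom_sigma hG p P hP1
    have hPM : (P : Subgroup G) ≤ M := le_normalizer.trans hNM
    have hQp : IsPGroup p ↥Q := P.isPGroup'.to_le hQP
    obtain ⟨m, hm, c, hc, hxmc⟩ :=
      (h4 M hM p hpσ Q hQp hQ (hQP.trans hPM)).1 x (hx.trans hPM)
    haveI : Group.IsSolvable ↥M := isSolvable_of_ne_top hG hM.1
    have hpl : PLengthLE p 1 ↥M := h10 p M hM.1
    have hxQ : cj x Q = cj m Q := by rw [hxmc]; exact cj_mul_centralizer Q m c hc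
    obtain ⟨g, hg, c₂, hc₂, hgc⟩ := (Cfsg.Agent.S1461.result p hpl (P.subtype hPM)).2.1
      {y : ↥M | (y : G) ∈ Q} ⟨m, hm⟩
      (by
        intro y hy
        rw [SetLike.mem_coe, Sylow.coe_subtype, Subgroup.mem_subgroupOf]
        exact hQP hy)
      (by
        rintro _ ⟨y, hy, rfl⟩
        rw [SetLike.mem_coe, Sylow.coe_subtype, Subgroup.mem_subgroupOf]
        apply hx
        rw [hxQ]
        exact conj_mem_cj hy)
    refine ⟨(g : G), ?_, (c₂ : G) * c, ?_, ?_⟩
    · rw [Subgroup.mem_normalizer_iff] at hg ⊢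
      intro n
      constructor
      · intro hn
        have h1 := (hg ⟨n, hPM hn⟩).mp (by
          rw [Sylow.coe_subtype, Subgroup.mem_subgroupOf]; exact hn)
        rw [Sylow.coe_subtype, Subgroup.mem_subgroupOf] at h1
        exact h1
      · intro hn
        have hnM : n ∈ M := by
          have h1 : (g : G)⁻¹ * ((g : G) * n * (g : G)⁻¹) * (g : G) = n := by group
          rw [← h1]
          exact M.mul_mem (M.mul_mem (M.inv_mem g.2) (hPM hn)) g.2
        have h1 := (hg ⟨n, hnM⟩).mpr (by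
          rw [Sylow.coe_subtype, Subgroup.mem_subgroupOf]; exact hn)
        rw [Sylow.coe_subtype, Subgroup.mem_subgroupOf] at h1
        exact h1
    · apply Subgroup.mul_mem _ _ hc
      rw [Subgroup.mem_centralizer_iff]
      intro q hq
      have h1 := Subgroup.mem_centralizer_iff.mp hc₂ ⟨q, hPM (hQP hq)⟩ hq
      exact congrArg (fun t : ↥M => (t : G)) h1
    · rw [hxmc, ← mul_assoc]
      congr 1
      exact (congrArg (fun t : ↥M => (t : G)) hgc).symm

/-- **B&G Lemma 10.8(c),(d),(e).** -/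
theorem bg108 (hG : IsMinSimpleOddOrder G) (h4 : Stmt1404 G) (h10 : Stmt1410 G)
    (p : ℕ) [hp : Fact p.Prime] (P : Sylow p G) :
    (∀ (Q : Subgroup G) (x : G), Q ≤ (P : Subgroup G) →
        Q.map (MulAut.conj x).toMonoidHom ≤ (P : Subgroup G) →
        ∃ y ∈ Subgroup.normalizer ((P : Subgroup G) : Set G),
          Q.map (MulAut.conj x).toMonoidHom = Q.map (MulAut.conj y).toMonoidHom) ∧
      (∀ Q : Subgroup G, Q ≤ (P : Subgroup G) →
        ¬ p ∣ ((P : Subgroup G) ⊓ Subgroup.normalizer (Q : Set G)).relIndex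
          (Subgroup.normalizer (Q : Set G))) ∧
      (∀ (R Q : Subgroup G), IsPGroup p R → Q ≤ (P : Subgroup G) ⊓ R →
        Subgroup.normalizer ((P : Subgroup G) : Set G) ≤ Subgroup.normalizer (Q : Set G) →
        Subgroup.normalizer (R : Set G) ≤ Subgroup.normalizer (Q : Set G)) := by
  refine ⟨?_, ?_, ?_⟩
  · intro Q x hQP hx
    obtain ⟨y, hy, c, hc, hxyc⟩ := fus hG h4 h10 p P Q x hQP hx
    refine ⟨y, hy, ?_⟩
    show cj x Q = cj y Q
    rw [hxyc]
    exact cj_mul_centralizer Q y c hc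
  · intro Q hQP
    obtain ⟨N, hNdef⟩ : ∃ N : Subgroup G, N = normalizer (Q : Set G) := ⟨_, rfl⟩
    rw [← hNdef]
    have hQN : Q ≤ N := by rw [hNdef]; exact le_normalizer
    -- a Sylow `p`-subgroup of `N` containing `P ∩ N`
    have hPNp : IsPGroup p ↥(((P : Subgroup G) ⊓ N).subgroupOf N) :=
      (P.isPGroup'.to_le inf_le_left).comap_subtype
    obtain ⟨T, hT⟩ := hPNp.exists_le_sylow
    obtain ⟨hT'N, hT'p, hT'i⟩ := Cfsg.Agent.Lib.Helper24.sylow_map_facts N T
    obtain ⟨T', hT'def⟩ : ∃ T' : Subgroup G, T' = (T : Subgroup ↥N).map N.subtype := ⟨_, rfl⟩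
    rw [← hT'def] at hT'N hT'p hT'i
    have hPNT : (P : Subgroup G) ⊓ N ≤ T' := by
      intro z hz
      rw [hT'def]
      exact ⟨⟨z, hz.2⟩, hT (Subgroup.mem_subgroupOf.mpr hz), rfl⟩
    have hQT : Q ≤ T' := (le_inf hQP hQN).trans hPNT
    -- `T' ≤ P^g`
    obtain ⟨P', hP'⟩ := hT'p.exists_le_sylow
    obtain ⟨g, hg⟩ := sylow_exists_cj P P'
    have hT'g : T' ≤ cj g (P : Subgroup G) := by rw [hg]; exact hP'
    have hQg : cj g⁻¹ Q ≤ (P : Subgroup G) := by
      rw [cj_le_iff, inv_inv]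
      exact hQT.trans hT'g
    obtain ⟨y, hy, c, hc, hgyc⟩ := fus hG h4 h10 p P Q g⁻¹ hQP hQg
    have hg' : g = c⁻¹ * y⁻¹ := by
      rw [← inv_inv g, hgyc, mul_inv_rev]
    have hcjP : cj g (P : Subgroup G) = cj c⁻¹ (P : Subgroup G) := by
      rw [hg', cj_mul, cj_eq_self_iff.mpr (Subgroup.inv_mem _ hy)]
    have hcN : c ∈ N := by
      rw [hNdef]
      exact Subgroup.centralizer_le_normalizer _ hc
    have hcT : cj c T' ≤ (P : Subgroup G) ⊓ N := by
      refine le_inf ?_ ?_
      · rw [cj_le_iff, ← hcjP]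
        exact hT'g
      · intro z hz
        obtain ⟨t, ht, rfl⟩ := mem_cj'.mp hz
        exact N.mul_mem (N.mul_mem hcN (hT'N ht)) (N.inv_mem hcN)
    have hcard : Nat.card ↥T' ≤ Nat.card ↥((P : Subgroup G) ⊓ N : Subgroup G) := by
      rw [← card_cj c T']
      exact Nat.le_of_dvd Nat.card_pos (Subgroup.card_dvd_of_le hcT)
    have heq : (P : Subgroup G) ⊓ N = T' :=
      Subgroup.eq_of_le_of_card_ge hPNT hcard
    rw [heq]
    exact hT'i
  · intro R Q hR hQ hNPQ n hn
    have hQP : Q ≤ (P : Subgroup G) := hQ.trans inf_le_left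
    have hQR : Q ≤ R := hQ.trans inf_le_right
    obtain ⟨P', hP'⟩ := hR.exists_le_sylow
    obtain ⟨g, hg⟩ := sylow_exists_cj P P'
    have hRg : R ≤ cj g (P : Subgroup G) := by rw [hg]; exact hP'
    have hcN : centralizer (Q : Set G) ≤ normalizer (Q : Set G) :=
      Subgroup.centralizer_le_normalizer _
    -- `g ∈ N(Q)`
    have hQg : cj g⁻¹ Q ≤ (P : Subgroup G) := by
      rw [cj_le_iff, inv_inv]
      exact hQR.trans hRg
    obtain ⟨y, hy, c, hc, hgyc⟩ := fus hG h4 h10 p P Q g⁻¹ hQP hQg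
    have hginv : g⁻¹ ∈ normalizer (Q : Set G) := by
      rw [hgyc]
      exact Subgroup.mul_mem _ (hNPQ hy) (hcN hc)
    have hgN : g ∈ normalizer (Q : Set G) := by
      have := Subgroup.inv_mem _ hginv
      rwa [inv_inv] at this
    -- `g⁻¹ n ∈ N(Q)`
    have hnR : cj n R = R := cj_eq_self_iff.mpr hn
    have hQn : cj (g⁻¹ * n) Q ≤ (P : Subgroup G) := by
      rw [cj_mul, cj_le_iff, inv_inv]
      calc cj n Q ≤ cj n R := cj_mono hQR
        _ = R := hnR
        _ ≤ cj g (P : Subgroup G) := hRg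
    obtain ⟨y', hy', c', hc', hgn⟩ := fus hG h4 h10 p P Q (g⁻¹ * n) hQP hQn
    have h1 : g⁻¹ * n ∈ normalizer (Q : Set G) := by
      rw [hgn]
      exact Subgroup.mul_mem _ (hNPQ hy') (hcN hc')
    have h2 : n = g * (g⁻¹ * n) := by group
    rw [h2]
    exact Subgroup.mul_mem _ hgN h1

end Cfsg.Agent.Lib.Helper24.BG
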