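import Mathlib
import Cfsg.Prelude.Def_Local
import Cfsg.Prelude.Def_OddOrderLocal
import Cfsg.Agent.Lib.Helper24.BGStmt
import Cfsg.Agent.Lib.Helper24.BG108
import Cfsg.Agent.S1459

/-!
# Bender–Glauberman Corollary 10.7(a): `P = [P, V]` and `P ≤ N_G(P)'`

From the statements of 10.1 and 10.6.
-/

set_option autoImplicit false
set_option linter.unusedSectionVars false
set_option linter.unusedVariables false
set_option linter.style.haveILetI false

namespace Cfsg.Agent.Lib.Helper24.BG

open Subgroup Cfsg Cfsg.Agent.Lib.Helper23 Cfsg.Agent.Lib.Helper63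
open Cfsg.Agent.Lib.Helper33 (cj cj_def mem_cj mem_cj' cj_mul cj_mono cj_eq_self_iff card_cj
  isPGroup_cj sylow_exists_cj cj_le_iff le_cj_iff conj_mem_cj)
open scoped commutatorElement

universe u

variable {G : Type u} [Group G] [Finite G]

/-- `P ≤ N_G(P)'` for a Sylow subgroup `P` of a minimal simple group of odd order. -/
theorem sylow_le_commutator_normalizer (hG : IsMinSimpleOddOrder G) (h4 : Stmt1404 G)
    (h10 : Stmt1410 G) (p : ℕ) [hp : Fact p.Prime] (P : Sylow p G) :
    (P : Subgroup G) ≤ ⁅normalizer ((P : Subgroup G) : Set G),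
      normalizer ((P : Subgroup G) : Set G)⁆ := by
  have h1 : _root_.commutator G ⊓ (P : Subgroup G) = (P : Subgroup G).focalSubgroup :=
    Subgroup.commutator_inf_eq_focalSubgroup P
  rw [commutator_eq_top_of_minSimple hG, top_inf_eq] at h1
  refine le_of_eq_of_le h1 ?_
  rw [Subgroup.focalSubgroup_def, Subgroup.closure_le]
  rintro g ⟨hgP, x, hxP, u, rfl⟩
  -- `u x u⁻¹ ∈ P`
  have h2 : u * x * u⁻¹ ∈ (P : Subgroup G) := by
    have h3 : u * x * u⁻¹ = (x⁻¹ * ⁅x, u⁆)⁻¹ := by
      rw [commutatorElement_def]; group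
    rw [h3]
    exact Subgroup.inv_mem _ (Subgroup.mul_mem _ (Subgroup.inv_mem _ hxP) hgP)
  have hQP : zpowers x ≤ (P : Subgroup G) := by
    rw [Subgroup.zpowers_le]; exact hxP
  have hcj : cj u (zpowers x) ≤ (P : Subgroup G) := by
    rw [cj_def, MonoidHom.map_zpowers, Subgroup.zpowers_le]
    exact h2
  obtain ⟨y, hy, c, hc, huyc⟩ := fus hG h4 h10 p P (zpowers x) u hQP hcj
  have hcx : x * c = c * x :=
    Subgroup.mem_centralizer_iff.mp hc x (Subgroup.mem_zpowers x)
  have h5 : ⁅x, u⁆ = ⁅x, y⁆ := by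
    rw [commutatorElement_def, commutatorElement_def, huyc]
    have : x * (y * c) * x⁻¹ * (y * c)⁻¹ = x * y * (c * x⁻¹ * c⁻¹) * y⁻¹ := by group
    rw [this]
    have h6 : c * x⁻¹ * c⁻¹ = x⁻¹ := by
      have : c * x⁻¹ = x⁻¹ * c := by
        calc c * x⁻¹ = x⁻¹ * (x * c) * x⁻¹ := by group
          _ = x⁻¹ * (c * x) * x⁻¹ := by rw [hcx]
          _ = x⁻¹ * c := by group
      rw [this]; group
    rw [h6]
  rw [SetLike.mem_coe, h5]
  exact Subgroup.commutator_mem_commutator (le_normalizer hxP) hy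

/-- **B&G Corollary 10.7(a).** -/
theorem bg107a (hG : IsMinSimpleOddOrder G) (h4 : Stmt1404 G) (h10 : Stmt1410 G)
    (p : ℕ) [hp : Fact p.Prime] (P : Sylow p G) (V : Subgroup G)
    (hV : Cfsg.IsComplIn (P : Subgroup G) V (Subgroup.normalizer ((P : Subgroup G) : Set G))) :
    (P : Subgroup G) = ⁅(P : Subgroup G), V⁆ ∧
      (P : Subgroup G) ≤ ⁅Subgroup.normalizer ((P : Subgroup G) : Set G),
        Subgroup.normalizer ((P : Subgroup G) : Set G)⁆ := by
  have hPN' := sylow_le_commutator_normalizer hG h4 h10 p P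
  refine ⟨?_, hPN'⟩
  by_cases hP1 : (P : Subgroup G) = ⊥
  · rw [hP1]
    exact (Subgroup.commutator_bot_left V).symm
  · obtain ⟨N, hNdef⟩ : ∃ N : Subgroup G, N = normalizer ((P : Subgroup G) : Set G) := ⟨_, rfl⟩
    rw [← hNdef] at hV hPN'
    obtain ⟨hPN, hVN, hdisj, hprod⟩ := hV
    have hPtop : (P : Subgroup G) ≠ ⊤ := by
      intro h
      apply not_isPGroup_top hG p
      rw [← h]
      exact P.isPGroup'
    have hNtop : N ≠ ⊤ := by
      rw [hNdef]; exact BG10.normalizer_ne_top hG hP1 hPtop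
    haveI : Group.IsSolvable ↥N := isSolvable_of_ne_top hG hNtop
    obtain ⟨H, hH⟩ : ∃ H : Subgroup ↥N, H = (P : Subgroup G).subgroupOf N := ⟨_, rfl⟩
    obtain ⟨K, hK⟩ : ∃ K : Subgroup ↥N, K = V.subgroupOf N := ⟨_, rfl⟩
    have hHmap : H.map N.subtype = (P : Subgroup G) := by
      rw [hH]; exact Subgroup.map_subgroupOf_eq_of_le hPN
    have hKmap : K.map N.subtype = V := by
      rw [hK]; exact Subgroup.map_subgroupOf_eq_of_le hVN
    haveI hHn : H.Normal := by
      rw [hH]
      exact Cfsg.Agent.Lib.Helper24.normal_subgroupOf_of_le_normalizer (hNdef ▸ le_rfl)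
    have hHcard : Nat.card ↥H = Nat.card ↥(P : Subgroup G) := by
      rw [← hHmap, Subgroup.card_map_of_injective N.subtype_injective]
    have hHidx : H.index = (P : Subgroup G).relIndex N := by
      rw [hH]; rfl
    have hcop : (Nat.card ↥H).Coprime H.index := by
      rw [hHcard, hHidx]
      obtain ⟨k, hk⟩ := IsPGroup.iff_card.mp P.isPGroup'
      rw [hk]
      apply Nat.Coprime.pow_left
      rw [Nat.Prime.coprime_iff_not_dvd hp.out]
      intro hd
      exact P.not_dvd_index (hd.trans (Subgroup.relIndex_dvd_index_of_le hPN))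
    have hcompl : Subgroup.IsComplement' H K := by
      apply Subgroup.isComplement'_of_disjoint_and_mul_eq_univ
      · rw [disjoint_iff, eq_bot_iff]
        intro z hz
        rw [Subgroup.mem_bot]
        have h1 : (z : G) ∈ (P : Subgroup G) ⊓ V := by
          refine ⟨?_, ?_⟩
          · have := (Subgroup.mem_inf.mp hz).1; rw [hH, Subgroup.mem_subgroupOf] at this; exact this
          · have := (Subgroup.mem_inf.mp hz).2; rw [hK, Subgroup.mem_subgroupOf] at this; exact this
        rw [hdisj, Subgroup.mem_bot] at h1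
        exact Subtype.ext h1
      · rw [Set.eq_univ_iff_forall]
        intro m
        obtain ⟨a, ha, b, hb, hmab⟩ := hprod m m.2
        refine ⟨⟨a, hPN ha⟩, ?_, ⟨b, hVN hb⟩, ?_, ?_⟩
        · rw [SetLike.mem_coe, hH, Subgroup.mem_subgroupOf]; exact ha
        · rw [SetLike.mem_coe, hK, Subgroup.mem_subgroupOf]; exact hb
        · exact Subtype.ext hmab.symm
    have hHc : H ≤ _root_.commutator ↥N := by
      intro z hz
      have h1 : (z : G) ∈ ⁅N, N⁆ := by
        apply hPN'
        rw [hH, Subgroup.mem_subgroupOf] at hz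
        exact hz
      rw [← Subgroup.map_subtype_commutator] at h1
      obtain ⟨w, hw, hwz⟩ := h1
      have : w = z := Subtype.ext hwz
      rw [← this]; exact hw
    have hHK : H = ⁅H, K⁆ :=
      ((Cfsg.Agent.S1459.result (G := ↥N)).1 H K hHn hcop hcompl hHc).1
    have h2 := congrArg (Subgroup.map N.subtype) hHK
    rw [Subgroup.map_commutator, hHmap, hKmap] at h2
    exact h2

end Cfsg.Agent.Lib.Helper24.BG
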