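import Mathlib
import Cfsg.Prelude.Def_Local
import Cfsg.Prelude.Def_OddOrderLocal
import Cfsg.Agent.Lib.Helper24.BGStmt
import Cfsg.Agent.Lib.Helper24.BG107
import Cfsg.Agent.Lib.Helper24.RelSZ
import Cfsg.Agent.Lib.Helper86.OrderPCube
import Cfsg.Agent.S1448

/-!
# Bender–Glauberman Corollary 10.7(b): Sylow subgroups of rank at most two
-/

set_option autoImplicit false
set_option linter.unusedSectionVars false
set_option linter.unusedVariables false
set_option linter.style.haveILetI false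

namespace Cfsg.Agent.Lib.Helper24.BG

open Subgroup Cfsg Cfsg.Agent.Lib.Helper23 Cfsg.Agent.Lib.Helper63
open scoped Pointwise

universe u

variable {G : Type u} [Group G] [Finite G]

/-- for a nonabelian subgroup of order `p³`, the derived subgroup is the centre -/
theorem commutator_eq_center_of_card_cube {p : ℕ} [Fact p.Prime] (R₁ : Subgroup G)
    (hcard : Nat.card ↥R₁ = p ^ 3) (hna : ¬ IsMulCommutative ↥R₁) :
    ⁅R₁, R₁⁆ = R₁ ⊓ centralizer (R₁ : Set G) := by
  have hna' : ¬ ∀ a b : ↥R₁, a * b = b * a := fun h => hna ⟨⟨fun a b => h a b⟩⟩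
  obtain ⟨-, h2, -⟩ := Cfsg.Agent.Lib.Helper86.nonabelian_basic p hcard hna'
  rw [← Subgroup.map_subtype_commutator, h2]
  ext x
  constructor
  · rintro ⟨z, hz, rfl⟩
    refine Subgroup.mem_inf.mpr ⟨z.2, ?_⟩
    rw [Subgroup.mem_centralizer_iff]
    intro y hy
    have := Subgroup.mem_center_iff.mp hz ⟨y, hy⟩
    exact congrArg (fun t : ↥R₁ => (t : G)) this
  · intro hx
    obtain ⟨hx1, hx2⟩ := Subgroup.mem_inf.mp hx
    refine ⟨⟨x, hx1⟩, ?_, rfl⟩
    rw [SetLike.mem_coe, Subgroup.mem_center_iff]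
    intro y
    exact Subtype.ext (Subgroup.mem_centralizer_iff.mp hx2 y y.2)

/-- **B&G Corollary 10.7(b).** -/
theorem bg107b (hG : IsMinSimpleOddOrder G) (h4 : Stmt1404 G) (h10 : Stmt1410 G)
    (p : ℕ) [hp : Fact p.Prime] (P : Sylow p G) (hr : Cfsg.PRankLE p 2 (P : Subgroup G)) :
    IsMulCommutative (P : Subgroup G) ∨ ∃ P₁ P₂ : Subgroup G, P₁ ⊔ P₂ = (P : Subgroup G) ∧
      (∀ a ∈ P₁, ∀ b ∈ P₂, a * b = b * a) ∧
        ¬ IsMulCommutative P₁ ∧ Nat.card P₁ = p ^ 3 ∧ Monoid.exponent P₁ = p ∧ IsCyclic P₂ ∧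
        Subgroup.closure {x : G | x ∈ P₂ ∧ x ^ p = 1} =
          P₁ ⊓ Subgroup.centralizer (P₁ : Set G) := by
  by_cases hP1 : (P : Subgroup G) = ⊥
  · left
    rw [hP1]
    exact ⟨⟨fun a b => Subtype.ext (by
      have ha : (a : G) = 1 := Subgroup.mem_bot.mp a.2
      have hb : (b : G) = 1 := Subgroup.mem_bot.mp b.2
      simp [ha, hb])⟩⟩
  · obtain ⟨N, hNdef⟩ : ∃ N : Subgroup G, N = normalizer ((P : Subgroup G) : Set G) := ⟨_, rfl⟩
    have hPN : (P : Subgroup G) ≤ N := by rw [hNdef]; exact le_normalizer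
    have hNn : N ≤ normalizer ((P : Subgroup G) : Set G) := by rw [hNdef]
    have hnd : ¬ p ∣ (P : Subgroup G).relIndex N := fun hd =>
      P.not_dvd_index (hd.trans (Subgroup.relIndex_dvd_index_of_le hPN))
    obtain ⟨k, hk⟩ := IsPGroup.iff_card.mp P.isPGroup'
    have hcop0 : (Nat.card ↥(P : Subgroup G)).Coprime ((P : Subgroup G).relIndex N) := by
      rw [hk]
      apply Nat.Coprime.pow_left
      rw [Nat.Prime.coprime_iff_not_dvd hp.out]
      exact hnd
    obtain ⟨V, hVN, hVcard, hVP, hVsup⟩ :=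
      Cfsg.Agent.Lib.Helper24.rel_sz_exists (P : Subgroup G) N hPN hNn hcop0
    have hVnorm : V ≤ normalizer ((P : Subgroup G) : Set G) := hVN.trans hNn
    have hcompl : Cfsg.IsComplIn (P : Subgroup G) V
        (Subgroup.normalizer ((P : Subgroup G) : Set G)) := by
      rw [← hNdef]
      refine ⟨hPN, hVN, by rw [inf_comm]; exact hVP, ?_⟩
      intro m hm
      have h1 : m ∈ ((P : Subgroup G) ⊔ V : Subgroup G) := by
        rw [sup_comm, hVsup]; exact hm
      have h2 : (((P : Subgroup G) ⊔ V : Subgroup G) : Set G) = ((P : Subgroup G) : Set G) * (V : Set G) :=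
        Subgroup.coe_mul_of_right_le_normalizer_left (P : Subgroup G) V hVnorm
      have h3 : m ∈ ((P : Subgroup G) : Set G) * (V : Set G) := by
        rw [← h2]; exact h1
      obtain ⟨a, ha, b, hb, hab⟩ := Set.mem_mul.mp h3
      exact ⟨a, ha, b, hb, hab.symm⟩
    have hPV := (bg107a hG h4 h10 p P V hcompl).1
    have hpd : p ∣ Nat.card ↥(P : Subgroup G) := by
      have hk0 : k ≠ 0 := by
        rintro rfl
        rw [pow_zero] at hk
        exact hP1 (Subgroup.card_eq_one.mp hk)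
      rw [hk]; exact dvd_pow_self p hk0
    have hp2 : p ≠ 2 := ne_two_of_dvd_card_subgroup hG hpd
    have hVcop : (Nat.card ↥V).Coprime p := by
      rw [hVcard, Nat.coprime_comm, Nat.Prime.coprime_iff_not_dvd hp.out]
      exact hnd
    have hVodd : Odd (Nat.card ↥V) := odd_card_subgroup hG V
    obtain ⟨-, h⟩ := Cfsg.Agent.S1448.result p hp2 (P : Subgroup G) V P.isPGroup' hP1 hr hVnorm
      hVcop hVodd hPV.symm
    rcases h with h | ⟨R₁, R₂, h1, h2, h3, h4', h5, h6, h7⟩
    · exact Or.inl h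
    · refine Or.inr ⟨R₁, R₂, h1, h2, h3, h4', h5, h6, ?_⟩
      rw [h7]
      exact commutator_eq_center_of_card_cube R₁ h4' h3

end Cfsg.Agent.Lib.Helper24.BG
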