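import Mathlib
import Cfsg.Prelude.Def_Transfer

/-!
# Ward's theorem (S3796): the interface between the reduction and the core

`CoreStmt` is the "three-layer" core statement used in the minimal counterexample:
inside a finite group `Γ`, an elementary abelian group `A` of order `r²` acts without
common fixed points on `V S T`, where `V` is an abelian `q`-group, `S` an `s`-group acting
faithfully on `V` with `C_V(Z(S)) = 1`, `T` a `t`-group normalizing `S` and `V`, and for each
subgroup `B < A` of order `r` the fixed points `C_S(B)` commute with `C_V(B)` and with `C_T(B)`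
(this is what nilpotency of `C_{VST}(B)`, i.e. Thompson's theorem, gives).
Conclusion: `T` centralizes `S`.
-/

set_option autoImplicit false

namespace Cfsg.Agent.Lib.Helper24.Ward

universe u

/-- The core statement of Ward's theorem, as a proposition. -/
def CoreStmt : Prop :=
  ∀ (Γ : Type u) [Group Γ] [Finite Γ] (r q s t : ℕ), r.Prime → q.Prime → s.Prime → t.Prime →
    q ≠ s → s ≠ t → r ≠ q → r ≠ s → r ≠ t →
    ∀ (A V S T : Subgroup Γ),
      Cfsg.IsElementaryAbelian r A → Nat.card A = r ^ 2 →
      IsPGroup q V → (∀ x ∈ V, ∀ y ∈ V, x * y = y * x) →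
      IsPGroup s S → IsPGroup t T →
      A ≤ Subgroup.normalizer (V : Set Γ) → A ≤ Subgroup.normalizer (S : Set Γ) →
      A ≤ Subgroup.normalizer (T : Set Γ) →
      S ≤ Subgroup.normalizer (V : Set Γ) → T ≤ Subgroup.normalizer (V : Set Γ) →
      T ≤ Subgroup.normalizer (S : Set Γ) →
      V ⊓ Subgroup.centralizer (A : Set Γ) = ⊥ → S ⊓ Subgroup.centralizer (A : Set Γ) = ⊥ →
      T ⊓ Subgroup.centralizer (A : Set Γ) = ⊥ →
      S ⊓ Subgroup.centralizer (V : Set Γ) = ⊥ →
      V ⊓ Subgroup.centralizer ((S ⊓ Subgroup.centralizer (S : Set Γ) : Subgroup Γ) : Set Γ) = ⊥ →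
      (∀ B : Subgroup Γ, B ≤ A → Nat.card B = r →
        ∀ x ∈ S ⊓ Subgroup.centralizer (B : Set Γ), ∀ v ∈ V ⊓ Subgroup.centralizer (B : Set Γ),
          x * v = v * x) →
      (∀ B : Subgroup Γ, B ≤ A → Nat.card B = r →
        ∀ x ∈ S ⊓ Subgroup.centralizer (B : Set Γ), ∀ y ∈ T ⊓ Subgroup.centralizer (B : Set Γ),
          x * y = y * x) →
      ∀ x ∈ S, ∀ y ∈ T, x * y = y * x

end Cfsg.Agent.Lib.Helper24.Ward
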