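import Mathlib
import Cfsg.Prelude.Def_Transfer
import Cfsg.Agent.Lib.Helper24.Omega1

/-!
# Pure group lemmas for the normality of `τ₂`-Sylow subgroups (B&G §12)

* `commutator_normalizer_le_centralizer_of_isCyclic` : `N(Q)' ≤ C(Q)` for cyclic `Q`.
* `primaryPart` : the `q`-primary part of an abelian subgroup.
* `normalizer_le_centralizer_of_omega` : an element normalizing an abelian Sylow `p`-subgroup `P`
  (`p` odd) and centralizing its elements of order `p` centralizes `P`.
* `exists_normal_pComplement_in` : Burnside's normal `p`-complement inside a subgroup `C`.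
-/

set_option autoImplicit false
set_option linter.unusedSectionVars false
set_option linter.unusedVariables false
set_option linter.style.haveILetI false

namespace Cfsg.Agent.Lib.Helper24.Tau2

open Subgroup

variable {G : Type*} [Group G]

/-- `N(Q)' ≤ C(Q)` for a cyclic subgroup `Q`. -/
theorem commutator_normalizer_le_centralizer_of_isCyclic (Q : Subgroup G) (hQ : IsCyclic Q) :
    ⁅normalizer (Q : Set G), normalizer (Q : Set G)⁆ ≤ centralizer (Q : Set G) := by
  letI := (hQ.mulAutMulEquiv _).toMonoidHom.commGroupOfInjective (hQ.mulAutMulEquiv _).injective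
  have h := Abelianization.commutator_subset_ker Q.normalizerMonoidHom
  rw [Subgroup.normalizerMonoidHom_ker] at h
  rw [← Subgroup.map_subtype_commutator]
  rintro _ ⟨x, hx, rfl⟩
  exact Subgroup.mem_subgroupOf.mp (h hx)

/-- the `q`-primary part of a (commutative) subgroup -/
def primaryPart (V : Subgroup G) (hV : ∀ x ∈ V, ∀ y ∈ V, x * y = y * x) (q : ℕ) : Subgroup G where
  carrier := {x | x ∈ V ∧ ∃ n : ℕ, x ^ (q ^ n) = 1}
  one_mem' := ⟨V.one_mem, 0, by simp⟩
  mul_mem' := by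
    rintro a b ⟨ha, n, hn⟩ ⟨hb, m, hm⟩
    refine ⟨V.mul_mem ha hb, n + m, ?_⟩
    have hc : Commute a b := hV a ha b hb
    rw [hc.mul_pow, pow_add, pow_mul, hn, one_pow, one_mul, mul_comm (q ^ n) (q ^ m), pow_mul, hm,
      one_pow]
  inv_mem' := by
    rintro a ⟨ha, n, hn⟩
    exact ⟨V.inv_mem ha, n, by rw [inv_pow, hn, inv_one]⟩

theorem mem_primaryPart {V : Subgroup G} {hV : ∀ x ∈ V, ∀ y ∈ V, x * y = y * x} {q : ℕ} {x : G} :
    x ∈ primaryPart V hV q ↔ x ∈ V ∧ ∃ n : ℕ, x ^ (q ^ n) = 1 := Iff.rfl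

theorem primaryPart_le (V : Subgroup G) (hV : ∀ x ∈ V, ∀ y ∈ V, x * y = y * x) (q : ℕ) :
    primaryPart V hV q ≤ V := fun _ hx => hx.1

theorem primaryPart_isPGroup (V : Subgroup G) (hV : ∀ x ∈ V, ∀ y ∈ V, x * y = y * x) (q : ℕ) :
    IsPGroup q (primaryPart V hV q) := by
  rintro ⟨x, hx, n, hn⟩
  exact ⟨n, Subtype.ext (by simpa using hn)⟩

theorem primaryPart_ne_bot [Finite G] (V : Subgroup G) (hV : ∀ x ∈ V, ∀ y ∈ V, x * y = y * x)
    (q : ℕ) [Fact q.Prime] (hq : q ∣ Nat.card V) : primaryPart V hV q ≠ ⊥ := by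
  obtain ⟨x, hx⟩ := exists_prime_orderOf_dvd_card' (G := V) q hq
  intro h
  have h1 : (x : G) ∈ primaryPart V hV q := by
    refine ⟨x.2, 1, ?_⟩
    have := pow_orderOf_eq_one x
    rw [hx] at this
    rw [pow_one]
    simpa using congrArg Subtype.val this
  rw [h, Subgroup.mem_bot] at h1
  have h2 : x = 1 := Subtype.ext h1
  rw [h2, orderOf_one] at hx
  exact (Fact.out : q.Prime).one_lt.ne hx

theorem primaryPart_mono {V W : Subgroup G} (hV : ∀ x ∈ V, ∀ y ∈ V, x * y = y * x)
    (hW : ∀ x ∈ W, ∀ y ∈ W, x * y = y * x) (h : V ≤ W) (q : ℕ) :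
    primaryPart V hV q ≤ primaryPart W hW q := fun _ hx => ⟨h hx.1, hx.2⟩

/-- whatever normalizes `V` normalizes its primary parts -/
theorem normalizer_le_normalizer_primaryPart (V : Subgroup G)
    (hV : ∀ x ∈ V, ∀ y ∈ V, x * y = y * x) (q : ℕ) :
    normalizer (V : Set G) ≤ normalizer ((primaryPart V hV q : Subgroup G) : Set G) := by
  have key : ∀ g : G, g ∈ normalizer (V : Set G) → ∀ x ∈ primaryPart V hV q,
      g * x * g⁻¹ ∈ primaryPart V hV q := by
    rintro g hg x ⟨hx, n, hn⟩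
    refine ⟨(Subgroup.mem_normalizer_iff.mp hg x).mp hx, n, ?_⟩
    rw [conj_pow, hn, mul_one, mul_inv_cancel]
  intro g hg
  rw [Subgroup.mem_normalizer_iff]
  intro x
  constructor
  · exact key g hg x
  · intro hx
    have := key g⁻¹ (Subgroup.inv_mem _ hg) _ hx
    have h2 : g⁻¹ * (g * x * g⁻¹) * g⁻¹⁻¹ = x := by group
    rwa [h2] at this

/-- a `q`-element of `V` lies in the primary part -/
theorem mem_primaryPart_of_isPGroup {V T : Subgroup G} (hV : ∀ x ∈ V, ∀ y ∈ V, x * y = y * x)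
    {q : ℕ} (hT : IsPGroup q T) (hTV : T ≤ V) : T ≤ primaryPart V hV q := by
  intro x hx
  obtain ⟨n, hn⟩ := hT ⟨x, hx⟩
  exact ⟨hTV hx, n, by simpa using congrArg Subtype.val hn⟩

/-- An element normalizing an abelian Sylow `p`-subgroup (`p` odd) and centralizing its elements of
order `p` centralizes it. -/
theorem normalizer_le_centralizer_of_omega [Finite G] {p : ℕ} [hp : Fact p.Prime] (hp2 : p ≠ 2)
    (P : Sylow p G) (hab : ∀ x ∈ (P : Subgroup G), ∀ y ∈ (P : Subgroup G), x * y = y * x)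
    (n : G) (hn : n ∈ normalizer ((P : Subgroup G) : Set G))
    (hfix : ∀ x ∈ (P : Subgroup G), orderOf x = p → n * x = x * n) :
    n ∈ centralizer ((P : Subgroup G) : Set G) := by
  have hm0 : orderOf n ≠ 0 := (orderOf_pos n).ne'
  obtain ⟨a, m', hm', hm⟩ := Nat.exists_eq_pow_mul_and_not_dvd hm0 p hp.out.ne_one
  have hcop : Nat.Coprime (p ^ a) m' :=
    Nat.Coprime.pow_left _ ((Nat.Prime.coprime_iff_not_dvd hp.out).mpr hm')
  -- the `p`-part
  have hu : n ^ m' ∈ centralizer ((P : Subgroup G) : Set G) := by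
    have h1 : IsPGroup p (zpowers (n ^ m')) := by
      rw [IsPGroup.iff_orderOf]
      intro g
      have hg : (g : G) ^ (p ^ a) = 1 := by
        obtain ⟨k, hk⟩ := Subgroup.mem_zpowers_iff.mp g.2
        rw [← hk, ← zpow_natCast, ← zpow_mul, mul_comm, zpow_mul, zpow_natCast, ← pow_mul,
          mul_comm, ← hm, pow_orderOf_eq_one, one_zpow]
      have h2 : orderOf g ∣ p ^ a := by
        rw [← Subgroup.orderOf_coe]
        exact orderOf_dvd_of_pow_eq_one hg
      obtain ⟨k, -, hk⟩ := (Nat.dvd_prime_pow hp.out).mp h2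
      exact ⟨k, hk⟩
    have h2 : zpowers (n ^ m') ≤ normalizer ((P : Subgroup G) : Set G) := by
      rw [Subgroup.zpowers_le]; exact Subgroup.pow_mem _ hn _
    have h3 := h1.inf_normalizer_sylow P
    have h4 : zpowers (n ^ m') ≤ (P : Subgroup G) := by
      have h6 : zpowers (n ^ m') ⊓ normalizer ((P : Subgroup G) : Set G) = zpowers (n ^ m') :=
        inf_eq_left.mpr h2
      have h7 : zpowers (n ^ m') = zpowers (n ^ m') ⊓ (P : Subgroup G) := h6.symm.trans h3
      exact inf_eq_left.mp h7.symm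
    have h5 : n ^ m' ∈ (P : Subgroup G) := h4 (Subgroup.mem_zpowers _)
    rw [Subgroup.mem_centralizer_iff]
    intro y hy
    exact hab y hy _ h5
  -- the `p'`-part
  have hv : n ^ (p ^ a) ∈ centralizer ((P : Subgroup G) : Set G) := by
    have h1 : (Nat.card (zpowers (n ^ (p ^ a)))).Coprime p := by
      rw [Nat.card_zpowers]
      have h2 : orderOf (n ^ (p ^ a)) ∣ m' := by
        apply orderOf_dvd_of_pow_eq_one
        rw [← pow_mul, ← hm, pow_orderOf_eq_one]
      exact Nat.Coprime.coprime_dvd_left h2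
        ((Nat.Prime.coprime_iff_not_dvd hp.out).mpr hm').symm
    have h2 : zpowers (n ^ (p ^ a)) ≤ normalizer ((P : Subgroup G) : Set G) := by
      rw [Subgroup.zpowers_le]; exact Subgroup.pow_mem _ hn _
    have h3 := Cfsg.Agent.Lib.Helper24.omega1_centralizer hp2 (zpowers (n ^ (p ^ a)))
      (P : Subgroup G) h1 P.isPGroup' h2 (by
        intro x hx hox
        rw [Subgroup.zpowers_le, Subgroup.mem_centralizer_iff]
        intro y hy
        rw [Set.mem_singleton_iff] at hy
        subst hy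
        have hc : Commute n y := hfix y hx hox
        exact ((hc.pow_left (p ^ a)).eq).symm)
    exact h3 (Subgroup.mem_zpowers _)
  -- Bezout
  have hb := Int.gcd_eq_gcd_ab (m' : ℤ) ((p ^ a : ℕ) : ℤ)
  have hg1 : Int.gcd (m' : ℤ) ((p ^ a : ℕ) : ℤ) = 1 := by
    rw [Int.gcd_natCast_natCast]; exact hcop.symm
  rw [hg1] at hb
  have hn' : n = (n ^ m') ^ (Int.gcdA (m' : ℤ) ((p ^ a : ℕ) : ℤ)) *
      (n ^ (p ^ a)) ^ (Int.gcdB (m' : ℤ) ((p ^ a : ℕ) : ℤ)) := by
    rw [← zpow_natCast n m', ← zpow_natCast n (p ^ a), ← zpow_mul, ← zpow_mul, ← zpow_add]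
    have : ((m' : ℤ) * Int.gcdA (m' : ℤ) ((p ^ a : ℕ) : ℤ) +
        ((p ^ a : ℕ) : ℤ) * Int.gcdB (m' : ℤ) ((p ^ a : ℕ) : ℤ)) = 1 := by
      rw [← hb]; rfl
    rw [this, zpow_one]
  rw [hn']
  exact Subgroup.mul_mem _ (Subgroup.zpow_mem _ hu _) (Subgroup.zpow_mem _ hv _)

/-- **Burnside's normal `p`-complement inside a subgroup.** -/
theorem exists_normal_pComplement_in [Finite G] {p : ℕ} [hp : Fact p.Prime] (P : Sylow p G)
    (C : Subgroup G) (hPC : (P : Subgroup G) ≤ C)
    (hNC : ∀ n ∈ C, n ∈ normalizer ((P : Subgroup G) : Set G) →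
      n ∈ centralizer ((P : Subgroup G) : Set G)) :
    ∃ K : Subgroup G, K ≤ C ∧ (∀ x, x ∈ K ↔ x ∈ C ∧ (orderOf x).Coprime p) ∧
      ∀ c ∈ C, ∃ k ∈ K, ∃ y ∈ (P : Subgroup G), c = k * y := by
  set PX : Sylow p C := P.subtype hPC with hPX
  have hPXmem : ∀ x : C, x ∈ (PX : Subgroup C) ↔ (x : G) ∈ (P : Subgroup G) := by
    intro x
    rw [hPX, Sylow.coe_subtype, Subgroup.mem_subgroupOf]
  have hcond : normalizer ((PX : Subgroup C) : Set C) ≤ centralizer ((PX : Subgroup C) : Set C) := by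
    intro x hx
    have h1 : (x : G) ∈ normalizer ((P : Subgroup G) : Set G) := by
      rw [Subgroup.mem_normalizer_iff]
      intro y
      constructor
      · intro hy
        have hyC : y ∈ C := hPC hy
        have := (Subgroup.mem_normalizer_iff.mp hx ⟨y, hyC⟩).mp ((hPXmem _).mpr hy)
        exact (hPXmem _).mp this
      · intro hy
        have hyC : y ∈ C := by
          have h2 : (x : G) * y * (x : G)⁻¹ ∈ C := hPC hy
          have h3 : y = (x : G)⁻¹ * ((x : G) * y * (x : G)⁻¹) * (x : G) := by group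
          rw [h3]
          exact C.mul_mem (C.mul_mem (C.inv_mem x.2) h2) x.2
        have := (Subgroup.mem_normalizer_iff.mp hx ⟨y, hyC⟩).mpr ((hPXmem _).mpr hy)
        exact (hPXmem _).mp this
    have h2 := hNC x x.2 h1
    rw [Subgroup.mem_centralizer_iff] at h2 ⊢
    intro y hy
    have := h2 (y : G) ((hPXmem y).mp hy)
    exact Subtype.ext this
  set K : Subgroup C := (MonoidHom.transferSylow PX hcond).ker with hK
  have hcompl : IsComplement' K (PX : Subgroup C) := MonoidHom.ker_transferSylow_isComplement' PX hcond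
  have hnd : ¬ p ∣ Nat.card K := MonoidHom.not_dvd_card_ker_transferSylow PX hcond
  refine ⟨K.map C.subtype, ?_, ?_, ?_⟩
  · rintro _ ⟨x, -, rfl⟩; exact x.2
  · intro x
    constructor
    · rintro ⟨y, hy, rfl⟩
      refine ⟨y.2, ?_⟩
      have h1 : orderOf (⟨y, hy⟩ : K) ∣ Nat.card K := orderOf_dvd_natCard _
      have h2 : orderOf (⟨y, hy⟩ : K) = orderOf ((y : C) : G) := by
        rw [← Subgroup.orderOf_coe, ← Subgroup.orderOf_coe]
      change (orderOf ((y : C) : G)).Coprime p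
      rw [← h2]
      exact Nat.Coprime.coprime_dvd_left h1
        ((Nat.Prime.coprime_iff_not_dvd hp.out).mpr hnd).symm
    · rintro ⟨hxC, hcop⟩
      refine ⟨⟨x, hxC⟩, ?_, rfl⟩
      change (⟨x, hxC⟩ : C) ∈ (MonoidHom.transferSylow PX hcond).ker
      rw [MonoidHom.mem_ker]
      set z := MonoidHom.transferSylow PX hcond ⟨x, hxC⟩ with hz
      have h1 : orderOf z ∣ orderOf (⟨x, hxC⟩ : C) := orderOf_map_dvd _ _
      have h2 : orderOf (⟨x, hxC⟩ : C) = orderOf x := by
        rw [← Subgroup.orderOf_coe]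
      obtain ⟨k, hk⟩ := (IsPGroup.iff_orderOf.mp PX.isPGroup') z
      have h3 : (orderOf z).Coprime p := Nat.Coprime.coprime_dvd_left (h2 ▸ h1) hcop
      rw [hk] at h3
      rcases Nat.eq_zero_or_pos k with rfl | hk0
      · rw [pow_zero] at hk; exact orderOf_eq_one_iff.mp hk
      · exfalso
        have : p ∣ 1 := by
          have h4 : (p ^ k).gcd p = 1 := h3
          rw [Nat.gcd_eq_right (dvd_pow_self p hk0.ne')] at h4
          rw [h4]
        exact hp.out.one_lt.ne' (Nat.dvd_one.mp this)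
  · intro c hc
    obtain ⟨⟨k, y⟩, hky, -⟩ := (Subgroup.isComplement'_def.mp hcompl).existsUnique ⟨c, hc⟩
    refine ⟨(k : C), ⟨k, k.2, rfl⟩, ((y : C) : G), (hPXmem _).mp y.2, ?_⟩
    have := congrArg Subtype.val hky
    simpa using this.symm

end Cfsg.Agent.Lib.Helper24.Tau2
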