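import Mathlib
import Cfsg.Prelude.Def_Local
import Cfsg.Prelude.Def_OddOrderLocal
import Cfsg.Agent.Lib.Helper24.Tau2A
import Cfsg.Agent.Lib.Helper24.BGStmt
import Cfsg.Agent.Lib.Helper24.BG121
import Cfsg.Agent.Lib.Helper24.BG107
import Cfsg.Agent.Lib.Helper24.Coprime
import Cfsg.Agent.Lib.Helper24.CoprimeAbelian
import Cfsg.Agent.Lib.Helper63.BG10
import Cfsg.Agent.Lib.Helper64.BG1213
import Cfsg.Agent.Lib.Helper56.BG10a
import Cfsg.Agent.Lib.Helper49.RankOneCyclic
import Cfsg.Agent.Lib.Helper23.TypeP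
import Cfsg.Agent.Lib.Helper55.Cores
import Cfsg.Agent.Lib.Helper10.Thompson
import Cfsg.Agent.Lib.Helper10.ThompsonSub
import Cfsg.Agent.Lib.Helper33.Conj

/-!
# B&G §12: for `p ∈ τ₂(M)` with abelian Sylow `p`-subgroups of `G`, the Sylow `p`-subgroup of a
complement `E` of `M_σ` is normal in `E`

Armed on the statements 10.1/10.2 (S1350, S1404, S1405), 10.5 (S1408), 10.6 (S1410), 11.1 (S1414),
12.5 (S1417), 12.6 (S1418), 12.10 (S1420), taken as hypotheses.
-/

set_option autoImplicit false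
set_option linter.unusedSectionVars false
set_option linter.unusedVariables false
set_option linter.style.haveILetI false

namespace Cfsg.Agent.Lib.Helper24.Tau2

open Subgroup Cfsg Cfsg.Agent.Lib.Helper24.BG
open Cfsg.Agent.Lib.Helper33 (cj cj_def mem_cj mem_cj' cj_mono cj_eq_self_iff card_cj
  isPGroup_cj sylow_coe_smul centralizer_cj)
open scoped commutatorElement

universe u

variable {G : Type u} [Group G]

/-- `M_σ` is a Hall `σ(M)`-subgroup of `M` (S1350, first part) -/
def SigmaHall (G : Type u) [Group G] : Prop :=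
  ∀ L : Subgroup G, IsCoatom L → IsPiHallOf (sigma L) (sigmaCore L) L

/-- `α(M) ⊆ σ(M)` -/
def AlphaSigma (G : Type u) [Group G] : Prop :=
  ∀ L : Subgroup G, IsCoatom L → alpha L ⊆ sigma L

/-- S1408, first part -/
def NotIdeal (G : Type u) [Group G] : Prop :=
  ∀ M : Subgroup G, IsCoatom M → ∀ q : ℕ, q.Prime → q ∉ sigma M → PRankLE q 2 M → ¬ PRankLE q 1 M →
    ¬ IsIdealPrime q G

/-- S1414, normal complements in `M_σ` -/
def NormalCompl (G : Type u) [Group G] : Prop :=
  ∀ L : Subgroup G, IsCoatom L → ∀ q : ℕ, q.Prime → q ∣ Nat.card L → q ∉ beta L →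
    HasNormalPComplement q ↥(sigmaCore L)

/-- S1417 (b) -/
def Stmt1417b (G : Type u) [Group G] : Prop :=
  ∀ M : Subgroup G, IsCoatom M → ∀ (p : ℕ) [Fact p.Prime], p ∈ tau2 M → ∀ A : Subgroup G,
    (A ≤ M ∧ IsElementaryAbelian p A ∧ Nat.card A = p ^ 2) →
    ∀ P : Sylow p M, IsMulCommutative (P : Subgroup M) ∧
      (A ≤ (P : Subgroup M).map M.subtype →
        (∀ x ∈ (P : Subgroup M).map M.subtype, x ^ p = 1 ↔ x ∈ A) ∧
        ¬ normalizer ((((P : Subgroup M).map M.subtype : Subgroup G)) : Set G) ≤ M)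

/-- S1418, the parts used -/
def Stmt1418ab (G : Type u) [Group G] : Prop :=
  ∀ M : Subgroup G, IsCoatom M → ∀ E : Subgroup G, IsComplIn E (sigmaCore M) M →
    ∀ (p : ℕ) [Fact p.Prime], p ∈ tau2 M → ∀ A : Subgroup G,
    (A ≤ E ∧ IsElementaryAbelian p A ∧ Nat.card A = p ^ 2) →
    E ≤ normalizer (A : Set G) ∧ centralizer (A : Set G) ≤ M ⊓ normalizer (A : Set G) ∧
      M ⊓ normalizer (A : Set G) = E ∧ ¬ normalizer (A : Set G) ≤ M

/-- S1420 (b) -/
def DerAbelian (G : Type u) [Group G] : Prop :=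
  ∀ M : Subgroup G, IsCoatom M → ∀ E : Subgroup G, IsComplIn E (sigmaCore M) M →
    IsMulCommutative ↥⁅E, E⁆

theorem normalizer_le_normalizer_centralizer (A : Subgroup G) :
    normalizer (A : Set G) ≤ normalizer ((centralizer (A : Set G) : Subgroup G) : Set G) := by
  intro g hg
  rw [← cj_eq_self_iff] at hg ⊢
  rw [← centralizer_cj, hg]

theorem normalizer_le_normalizer_commutator (C : Subgroup G) :
    normalizer (C : Set G) ≤ normalizer ((⁅C, C⁆ : Subgroup G) : Set G) := by
  intro g hg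
  rw [← cj_eq_self_iff] at hg ⊢
  rw [cj_def, map_commutator, ← cj_def, hg]

/-- a subgroup with a normal complement to a Sylow `q`-subgroup: the complement is the set of
`q'`-elements -/
theorem mem_normal_complement_iff {X : Type*} [Group X] [Finite X] {q : ℕ} [hq : Fact q.Prime]
    (Pq : Sylow q X) (N : Subgroup X) [hN : N.Normal] (hc : N.IsComplement' (Pq : Subgroup X))
    (x : X) : x ∈ N ↔ (orderOf x).Coprime q := by
  have hidx : N.index = Nat.card (Pq : Subgroup X) := hc.symm.index_eq_card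
  have hcard : Nat.card N = (Pq : Subgroup X).index := hc.index_eq_card.symm
  constructor
  · intro hx
    have h1 : orderOf (⟨x, hx⟩ : N) ∣ Nat.card N := orderOf_dvd_natCard _
    rw [Subgroup.orderOf_mk] at h1
    have h2 : ¬ q ∣ Nat.card N := hcard ▸ Pq.not_dvd_index
    exact Nat.Coprime.coprime_dvd_left h1 ((Nat.Prime.coprime_iff_not_dvd hq.out).mpr h2).symm
  · intro hx
    rw [← QuotientGroup.eq_one_iff]
    have h1 : orderOf (x : X ⧸ N) ∣ orderOf x := orderOf_map_dvd (QuotientGroup.mk' N) x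
    have h2 : orderOf (x : X ⧸ N) ∣ Nat.card (X ⧸ N) := orderOf_dvd_natCard _
    rw [← Subgroup.index_eq_card, hidx] at h2
    obtain ⟨k, hk⟩ := IsPGroup.iff_card.mp Pq.isPGroup'
    rw [hk] at h2
    obtain ⟨j, -, hj⟩ := (Nat.dvd_prime_pow hq.out).mp h2
    have h3 : (q ^ j).Coprime q := by rw [← hj]; exact Nat.Coprime.coprime_dvd_left h1 hx
    rcases Nat.eq_zero_or_pos j with rfl | hj0
    · rw [pow_zero] at hj; exact orderOf_eq_one_iff.mp hj
    · exfalso
      have h4 : (q ^ j).gcd q = 1 := h3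
      rw [Nat.gcd_eq_right (dvd_pow_self q hj0.ne')] at h4
      exact hq.out.one_lt.ne' h4

variable [Finite G]

theorem orderOf_conj' (g x : G) : orderOf (g * x * g⁻¹) = orderOf x :=
  (MulAut.conj g).orderOf_eq x

/-- **Normality of abelian `τ₂`-Sylow subgroups in a complement.** -/
theorem tau2_sylow_normal (hG : IsMinSimpleOddOrder G) (h4 : Stmt1404 G) (h10 : Stmt1410 G)
    (hσH : SigmaHall G) (hασ : AlphaSigma G) (hNI : NotIdeal G) (hNCo : NormalCompl G)
    (h17 : Stmt1417b G) (h18 : Stmt1418ab G) (hDA : DerAbelian G)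
    {M : Subgroup G} (hM : IsCoatom M) {E : Subgroup G} (hE : IsComplIn E (sigmaCore M) M)
    {p : ℕ} [hp : Fact p.Prime] (hpτ : p ∈ tau2 M) (P : Sylow p G)
    (hPE : (P : Subgroup G) ≤ E) :
    E ≤ normalizer ((P : Subgroup G) : Set G) := by
  classical
  obtain ⟨hpP, hpσ, hr2, hr1⟩ := hpτ
  have hEM : E ≤ M := hE.1
  -- Step 1: an `E_{p^2}` inside `P`
  obtain ⟨A₁, hA₁M, hA₁e, hA₁c⟩ := Cfsg.Agent.Lib.Helper63.BG10.exists_elemAb_sq_le hr1
  have hA₁p : IsPGroup p A₁ := Cfsg.Agent.Lib.Helper10.elemAb_isPGroup hA₁e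
  obtain ⟨Q, hQ⟩ := hA₁p.exists_le_sylow
  obtain ⟨g, hg⟩ := MulAction.exists_smul_eq G Q P
  obtain ⟨A, hAdef⟩ : ∃ A : Subgroup G, A = cj g A₁ := ⟨_, rfl⟩
  have hAP : A ≤ (P : Subgroup G) := by
    rw [hAdef, ← hg, sylow_coe_smul]; exact cj_mono hQ
  have hAe : IsElementaryAbelian p A := by
    rw [hAdef]; exact Cfsg.Agent.Lib.Helper10.elemAb_map hA₁e _
  have hAc : Nat.card A = p ^ 2 := by rw [hAdef, card_cj, hA₁c]
  have hAE : A ≤ E := hAP.trans hPE
  have hAM : A ≤ M := hAE.trans hEM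
  have hpM : p ∣ Nat.card M := by
    have h1 : Nat.card A ∣ Nat.card M := Subgroup.card_dvd_of_le hAM
    rw [hAc] at h1
    exact (dvd_pow_self p (by norm_num)).trans h1
  have hp2 : p ≠ 2 := Cfsg.Agent.Lib.Helper23.ne_two_of_dvd_card_subgroup hG hpM
  -- Step 2: `P` is abelian with `Ω₁(P) = A`
  have hPM : (P : Subgroup G) ≤ M := hPE.trans hEM
  have hmapM : ((P.subtype hPM : Sylow p M) : Subgroup M).map M.subtype = (P : Subgroup G) := by
    rw [Sylow.coe_subtype, Subgroup.map_subgroupOf_eq_of_le hPM]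
  obtain ⟨hPab, hP2⟩ := h17 M hM p ⟨hpP, hpσ, hr2, hr1⟩ A ⟨hAM, hAe, hAc⟩ (P.subtype hPM)
  rw [hmapM] at hP2
  obtain ⟨hΩ, -⟩ := hP2 hAP
  have hab : ∀ x ∈ (P : Subgroup G), ∀ y ∈ (P : Subgroup G), x * y = y * x := by
    intro x hx y hy
    have hx' : (⟨x, hPM hx⟩ : M) ∈ ((P.subtype hPM : Sylow p M) : Subgroup M) := by
      rw [Sylow.coe_subtype, Subgroup.mem_subgroupOf]; exact hx
    have hy' : (⟨y, hPM hy⟩ : M) ∈ ((P.subtype hPM : Sylow p M) : Subgroup M) := by
      rw [Sylow.coe_subtype, Subgroup.mem_subgroupOf]; exact hy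
    have h1 := hPab.is_comm.comm ⟨_, hx'⟩ ⟨_, hy'⟩
    have h2 := congrArg Subtype.val (congrArg Subtype.val h1)
    exact h2
  -- Step 3: the centralizer of `A`
  obtain ⟨hEA, hCA, hMN, hNA⟩ := h18 M hM E hE p ⟨hpP, hpσ, hr2, hr1⟩ A ⟨hAE, hAe, hAc⟩
  obtain ⟨C, hCdef⟩ : ∃ C : Subgroup G, C = centralizer (A : Set G) := ⟨_, rfl⟩
  have hCE : C ≤ E := by rw [hCdef, ← hMN]; exact hCA
  have hPC : (P : Subgroup G) ≤ C := by
    intro x hx
    rw [hCdef, Subgroup.mem_centralizer_iff]
    intro a ha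
    exact hab a (hAP ha) x hx
  have hNAC : normalizer (A : Set G) ≤ normalizer (C : Set G) := by
    rw [hCdef]; exact normalizer_le_normalizer_centralizer A
  have hEC : E ≤ normalizer (C : Set G) := hEA.trans hNAC
  -- Step 4: `N(P) ≤ N(A)`
  have hNPA : normalizer ((P : Subgroup G) : Set G) ≤ normalizer (A : Set G) := by
    intro n hn
    rw [Subgroup.mem_normalizer_iff] at hn ⊢
    intro a
    constructor
    · intro ha
      have h1 : n * a * n⁻¹ ∈ (P : Subgroup G) := (hn a).mp (hAP ha)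
      rw [← hΩ _ h1, conj_pow, (hΩ a (hAP ha)).mpr ha, mul_one, mul_inv_cancel]
    · intro ha
      have h1 : a ∈ (P : Subgroup G) := (hn a).mpr (hAP ha)
      rw [← hΩ _ h1]
      have h2 : (n * a * n⁻¹) ^ p = 1 := (hΩ _ (hAP ha)).mpr ha
      rw [conj_pow] at h2
      have h3 : a ^ p = n⁻¹ * (n * a ^ p * n⁻¹) * n := by group
      rw [h3, h2]; group
  -- Step 5: `N_C(P) ≤ C(P)`
  have hNC' : ∀ n ∈ C, n ∈ normalizer ((P : Subgroup G) : Set G) →
      n ∈ centralizer ((P : Subgroup G) : Set G) := by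
    intro n hnC hnN
    apply normalizer_le_centralizer_of_omega hp2 P hab n hnN
    intro x hx hox
    have hxA : x ∈ A := by
      rw [← hΩ x hx, ← hox]; exact pow_orderOf_eq_one x
    rw [hCdef, Subgroup.mem_centralizer_iff] at hnC
    exact (hnC x hxA).symm
  -- Step 6: the normal `p`-complement `K` of `C`
  obtain ⟨K, hKC, hKmem, hKprod⟩ := exists_normal_pComplement_in P C hPC hNC'
  have hKp : ¬ p ∣ Nat.card K := by
    intro h
    obtain ⟨x, hx⟩ := exists_prime_orderOf_dvd_card' (G := K) p h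
    have h1 := ((hKmem (x : G)).mp x.2).2
    rw [Subgroup.orderOf_coe, hx] at h1
    exact hpP.one_lt.ne' ((Nat.coprime_self p).mp h1)
  have hKcop : (Nat.card K).Coprime p := ((Nat.Prime.coprime_iff_not_dvd hpP).mpr hKp).symm
  have hKnorm : normalizer (C : Set G) ≤ normalizer (K : Set G) := by
    have key : ∀ n : G, n ∈ normalizer (C : Set G) → ∀ x ∈ K, n * x * n⁻¹ ∈ K := by
      intro n hn x hx
      rw [hKmem] at hx ⊢
      exact ⟨(Subgroup.mem_normalizer_iff.mp hn x).mp hx.1, by rw [orderOf_conj']; exact hx.2⟩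
    intro n hn
    rw [Subgroup.mem_normalizer_iff]
    intro x
    constructor
    · exact key n hn x
    · intro hx
      have := key n⁻¹ (Subgroup.inv_mem _ hn) _ hx
      have h2 : n⁻¹ * (n * x * n⁻¹) * n⁻¹⁻¹ = x := by group
      rwa [h2] at this
  -- Step 7: `K` centralizes `P`
  have hKP : K ≤ centralizer ((P : Subgroup G) : Set G) := by
    by_contra hcon
    obtain ⟨k, hk, hkP⟩ := SetLike.not_le_iff_exists.mp hcon
    rw [Subgroup.mem_centralizer_iff] at hkP
    push Not at hkP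
    obtain ⟨d, hd, hdk⟩ := hkP
    obtain ⟨D, hDdef⟩ : ∃ D : Subgroup G, D = zpowers d := ⟨_, rfl⟩
    have hdD : d ∈ D := by rw [hDdef]; exact Subgroup.mem_zpowers d
    have hDP : D ≤ (P : Subgroup G) := by rw [hDdef, Subgroup.zpowers_le]; exact hd
    have hDp : IsPGroup p D := P.isPGroup'.to_le hDP
    have hDK : D ≤ normalizer (K : Set G) :=
      ((hDP.trans hPC).trans Subgroup.le_normalizer).trans hKnorm
    have hDcopK : (Nat.card D).Coprime (Nat.card K) := by
      obtain ⟨j, hj⟩ := IsPGroup.iff_card.mp hDp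
      rw [hj]
      exact Nat.Coprime.pow_left j hKcop.symm
    have hDsolv : Group.IsSolvable D := by
      rw [hDdef]
      haveI : IsCyclic (zpowers d) := inferInstance
      letI := IsCyclic.commGroup (α := zpowers d)
      infer_instance
    obtain ⟨K1, hK1def⟩ : ∃ K1 : Subgroup G, K1 = ⁅K, D⁆ := ⟨_, rfl⟩
    have hK1K : K1 ≤ K := by rw [hK1def]; exact commutator_le_of_le_normalizer K D hDK
    have hK1eq : ⁅K1, D⁆ = K1 := by
      rw [hK1def]; exact commutator_commutator_eq D K hDK hDcopK (Or.inl hDsolv)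
    have hK1E' : K1 ≤ ⁅E, E⁆ := by
      rw [hK1def]; exact Subgroup.commutator_mono (hKC.trans hCE) (hDP.trans hPE)
    have hK1C' : K1 ≤ ⁅C, C⁆ := by
      rw [hK1def]; exact Subgroup.commutator_mono hKC (hDP.trans hPC)
    have hE'comm : ∀ x ∈ ⁅E, E⁆, ∀ y ∈ ⁅E, E⁆, x * y = y * x := by
      intro x hx y hy
      have h1 := (hDA M hM E hE).is_comm.comm ⟨x, hx⟩ ⟨y, hy⟩
      exact congrArg Subtype.val h1
    have hK1comm : ∀ x ∈ K1, ∀ y ∈ K1, x * y = y * x := fun x hx y hy =>
      hE'comm x (hK1E' hx) y (hK1E' hy)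
    haveI : IsMulCommutative K1 := ⟨⟨fun a b => Subtype.ext (hK1comm a a.2 b b.2)⟩⟩
    have hDK1 : D ≤ normalizer (K1 : Set G) := by
      rw [hK1def]; exact le_normalizer_commutator_right K D hDK
    have hDcopK1 : (Nat.card D).Coprime (Nat.card K1) :=
      Nat.Coprime.coprime_dvd_right (Subgroup.card_dvd_of_le hK1K) hDcopK
    have hfix : K1 ⊓ centralizer (D : Set G) = ⊥ := by
      have := commutator_inf_centralizer_eq_bot_of_abelian K1 D hDK1 hDcopK1
      rwa [hK1eq] at this
    have hK1ne : K1 ≠ ⊥ := by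
      intro h
      rw [hK1def, Subgroup.commutator_eq_bot_iff_le_centralizer] at h
      have h1 := h hk
      rw [Subgroup.mem_centralizer_iff] at h1
      exact hdk (h1 d hdD)
    -- a prime divisor of `|K1|`
    have hcard1 : Nat.card K1 ≠ 1 := by
      intro h
      exact hK1ne (Subgroup.card_eq_one.mp h)
    obtain ⟨q, hq, hqK1⟩ := Nat.exists_prime_and_dvd hcard1
    haveI : Fact q.Prime := ⟨hq⟩
    obtain ⟨T, hTdef⟩ : ∃ T : Subgroup G, T = primaryPart K1 hK1comm q := ⟨_, rfl⟩
    have hT1 : T ≠ ⊥ := by rw [hTdef]; exact primaryPart_ne_bot K1 hK1comm q hqK1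
    have hTK1 : T ≤ K1 := by rw [hTdef]; exact primaryPart_le _ _ _
    have hTq : IsPGroup q T := by rw [hTdef]; exact primaryPart_isPGroup _ _ _
    have hDT : D ≤ normalizer (T : Set G) := by
      rw [hTdef]; exact hDK1.trans (normalizer_le_normalizer_primaryPart K1 hK1comm q)
    -- it suffices to show that `D` centralizes `T`
    suffices hTD : T ≤ centralizer (D : Set G) by
      apply hT1
      rw [eq_bot_iff, ← hfix]
      exact le_inf hTK1 hTD
    have hqp : q ≠ p := by
      rintro rfl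
      exact hKp (hqK1.trans (Subgroup.card_dvd_of_le hK1K))
    have hq2 : q ≠ 2 := Cfsg.Agent.Lib.Helper23.ne_two_of_dvd_card_subgroup hG hqK1
    -- Step 8: a maximal subgroup over `N(A)`
    have hAne : A ≠ ⊥ := by
      intro h
      rw [h, Subgroup.card_bot] at hAc
      have : 1 < p ^ 2 := Nat.one_lt_pow (by norm_num) hpP.one_lt
      omega
    have hAtop : A ≠ ⊤ := by
      intro h
      exact hM.1 (top_le_iff.mp (h ▸ hAM))
    obtain ⟨L, hL, hNL⟩ := Cfsg.Agent.Lib.Helper56.BG10.exists_coatom_ge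
      (Cfsg.Agent.Lib.Helper63.BG10.normalizer_ne_top hG hAne hAtop)
    have hEL : E ≤ L := hEA.trans hNL
    have hPL : (P : Subgroup G) ≤ L := hPE.trans hEL
    have hAL : A ≤ L := hAE.trans hEL
    have hKL : K ≤ L := (hKC.trans hCE).trans hEL
    -- Step 9: `p ∈ σ(L)`
    have hpσL : p ∈ sigma L := by
      by_contra hpσL
      have hr1L : ¬ PRankLE p 1 L := by
        intro h
        have hE' := Cfsg.Agent.Lib.Helper10.elemAb_subgroupOf hAe L
        have h1 := h _ hE'.1 hE'.2
        rw [Cfsg.Agent.Lib.Helper10.card_subgroupOf_of_le hAL, hAc, pow_one] at h1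
        nlinarith [hpP.one_lt]
      have hr2L : PRankLE p 2 L := by
        by_contra h
        exact hpσL (hασ L hL ⟨hpP, h⟩)
      have hmapL : ((P.subtype hPL : Sylow p L) : Subgroup L).map L.subtype = (P : Subgroup G) := by
        rw [Sylow.coe_subtype, Subgroup.map_subgroupOf_eq_of_le hPL]
      obtain ⟨-, hP2L⟩ := h17 L hL p ⟨hpP, hpσL, hr2L, hr1L⟩ A ⟨hAL, hAe, hAc⟩ (P.subtype hPL)
      rw [hmapL] at hP2L
      exact (hP2L hAP).2 (hNPA.trans hNL)
    -- Step 10/11: `P ≤ L_σ` and `K1 ≤ L_σ`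
    have hPσ : (P : Subgroup G) ≤ sigmaCore L :=
      Cfsg.Agent.Lib.Helper64.le_of_isPGroup_of_not_dvd_relIndex (hσH L hL).1
        (le_normalizer_sigmaCore L) hPL P.isPGroup' ((hσH L hL).2.2 p hpP hpσL)
    have hK1σ : K1 ≤ sigmaCore L := by
      rw [hK1def, Subgroup.commutator_le]
      intro k' hk' d' hd'
      have h1 : k' * d' * k'⁻¹ ∈ sigmaCore L :=
        sigmaCore_conj_mem L (hKL hk') (hPσ (hDP hd'))
      have h2 : ⁅k', d'⁆ = (k' * d' * k'⁻¹) * d'⁻¹ := by rw [commutatorElement_def]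
      rw [h2]
      exact Subgroup.mul_mem _ h1 (Subgroup.inv_mem _ (hPσ (hDP hd')))
    have hqσL : q ∈ sigma L :=
      mem_sigma_of_dvd_card_sigmaCore L hq (hqK1.trans (Subgroup.card_dvd_of_le hK1σ))
    have hTL : T ≤ L := (hTK1.trans hK1K).trans hKL
    by_cases hqβ : q ∈ beta L
    · -- Case B: `q` is an ideal prime, so `q ∈ τ₃(M)` and transfer applies
      have hideal : IsIdealPrime q G := hqβ.2
      have hqE : q ∣ Nat.card E :=
        hqK1.trans (Subgroup.card_dvd_of_le (hK1K.trans (hKC.trans hCE)))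
      have hqσM : q ∉ sigma M := by
        intro h
        have h1 := (hσH M hM).2.2 q hq h
        have h2 := Cfsg.Agent.Lib.Helper23.card_isComplIn hE
        have h3 := Cfsg.Agent.Lib.Helper55.card_mul_relIndex_eq (hσH M hM).1
        have h4 : Nat.card E = (sigmaCore M).relIndex M := by
          have hpos : 0 < Nat.card (sigmaCore M) := Nat.card_pos
          have : Nat.card (sigmaCore M) * Nat.card E =
              Nat.card (sigmaCore M) * (sigmaCore M).relIndex M := by
            rw [h3, mul_comm, h2]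
          exact Nat.eq_of_mul_eq_mul_left hpos this
        exact h1 (h4 ▸ hqE)
      have hr2M : PRankLE q 2 M := by
        by_contra h
        exact hqσM (hασ M hM ⟨hq, h⟩)
      have hr1M : PRankLE q 1 M := by
        by_contra h
        exact hNI M hM q hq hqσM hr2M h hideal
      have hC'comm : ∀ x ∈ ⁅C, C⁆, ∀ y ∈ ⁅C, C⁆, x * y = y * x := fun x hx y hy =>
        hE'comm x (Subgroup.commutator_mono hCE hCE hx) y (Subgroup.commutator_mono hCE hCE hy)
      obtain ⟨Qq, hQdef⟩ : ∃ Qq : Subgroup G, Qq = primaryPart ⁅C, C⁆ hC'comm q := ⟨_, rfl⟩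
      have hQM : Qq ≤ M := by
        rw [hQdef]
        exact (primaryPart_le _ _ _).trans
          ((Subgroup.commutator_le_self C).trans (hCE.trans hEM))
      have hQq : IsPGroup q Qq := by rw [hQdef]; exact primaryPart_isPGroup _ _ _
      have hQcyc : IsCyclic Qq := by
        apply Cfsg.Agent.Lib.Helper49.isCyclic_of_isPGroup_rankLEOne hq2 hQq
        have hr : PRankLE q 1 ↥Qq :=
          Cfsg.Agent.Lib.Helper63.BG10.pRankLE_of_injective (Subgroup.inclusion hQM)
            (Subgroup.inclusion_injective hQM) hr1M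
        intro B hB hBe
        have := hr B hB hBe
        rwa [pow_one] at this
      have hTQ : T ≤ Qq := by
        rw [hTdef, hQdef]; exact primaryPart_mono hK1comm hC'comm hK1C' q
      have hNQ : normalizer ((P : Subgroup G) : Set G) ≤ normalizer (Qq : Set G) := by
        rw [hQdef]
        exact ((hNPA.trans hNAC).trans (normalizer_le_normalizer_commutator C)).trans
          (normalizer_le_normalizer_primaryPart _ hC'comm q)
      have hPQ : (P : Subgroup G) ≤ centralizer (Qq : Set G) :=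
        (sylow_le_commutator_normalizer hG h4 h10 p P).trans
          ((Subgroup.commutator_mono hNQ hNQ).trans
            (commutator_normalizer_le_centralizer_of_isCyclic Qq hQcyc))
      intro t ht
      rw [Subgroup.mem_centralizer_iff]
      intro d' hd'
      have h1 := hPQ (hDP hd')
      rw [Subgroup.mem_centralizer_iff] at h1
      exact (h1 t (hTQ ht)).symm
    · -- Case A: `L_σ` has a normal `q`-complement containing `D`
      have hqL : q ∣ Nat.card L :=
        hqK1.trans (Subgroup.card_dvd_of_le (hK1K.trans hKL))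
      obtain ⟨Pq, N, hNn, hNc⟩ := hNCo L hL q hq hqL hqβ
      haveI := hNn
      obtain ⟨NG, hNGdef⟩ : ∃ NG : Subgroup G, NG = N.map (sigmaCore L).subtype := ⟨_, rfl⟩
      have hNGmem : ∀ x : G, x ∈ NG ↔ x ∈ sigmaCore L ∧ (orderOf x).Coprime q := by
        intro x
        rw [hNGdef]
        constructor
        · rintro ⟨y, hy, rfl⟩
          refine ⟨y.2, ?_⟩
          have := (mem_normal_complement_iff Pq N hNc y).mp hy
          rwa [← Subgroup.orderOf_coe] at this
        · rintro ⟨hx, hcop⟩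
          refine ⟨⟨x, hx⟩, ?_, rfl⟩
          apply (mem_normal_complement_iff Pq N hNc _).mpr
          rwa [Subgroup.orderOf_mk]
      have hLNG : L ≤ normalizer (NG : Set G) := by
        have key : ∀ n : G, n ∈ L → ∀ x ∈ NG, n * x * n⁻¹ ∈ NG := by
          intro n hn x hx
          rw [hNGmem] at hx ⊢
          exact ⟨sigmaCore_conj_mem L hn hx.1, by rw [orderOf_conj']; exact hx.2⟩
        intro n hn
        rw [Subgroup.mem_normalizer_iff]
        intro x
        constructor
        · exact key n hn x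
        · intro hx
          have := key n⁻¹ (Subgroup.inv_mem _ hn) _ hx
          have h2 : n⁻¹ * (n * x * n⁻¹) * n⁻¹⁻¹ = x := by group
          rwa [h2] at this
      have hDNG : D ≤ NG := by
        intro d' hd'
        rw [hNGmem]
        refine ⟨hPσ (hDP hd'), ?_⟩
        obtain ⟨j, hj⟩ := (IsPGroup.iff_orderOf.mp hDp) ⟨d', hd'⟩
        rw [Subgroup.orderOf_mk] at hj
        rw [hj]
        exact Nat.Coprime.pow_left j ((Nat.coprime_primes hpP hq).mpr hqp.symm)
      have h1 : ⁅T, D⁆ ≤ NG := by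
        rw [Subgroup.commutator_le]
        intro t ht d' hd'
        have h2 : t * d' * t⁻¹ ∈ NG :=
          (Subgroup.mem_normalizer_iff.mp (hLNG (hTL ht)) d').mp (hDNG hd')
        have h3 : ⁅t, d'⁆ = (t * d' * t⁻¹) * d'⁻¹ := by rw [commutatorElement_def]
        rw [h3]
        exact Subgroup.mul_mem _ h2 (Subgroup.inv_mem _ (hDNG hd'))
      have h2 : ⁅T, D⁆ ≤ T := commutator_le_of_le_normalizer T D hDT
      have h3 : T ⊓ NG = ⊥ := by
        rw [eq_bot_iff]
        intro x hx
        obtain ⟨hxT, hxN⟩ := Subgroup.mem_inf.mp hx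
        obtain ⟨j, hj⟩ := (IsPGroup.iff_orderOf.mp hTq) ⟨x, hxT⟩
        rw [Subgroup.orderOf_mk] at hj
        have h4 := ((hNGmem x).mp hxN).2
        rw [hj] at h4
        rw [Subgroup.mem_bot]
        rcases Nat.eq_zero_or_pos j with rfl | hj0
        · rw [pow_zero] at hj; exact orderOf_eq_one_iff.mp hj
        · exfalso
          have h5 : (q ^ j).gcd q = 1 := h4
          rw [Nat.gcd_eq_right (dvd_pow_self q hj0.ne')] at h5
          exact hq.one_lt.ne' h5
      have h4 : ⁅T, D⁆ = ⊥ := by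
        rw [eq_bot_iff, ← h3]
        exact le_inf h2 h1
      exact Subgroup.commutator_eq_bot_iff_le_centralizer.mp h4
  -- Step 13: `C ≤ N(P)`
  have hCN : C ≤ normalizer ((P : Subgroup G) : Set G) := by
    intro c hc
    obtain ⟨k, hk, y, hy, rfl⟩ := hKprod c hc
    exact Subgroup.mul_mem _ (Subgroup.centralizer_le_normalizer _ (hKP hk))
      (Subgroup.le_normalizer hy)
  -- Step 14: `E ≤ N(P)`
  intro e he
  have hR : cj e (P : Subgroup G) ≤ C := by
    intro x hx
    obtain ⟨y, hy, rfl⟩ := mem_cj'.mp hx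
    exact (Subgroup.mem_normalizer_iff.mp (hEC he) y).mp (hPC hy)
  have hRp : IsPGroup p (cj e (P : Subgroup G)) := isPGroup_cj P.isPGroup'
  have h1 := hRp.inf_normalizer_sylow P
  have h2 : cj e (P : Subgroup G) ≤ (P : Subgroup G) := by
    have h3 : cj e (P : Subgroup G) ⊓ normalizer ((P : Subgroup G) : Set G) = cj e (P : Subgroup G) :=
      inf_eq_left.mpr (hR.trans hCN)
    have h4 : cj e (P : Subgroup G) = cj e (P : Subgroup G) ⊓ (P : Subgroup G) := h3.symm.trans h1
    exact inf_eq_left.mp h4.symm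
  have h3 : cj e (P : Subgroup G) = (P : Subgroup G) :=
    Subgroup.eq_of_le_of_card_ge h2 (by rw [card_cj])
  exact cj_eq_self_iff.mp h3

end Cfsg.Agent.Lib.Helper24.Tau2
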