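import Mathlib
import Cfsg.Prelude.Def_Local
import Cfsg.Prelude.Def_OddOrderLocal
import Cfsg.Agent.S1417
import Cfsg.Agent.S1418
import Cfsg.Agent.S1420
import Cfsg.Agent.Lib.Helper23.BadTau2Main
import Cfsg.Agent.Lib.Helper23.LargeFitA
import Cfsg.Agent.Lib.Helper23.FitLocal
import Cfsg.Agent.Lib.Helper24.HHSyl

/-!
# S1421, part (a): the abelian normal subgroup `A₀ = F(E)`; classification of the primes of `E`
-/

set_option autoImplicit false
set_option linter.unusedSectionVars false
set_option linter.unusedVariables false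
set_option linter.style.haveILetI false

namespace Cfsg.Agent.Lib.Helper24.S1421

open Subgroup Cfsg

universe u

variable {G : Type u} [Group G] [Finite G]

/-- a prime divisor of `|E|` lies in `τ₁ ∪ τ₃` or in `τ₂` -/
theorem prime_class (hG : IsMinSimpleOddOrder G) {M E : Subgroup G} (hM : IsCoatom M)
    (hE : IsComplIn E (sigmaCore M) M) {q : ℕ} (hq : q.Prime) (hqE : q ∣ Nat.card E) :
    q ∉ sigma M ∧ (q ∈ tau1 M ∪ tau3 M ∨ q ∈ tau2 M) := by
  have hHall : IsPiHallOf (sigma M) (sigmaCore M) M :=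
    Cfsg.Agent.Lib.Helper19.BG124.sigmaHallIn hG hM
  have hqσ : q ∉ sigma M := by
    intro h
    have h1 := hHall.2.2 q hq h
    rw [Cfsg.Agent.Lib.Helper23.Bad.relIndex_right_compl hE] at h1
    exact h1 hqE
  have hqM : q ∣ Nat.card M := hqE.trans (Subgroup.card_dvd_of_le hE.1)
  have hα : q ∉ alpha M := fun h => hqσ
    (Cfsg.Agent.Lib.Helper23.alpha_subset_sigma hG (Cfsg.Agent.Lib.Helper19.BG124.uniqStmt hG) hM h)
  have hr2 : PRankLE q 2 M := by
    by_contra h
    exact hα ⟨hq, h⟩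
  refine ⟨hqσ, ?_⟩
  by_cases hr1 : PRankLE q 1 M
  · left
    by_cases hd : q ∣ Nat.card ↥⁅M, M⁆
    · exact Or.inr ⟨hq, hqσ, hd, hr1⟩
    · exact Or.inl ⟨hq, hqσ, hqM, hd, hr1⟩
  · exact Or.inr ⟨hq, hqσ, hr2, hr1⟩

/-- **S1421 (a).** -/
theorem part_a (hG : IsMinSimpleOddOrder G) {M E : Subgroup G} (hM : IsCoatom M)
    (hE : IsComplIn E (sigmaCore M) M)
    (h : ∀ e ∈ E, e ≠ 1 → (∀ p : ℕ, p.Prime → p ∣ orderOf e → p ∈ tau1 M ∪ tau3 M) →
      sigmaCore M ⊓ centralizer ({e} : Set G) = ⊥) :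
    ∃ A₀ : Subgroup G, A₀ ≤ E ∧ E ≤ normalizer (A₀ : Set G) ∧ IsMulCommutative A₀ ∧
      ∀ x ∈ sigmaCore M, x ≠ 1 → E ⊓ centralizer ({x} : Set G) ≤ A₀ := by
  classical
  have h17 : Cfsg.Agent.Lib.Helper23.Bad.Full17 G := fun M hM p _ hp A hA =>
    Cfsg.Agent.S1417.result hG M hM p hp A hA
  have h18 : Cfsg.Agent.Lib.Helper23.Bad.Stmt18 G := fun M hM E hE p _ hp A hA =>
    Cfsg.Agent.S1418.result hG M hM E hE p hp A hA
  have hFE : fittingOf E ≤ E := by
    rw [fittingOf]; exact Subgroup.map_subtype_le _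
  refine ⟨fittingOf E, hFE, Cfsg.Agent.Lib.Helper23.le_normalizer_fittingOf E, ?_, ?_⟩
  · -- abelian
    apply (Cfsg.Agent.S1420.result hG M hM E hE).1 (fittingOf E) (hFE.trans hE.1)
      (Cfsg.Agent.Lib.Helper23.isNilpotent_fittingOf E)
    intro p hp hpF
    exact (prime_class hG hM hE hp (hpF.trans (Subgroup.card_dvd_of_le hFE))).1
  · intro x hx hx1 d hd
    obtain ⟨hdE, hdx⟩ := Subgroup.mem_inf.mp hd
    have hdx' : d * x = x * d :=
      (Subgroup.mem_centralizer_iff.mp hdx x (Set.mem_singleton x)).symm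
    -- the cyclic group generated by `d`
    have hkey : (fittingOf E).subgroupOf (zpowers d) = ⊤ := by
      apply Cfsg.Agent.Lib.Helper24.HH.eq_top_of_sylow_le
      intro q hq hqd
      refine ⟨default, ?_⟩
      intro y hy
      rw [Subgroup.mem_subgroupOf]
      obtain ⟨k, hk⟩ := (default : Sylow q (zpowers d)).isPGroup' ⟨y, hy⟩
      have hk' : (y : G) ^ (q ^ k) = 1 := by
        have := congrArg (fun t : (default : Sylow q (zpowers d)) => ((t : zpowers d) : G)) hk
        simpa using this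
      by_cases hy1 : (y : G) = 1
      · rw [hy1]; exact Subgroup.one_mem _
      have hyE : (y : G) ∈ E := (Subgroup.zpowers_le.mpr hdE) y.2
      have hyx : (y : G) * x = x * (y : G) := by
        obtain ⟨j, hj⟩ := Subgroup.mem_zpowers_iff.mp y.2
        rw [← hj]
        exact ((Commute.zpow_left (show Commute d x from hdx') j)).eq
      have hxmem : x ∈ sigmaCore M ⊓ centralizer ({(y : G)} : Set G) := by
        refine Subgroup.mem_inf.mpr ⟨hx, ?_⟩
        rw [Subgroup.mem_centralizer_iff]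
        intro z hz
        rw [Set.mem_singleton_iff] at hz
        rw [hz]; exact hyx
      have hqE : q ∣ Nat.card E := by
        have h1 : Nat.card (zpowers d) ∣ Nat.card E :=
          Subgroup.card_dvd_of_le (Subgroup.zpowers_le.mpr hdE)
        exact hqd.trans h1
      rcases (prime_class hG hM hE hq.out hqE).2 with h13 | h2
      · exfalso
        have := h (y : G) hyE hy1 (by
          intro p' hp' hp'd
          have h1 : orderOf (y : G) ∣ q ^ k := orderOf_dvd_of_pow_eq_one hk'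
          have h2 : p' ∣ q ^ k := hp'd.trans h1
          have h3 : p' = q := (Nat.prime_dvd_prime_iff_eq hp' hq.out).mp (hp'.dvd_of_dvd_pow h2)
          rw [h3]; exact h13)
        rw [this, Subgroup.mem_bot] at hxmem
        exact hx1 hxmem
      · have hyp : IsPGroup q (zpowers (y : G)) := by
          rintro ⟨_, m, rfl⟩
          refine ⟨k, ?_⟩
          apply Subtype.ext
          simp only [SubgroupClass.coe_pow, OneMemClass.coe_one]
          rw [← zpow_natCast, ← zpow_mul, mul_comm, zpow_mul, zpow_natCast, hk', one_zpow]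
        exact Cfsg.Agent.Lib.Helper23.Bad.bad_mem_fitting hG
          (Cfsg.Agent.Lib.Helper23.Bad.stmt17b_of_full h17) h18
          (Cfsg.Agent.Lib.Helper23.Bad.stmtAb hG h17 h18) (Cfsg.Agent.Lib.Helper23.Bad.stmtB3 hG)
          hM hE h2 hyE hyp (fun hbot => hx1 (by rw [hbot, Subgroup.mem_bot] at hxmem; exact hxmem))
    have : (⟨d, mem_zpowers d⟩ : zpowers d) ∈ (fittingOf E).subgroupOf (zpowers d) := by
      rw [hkey]; trivial
    exact this

end Cfsg.Agent.Lib.Helper24.S1421
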