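import Cfsg.Agent.Lib.Helper32.BG142Defs
import Cfsg.Agent.S1417
import Cfsg.Agent.Lib.Helper24.S1421A
import Cfsg.Agent.Lib.Helper24.BG121
import Cfsg.Agent.Lib.Helper96.BG127
import Cfsg.Agent.Lib.Helper49.RankOneCyclic

/-!
# Leaves II2 and II3 of helper32's S1430 skeleton (`tools/helper32/BG142Skel.lean.txt`)

* `eq_of_cent_ne_bot` : if `C_{M_σ}(E) ≠ 1` then the Hall `κ(M)`-subgroup `K ≤ E` is all of `E`.
* `bot_isPiHallOf` : `⊥` is a Hall subgroup of `M` for the primes outside `κ(M) ∪ σ(M)` when `E` is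
  a Hall `κ(M)`-subgroup.
-/

set_option autoImplicit false
set_option linter.style.haveILetI false
set_option linter.unusedSectionVars false
set_option linter.unusedVariables false

namespace Cfsg.Agent.Lib.Helper32.BG142

open Subgroup Cfsg

universe u

variable {G : Type u} [Group G] [Finite G]

/-- aux: for a rank-one prime `r` the Sylow `r`-subgroups of `M` are cyclic (odd order). -/
theorem eq_of_cent_ne_bot_sylow_cyclic (hG : IsMinSimpleOddOrder G) {M : Subgroup G} {r : ℕ}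
    [hr : Fact r.Prime] (hrM : r ∣ Nat.card M) (hr1 : PRankLE r 1 ↥M) (P : Sylow r ↥M) :
    IsCyclic ↥(P : Subgroup ↥M) := by
  have hr2 : r ≠ 2 := by
    rintro rfl
    have h2 : 2 ∣ Nat.card G := hrM.trans (Subgroup.card_subgroup_dvd_card M)
    exact (Nat.not_even_iff_odd.2 hG.1) (even_iff_two_dvd.2 h2)
  have h1 : Cfsg.Agent.Lib.Helper49.RankLEOne r ↥M := by
    intro A hA hAp
    have := hr1 A hA hAp
    simpa using this
  exact Cfsg.Agent.Lib.Helper49.isCyclic_of_isPGroup_rankLEOne hr2 P.2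
    (Cfsg.Agent.Lib.Helper49.rankLEOne_subgroup h1 _)

/-- aux (= leaf G5): a rank-one prime `r ∉ σ(M)` with a nonregular subgroup of order `r` lies in
`κ(M)`. -/
theorem eq_of_cent_ne_bot_mem_kappa (hG : IsMinSimpleOddOrder G) {M R : Subgroup G}
    (hM : IsCoatom M) {r : ℕ} (hr : r ∈ tau1 M ∪ tau3 M) (hRM : R ≤ M) (hR : Nat.card R = r)
    (hne : sigmaCore M ⊓ centralizer (R : Set G) ≠ ⊥) : r ∈ kappa M := by
  have hrp : r.Prime := by
    rcases hr with h | h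
    · exact h.1
    · exact h.1
  haveI : Fact r.Prime := ⟨hrp⟩
  have hrσ : r ∉ sigma M := by
    rcases hr with h | h
    · exact h.2.1
    · exact h.2.1
  have hr1 : PRankLE r 1 ↥M := by
    rcases hr with h | h
    · exact h.2.2.2.2
    · exact h.2.2.2
  have hrM : r ∣ Nat.card M := hR ▸ Subgroup.card_dvd_of_le hRM
  refine ⟨hrp, hrM, hrσ, fun P => ⟨eq_of_cent_ne_bot_sylow_cyclic hG hrM hr1 P, ?_⟩⟩
  -- conjugate `R` into `P`
  have hR'p : IsPGroup r ↥(R.subgroupOf M) := by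
    apply IsPGroup.of_card (n := 1)
    rw [pow_one, Nat.card_congr (Subgroup.subgroupOfEquivOfLe hRM).toEquiv, hR]
  obtain ⟨Q, hQ⟩ := hR'p.exists_le_sylow
  obtain ⟨g, hg⟩ := MulAction.exists_smul_eq ↥M Q P
  have hRne : R ≠ ⊥ := by
    intro h
    rw [h, Subgroup.card_bot] at hR
    exact hrp.one_lt.ne' hR.symm
  obtain ⟨x₀, hx₀1⟩ := (Subgroup.ne_bot_iff_exists_ne_one).mp hRne
  obtain ⟨y₀, hy₀1⟩ := (Subgroup.ne_bot_iff_exists_ne_one).mp hne
  have hx₀M : (x₀ : G) ∈ M := hRM x₀.2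
  have hy₀W : (y₀ : G) ∈ sigmaCore M := (Subgroup.mem_inf.mp y₀.2).1
  have hy₀C : (y₀ : G) ∈ centralizer (R : Set G) := (Subgroup.mem_inf.mp y₀.2).2
  have hcomm : (x₀ : G) * y₀ = y₀ * x₀ := ((mem_centralizer_iff.mp hy₀C) x₀ x₀.2)
  refine ⟨g * ⟨x₀, hx₀M⟩ * g⁻¹, ?_, ?_, (g : G) * y₀ * (g : G)⁻¹, ?_, ?_, ?_⟩
  · rw [← hg]
    have hxQ : (⟨x₀, hx₀M⟩ : ↥M) ∈ (Q : Subgroup ↥M) := hQ (by
      rw [Subgroup.mem_subgroupOf]; exact x₀.2)
    have h1 := Subgroup.smul_mem_pointwise_smul _ (MulAut.conj g) (Q : Subgroup ↥M) hxQ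
    rw [MulAut.smul_def, MulAut.conj_apply] at h1
    exact h1
  · intro h
    apply hx₀1
    have h1 : (⟨x₀, hx₀M⟩ : ↥M) = 1 := by
      have := congrArg (fun t => g⁻¹ * t * g) h
      simpa [mul_assoc] using this
    exact Subtype.ext (by simpa using congrArg Subtype.val h1)
  · exact Cfsg.Agent.Lib.Helper24.BG.sigmaCore_conj_mem M g.2 hy₀W
  · intro h
    apply hy₀1
    have h1 : (y₀ : G) = 1 := by
      have := congrArg (fun t => (g : G)⁻¹ * t * (g : G)) h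
      simpa [mul_assoc] using this
    exact Subtype.ext h1
  · show ((g * ⟨x₀, hx₀M⟩ * g⁻¹ : ↥M) : G) * ((g : G) * y₀ * (g : G)⁻¹) =
      ((g : G) * y₀ * (g : G)⁻¹) * ((g * ⟨x₀, hx₀M⟩ * g⁻¹ : ↥M) : G)
    push_cast
    calc (g : G) * x₀ * (g : G)⁻¹ * ((g : G) * y₀ * (g : G)⁻¹)
        = (g : G) * ((x₀ : G) * y₀) * (g : G)⁻¹ := by group
      _ = (g : G) * ((y₀ : G) * x₀) * (g : G)⁻¹ := by rw [hcomm]
      _ = (g : G) * y₀ * (g : G)⁻¹ * ((g : G) * x₀ * (g : G)⁻¹) := by group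

/-- LEAF II2: if `C_W(E) ≠ 1` then `E` is the Hall `κ(M)`-subgroup. -/
theorem eq_of_cent_ne_bot (hG : IsMinSimpleOddOrder G) {M E K : Subgroup G} (hM : IsCoatom M)
    (hE : IsComplIn E (sigmaCore M) M) (hK : IsPiHallOf (kappa M) K M) (hKE : K ≤ E)
    (hne : sigmaCore M ⊓ centralizer (E : Set G) ≠ ⊥) : K = E := by
  classical
  -- every prime of `|E|` is in `κ(M)`
  have hEκ : ∀ s : ℕ, s.Prime → s ∣ Nat.card E → s ∈ kappa M := by
    intro s hs hsE
    haveI : Fact s.Prime := ⟨hs⟩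
    rcases (Cfsg.Agent.Lib.Helper24.S1421.prime_class hG hM hE hs hsE).2 with h13 | h2
    · obtain ⟨x, hx⟩ := exists_prime_orderOf_dvd_card' s hsE
      have hRE : zpowers (x : G) ≤ E := by rw [zpowers_le]; exact x.2
      have hRc : Nat.card (zpowers (x : G)) = s := by
        rw [Nat.card_zpowers, Subgroup.orderOf_coe, hx]
      apply eq_of_cent_ne_bot_mem_kappa hG hM h13 (hRE.trans hE.1) hRc
      intro h
      apply hne
      rw [eq_bot_iff, ← h]
      exact inf_le_inf_left _ (Subgroup.centralizer_le hRE)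
    · exfalso
      obtain ⟨A, hAE, hAe, hAc⟩ :=
        Cfsg.Agent.Lib.Helper96.BG127.exists_elemAb_sq_le_compl hE h2
      have h17 := (Cfsg.Agent.S1417.result hG M hM s h2 A ⟨hAE.trans hE.1, hAe, hAc⟩).2.2.2.1
      apply hne
      rw [eq_bot_iff, ← h17]
      exact inf_le_inf_left _ (Subgroup.centralizer_le hAE)
  -- `|E : K|` is both a `κ`-number and a `κ'`-number
  apply le_antisymm hKE
  have hidx : K.relIndex E = 1 := by
    by_contra hne1
    obtain ⟨p, hp, hpd⟩ := Nat.exists_prime_and_dvd hne1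
    have h1 : p ∣ Nat.card E := hpd.trans (Subgroup.relIndex_dvd_card K E)
    have h2 : p ∣ K.relIndex M := by
      rw [← Subgroup.relIndex_mul_relIndex K E M hKE hE.1]
      exact hpd.trans (Dvd.intro _ rfl)
    exact hK.2.2 p hp (hEκ p hp h1) h2
  exact Subgroup.relIndex_eq_one.mp hidx

/-- LEAF II3: `⊥` is a Hall subgroup for the primes outside `κ(M) ∪ σ(M)` when `E` is a
`κ(M)`-group. -/
theorem bot_isPiHallOf (hG : IsMinSimpleOddOrder G) {M E : Subgroup G} (hM : IsCoatom M)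
    (hE : IsComplIn E (sigmaCore M) M) (hK : IsPiHallOf (kappa M) E M) :
    IsPiHallOf {q | q.Prime ∧ q ∉ kappa M ∧ q ∉ sigma M} (⊥ : Subgroup G) M := by
  refine ⟨bot_le, ?_, ?_⟩
  · intro p hp hpd
    rw [Subgroup.card_bot] at hpd
    exact absurd (Nat.dvd_one.mp hpd) hp.ne_one
  · rintro p hp ⟨-, hpκ, hpσ⟩ hpd
    rw [Subgroup.relIndex_bot_left] at hpd
    -- `|M| = |E| |W|`
    have hcard : Nat.card E * Nat.card (sigmaCore M) = Nat.card M :=
      Cfsg.Agent.Lib.Helper23.card_isComplIn hE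
    rw [← hcard] at hpd
    rcases (Nat.Prime.dvd_mul hp).mp hpd with h | h
    · exact hpκ (hK.2.1 p hp h)
    · exact hpσ ((Cfsg.Agent.Lib.Helper19.BG124.sigmaHallIn hG hM).2.1 p hp h)

end Cfsg.Agent.Lib.Helper32.BG142
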