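import Mathlib
import Cfsg.Agent.S0033

/-!
# Thompson's theorem for a fixed-point-free inner action

If `x` normalizes `K`, `x ^ p = 1` with `p` prime, and `K ∩ C_G(x) = 1`, then `K` is nilpotent.
-/

set_option autoImplicit false
set_option linter.unusedSectionVars false
set_option linter.unusedVariables false

namespace Cfsg.Agent.Lib.Helper24.FpfConj

variable {G : Type*} [Group G]

/-- conjugation by a normalizing element, as an automorphism of `K` -/
def conjOn (K : Subgroup G) (x : G) (hx : x ∈ Subgroup.normalizer (K : Set G)) : K ≃* K where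
  toFun k := ⟨x * k * x⁻¹, (Subgroup.mem_normalizer_iff.mp hx k).mp k.2⟩
  invFun k := ⟨x⁻¹ * k * x, by
    have h := (Subgroup.mem_normalizer_iff.mp (Subgroup.inv_mem _ hx) k).mp k.2
    simpa using h⟩
  left_inv k := by apply Subtype.ext; simp [mul_assoc]
  right_inv k := by apply Subtype.ext; simp [mul_assoc]
  map_mul' a b := by apply Subtype.ext; simp [mul_assoc]

theorem conjOn_coe (K : Subgroup G) (x : G) (hx : x ∈ Subgroup.normalizer (K : Set G)) (k : K) :
    ((conjOn K x hx k : K) : G) = x * k * x⁻¹ := rfl

/-- the action of the normalizer on `K` -/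
def normAut (K : Subgroup G) : Subgroup.normalizer (K : Set G) →* MulAut K where
  toFun x := conjOn K x x.2
  map_one' := by
    apply MulEquiv.ext; intro k; apply Subtype.ext
    simp [conjOn_coe]
  map_mul' a b := by
    apply MulEquiv.ext; intro k; apply Subtype.ext
    simp [conjOn_coe, mul_assoc]

theorem nilpotent_of_fpf_conj [Finite G] (K : Subgroup G) (x : G)
    (hx : x ∈ Subgroup.normalizer (K : Set G)) (p : ℕ) (hp : p.Prime) (hxp : x ^ p = 1)
    (hfpf : K ⊓ Subgroup.centralizer ({x} : Set G) = ⊥) : Group.IsNilpotent K := by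
  set φ : K ≃* K := normAut K ⟨x, hx⟩ with hφ
  have hφc : ∀ k : K, ((φ k : K) : G) = x * k * x⁻¹ := fun k => rfl
  have hfix : MonoidHom.FixedPointFree ((φ : K ≃* K) : K →* K) := by
    intro k hk
    have hk' : x * (k : G) * x⁻¹ = k := congrArg Subtype.val hk
    have h1 : (k : G) ∈ K ⊓ Subgroup.centralizer ({x} : Set G) := by
      refine Subgroup.mem_inf.mpr ⟨k.2, ?_⟩
      rw [Subgroup.mem_centralizer_iff]
      intro y hy
      rw [Set.mem_singleton_iff] at hy
      subst hy
      calc y * (k : G) = (y * k * y⁻¹) * y := by group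
        _ = k * y := by rw [hk']
    rw [hfpf, Subgroup.mem_bot] at h1
    exact Subtype.ext h1
  have hpow : φ ^ p = 1 := by
    rw [hφ, ← map_pow]
    have : (⟨x, hx⟩ : Subgroup.normalizer (K : Set G)) ^ p = 1 := by
      apply Subtype.ext; simp [hxp]
    rw [this, map_one]
  by_cases h1 : φ = 1
  · have : Subsingleton K :=
      ⟨fun a b => by rw [hfix a (by rw [h1]; rfl), hfix b (by rw [h1]; rfl)]⟩
    exact Group.isNilpotent_of_subsingleton
  · have hord : orderOf φ = p := by
      have h2 := orderOf_dvd_of_pow_eq_one hpow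
      rcases (Nat.dvd_prime hp).mp h2 with h | h
      · exact absurd (orderOf_eq_one_iff.mp h) h1
      · exact h
    exact Cfsg.Agent.S0033.result φ hfix p hp hord

end Cfsg.Agent.Lib.Helper24.FpfConj
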