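import Mathlib
import Cfsg.Agent.Lib.Helper48.MaschkeAmb

/-!
# The lifting lemma (coprime action on an abelian `p`-group)

* `exists_invariant_complement_section'` : Maschke's theorem for a section `K / M`, without the
  requirement that `M` be normal in the ambient group.
* `exists_invariant_cyclic` : if a `p'`-group `H` normalises an abelian `p`-group `P` of exponent
  dividing `p ^ a`, and an `H`-invariant subgroup `ℓ` of order `p` contains a non-trivial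
  `p ^ (a - 1)`-th power, then `ℓ` lies in an `H`-invariant cyclic subgroup of order `p ^ a`.
-/

set_option autoImplicit false
set_option linter.unusedSectionVars false
set_option linter.unusedVariables false
set_option linter.style.haveILetI false

namespace Cfsg.Agent.Lib.Helper24.Lifting

open Subgroup
open scoped commutatorElement

variable {G : Type*} [Group G]

/-- a subgroup `A` normalises `X` as soon as conjugation by its elements maps `X` into `X` -/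
theorem le_normalizer_of_conj_mem (A X : Subgroup G)
    (h : ∀ g ∈ A, ∀ x ∈ X, g * x * g⁻¹ ∈ X) : A ≤ normalizer (X : Set G) := by
  intro g hg
  rw [Subgroup.mem_normalizer_iff]
  intro x
  constructor
  · exact h g hg x
  · intro hx
    have := h g⁻¹ (A.inv_mem hg) _ hx
    have h2 : g⁻¹ * (g * x * g⁻¹) * g⁻¹⁻¹ = x := by group
    rwa [h2] at this

theorem conj_mem_of_le_normalizer {A X : Subgroup G} (h : A ≤ normalizer (X : Set G))
    {g x : G} (hg : g ∈ A) (hx : x ∈ X) : g * x * g⁻¹ ∈ X :=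
  (Subgroup.mem_normalizer_iff.mp (h hg) x).mp hx

/-- Maschke for a section `K / M` where `M` is only normalised by `A` and `K`. -/
theorem exists_invariant_complement_section' [Finite G] (t : ℕ) [Fact t.Prime]
    (A K M U : Subgroup G) (hMU : M ≤ U) (hUK : U ≤ K)
    (hAK : A ≤ normalizer (K : Set G)) (hAU : A ≤ normalizer (U : Set G))
    (hAM : A ≤ normalizer (M : Set G)) (hKM : K ≤ normalizer (M : Set G))
    (hcomm : ⁅K, K⁆ ≤ M) (hpow : ∀ x ∈ K, x ^ t ∈ M) (hcop : (Nat.card A).Coprime t) :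
    ∃ X : Subgroup G, M ≤ X ∧ X ≤ K ∧ A ≤ normalizer (X : Set G) ∧ U ⊓ X = M ∧ U ⊔ X = K := by
  classical
  set N : Subgroup G := normalizer (M : Set G) with hN
  have hMN : M ≤ N := Subgroup.le_normalizer
  haveI hMn : (M.subgroupOf N).Normal := Subgroup.normal_in_normalizer
  have hcardA : Nat.card (A.subgroupOf N) = Nat.card A :=
    Nat.card_congr (Subgroup.subgroupOfEquivOfLe hAM).toEquiv
  obtain ⟨X', hMX', hX'K, hAX', hinf, hsup⟩ :=
    Cfsg.Agent.Lib.Helper48.exists_invariant_complement_section (G := ↥N) t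
      (A.subgroupOf N) (K.subgroupOf N) (M.subgroupOf N) (U.subgroupOf N)
      (fun x hx => hMU hx) (fun x hx => hUK hx)
      (by
        apply le_normalizer_of_conj_mem
        intro g hg x hx
        exact conj_mem_of_le_normalizer hAK hg hx)
      (by
        apply le_normalizer_of_conj_mem
        intro g hg x hx
        exact conj_mem_of_le_normalizer hAU hg hx)
      (by
        rw [Subgroup.commutator_le]
        intro x hx y hy
        show ((⁅x, y⁆ : ↥N) : G) ∈ M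
        have : ((⁅x, y⁆ : ↥N) : G) = ⁅(x : G), (y : G)⁆ := by
          simp [commutatorElement_def]
        rw [this]
        exact hcomm (Subgroup.commutator_mem_commutator hx hy))
      (by
        intro x hx
        show ((x ^ t : ↥N) : G) ∈ M
        rw [SubgroupClass.coe_pow]
        exact hpow _ hx)
      (by rw [hcardA]; exact hcop)
  refine ⟨X'.map N.subtype, ?_, ?_, ?_, ?_, ?_⟩
  · intro m hm
    exact ⟨⟨m, hMN hm⟩, hMX' hm, rfl⟩
  · rintro _ ⟨x, hx, rfl⟩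
    exact hX'K hx
  · apply le_normalizer_of_conj_mem
    rintro g hg _ ⟨x, hx, rfl⟩
    refine ⟨⟨g, hAM hg⟩ * x * ⟨g, hAM hg⟩⁻¹, ?_, rfl⟩
    exact conj_mem_of_le_normalizer hAX' (show (⟨g, hAM hg⟩ : ↥N) ∈ A.subgroupOf N from hg) hx
  · apply le_antisymm
    · intro y hy
      obtain ⟨hyU, x, hx, rfl⟩ := Subgroup.mem_inf.mp hy
      have : x ∈ U.subgroupOf N ⊓ X' := Subgroup.mem_inf.mpr ⟨hyU, hx⟩
      rw [hinf] at this
      exact this
    · intro m hm
      exact Subgroup.mem_inf.mpr ⟨hMU hm, ⟨⟨m, hMN hm⟩, hMX' hm, rfl⟩⟩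
  · apply le_antisymm
    · refine sup_le hUK ?_
      rintro _ ⟨x, hx, rfl⟩
      exact hX'K hx
    · intro k hk
      have hkN : k ∈ N := hKM hk
      have : (⟨k, hkN⟩ : ↥N) ∈ U.subgroupOf N ⊔ X' := by
        rw [hsup]; exact hk
      have h2 : N.subtype ⟨k, hkN⟩ ∈ (U.subgroupOf N ⊔ X').map N.subtype :=
        Subgroup.mem_map_of_mem _ this
      rw [Subgroup.map_sup] at h2
      have h3 : (U.subgroupOf N).map N.subtype ≤ U := by
        rintro _ ⟨x, hx, rfl⟩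
        exact hx
      exact (sup_le_sup_right h3 _) h2

/-- the subgroup of the elements of an abelian subgroup `P` whose `n`-th power lies in `ℓ` -/
def powIn (P ℓ : Subgroup G) (hPab : ∀ x ∈ P, ∀ y ∈ P, x * y = y * x) (n : ℕ) : Subgroup G where
  carrier := {y | y ∈ P ∧ y ^ n ∈ ℓ}
  one_mem' := ⟨P.one_mem, by rw [one_pow]; exact ℓ.one_mem⟩
  mul_mem' := by
    rintro x y ⟨hx, hxn⟩ ⟨hy, hyn⟩
    refine ⟨P.mul_mem hx hy, ?_⟩
    have hc : Commute x y := hPab x hx y hy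
    rw [hc.mul_pow]
    exact ℓ.mul_mem hxn hyn
  inv_mem' := by
    rintro x ⟨hx, hxn⟩
    exact ⟨P.inv_mem hx, by rw [inv_pow]; exact ℓ.inv_mem hxn⟩

theorem mem_powIn {P ℓ : Subgroup G} {hPab : ∀ x ∈ P, ∀ y ∈ P, x * y = y * x} {n : ℕ} {y : G} :
    y ∈ powIn P ℓ hPab n ↔ y ∈ P ∧ y ^ n ∈ ℓ := Iff.rfl

theorem le_normalizer_powIn {A P ℓ : Subgroup G} (hPab : ∀ x ∈ P, ∀ y ∈ P, x * y = y * x) (n : ℕ)
    (hAP : A ≤ normalizer (P : Set G)) (hAℓ : A ≤ normalizer (ℓ : Set G)) :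
    A ≤ normalizer ((powIn P ℓ hPab n : Subgroup G) : Set G) := by
  apply le_normalizer_of_conj_mem
  rintro g hg y ⟨hy, hyn⟩
  refine ⟨conj_mem_of_le_normalizer hAP hg hy, ?_⟩
  rw [conj_pow]
  exact conj_mem_of_le_normalizer hAℓ hg hyn

/-- the subgroup of `k`-th powers of an abelian subgroup -/
def powImage (Y : Subgroup G) (hYab : ∀ x ∈ Y, ∀ y ∈ Y, x * y = y * x) (k : ℕ) : Subgroup G where
  carrier := {z | ∃ y ∈ Y, y ^ k = z}
  one_mem' := ⟨1, Y.one_mem, one_pow _⟩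
  mul_mem' := by
    rintro _ _ ⟨x, hx, rfl⟩ ⟨y, hy, rfl⟩
    refine ⟨x * y, Y.mul_mem hx hy, ?_⟩
    have hc : Commute x y := hYab x hx y hy
    rw [hc.mul_pow]
  inv_mem' := by
    rintro _ ⟨x, hx, rfl⟩
    exact ⟨x⁻¹, Y.inv_mem hx, inv_pow _ _⟩

theorem mem_powImage {Y : Subgroup G} {hYab : ∀ x ∈ Y, ∀ y ∈ Y, x * y = y * x} {k : ℕ} {z : G} :
    z ∈ powImage Y hYab k ↔ ∃ y ∈ Y, y ^ k = z := Iff.rfl

theorem powImage_le (Y : Subgroup G) (hYab : ∀ x ∈ Y, ∀ y ∈ Y, x * y = y * x) (k : ℕ) :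
    powImage Y hYab k ≤ Y := by
  rintro _ ⟨y, hy, rfl⟩
  exact Y.pow_mem hy k

theorem le_normalizer_powImage {A Y : Subgroup G} (hYab : ∀ x ∈ Y, ∀ y ∈ Y, x * y = y * x) (k : ℕ)
    (hAY : A ≤ normalizer (Y : Set G)) :
    A ≤ normalizer ((powImage Y hYab k : Subgroup G) : Set G) := by
  apply le_normalizer_of_conj_mem
  rintro g hg _ ⟨y, hy, rfl⟩
  exact ⟨g * y * g⁻¹, conj_mem_of_le_normalizer hAY hg hy, conj_pow⟩

/-- **Lifting lemma.**  Let the `p'`-group `H` normalise the abelian `p`-group `P` of exponent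
dividing `p ^ a`, and let `ℓ ≤ P` be an `H`-invariant subgroup of order `p` containing a non-trivial
`p ^ (a - 1)`-th power of an element of `P`.  Then `ℓ` lies in an `H`-invariant cyclic subgroup of
`P` of order `p ^ a`. -/
theorem exists_invariant_cyclic [Finite G] {p : ℕ} [hp : Fact p.Prime] (P H ℓ : Subgroup G)
    (hPab : ∀ x ∈ P, ∀ y ∈ P, x * y = y * x)
    (hHP : H ≤ normalizer (P : Set G)) (hcop : (Nat.card H).Coprime p)
    (a : ℕ) (ha : 1 ≤ a) (hexp : ∀ x ∈ P, x ^ (p ^ a) = 1)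
    (hℓc : Nat.card ℓ = p) (hHℓ : H ≤ normalizer (ℓ : Set G))
    (hℓpow : ∃ y ∈ P, y ^ (p ^ (a - 1)) ∈ ℓ ∧ y ^ (p ^ (a - 1)) ≠ 1) :
    ∃ Y : Subgroup G, Y ≤ P ∧ IsCyclic Y ∧ Nat.card Y = p ^ a ∧
      H ≤ normalizer (Y : Set G) ∧ ℓ ≤ Y := by
  classical
  obtain ⟨n, hn⟩ : ∃ n, n = p ^ (a - 1) := ⟨_, rfl⟩
  rw [← hn] at hℓpow
  have hpn : p * n = p ^ a := by
    rw [hn, ← pow_succ', Nat.sub_add_cancel ha]
  obtain ⟨y0, hy0P, hy0ℓ, hy01⟩ := hℓpow
  obtain ⟨Y, ⟨hYP, hHY, hYℓ, hYne⟩, hYmin⟩ := WellFounded.has_min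
    (wellFounded_lt (α := Subgroup G))
    {Y : Subgroup G | Y ≤ P ∧ H ≤ normalizer (Y : Set G) ∧ (∀ y ∈ Y, y ^ n ∈ ℓ) ∧
      ∃ y ∈ Y, y ^ n ≠ 1}
    ⟨powIn P ℓ hPab n, fun y hy => hy.1, le_normalizer_powIn hPab n hHP hHℓ, fun y hy => hy.2,
      y0, ⟨hy0P, hy0ℓ⟩, hy01⟩
  have hmin : ∀ X : Subgroup G, X ≤ Y → H ≤ normalizer (X : Set G) → (∃ x ∈ X, x ^ n ≠ 1) →
      X = Y := by
    intro X hXY hHX hX1
    by_contra hne
    exact hYmin X ⟨le_trans hXY hYP, hHX, fun x hx => hYℓ x (hXY hx), hX1⟩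
      (lt_of_le_of_ne hXY hne)
  have hYab : ∀ x ∈ Y, ∀ y ∈ Y, x * y = y * x := fun x hx y hy => hPab x (hYP hx) y (hYP hy)
  -- the two characteristic subgroups
  have hY0Y : powIn Y ⊥ hYab n ≤ Y := fun y hy => hy.1
  have hYpY0 : powImage Y hYab p ≤ powIn Y ⊥ hYab n := by
    rintro _ ⟨y, hy, rfl⟩
    refine ⟨Y.pow_mem hy p, ?_⟩
    rw [Subgroup.mem_bot, ← pow_mul, hpn]
    exact hexp y (hYP hy)
  have hHbot : H ≤ normalizer ((⊥ : Subgroup G) : Set G) := by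
    apply le_normalizer_of_conj_mem
    intro g hg x hx
    rw [Subgroup.mem_bot] at hx ⊢
    rw [hx]; group
  obtain ⟨X, hYpX, hXY, hHX, hinf, hsup⟩ := exists_invariant_complement_section' p H Y
    (powImage Y hYab p) (powIn Y ⊥ hYab n) hYpY0 hY0Y hHY
    (le_normalizer_powIn hYab n hHY hHbot) (le_normalizer_powImage hYab p hHY)
    (le_normalizer_powImage hYab p Subgroup.le_normalizer)
    (by
      rw [Subgroup.commutator_le]
      intro x hx y hy
      have : ⁅x, y⁆ = 1 := commutatorElement_eq_one_iff_mul_comm.mpr (hYab x hx y hy)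
      rw [this]; exact Subgroup.one_mem _)
    (fun x hx => ⟨x, hx, rfl⟩) hcop
  have hX1 : ∃ x ∈ X, x ^ n ≠ 1 := by
    by_contra hcon
    push Not at hcon
    have hXY0 : X ≤ powIn Y ⊥ hYab n := fun x hx => ⟨hXY hx, Subgroup.mem_bot.mpr (hcon x hx)⟩
    rw [sup_eq_left.mpr hXY0] at hsup
    obtain ⟨y, hy, hy1⟩ := hYne
    rw [← hsup] at hy
    exact hy1 (Subgroup.mem_bot.mp hy.2)
  have hXeq : X = Y := hmin X hXY hHX hX1
  rw [hXeq, inf_eq_left.mpr hY0Y] at hinf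
  have hroot : ∀ y ∈ Y, y ^ n = 1 → ∃ w ∈ Y, w ^ p = y := by
    intro y hy hy1
    have : y ∈ powIn Y ⊥ hYab n := ⟨hy, Subgroup.mem_bot.mpr hy1⟩
    rw [hinf] at this
    exact this
  -- a generator
  obtain ⟨u, hu, hu1⟩ := hYne
  have huℓ : u ^ n ∈ ℓ := hYℓ u hu
  have hgen : ∀ w ∈ ℓ, ∃ k : ℕ, (u ^ n) ^ k = w := by
    intro w hw
    have h1 : (⟨u ^ n, huℓ⟩ : ℓ) ≠ 1 := fun h => hu1 (congrArg Subtype.val h)
    have h2 := mem_powers_of_prime_card (G := ℓ) hℓc (g' := ⟨w, hw⟩) h1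
    obtain ⟨k, hk⟩ := (Submonoid.mem_powers_iff _ _).mp h2
    exact ⟨k, by simpa using congrArg Subtype.val hk⟩
  have hsplit : ∀ v ∈ Y, ∃ z ∈ zpowers u, ∃ w ∈ Y, v = z * w ^ p := by
    intro v hv
    obtain ⟨k, hk⟩ := hgen (v ^ n) (hYℓ v hv)
    have hzY : u ^ k ∈ Y := Y.pow_mem hu k
    have hc : Commute v (u ^ k)⁻¹ := hYab v hv _ (Y.inv_mem hzY)
    have h1 : (v * (u ^ k)⁻¹) ^ n = 1 := by
      rw [hc.mul_pow, inv_pow, ← pow_mul, mul_comm k n, pow_mul, hk, mul_inv_cancel]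
    obtain ⟨w, hw, hw2⟩ := hroot _ (Y.mul_mem hv (Y.inv_mem hzY)) h1
    refine ⟨u ^ k, Subgroup.pow_mem _ (Subgroup.mem_zpowers u) k, w, hw, ?_⟩
    rw [hw2, hc.eq, mul_inv_cancel_left]
  have hind : ∀ k : ℕ, ∀ y ∈ Y, ∃ z ∈ zpowers u, ∃ v ∈ Y, y = z * v ^ (p ^ k) := by
    intro k
    induction k with
    | zero =>
      intro y hy
      exact ⟨1, Subgroup.one_mem _, y, hy, by simp⟩
    | succ k ih =>
      intro y hy
      obtain ⟨z, hz, v, hv, rfl⟩ := ih y hy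
      obtain ⟨z', hz', w, hw, rfl⟩ := hsplit v hv
      have hzY : ∀ t ∈ zpowers u, t ∈ Y := fun t ht =>
        (Subgroup.zpowers_le.mpr hu) ht
      have hc : Commute z' (w ^ p) := hYab z' (hzY z' hz') _ (Y.pow_mem hw p)
      refine ⟨z * z' ^ (p ^ k), Subgroup.mul_mem _ hz (Subgroup.pow_mem _ hz' _), w, hw, ?_⟩
      rw [hc.mul_pow, ← pow_mul, ← pow_succ', mul_assoc]
  have hYu : Y = zpowers u := by
    apply le_antisymm
    · intro y hy
      obtain ⟨z, hz, v, hv, rfl⟩ := hind a y hy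
      rw [hexp v (hYP hv), mul_one]
      exact hz
    · exact Subgroup.zpowers_le.mpr hu
  have hord : orderOf u = p ^ a := by
    have h1 : ¬ u ^ p ^ (a - 1) = 1 := by rw [← hn]; exact hu1
    have h2 : u ^ p ^ (a - 1 + 1) = 1 := by
      rw [Nat.sub_add_cancel ha]; exact hexp u (hYP hu)
    have := orderOf_eq_prime_pow h1 h2
    rwa [Nat.sub_add_cancel ha] at this
  refine ⟨Y, hYP, ?_, ?_, hHY, ?_⟩
  · rw [hYu]; infer_instance
  · rw [hYu, Nat.card_zpowers, hord]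
  · intro w hw
    obtain ⟨k, rfl⟩ := hgen w hw
    exact Y.pow_mem (Y.pow_mem hu n) k

end Cfsg.Agent.Lib.Helper24.Lifting
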