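import Mathlib
import Cfsg.Agent.Lib.Helper24.Lifting
import Cfsg.Agent.Lib.Helper24.InvCompl
import Cfsg.Agent.Lib.Helper24.HHSyl
import Cfsg.Agent.Lib.Helper10.Card
import Cfsg.Agent.Lib.Helper33.Conj

/-!
# Points of an elementary abelian group of order `p ^ 2` normalised by an abelian group (pure part)
-/

set_option autoImplicit false
set_option linter.unusedSectionVars false
set_option linter.unusedVariables false
set_option linter.style.haveILetI false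

namespace Cfsg.Agent.Lib.Helper24.GoodPoint

open Subgroup
open Cfsg.Agent.Lib.Helper24.Lifting
open Cfsg.Agent.Lib.Helper33 (cj cj_def mem_cj mem_cj' cj_mono cj_eq_self_iff card_cj cj_mul
  cj_injective)
open scoped commutatorElement

variable {G : Type*} [Group G]

/-- in a finite group, `x` normalises `B` as soon as it conjugates `B` into `B` -/
theorem mem_normalizer_of_conj_mem [Finite G] (x : G) (B : Subgroup G)
    (h : ∀ b ∈ B, x * b * x⁻¹ ∈ B) : x ∈ normalizer (B : Set G) := by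
  have h1 : ∀ m : ℕ, ∀ b ∈ B, x ^ m * b * (x ^ m)⁻¹ ∈ B := by
    intro m
    induction m with
    | zero => intro b hb; simpa using hb
    | succ m ih =>
      intro b hb
      have := h _ (ih b hb)
      have e : x ^ (m + 1) * b * (x ^ (m + 1))⁻¹ = x * (x ^ m * b * (x ^ m)⁻¹) * x⁻¹ := by
        rw [pow_succ']; group
      rw [e]; exact this
  have h2 : zpowers x ≤ normalizer (B : Set G) := by
    apply le_normalizer_of_conj_mem
    intro g hg b hb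
    rw [← mem_powers_iff_mem_zpowers] at hg
    obtain ⟨m, rfl⟩ := hg
    exact h1 m b hb
  exact h2 (mem_zpowers x)

/-- an element normalising a subgroup of prime order acts on it as a power map -/
theorem exists_pow_of_mem_normalizer {p : ℕ} [hp : Fact p.Prime] (ℓ : Subgroup G)
    (hℓc : Nat.card ℓ = p) (x : G) (hx : x ∈ normalizer (ℓ : Set G)) :
    ∃ k : ℕ, ∀ b ∈ ℓ, x * b * x⁻¹ = b ^ k := by
  haveI : Finite ℓ := Nat.finite_of_card_ne_zero (hℓc ▸ hp.out.ne_zero)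
  haveI : Nontrivial ℓ := Finite.one_lt_card_iff_nontrivial.mp (hℓc ▸ hp.out.one_lt)
  obtain ⟨g, hg⟩ : ∃ g : ℓ, g ≠ 1 := exists_ne 1
  have hgen : ∀ w ∈ ℓ, ∃ m : ℕ, (g : G) ^ m = w := by
    intro w hw
    have h2 := mem_powers_of_prime_card (G := ℓ) hℓc (g' := ⟨w, hw⟩) hg
    obtain ⟨m, hm⟩ := (Submonoid.mem_powers_iff _ _).mp h2
    exact ⟨m, by simpa using congrArg Subtype.val hm⟩
  have hxg : x * (g : G) * x⁻¹ ∈ ℓ := (Subgroup.mem_normalizer_iff.mp hx _).mp g.2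
  obtain ⟨k, hk⟩ := hgen _ hxg
  refine ⟨k, ?_⟩
  intro b hb
  obtain ⟨m, rfl⟩ := hgen b hb
  rw [← conj_pow, ← hk, ← pow_mul, ← pow_mul, mul_comm]

/-- **two invariant points.** -/
theorem two_points [Finite G] {p : ℕ} [hp : Fact p.Prime] (A : Subgroup G)
    (hAc : ∀ a ∈ A, ∀ b ∈ A, a * b = b * a) (hAe : ∀ a ∈ A, a ^ p = 1)
    (hAcard : Nat.card A = p ^ 2)
    (x : G) (hxA : x ∈ normalizer (A : Set G)) (hxo : (orderOf x).Coprime p)
    (ℓ : Subgroup G) (hℓA : ℓ ≤ A) (hℓc : Nat.card ℓ = p) (hxℓ : x ∈ normalizer (ℓ : Set G))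
    (hns : ∃ ℓ' : Subgroup G, ℓ' ≤ A ∧ x ∉ normalizer (ℓ' : Set G)) :
    ∃ ℓ₂ : Subgroup G, ℓ₂ ≤ A ∧ Nat.card ℓ₂ = p ∧ ℓ₂ ≠ ℓ ∧ x ∈ normalizer (ℓ₂ : Set G) ∧
      ∀ ℓ₃ : Subgroup G, ℓ₃ ≤ A → Nat.card ℓ₃ = p → x ∈ normalizer (ℓ₃ : Set G) →
        ℓ₃ = ℓ ∨ ℓ₃ = ℓ₂ := by
  classical
  have hzn : ∀ B : Subgroup G, x ∈ normalizer (B : Set G) → zpowers x ≤ normalizer (B : Set G) :=
    fun B hB => Subgroup.zpowers_le.mpr hB
  have hbotn : ∀ B : Subgroup G, B ≤ normalizer ((⊥ : Subgroup G) : Set G) := by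
    intro B
    apply le_normalizer_of_conj_mem
    intro g hg y hy
    rw [Subgroup.mem_bot] at hy ⊢
    rw [hy]; group
  obtain ⟨X, -, hXA, hxX, hinf, hsup⟩ := exists_invariant_complement_section' p (zpowers x) A ⊥ ℓ
    bot_le hℓA (hzn A hxA) (hzn ℓ hxℓ) (hbotn _) (hbotn _)
    (by
      rw [Subgroup.commutator_le]
      intro a ha b hb
      rw [Subgroup.mem_bot]
      exact commutatorElement_eq_one_iff_mul_comm.mpr (hAc a ha b hb))
    (fun a ha => Subgroup.mem_bot.mpr (hAe a ha))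
    (by rw [Nat.card_zpowers]; exact hxo)
  have hxX' : x ∈ normalizer (X : Set G) := hxX (mem_zpowers x)
  have hℓX : ℓ ≤ normalizer (X : Set G) := by
    apply le_normalizer_of_conj_mem
    intro g hg y hy
    have : g * y * g⁻¹ = y := by
      rw [hAc g (hℓA hg) y (hXA hy), mul_inv_cancel_right]
    rw [this]; exact hy
  have hXc : Nat.card X = p := by
    have h := Cfsg.Agent.Lib.Helper10.card_sup_mul_card_inf hℓX
    rw [hsup, hinf, hAcard, hℓc, Subgroup.card_bot, mul_one, pow_two] at h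
    exact (Nat.eq_of_mul_eq_mul_left hp.out.pos h).symm
  have hXne : X ≠ ℓ := by
    intro h
    rw [h, inf_idem] at hinf
    rw [hinf, Subgroup.card_bot] at hℓc
    exact hp.out.one_lt.ne hℓc
  refine ⟨X, hXA, hXc, hXne, hxX', ?_⟩
  intro ℓ₃ hℓ₃A hℓ₃c hxℓ₃
  by_contra hcon
  push Not at hcon
  obtain ⟨hne1, hne2⟩ := hcon
  obtain ⟨i, hi⟩ := exists_pow_of_mem_normalizer ℓ hℓc x hxℓ
  obtain ⟨j, hj⟩ := exists_pow_of_mem_normalizer X hXc x hxX'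
  obtain ⟨k, hk⟩ := exists_pow_of_mem_normalizer ℓ₃ hℓ₃c x hxℓ₃
  -- a generator of `ℓ₃`
  haveI : Finite ℓ₃ := Nat.finite_of_card_ne_zero (hℓ₃c ▸ hp.out.ne_zero)
  haveI : Nontrivial ℓ₃ := Finite.one_lt_card_iff_nontrivial.mp (hℓ₃c ▸ hp.out.one_lt)
  obtain ⟨c, hc⟩ : ∃ c : ℓ₃, c ≠ 1 := exists_ne 1
  have hcA : (c : G) ∈ ℓ ⊔ X := by rw [hsup]; exact hℓ₃A c.2
  obtain ⟨a, ha, b, hb, hcab⟩ :=
    Cfsg.Agent.Lib.Helper24.exists_mul_of_mem_sup_of_le_normalizer ℓ X hℓX _ hcA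
  -- subgroups of order `p` generated by any non-identity element
  have hgen : ∀ (L : Subgroup G), Nat.card L = p → ∀ g ∈ L, g ≠ 1 → ∀ w ∈ L,
      ∃ m : ℕ, g ^ m = w := by
    intro L hL g hg hg1 w hw
    have h1 : (⟨g, hg⟩ : L) ≠ 1 := fun h => hg1 (congrArg Subtype.val h)
    have h2 := mem_powers_of_prime_card (G := L) hL (g' := ⟨w, hw⟩) h1
    obtain ⟨m, hm⟩ := (Submonoid.mem_powers_iff _ _).mp h2
    exact ⟨m, by simpa using congrArg Subtype.val hm⟩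
  have heq_of_mem : ∀ (L L' : Subgroup G), Nat.card L = p → Nat.card L' = p → ∀ g ∈ L, g ∈ L' →
      g ≠ 1 → L ≤ L' := by
    intro L L' hL hL' g hg hg' hg1 w hw
    obtain ⟨m, rfl⟩ := hgen L hL g hg hg1 w hw
    exact L'.pow_mem hg' m
  have ha1 : a ≠ 1 := by
    intro h
    rw [h, one_mul] at hcab
    have hc1 : (c : G) ≠ 1 := fun h => hc (Subtype.ext h)
    have h1 := heq_of_mem ℓ₃ X hℓ₃c hXc c c.2 (hcab ▸ hb) hc1
    have h2 := heq_of_mem X ℓ₃ hXc hℓ₃c c (hcab ▸ hb) c.2 hc1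
    exact hne2 (le_antisymm h1 h2)
  have hb1 : b ≠ 1 := by
    intro h
    rw [h, mul_one] at hcab
    have hc1 : (c : G) ≠ 1 := fun h => hc (Subtype.ext h)
    have h1 := heq_of_mem ℓ₃ ℓ hℓ₃c hℓc c c.2 (hcab ▸ ha) hc1
    have h2 := heq_of_mem ℓ ℓ₃ hℓc hℓ₃c c (hcab ▸ ha) c.2 hc1
    exact hne1 (le_antisymm h1 h2)
  -- compare
  have hab : Commute a b := hAc a (hℓA ha) b (hXA hb)
  have h1 : a ^ i * b ^ j = a ^ k * b ^ k := by
    have e1 : x * (c : G) * x⁻¹ = (c : G) ^ k := hk c c.2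
    rw [hcab, hab.mul_pow] at e1
    rw [← e1, ← hi a ha, ← hj b hb]; group
  have h2 : (a ^ k)⁻¹ * a ^ i = b ^ k * (b ^ j)⁻¹ := by
    have : a ^ i = a ^ k * b ^ k * (b ^ j)⁻¹ := by rw [← h1]; group
    rw [this]; group
  have h3 : (a ^ k)⁻¹ * a ^ i ∈ ℓ ⊓ X := by
    refine Subgroup.mem_inf.mpr ⟨ℓ.mul_mem (ℓ.inv_mem (ℓ.pow_mem ha k)) (ℓ.pow_mem ha i), ?_⟩
    rw [h2]
    exact X.mul_mem (X.pow_mem hb k) (X.inv_mem (X.pow_mem hb j))
  rw [hinf, Subgroup.mem_bot] at h3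
  have hai : a ^ i = a ^ k := by
    have := congrArg (fun t => a ^ k * t) h3
    simpa using this
  have hbj : b ^ j = b ^ k := by
    rw [h3] at h2
    have := congrArg (fun t => t * b ^ j) h2
    simpa using this
  -- `x` acts as the `k`-th power on `A`
  have hℓk : ∀ w ∈ ℓ, x * w * x⁻¹ = w ^ k := by
    intro w hw
    obtain ⟨m, rfl⟩ := hgen ℓ hℓc a ha ha1 w hw
    rw [hi _ hw, ← pow_mul, mul_comm, pow_mul, hai, ← pow_mul, mul_comm, pow_mul]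
  have hXk : ∀ w ∈ X, x * w * x⁻¹ = w ^ k := by
    intro w hw
    obtain ⟨m, rfl⟩ := hgen X hXc b hb hb1 w hw
    rw [hj _ hw, ← pow_mul, mul_comm, pow_mul, hbj, ← pow_mul, mul_comm, pow_mul]
  have hAk : ∀ w ∈ A, x * w * x⁻¹ = w ^ k := by
    intro w hw
    rw [← hsup] at hw
    obtain ⟨a', ha', b', hb', rfl⟩ :=
      Cfsg.Agent.Lib.Helper24.exists_mul_of_mem_sup_of_le_normalizer ℓ X hℓX _ hw
    have hc' : Commute a' b' := hAc a' (hℓA ha') b' (hXA hb')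
    rw [hc'.mul_pow, ← hℓk a' ha', ← hXk b' hb']; group
  obtain ⟨ℓ', hℓ'A, hxℓ'⟩ := hns
  apply hxℓ'
  apply mem_normalizer_of_conj_mem
  intro w hw
  rw [hAk w (hℓ'A hw)]
  exact ℓ'.pow_mem hw k

/-- an element of odd order permuting two subgroups fixes both -/
theorem cj_eq_self_of_swap [Finite G] (g : G) (hodd : Odd (orderOf g)) (ℓ ℓ₂ : Subgroup G)
    (hne : ℓ ≠ ℓ₂) (h1 : cj g ℓ = ℓ ∨ cj g ℓ = ℓ₂) (h2 : cj g ℓ₂ = ℓ ∨ cj g ℓ₂ = ℓ₂) :
    cj g ℓ = ℓ := by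
  rcases h1 with h1 | h1
  · exact h1
  · exfalso
    have h3 : cj g ℓ₂ = ℓ := by
      rcases h2 with h2 | h2
      · exact h2
      · exact absurd (cj_injective g (h1.trans h2.symm)) hne
    have h4 : g * g ∈ normalizer (ℓ : Set G) := by
      rw [← cj_eq_self_iff, cj_mul, h1, h3]
    obtain ⟨m, hm⟩ := hodd
    have h5 : g = (g * g) ^ (m + 1) := by
      have e : (g * g) ^ (m + 1) = g ^ (2 * m + 1) * g := by
        have e2 : 2 * (m + 1) = 2 * m + 1 + 1 := by ring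
        rw [← pow_two, ← pow_mul, ← pow_succ, e2]
      rw [e, ← hm, pow_orderOf_eq_one, one_mul]
    have h6 : g ∈ normalizer (ℓ : Set G) := by
      rw [h5]; exact Subgroup.pow_mem _ h4 _
    rw [← cj_eq_self_iff] at h6
    exact hne (h6.symm.trans h1)

/-- **an abelian group of odd order containing a non-scalar `x` fixes both invariant points of
`x`.** -/
theorem normalizes_both [Finite G] {p : ℕ} [hp : Fact p.Prime] (A N : Subgroup G)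
    (hAc : ∀ a ∈ A, ∀ b ∈ A, a * b = b * a) (hAe : ∀ a ∈ A, a ^ p = 1)
    (hAcard : Nat.card A = p ^ 2) (hNA : N ≤ normalizer (A : Set G))
    (hab : ∀ g ∈ N, ∀ h ∈ N, ⁅g, h⁆ ∈ centralizer (A : Set G)) (hodd : Odd (Nat.card N))
    (x : G) (hxN : x ∈ N) (hxo : (orderOf x).Coprime p)
    (ℓ : Subgroup G) (hℓA : ℓ ≤ A) (hℓc : Nat.card ℓ = p) (hxℓ : x ∈ normalizer (ℓ : Set G))
    (hns : ∃ ℓ' : Subgroup G, ℓ' ≤ A ∧ x ∉ normalizer (ℓ' : Set G)) :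
    ∃ ℓ₂ : Subgroup G, ℓ₂ ≤ A ∧ Nat.card ℓ₂ = p ∧ ℓ₂ ≠ ℓ ∧ N ≤ normalizer (ℓ : Set G) ∧
      N ≤ normalizer (ℓ₂ : Set G) := by
  classical
  obtain ⟨ℓ₂, hℓ₂A, hℓ₂c, hne, hxℓ₂, huniq⟩ :=
    two_points A hAc hAe hAcard x (hNA hxN) hxo ℓ hℓA hℓc hxℓ hns
  -- conjugates of invariant points are invariant points
  have hconj : ∀ g ∈ N, ∀ L : Subgroup G, L ≤ A → Nat.card L = p → x ∈ normalizer (L : Set G) →
      cj g L = ℓ ∨ cj g L = ℓ₂ := by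
    intro g hg L hLA hLc hxL
    have hgA : cj g A = A := cj_eq_self_iff.mpr (hNA hg)
    apply huniq
    · calc cj g L ≤ cj g A := cj_mono hLA
        _ = A := hgA
    · rw [card_cj, hLc]
    · apply mem_normalizer_of_conj_mem
      intro w hw
      obtain ⟨h, hh, rfl⟩ := mem_cj'.mp hw
      have hc : ⁅g⁻¹, x⁆ ∈ centralizer (A : Set G) := hab _ (N.inv_mem hg) _ hxN
      have hxh : x * h * x⁻¹ ∈ L := (Subgroup.mem_normalizer_iff.mp hxL h).mp hh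
      have hcomm : ⁅g⁻¹, x⁆ * (x * h * x⁻¹) = (x * h * x⁻¹) * ⁅g⁻¹, x⁆ :=
        (Subgroup.mem_centralizer_iff.mp hc _ (hLA hxh)).symm
      have e : x * (g * h * g⁻¹) * x⁻¹ = g * (⁅g⁻¹, x⁆ * (x * h * x⁻¹) * ⁅g⁻¹, x⁆⁻¹) * g⁻¹ := by
        rw [commutatorElement_def]; group
      rw [e, hcomm, mul_inv_cancel_right]
      exact mem_cj'.mpr ⟨_, hxh, rfl⟩
  have hoddg : ∀ g ∈ N, Odd (orderOf g) := by
    intro g hg
    have h1 : orderOf (⟨g, hg⟩ : N) ∣ Nat.card N := orderOf_dvd_natCard _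
    rw [Subgroup.orderOf_mk] at h1
    exact Odd.of_dvd_nat hodd h1
  refine ⟨ℓ₂, hℓ₂A, hℓ₂c, hne, ?_, ?_⟩
  · intro g hg
    rw [← cj_eq_self_iff]
    exact cj_eq_self_of_swap g (hoddg g hg) ℓ ℓ₂ hne.symm (hconj g hg ℓ hℓA hℓc hxℓ)
      (hconj g hg ℓ₂ hℓ₂A hℓ₂c hxℓ₂)
  · intro g hg
    rw [← cj_eq_self_iff]
    exact cj_eq_self_of_swap g (hoddg g hg) ℓ₂ ℓ hne ((hconj g hg ℓ₂ hℓ₂A hℓ₂c hxℓ₂).symm)
      ((hconj g hg ℓ hℓA hℓc hxℓ).symm)

/-- **dichotomy**: a subgroup `V` of an odd group `N` inducing an abelian group on `A ≅ E_{p²}`,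
all of whose elements of prime power order normalise a point of `A`, either normalises every
subgroup of `A`, or `N` normalises two distinct points of `A`. -/
theorem scalar_or_two_points [Finite G] {p : ℕ} [hp : Fact p.Prime] (A N V : Subgroup G)
    (hAc : ∀ a ∈ A, ∀ b ∈ A, a * b = b * a) (hAe : ∀ a ∈ A, a ^ p = 1)
    (hAcard : Nat.card A = p ^ 2) (hNA : N ≤ normalizer (A : Set G))
    (hab : ∀ g ∈ N, ∀ h ∈ N, ⁅g, h⁆ ∈ centralizer (A : Set G)) (hodd : Odd (Nat.card N))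
    (hVN : V ≤ N)
    (hVp : ∀ x ∈ V, (∃ k : ℕ, x ^ (p ^ k) = 1) → x ∈ centralizer (A : Set G))
    (hPP : ∀ x ∈ V, ∀ q k : ℕ, q.Prime → q ≠ p → x ^ (q ^ k) = 1 →
      ∃ ℓ : Subgroup G, ℓ ≤ A ∧ Nat.card ℓ = p ∧ x ∈ normalizer (ℓ : Set G)) :
    (∀ ℓ : Subgroup G, ℓ ≤ A → V ≤ normalizer (ℓ : Set G)) ∨
    ∃ ℓ₁ ℓ₂ : Subgroup G, ℓ₁ ≤ A ∧ ℓ₂ ≤ A ∧ Nat.card ℓ₁ = p ∧ Nat.card ℓ₂ = p ∧ ℓ₁ ≠ ℓ₂ ∧
      N ≤ normalizer (ℓ₁ : Set G) ∧ N ≤ normalizer (ℓ₂ : Set G) := by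
  classical
  by_cases hsc : ∀ ℓ : Subgroup G, ℓ ≤ A → V ≤ normalizer (ℓ : Set G)
  · exact Or.inl hsc
  right
  push Not at hsc
  obtain ⟨ℓ', hℓ'A, hVℓ'⟩ := hsc
  -- a prime-power-order element of `V` outside `N(ℓ')`
  have hS : (normalizer (ℓ' : Set G)).subgroupOf V ≠ ⊤ := by
    intro h
    apply hVℓ'
    intro v hv
    have : (⟨v, hv⟩ : V) ∈ (normalizer (ℓ' : Set G)).subgroupOf V := by rw [h]; trivial
    exact this
  have hex : ∃ (q : ℕ) (_ : Fact q.Prime), ∃ Q : Sylow q V,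
      ¬ (Q : Subgroup V) ≤ (normalizer (ℓ' : Set G)).subgroupOf V := by
    by_contra hcon
    push Not at hcon
    apply hS
    apply Cfsg.Agent.Lib.Helper24.HH.eq_top_of_sylow_le
    intro q hq _
    exact ⟨default, hcon q hq default⟩
  obtain ⟨q, hq, Q, hQ⟩ := hex
  obtain ⟨y, hyQ, hyN⟩ := SetLike.not_le_iff_exists.mp hQ
  obtain ⟨k, hk⟩ := (Q.isPGroup' ⟨y, hyQ⟩)
  have hk' : (y : G) ^ (q ^ k) = 1 := by
    have := congrArg (fun t : Q => ((t : V) : G)) hk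
    simpa using this
  have hyN' : (y : G) ∉ normalizer (ℓ' : Set G) := hyN
  have hqp : q ≠ p := by
    rintro rfl
    apply hyN'
    have hc := hVp _ y.2 ⟨k, hk'⟩
    apply mem_normalizer_of_conj_mem
    intro w hw
    have : (y : G) * w * (y : G)⁻¹ = w := by
      rw [← (Subgroup.mem_centralizer_iff.mp hc w (hℓ'A hw)), mul_inv_cancel_right]
    rw [this]; exact hw
  obtain ⟨ℓ, hℓA, hℓc, hyℓ⟩ := hPP _ y.2 q k hq.out hqp hk'
  have hyo : (orderOf (y : G)).Coprime p := by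
    have h1 : orderOf (y : G) ∣ q ^ k := orderOf_dvd_of_pow_eq_one hk'
    have h2 : (q ^ k).Coprime p :=
      Nat.Coprime.pow_left _ ((Nat.coprime_primes hq.out hp.out).mpr hqp)
    exact Nat.Coprime.coprime_dvd_left h1 h2
  obtain ⟨ℓ₂, hℓ₂A, hℓ₂c, hne, h1, h2⟩ := normalizes_both A N hAc hAe hAcard hNA hab hodd
    (y : G) (hVN y.2) hyo ℓ hℓA hℓc hyℓ ⟨ℓ', hℓ'A, hyN'⟩
  exact ⟨ℓ, ℓ₂, hℓA, hℓ₂A, hℓc, hℓ₂c, hne.symm, h1, h2⟩

end Cfsg.Agent.Lib.Helper24.GoodPoint
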