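import Mathlib
import Cfsg.Prelude.Def_Local
import Cfsg.Prelude.Def_OddOrderLocal
import Cfsg.Agent.Lib.Helper24.GoodPointA
import Cfsg.Agent.Lib.Helper24.FpfConj
import Cfsg.Agent.Lib.Helper10.BGLemR
import Cfsg.Agent.Lib.Helper32.Rank2Aut
import Cfsg.Agent.Lib.Helper63.BG10
import Cfsg.Agent.Lib.Helper56.BG10a

/-!
# B&G §12: a good point of `Ω₁(P)` normalised by a given subgroup `V` of the complement `E`

`M` maximal, `p ∈ τ₂(M)`, `E` a complement of `M_σ`, `P` a Sylow `p`-subgroup of `G` contained in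
and normal in `E`, `A = Ω₁(P)`.  If every element of prime-power order of `V ≤ E` normalises a
subgroup of order `p` of `A`, then `V` normalises a subgroup `ℓ` of order `p` of `A` with
`M_σ ∩ C_G(ℓ) = 1`, consisting of `p ^ (a - 1)`-th powers of elements of `P` (`p ^ a = exp P`).
Armed on the statements of S1417, S1418 (the `StmtR…` of `Helper10.BGLemR`).
-/

set_option autoImplicit false
set_option linter.unusedSectionVars false
set_option linter.unusedVariables false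
set_option linter.style.haveILetI false

namespace Cfsg.Agent.Lib.Helper24.GoodPoint

open Subgroup Cfsg
open Cfsg.Agent.Lib.Helper24.Lifting
open Cfsg.Agent.Lib.Helper10.BG13 (StmtR1417 StmtR1418)
open Cfsg.Agent.Lib.Helper24.FpfConj (normAut conjOn conjOn_coe)
open scoped commutatorElement

universe u

variable {G : Type u} [Group G]

/-- a `p`-subgroup normalising a Sylow `p`-subgroup lies in it -/
theorem le_sylow_of_le_normalizer [Finite G] {p : ℕ} [Fact p.Prime] (P : Sylow p G)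
    {Q : Subgroup G} (hQ : IsPGroup p Q) (hQP : Q ≤ normalizer ((P : Subgroup G) : Set G)) :
    Q ≤ (P : Subgroup G) := by
  have h1 : IsPGroup p (Q ⊔ (P : Subgroup G) : Subgroup G) :=
    IsPGroup.to_sup_of_normal_right' hQ P.isPGroup' hQP
  have h2 := P.is_maximal' h1 le_sup_right
  rw [← h2]; exact le_sup_left

/-- a `p`-element normalising a Sylow `p`-subgroup lies in it -/
theorem mem_sylow_of_mem_normalizer [Finite G] {p : ℕ} [Fact p.Prime] (P : Sylow p G)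
    {x : G} (hx : x ∈ normalizer ((P : Subgroup G) : Set G)) {k : ℕ} (hxk : x ^ (p ^ k) = 1) :
    x ∈ (P : Subgroup G) := by
  have h1 : IsPGroup p (zpowers x) := by
    rintro ⟨_, m, rfl⟩
    refine ⟨k, ?_⟩
    apply Subtype.ext
    simp only [SubgroupClass.coe_pow, OneMemClass.coe_one]
    rw [← zpow_natCast, ← zpow_mul, mul_comm, zpow_mul, zpow_natCast, hxk, one_zpow]
  exact le_sylow_of_le_normalizer P h1 (Subgroup.zpowers_le.mpr hx) (mem_zpowers x)

/-- the image of `N_G(P)` in `Aut(A)` is abelian, for an abelian Sylow `p`-subgroup `P` of a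
minimal simple group of odd order and `A = E_{p²}` characteristic in `P`. -/
theorem commutator_mem_centralizer [Finite G] (hG : IsMinSimpleOddOrder G) {p : ℕ}
    [hp : Fact p.Prime] (P : Sylow p G) (hP1 : (P : Subgroup G) ≠ ⊥)
    {A : Subgroup G} (hAc : ∀ a ∈ A, ∀ b ∈ A, a * b = b * a) (hAe : ∀ a ∈ A, a ^ p = 1)
    (hAcard : Nat.card A = p ^ 2)
    (hPA : (P : Subgroup G) ≤ centralizer (A : Set G))
    (hNPA : normalizer ((P : Subgroup G) : Set G) ≤ normalizer (A : Set G)) :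
    ∀ g ∈ normalizer ((P : Subgroup G) : Set G), ∀ h ∈ normalizer ((P : Subgroup G) : Set G),
      ⁅g, h⁆ ∈ centralizer (A : Set G) := by
  classical
  obtain ⟨hodd, hsimp, hnc, hsolv⟩ := hG
  have hPtop : (P : Subgroup G) ≠ ⊤ := by
    intro h
    -- `G` would be a `p`-group, hence solvable... use simplicity: the centre is non-trivial
    have hGp : IsPGroup p G := by
      intro g
      obtain ⟨k, hk⟩ := P.isPGroup' ⟨g, h ▸ Subgroup.mem_top g⟩
      exact ⟨k, by simpa using congrArg Subtype.val hk⟩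
    haveI : Nontrivial G := hsimp.toNontrivial
    haveI := hGp.center_nontrivial
    rcases (Subgroup.center G).normal_of_characteristic.eq_bot_or_eq_top with h1 | h1
    · exact (Subgroup.nontrivial_iff_ne_bot _).mp inferInstance h1
    · apply hnc
      exact ⟨⟨fun a b => (Subgroup.mem_center_iff.mp (h1 ▸ Subgroup.mem_top b) a)⟩⟩
  have hNtop : normalizer ((P : Subgroup G) : Set G) ≠ ⊤ :=
    Cfsg.Agent.Lib.Helper63.BG10.normalizer_ne_top ⟨hodd, hsimp, hnc, hsolv⟩ hP1 hPtop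
  haveI hNsolv : Group.IsSolvable (normalizer ((P : Subgroup G) : Set G)) := hsolv _ hNtop
  -- the action on `A`
  set φ : normalizer ((P : Subgroup G) : Set G) →* MulAut A :=
    (normAut A).comp (Subgroup.inclusion hNPA) with hφ
  have hφc : ∀ (n : normalizer ((P : Subgroup G) : Set G)) (a : A),
      ((φ n a : A) : G) = (n : G) * a * (n : G)⁻¹ := fun n a => rfl
  haveI : Group.IsSolvable φ.range := by
    have : Function.Surjective φ.rangeRestrict := φ.rangeRestrict_surjective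
    exact Group.isSolvable_of_surjective this
  have hoddY : Odd (Nat.card φ.range) := by
    have h1 : Nat.card φ.range ∣ Nat.card (normalizer ((P : Subgroup G) : Set G)) :=
      Subgroup.card_range_dvd φ
    have h2 : Nat.card (normalizer ((P : Subgroup G) : Set G)) ∣ Nat.card G :=
      Subgroup.card_subgroup_dvd_card _
    exact Odd.of_dvd_nat hodd (h1.trans h2)
  have hcommA : ∀ a b : A, a * b = b * a := fun a b => Subtype.ext (hAc a a.2 b b.2)
  have hexpA : ∀ a : A, a ^ p = 1 := fun a => Subtype.ext (by simpa using hAe a a.2)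
  have hkey := Cfsg.Agent.Lib.Helper32.Rank2.exp_p_commutator_mulAut' p hcommA hexpA
    (by rw [hAcard]) φ.range hoddY
  intro g hg h hh
  set c : normalizer ((P : Subgroup G) : Set G) :=
    ⁅(⟨g, hg⟩ : normalizer ((P : Subgroup G) : Set G)), ⟨h, hh⟩⁆ with hc
  have hcoe : (c : G) = ⁅g, h⁆ := by
    rw [hc]; simp [commutatorElement_def]
  have hz : φ c ∈ ⁅φ.range, φ.range⁆ := by
    rw [hc, map_commutatorElement]
    exact Subgroup.commutator_mem_commutator ⟨_, rfl⟩ ⟨_, rfl⟩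
  have hzp : (φ c) ^ p = 1 := hkey _ hz
  -- the `p'`-part
  have hord : orderOf (c : G) ≠ 0 := (orderOf_pos _).ne'
  obtain ⟨k, m, hm, hkm⟩ := Nat.exists_eq_pow_mul_and_not_dvd hord p hp.out.ne_one
  have hcmP : (c : G) ^ m ∈ (P : Subgroup G) := by
    apply mem_sylow_of_mem_normalizer P (Subgroup.pow_mem _ c.2 m) (k := k)
    rw [← pow_mul, mul_comm, ← hkm, pow_orderOf_eq_one]
  have hzm : (φ c) ^ m = 1 := by
    rw [← map_pow]
    apply MulEquiv.ext
    intro a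
    apply Subtype.ext
    rw [hφc]
    have h1 := Subgroup.mem_centralizer_iff.mp (hPA hcmP) a a.2
    simp only [SubgroupClass.coe_pow, MulAut.one_apply]
    rw [← h1, mul_inv_cancel_right]
  have hz1 : φ c = 1 := by
    have h1 : orderOf (φ c) ∣ p := orderOf_dvd_of_pow_eq_one hzp
    have h2 : orderOf (φ c) ∣ m := orderOf_dvd_of_pow_eq_one hzm
    have h3 : orderOf (φ c) ∣ Nat.gcd p m := Nat.dvd_gcd h1 h2
    have h4 : Nat.gcd p m = 1 := (Nat.Prime.coprime_iff_not_dvd hp.out).mpr hm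
    rw [h4, Nat.dvd_one] at h3
    exact orderOf_eq_one_iff.mp h3
  rw [← hcoe, Subgroup.mem_centralizer_iff]
  intro a ha
  have h1 : ((φ c ⟨a, ha⟩ : A) : G) = a := by rw [hz1]; rfl
  rw [hφc] at h1
  calc a * (c : G) = ((c : G) * a * (c : G)⁻¹) * (c : G) := by rw [h1]
    _ = (c : G) * a := by group

/-- **(GP)**: a good point of `A = Ω₁(P)` normalised by `V`. -/
theorem exists_good_point [Finite G] (hG : IsMinSimpleOddOrder G) (h17 : StmtR1417 G)
    (h18 : StmtR1418 G)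
    {M : Subgroup G} (hM : IsCoatom M) {E : Subgroup G} (hE : IsComplIn E (sigmaCore M) M)
    {p : ℕ} [hp : Fact p.Prime] (hpτ : p ∈ tau2 M)
    {A : Subgroup G} (hA : A ≤ E ∧ IsElementaryAbelian p A ∧ Nat.card A = p ^ 2)
    (P : Sylow p G) (hPE : (P : Subgroup G) ≤ E)
    (hEP : E ≤ normalizer ((P : Subgroup G) : Set G))
    {V : Subgroup G} (hVE : V ≤ E)
    (hPP : ∀ x ∈ V, ∀ q k : ℕ, q.Prime → q ≠ p → x ^ (q ^ k) = 1 →
      ∃ ℓ : Subgroup G, ℓ ≤ A ∧ Nat.card ℓ = p ∧ x ∈ normalizer (ℓ : Set G))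
    (a : ℕ) (ha : 1 ≤ a) (hexp : ∀ x ∈ (P : Subgroup G), x ^ (p ^ a) = 1)
    (hex : ∃ y ∈ (P : Subgroup G), y ^ (p ^ (a - 1)) ≠ 1) :
    ∃ ℓ : Subgroup G, ℓ ≤ A ∧ Nat.card ℓ = p ∧ V ≤ normalizer (ℓ : Set G) ∧
      sigmaCore M ⊓ centralizer (ℓ : Set G) = ⊥ ∧
      ∃ y ∈ (P : Subgroup G), y ^ (p ^ (a - 1)) ∈ ℓ ∧ y ^ (p ^ (a - 1)) ≠ 1 := by
  classical
  obtain ⟨hAE, hAe, hAc⟩ := hA
  have hEM : E ≤ M := hE.1
  have hAM : A ≤ M := hAE.trans hEM
  have hAcomm : ∀ a ∈ A, ∀ b ∈ A, a * b = b * a := Cfsg.Agent.Lib.Helper10.elemAb_comm hAe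
  have hAexp : ∀ a ∈ A, a ^ p = 1 := hAe.2
  have hAp : IsPGroup p A := Cfsg.Agent.Lib.Helper10.elemAb_isPGroup hAe
  have hAP : A ≤ (P : Subgroup G) := le_sylow_of_le_normalizer P hAp (hAE.trans hEP)
  have hPM : (P : Subgroup G) ≤ M := hPE.trans hEM
  have hmapM : ((P.subtype hPM : Sylow p M) : Subgroup M).map M.subtype = (P : Subgroup G) := by
    rw [Sylow.coe_subtype, Subgroup.map_subgroupOf_eq_of_le hPM]
  obtain ⟨-, hSyl, -, -, -, hA₁⟩ := h17 M hM p hpτ A ⟨hAM, hAe, hAc⟩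
  obtain ⟨hPab, hP2⟩ := hSyl (P.subtype hPM)
  rw [hmapM] at hP2
  obtain ⟨hΩ, hNotM⟩ := hP2 hAP
  have hab : ∀ x ∈ (P : Subgroup G), ∀ y ∈ (P : Subgroup G), x * y = y * x := by
    intro x hx y hy
    have hx' : (⟨x, hPM hx⟩ : M) ∈ ((P.subtype hPM : Sylow p M) : Subgroup M) := by
      rw [Sylow.coe_subtype, Subgroup.mem_subgroupOf]; exact hx
    have hy' : (⟨y, hPM hy⟩ : M) ∈ ((P.subtype hPM : Sylow p M) : Subgroup M) := by
      rw [Sylow.coe_subtype, Subgroup.mem_subgroupOf]; exact hy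
    have h1 := hPab.is_comm.comm ⟨_, hx'⟩ ⟨_, hy'⟩
    have h2 := congrArg Subtype.val (congrArg Subtype.val h1)
    exact h2
  have hPA : (P : Subgroup G) ≤ centralizer (A : Set G) := by
    intro x hx
    rw [Subgroup.mem_centralizer_iff]
    intro b hb
    exact hab b (hAP hb) x hx
  have hNPA : normalizer ((P : Subgroup G) : Set G) ≤ normalizer (A : Set G) := by
    apply le_normalizer_of_conj_mem
    intro n hn b hb
    have h1 : n * b * n⁻¹ ∈ (P : Subgroup G) :=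
      (Subgroup.mem_normalizer_iff.mp hn b).mp (hAP hb)
    rw [← hΩ _ h1, conj_pow, hAexp b hb, mul_one, mul_inv_cancel]
  have hA1 : A ≠ ⊥ := by
    intro h
    rw [h, Subgroup.card_bot] at hAc
    have : 1 < p ^ 2 := Nat.one_lt_pow (by norm_num) hp.out.one_lt
    omega
  have hP1 : (P : Subgroup G) ≠ ⊥ := by
    intro h
    exact hA1 (le_bot_iff.mp (h ▸ hAP))
  have hcomm := commutator_mem_centralizer hG P hP1 hAcomm hAexp hAc hPA hNPA
  have hoddN : Odd (Nat.card (normalizer ((P : Subgroup G) : Set G))) :=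
    Odd.of_dvd_nat hG.1 (Subgroup.card_subgroup_dvd_card _)
  have hVN : V ≤ normalizer ((P : Subgroup G) : Set G) := hVE.trans hEP
  -- points normalised by `N_G(P)` are good
  obtain ⟨-, -, h18c⟩ := h18 M hM E hE p hpτ A ⟨hAE, hAe, hAc⟩
  have hgood : ∀ ℓ : Subgroup G, ℓ ≤ A → Nat.card ℓ = p →
      normalizer ((P : Subgroup G) : Set G) ≤ normalizer (ℓ : Set G) →
      sigmaCore M ⊓ centralizer (ℓ : Set G) = ⊥ := by
    intro ℓ hℓA hℓc hNℓ
    by_contra hbad
    obtain ⟨hCM, huniq⟩ := h18c ℓ hℓA hℓc hbad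
    have hℓ1 : ℓ ≠ ⊥ := by
      intro h
      rw [h, Subgroup.card_bot] at hℓc
      exact hp.out.one_lt.ne hℓc
    have hℓtop : ℓ ≠ ⊤ := by
      intro h
      exact hM.1 (top_le_iff.mp (h ▸ (hℓA.trans hAM)))
    obtain ⟨L, hL, hNL⟩ := Cfsg.Agent.Lib.Helper56.BG10.exists_coatom_ge
      (Cfsg.Agent.Lib.Helper63.BG10.normalizer_ne_top hG hℓ1 hℓtop)
    have hLM : L = M := huniq L hL ((Subgroup.centralizer_le_normalizer _).trans hNL)
    exact hNotM (hNℓ.trans (hLM ▸ hNL))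
  -- the subgroup of `p ^ (a - 1)`-th powers
  obtain ⟨n, hn⟩ : ∃ n, n = p ^ (a - 1) := ⟨_, rfl⟩
  rw [← hn] at hex ⊢
  have hnp : n * p = p ^ a := by rw [hn, ← pow_succ, Nat.sub_add_cancel ha]
  obtain ⟨W, hWdef⟩ : ∃ W : Subgroup G, W = powImage (P : Subgroup G) hab n := ⟨_, rfl⟩
  have hWmem : ∀ z, z ∈ W ↔ ∃ y ∈ (P : Subgroup G), y ^ n = z := by
    intro z; rw [hWdef]; exact mem_powImage
  have hWA : W ≤ A := by
    intro z hz
    obtain ⟨y, hy, rfl⟩ := (hWmem z).mp hz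
    rw [← hΩ _ (Subgroup.pow_mem _ hy n), ← pow_mul, hnp]
    exact hexp y hy
  have hNW : normalizer ((P : Subgroup G) : Set G) ≤ normalizer (W : Set G) := by
    rw [hWdef]; exact le_normalizer_powImage hab n le_rfl
  obtain ⟨y0, hy0P, hy01⟩ := hex
  have hW1 : Nat.card W ≠ 1 := by
    intro h
    have := Subgroup.card_eq_one.mp h
    have h2 : y0 ^ n ∈ W := (hWmem _).mpr ⟨y0, hy0P, rfl⟩
    rw [this, Subgroup.mem_bot] at h2
    exact hy01 h2
  have hWdvd : Nat.card W ∣ p ^ 2 := hAc ▸ Subgroup.card_dvd_of_le hWA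
  obtain ⟨m, hm2, hm⟩ := (Nat.dvd_prime_pow hp.out).mp hWdvd
  have hpow_of_mem : ∀ ℓ : Subgroup G, ℓ ≤ W → Nat.card ℓ = p →
      ∃ y ∈ (P : Subgroup G), y ^ n ∈ ℓ ∧ y ^ n ≠ 1 := by
    intro ℓ hℓW hℓc
    haveI : Finite ℓ := Nat.finite_of_card_ne_zero (hℓc ▸ hp.out.ne_zero)
    haveI : Nontrivial ℓ := Finite.one_lt_card_iff_nontrivial.mp (hℓc ▸ hp.out.one_lt)
    obtain ⟨u, hu⟩ : ∃ u : ℓ, u ≠ 1 := exists_ne 1
    obtain ⟨y, hy, hyu⟩ := (hWmem _).mp (hℓW u.2)
    refine ⟨y, hy, hyu ▸ u.2, ?_⟩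
    rw [hyu]
    exact fun h => hu (Subtype.ext h)
  have hm012 : m = 0 ∨ m = 1 ∨ m = 2 := by omega
  rcases hm012 with rfl | rfl | rfl
  · exact absurd (by rw [hm, pow_zero]) hW1
  · -- `W` is a point
    rw [pow_one] at hm
    exact ⟨W, hWA, hm, hVN.trans hNW, hgood W hWA hm hNW, hpow_of_mem W le_rfl hm⟩
  · -- `W = A`
    have hWeq : W = A := by
      apply Subgroup.eq_of_le_of_card_ge hWA
      rw [hm, hAc]
    have hVp : ∀ x ∈ V, (∃ k : ℕ, x ^ (p ^ k) = 1) → x ∈ centralizer (A : Set G) := by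
      rintro x hx ⟨k, hk⟩
      exact hPA (mem_sylow_of_mem_normalizer P (hVN hx) hk)
    rcases scalar_or_two_points A (normalizer ((P : Subgroup G) : Set G)) V hAcomm hAexp hAc hNPA
      hcomm hoddN hVN hVp hPP with hsc | ⟨ℓ₁, ℓ₂, hℓ₁A, -, hℓ₁c, -, -, hNℓ₁, -⟩
    · obtain ⟨A₁, hA₁A, hA₁c, hA₁good⟩ := hA₁
      exact ⟨A₁, hA₁A, hA₁c, hsc A₁ hA₁A, hA₁good, hpow_of_mem A₁ (hWeq ▸ hA₁A) hA₁c⟩
    · exact ⟨ℓ₁, hℓ₁A, hℓ₁c, hVN.trans hNℓ₁, hgood ℓ₁ hℓ₁A hℓ₁c hNℓ₁,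
        hpow_of_mem ℓ₁ (hWeq ▸ hℓ₁A) hℓ₁c⟩

end Cfsg.Agent.Lib.Helper24.GoodPoint
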