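import Cfsg.Agent.Lib.Helper24.BG1312E
import Cfsg.Agent.Lib.Helper24.GoodPointB
import Cfsg.Agent.Lib.Helper96.E0Main

/-!
# BG Lemma 13.12 in the form consumed by STEP A of BG 14.2 (`StmtB`)

`q ∈ τ₂(M)`, `A ≤ E` of type `(q,q)`, `X ≤ A` of order `q` with `N_G(X) ≤ M`, `p ∈ τ₁(M)`,
`P ≤ E` of order `p` centralizing `X` but not `A`: impossible.  Abelian Sylow `q`-subgroups: the
Frattini argument; nonabelian: `tau12_nonabelian_false`.
-/

set_option autoImplicit false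
set_option linter.unusedSectionVars false
set_option linter.unusedVariables false
set_option linter.style.haveILetI false
set_option maxHeartbeats 1600000

namespace Cfsg.Agent.Lib.Helper24.BG1312

open Subgroup Cfsg Cfsg.Agent.Lib.Helper33 Cfsg.Agent.Lib.Helper63
open Cfsg.Agent.Lib.Helper64.BG127
open scoped commutatorElement

universe u

variable {G : Type u} [Group G] [Finite G]

/-- the abelian case: if `P ≤ N_G(A)` fixes the point `X` of `A` with `N_G(X) ≤ M` and the Sylow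
`q`-subgroups of `G` are abelian, then `P` centralizes `A`. -/
theorem abelian_case (hG : IsMinSimpleOddOrder G) {M E : Subgroup G} (hM : IsCoatom M)
    (hE : IsComplIn E (sigmaCore M) M) {q : ℕ} [hq' : Fact q.Prime] (hq : q ∈ tau2 M)
    (S₀ : Sylow q G) (hSab : IsMulCommutative (S₀ : Subgroup G))
    {A : Subgroup G} (hA : A ≤ E ∧ IsElementaryAbelian q A ∧ Nat.card A = q ^ 2)
    {X : Subgroup G} (hXA : X ≤ A) (hX : Nat.card X = q) (hNX : normalizer (X : Set G) ≤ M)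
    {P : Subgroup G} (hPE : P ≤ E) (hPX : P ≤ centralizer (X : Set G))
    (hPA : ¬ P ≤ centralizer (A : Set G)) : False := by
  have hqp : q.Prime := hq'.out
  have Hy := Cfsg.Agent.Lib.Helper64.BG129N.hyp_of_minSimple hG
  obtain ⟨⟨hEA, hpts⟩, ⟨hCA, hNE, hNA⟩, hbad⟩ := Hy.h18 M hM E hE q hq A hA
  have hAM : A ≤ M := hA.1.trans hE.1
  have hAq : IsPGroup q A := BG10.isPGroup_of_elemAb hA.2.1
  have hAc : ∀ a ∈ A, ∀ b ∈ A, a * b = b * a := fun a ha b hb =>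
    congrArg Subtype.val (hA.2.1.1.is_comm.comm ⟨a, ha⟩ ⟨b, hb⟩)
  obtain ⟨Q, hAQ, hQM, hQq, hQi⟩ := Cfsg.Agent.Lib.Helper32.exists_relSylow_ge hAM hAq
  obtain ⟨hQc, hQ2⟩ := sylow_facts Hy hM hq ⟨hAM, hA.2⟩ hQM hQq hQi
  obtain ⟨hΩ, hNQ⟩ := hQ2 hAQ
  -- `Q` is a Sylow subgroup of `G`
  obtain ⟨S₁, hQS₁⟩ := hQq.exists_le_sylow
  have hS₁c := Cfsg.Agent.Lib.Helper96.E0Main.sylow_comm_of_exists S₀ S₁ hSab
  have hS₁CA : (S₁ : Subgroup G) ≤ centralizer (A : Set G) := by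
    intro s hs
    rw [mem_centralizer_iff]
    intro a ha
    exact hS₁c a (hQS₁ (hAQ ha)) s hs
  have hS₁M : (S₁ : Subgroup G) ≤ M := hS₁CA.trans (hCA.trans inf_le_left)
  have hS₁Q : (S₁ : Subgroup G) = Q :=
    Cfsg.Agent.Lib.Helper23.sylowIn_max hQi hQS₁ hS₁M S₁.isPGroup'
  have hQidx : ¬ q ∣ Q.index := hS₁Q ▸ S₁.not_dvd_index
  have hQCA : Q ≤ centralizer (A : Set G) := hS₁Q ▸ hS₁CA
  -- `N(Q) ≤ N(A)`
  have hNQA : normalizer (Q : Set G) ≤ normalizer (A : Set G) := by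
    apply Cfsg.Agent.Lib.Helper24.Lifting.le_normalizer_of_conj_mem
    intro g hg a ha
    have h1 : g * a * g⁻¹ ∈ Q := (mem_normalizer_iff.mp hg a).mp (hAQ ha)
    apply (hΩ _ h1).mp
    rw [conj_pow, hA.2.1.2 a ha, mul_one, mul_inv_cancel]
  have hS₁ne : (S₁ : Subgroup G) ≠ ⊥ := by
    intro h
    have h2 := hA.2.2
    have hAbot : A = ⊥ := eq_bot_iff.mpr (h ▸ (hS₁Q ▸ hAQ))
    rw [hAbot, Subgroup.card_bot] at h2
    have : 1 < q ^ 2 := Nat.one_lt_pow (by norm_num) hqp.one_lt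
    omega
  have hcomm := Cfsg.Agent.Lib.Helper24.GoodPoint.commutator_mem_centralizer hG S₁ hS₁ne hAc
    hA.2.1.2 hA.2.2 hS₁CA (hS₁Q ▸ hNQA)
  rw [hS₁Q] at hcomm
  -- Frattini: every `x ∈ P` is `c⁻¹ n` with `c ∈ C(A)`, `n ∈ N(Q)`
  have hfrat : ∀ x ∈ P, ∃ c ∈ centralizer (A : Set G), c * x ∈ normalizer (Q : Set G) := by
    intro x hx
    have hxN : x ∈ normalizer (A : Set G) := hEA (hPE hx)
    have hcjCA : cj x (centralizer (A : Set G)) = centralizer (A : Set G) := by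
      rw [← centralizer_cj, cj_eq_self_iff.mpr hxN]
    have h1 : cj x Q ≤ centralizer (A : Set G) := by
      rw [← hcjCA]; exact cj_mono hQCA
    have hi1 : ¬ q ∣ (cj x Q).relIndex (centralizer (A : Set G)) := fun h =>
      hQidx ((index_cj x Q) ▸ (h.trans (Subgroup.relIndex_dvd_index_of_le h1)))
    have hi2 : ¬ q ∣ Q.relIndex (centralizer (A : Set G)) := fun h =>
      hQidx (h.trans (Subgroup.relIndex_dvd_index_of_le hQCA))
    obtain ⟨c, hc, hcQ⟩ := sylow_sub_eq h1 (isPGroup_cj hQq) hi1 hQCA hQq hi2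
    refine ⟨c, hc, ?_⟩
    rw [← cj_eq_self_iff, cj_mul]
    exact hcQ
  -- `C_A(P) = X`
  have hXCP : X ≤ A ⊓ centralizer (P : Set G) :=
    le_inf hXA (Subgroup.le_centralizer_iff.mp hPX)
  have hD : A ⊓ centralizer (P : Set G) = X := by
    symm
    apply Subgroup.eq_of_le_of_card_ge hXCP
    rw [hX]
    have hdvd : Nat.card ↥(A ⊓ centralizer (P : Set G)) ∣ q ^ 2 :=
      hA.2.2 ▸ Subgroup.card_dvd_of_le inf_le_left
    obtain ⟨k, hk2, hk⟩ := (Nat.dvd_prime_pow hqp).mp hdvd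
    rw [hk]
    have hk1 : k ≠ 2 := by
      rintro rfl
      apply hPA
      have hAD : A ⊓ centralizer (P : Set G) = A :=
        Subgroup.eq_of_le_of_card_ge inf_le_left (by rw [hk, hA.2.2])
      exact Subgroup.le_centralizer_iff.mp (hAD ▸ inf_le_right)
    have : k ≤ 1 := by omega
    calc q ^ k ≤ q ^ 1 := Nat.pow_le_pow_right hqp.pos this
      _ = q := pow_one q
  -- `N(Q) ≤ N(X)`
  apply hNQ
  refine le_trans ?_ hNX
  apply Cfsg.Agent.Lib.Helper24.Lifting.le_normalizer_of_conj_mem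
  intro g hg a ha
  have hbA : g * a * g⁻¹ ∈ A := (mem_normalizer_iff.mp (hNQA hg) a).mp (hXA ha)
  rw [← hD]
  refine Subgroup.mem_inf.mpr ⟨hbA, ?_⟩
  rw [mem_centralizer_iff]
  intro x hx
  obtain ⟨c, hc, hn⟩ := hfrat x hx
  -- `k = g⁻¹ n g n⁻¹ ∈ C(A)`
  have hk := hcomm g⁻¹ (Subgroup.inv_mem _ hg) (c * x) hn
  rw [commutatorElement_def, inv_inv] at hk
  have hka : (g⁻¹ * (c * x) * g * (c * x)⁻¹) * a = a * (g⁻¹ * (c * x) * g * (c * x)⁻¹) :=
    ((mem_centralizer_iff.mp hk) a (hXA ha)).symm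
  have hxa : x * a = a * x := ((mem_centralizer_iff.mp (hPX hx)) a ha).symm
  have hca : c * a = a * c := ((mem_centralizer_iff.mp hc) a (hXA ha)).symm
  -- `n b n⁻¹ = b`
  have hnb : (c * x) * (g * a * g⁻¹) * (c * x)⁻¹ = g * a * g⁻¹ := by
    have e1 : (c * x) * (g * a * g⁻¹) * (c * x)⁻¹ =
        g * ((g⁻¹ * (c * x) * g * (c * x)⁻¹) * (c * (x * a) * x⁻¹ * c⁻¹) *
          (g⁻¹ * (c * x) * g * (c * x)⁻¹)⁻¹) * g⁻¹ := by group
    rw [e1, hxa]
    have e2 : c * (a * x) * x⁻¹ * c⁻¹ = c * a * c⁻¹ := by group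
    rw [e2, hca]
    have e3 : a * c * c⁻¹ = a := by group
    rw [e3, hka]
    group
  -- `x b x⁻¹ ∈ A` is centralized by `c`
  have hxb : x * (g * a * g⁻¹) * x⁻¹ ∈ A :=
    (mem_normalizer_iff.mp (hEA (hPE hx)) _).mp hbA
  have hcb : c * (x * (g * a * g⁻¹) * x⁻¹) = (x * (g * a * g⁻¹) * x⁻¹) * c :=
    ((mem_centralizer_iff.mp hc) _ hxb).symm
  have e4 : (c * x) * (g * a * g⁻¹) * (c * x)⁻¹ = c * (x * (g * a * g⁻¹) * x⁻¹) * c⁻¹ := by group
  rw [e4, hcb] at hnb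
  have e5 : x * (g * a * g⁻¹) * x⁻¹ * c * c⁻¹ = x * (g * a * g⁻¹) * x⁻¹ := by group
  rw [e5] at hnb
  -- conclude
  have : x * (g * a * g⁻¹) = (x * (g * a * g⁻¹) * x⁻¹) * x := by group
  rw [this, hnb]

/-- `StmtB` of `Helper70.BG14` (same body). -/
def StmtB (G : Type u) [Group G] : Prop :=
  ∀ (M E A X P : Subgroup G) (p q : ℕ) [Fact p.Prime] [Fact q.Prime], IsCoatom M →
    IsComplIn E (sigmaCore M) M → q ∈ tau2 M → A ≤ E → IsElementaryAbelian q A →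
    Nat.card A = q ^ 2 → X ≤ A → Nat.card X = q → normalizer (X : Set G) ≤ M → p ∈ tau1 M →
    P ≤ E → Nat.card P = p → P ≤ centralizer (X : Set G) → ¬ P ≤ centralizer (A : Set G) → False

/-- **BG 13.12 in the form used for STEP A of BG 14.2**, from S1428. -/
theorem stmtB (hG : IsMinSimpleOddOrder G) (h28 : Stmt28 G) : StmtB G := by
  intro M E A X P p q _ _ hM hE hq hAE hAe hAc hXA hX hNX hp hPE hP hPX hPA
  by_cases hab : ∃ S : Sylow q G, IsMulCommutative (S : Subgroup G)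
  · obtain ⟨S₀, hS₀⟩ := hab
    exact abelian_case hG hM hE hq S₀ hS₀ ⟨hAE, hAe, hAc⟩ hXA hX hNX hPE hPX hPA
  · push Not at hab
    have Hy := Cfsg.Agent.Lib.Helper64.BG129N.hyp_of_minSimple hG
    have D := data hG Hy hM hE hq hab ⟨hAE, hAe, hAc⟩
    have hXeq : X = A ⊓ centralizer (sigmaCore M : Set G) := by
      by_contra hne
      exact (D.partc X (hXA.trans hAE) hX hne).2
        ((Subgroup.centralizer_le_normalizer _).trans hNX)
    exact tau12_nonabelian_false hG h28 hM hE hq hab ⟨hAE, hAe, hAc⟩ hp hPE hP (hXeq ▸ hPX) hPA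

end Cfsg.Agent.Lib.Helper24.BG1312
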