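import Cfsg.Agent.Lib.Helper24.Sm_GEQ

/-! Sm hive (S2086, owner helper39), leaf SM-G-CM: basic properties of `cm` (the commutator of
chosen lifts along a central extension). -/

set_option autoImplicit false

namespace Cfsg.Agent.Lib.Helper39.Sm

open Cfsg.Agent.Lib.Helper41.Stn
open scoped commutatorElement

section G
variable {Y S : Type*} [Group Y] [Group S] (φ : Y →* S) (hφ : Function.Surjective φ)

/-- G-CM (one person): basic properties of `cm`. -/
theorem cm_eq (hc : φ.ker ≤ Subgroup.center Y) {x y : S} {a b : Y} (ha : φ a = x) (hb : φ b = y) :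
    cm φ hφ x y = ⁅a, b⁆ := by
  unfold cm
  exact comm_eq_of_map_eq φ hc ((map_lft φ hφ x).trans ha.symm) ((map_lft φ hφ y).trans hb.symm)

theorem map_cm (x y : S) : φ (cm φ hφ x y) = ⁅x, y⁆ := by
  unfold cm
  rw [map_commutatorElement, map_lft, map_lft]

theorem cm_symm (x y : S) : cm φ hφ y x = (cm φ hφ x y)⁻¹ := by
  unfold cm
  rw [commutatorElement_inv]

/-- conjugation: `cm (g x g⁻¹) (g y g⁻¹) = c (cm x y) c⁻¹` for any lift `c` of `g` -/
theorem cm_conj (hc : φ.ker ≤ Subgroup.center Y) (g x y : S) {c : Y} (hcg : φ c = g) :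
    cm φ hφ (g * x * g⁻¹) (g * y * g⁻¹) = c * cm φ hφ x y * c⁻¹ := by
  have h1 : φ (c * lft φ hφ x * c⁻¹) = g * x * g⁻¹ := by
    rw [map_mul, map_mul, map_inv, hcg, map_lft]
  have h2 : φ (c * lft φ hφ y * c⁻¹) = g * y * g⁻¹ := by
    rw [map_mul, map_mul, map_inv, hcg, map_lft]
  rw [cm_eq φ hφ hc h1 h2]
  unfold cm
  rw [commutatorElement_def, commutatorElement_def]
  group

theorem cm_mem_center (hc : φ.ker ≤ Subgroup.center Y) {x y : S} (hxy : Commute x y) :
    cm φ hφ x y ∈ Subgroup.center Y := by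
  apply hc
  rw [MonoidHom.mem_ker, map_cm]
  exact commutatorElement_eq_one_iff_commute.mpr hxy

/-- `[a a', b] = a [a', b] a⁻¹ [a, b]` -/
theorem cm_mul_left (hc : φ.ker ≤ Subgroup.center Y) (x x' y : S) {a : Y} (ha : φ a = x) :
    cm φ hφ (x * x') y = a * cm φ hφ x' y * a⁻¹ * cm φ hφ x y := by
  have h1 : φ (a * lft φ hφ x') = x * x' := by
    rw [map_mul, ha, map_lft]
  rw [cm_eq φ hφ hc h1 (map_lft φ hφ y), cm_eq φ hφ hc ha (map_lft φ hφ y)]
  unfold cm
  rw [commutatorElement_def, commutatorElement_def, commutatorElement_def]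
  group

/-- `[a, b b'] = [a, b] b [a, b'] b⁻¹` -/
theorem cm_mul_right (hc : φ.ker ≤ Subgroup.center Y) (x y y' : S) {b : Y} (hb : φ b = y) :
    cm φ hφ x (y * y') = cm φ hφ x y * (b * cm φ hφ x y' * b⁻¹) := by
  have h1 : φ (b * lft φ hφ y') = y * y' := by
    rw [map_mul, hb, map_lft]
  rw [cm_eq φ hφ hc (map_lft φ hφ x) h1, cm_eq φ hφ hc (map_lft φ hφ x) hb]
  unfold cm
  rw [commutatorElement_def, commutatorElement_def, commutatorElement_def]
  group

end G

end Cfsg.Agent.Lib.Helper39.Sm
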