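import Mathlib
import Cfsg.Agent.Lib.Helper6.Nc.Defs

/-! # Nc hive (helper6, S3894), leaf NC-CENT: a nilpotent subgroup not inside a normal subgroup `K` has an element
outside `K` that is central modulo `K`. -/

set_option autoImplicit false

namespace Cfsg.Agent.Lib.Helper6.Nc

open Matrix
open scoped commutatorElement

variable {F : Type*} [Field F]

/-- NC-CENT.  `A / (A ⊓ K)` is nilpotent and nontrivial, so it has a nontrivial centre. -/
theorem nc_cent {Γ : Type*} [Group Γ] (A K : Subgroup Γ) [K.Normal] (hA : Group.IsNilpotent ↥A)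
    (hnot : ¬ A ≤ K) : ∃ z ∈ A, z ∉ K ∧ ∀ b ∈ A, b * z * b⁻¹ * z⁻¹ ∈ K := by
  classical
  obtain ⟨c, hc⟩ := (Subgroup.isNilpotent_iff_lowerCentralSeries A).1 hA
  have hex : ∃ k, A.lowerCentralSeries k ≤ K := ⟨c, by rw [hc]; exact bot_le⟩
  have hm : A.lowerCentralSeries (Nat.find hex) ≤ K := Nat.find_spec hex
  have hm0 : Nat.find hex ≠ 0 := by
    intro h0
    rw [h0, Subgroup.lowerCentralSeries_zero] at hm
    exact hnot hm
  obtain ⟨k, hk⟩ := Nat.exists_eq_succ_of_ne_zero hm0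
  have hk' : ¬ A.lowerCentralSeries k ≤ K := Nat.find_min hex (by omega)
  obtain ⟨z, hzL, hzK⟩ := SetLike.not_le_iff_exists.1 hk'
  refine ⟨z, Subgroup.lowerCentralSeries_le_self A k hzL, hzK, ?_⟩
  intro b hb
  have h1 : ⁅z, b⁆ ∈ A.lowerCentralSeries (k + 1) := by
    rw [Subgroup.lowerCentralSeries_succ]
    exact Subgroup.commutator_mem_commutator hzL hb
  rw [hk] at hm
  have h4 := K.inv_mem (hm h1)
  have h5 : (⁅z, b⁆)⁻¹ = b * z * b⁻¹ * z⁻¹ := by
    rw [commutatorElement_def]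
    group
  rw [h5] at h4
  exact h4

end Cfsg.Agent.Lib.Helper6.Nc
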