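import Cfsg.Agent.Lib.Helper12.D3Defs
import Cfsg.Agent.S1067
import Cfsg.Agent.S1088

/-! # D3 hive (S2183, architect helper12), leaf D3-SYL (helper24):
an involution of `³D₄(q)`, `q` even, is conjugate (inside the group) into `U` (Sylow) -/

set_option autoImplicit false

namespace Cfsg.Agent.Lib.Helper12.D3

open Cfsg Cfsg.Lie Cfsg.Agent.Lib.Helper36 Cfsg.Agent.Lib.Helper75.D4g

variable (K : Type*) [Field K] (φ : K →+* K)

/-- `q` is a power of two (at least 2) when `|K| = q ^ 3` and `K` has characteristic two -/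
theorem d3syl_q_pow [Fintype K] [CharP K 2] {q : ℕ} (hK : Fintype.card K = q ^ 3) :
    ∃ m : ℕ, 0 < m ∧ q = 2 ^ m := by
  obtain ⟨n, -, hn⟩ := FiniteField.card K 2
  have hq3 : q ^ 3 = 2 ^ (n : ℕ) := by rw [← hK, hn]
  have hdvd : q ∣ 2 ^ (n : ℕ) := by
    rw [← hq3]
    exact dvd_pow_self q (by norm_num)
  obtain ⟨m, -, hm⟩ := (Nat.dvd_prime_pow Nat.prime_two).1 hdvd
  refine ⟨m, ?_, hm⟩
  rcases Nat.eq_zero_or_pos m with h0 | h0
  · exfalso
    subst h0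
    rw [pow_zero] at hm
    subst hm
    have h1 : Fintype.card K = 1 := by rw [hK]; norm_num
    have h2 : 1 < Fintype.card K := Fintype.one_lt_card
    omega
  · exact h0

/-- the odd part of the order formula -/
theorem d3syl_odd (m : ℕ) (hm : 0 < m) :
    Nat.Coprime 2 (((2 ^ m) ^ 2 - 1) * ((2 ^ m) ^ 6 - 1) * ((2 ^ m) ^ 8 + (2 ^ m) ^ 4 + 1)) := by
  obtain ⟨j, rfl⟩ : ∃ j, m = j + 1 := ⟨m - 1, by omega⟩
  have he : ∀ k : ℕ, 0 < k → ∃ c : ℕ, 0 < c ∧ (2 ^ (j + 1)) ^ k = 2 * c := by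
    intro k hk
    refine ⟨2 ^ j * (2 ^ (j + 1)) ^ (k - 1), by positivity, ?_⟩
    obtain ⟨i, rfl⟩ : ∃ i, k = i + 1 := ⟨k - 1, by omega⟩
    rw [Nat.add_sub_cancel, pow_succ (2 ^ (j + 1)) i, pow_succ 2 j]
    ring
  obtain ⟨a, ha0, ha⟩ := he 2 (by norm_num)
  obtain ⟨b, hb0, hb⟩ := he 6 (by norm_num)
  obtain ⟨c, hc0, hc⟩ := he 8 (by norm_num)
  obtain ⟨d, hd0, hd⟩ := he 4 (by norm_num)
  rw [ha, hb, hc, hd]
  rw [Nat.coprime_two_left]
  have h1 : Odd (2 * a - 1) := ⟨a - 1, by omega⟩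
  have h2 : Odd (2 * b - 1) := ⟨b - 1, by omega⟩
  have h3 : Odd (2 * c + 2 * d + 1) := ⟨c + d, by ring⟩
  exact (h1.mul h2).mul h3

/-- D3-SYL -/
theorem syl_conj [Fintype K] [CharP K 2] {q : ℕ} (hK : Fintype.card K = q ^ 3)
    (g : GL chevD4.Idx K) (hg : g ∈ twistedD4 K q) (ho : orderOf g = 2) :
    ∃ h ∈ twistedD4 K q, h * g * h⁻¹ ∈ chevD4.posUnipotent K := by
  classical
  have : Fact (Nat.Prime 2) := ⟨Nat.prime_two⟩
  obtain ⟨m, hm0, rfl⟩ := d3syl_q_pow K hK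
  have hpp : IsPrimePow (2 ^ m) := ⟨2, m, Nat.prime_two.prime, hm0, rfl⟩
  have hG := Cfsg.Agent.S1067.result (K := K) hpp hK
  have hU := Cfsg.Agent.S1088.result (K := K) hpp hK
  have hfin : Finite ↥(twistedD4 K (2 ^ m)) := inferInstance
  -- the candidate Sylow subgroup
  set U' : Subgroup ↥(twistedD4 K (2 ^ m)) :=
    (chevD4.posUnipotent K ⊓ twistedD4 K (2 ^ m)).subgroupOf (twistedD4 K (2 ^ m)) with hU'
  have hU'card : Nat.card ↥U' = (2 ^ m) ^ 12 := by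
    rw [hU', ← hU]
    exact Nat.card_congr (Subgroup.subgroupOfEquivOfLe inf_le_right).toEquiv
  have hU'p : IsPGroup 2 ↥U' := by
    apply IsPGroup.of_card (n := m * 12)
    rw [hU'card, pow_mul]
  obtain ⟨P, hP⟩ := hU'p.exists_le_sylow
  have hPU : (P : Subgroup ↥(twistedD4 K (2 ^ m))) = U' := by
    symm
    apply Subgroup.eq_of_le_of_card_ge hP
    obtain ⟨k, hk⟩ := IsPGroup.iff_card.1 P.2
    have hdvd : Nat.card ↥(P : Subgroup ↥(twistedD4 K (2 ^ m))) ∣ Nat.card ↥(twistedD4 K (2 ^ m)) :=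
      Subgroup.card_subgroup_dvd_card _
    rw [hG, hk, mul_assoc, mul_assoc] at hdvd
    have hco : Nat.Coprime (2 ^ k)
        (((2 ^ m) ^ 2 - 1) * (((2 ^ m) ^ 6 - 1) * ((2 ^ m) ^ 8 + (2 ^ m) ^ 4 + 1))) := by
      rw [← mul_assoc]
      exact Nat.Coprime.pow_left k (d3syl_odd m hm0)
    have h2 : 2 ^ k ∣ (2 ^ m) ^ 12 := hco.dvd_of_dvd_mul_right hdvd
    rw [hk, hU'card]
    exact Nat.le_of_dvd (by positivity) h2
  set g' : ↥(twistedD4 K (2 ^ m)) := ⟨g, hg⟩ with hg'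
  have ho' : orderOf g' = 2 := (Subgroup.orderOf_coe g').symm.trans ho
  have hpg : IsPGroup 2 (Subgroup.zpowers g') := by
    apply IsPGroup.of_card (n := 1)
    rw [Nat.card_zpowers, ho', pow_one]
  obtain ⟨Q, hQ⟩ := hpg.exists_le_sylow
  obtain ⟨k, hk⟩ := MulAction.exists_smul_eq (↥(twistedD4 K (2 ^ m))) Q P
  have hmem : k * g' * k⁻¹ ∈ (P : Subgroup ↥(twistedD4 K (2 ^ m))) := by
    rw [← hk, Sylow.coe_subgroup_smul, Subgroup.mem_pointwise_smul_iff_inv_smul_mem]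
    apply hQ
    have : (MulAut.conj k)⁻¹ • (k * g' * k⁻¹) = g' := by
      rw [MulAut.smul_def, ← map_inv, MulAut.conj_apply]
      group
    rw [this]
    exact Subgroup.mem_zpowers g'
  rw [hPU, hU', Subgroup.mem_subgroupOf] at hmem
  refine ⟨(k : GL chevD4.Idx K), k.2, ?_⟩
  have := hmem.1
  simpa using this

end Cfsg.Agent.Lib.Helper12.D3
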