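import Mathlib

/-! # Rx hive (helper12, S2113), leaf RX-SQ: a biadditive map on a field of order `3^(2m+1) ≥ 27`
invariant under simultaneous scaling by the non-zero squares is trivial. -/

set_option autoImplicit false

namespace Cfsg.Agent.Lib.Helper12.Rx

open Polynomial

section witnesses
variable {K : Type*} [Field K] [Fintype K] {m : ℕ}

theorem rxsq_three (hK : Fintype.card K = 3 ^ (2 * m + 1)) : (3 : K) = 0 := by
  have h := Nat.cast_card_eq_zero K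
  rw [hK] at h
  push_cast at h
  exact (pow_eq_zero_iff (by omega)).1 h

omit [Field K] in
theorem rxsq_card (hm : 1 ≤ m) (hK : Fintype.card K = 3 ^ (2 * m + 1)) :
    27 ≤ Fintype.card K := by
  rw [hK]
  calc 27 = 3 ^ 3 := by norm_num
    _ ≤ 3 ^ (2 * m + 1) := Nat.pow_le_pow_right (by norm_num) (by omega)

theorem rxsq_exists_t (hm : 1 ≤ m) (hK : Fintype.card K = 3 ^ (2 * m + 1)) :
    ∃ t : K, t ≠ 0 ∧ t ^ 2 - 1 ≠ 0 ∧ t ^ 2 + 1 ≠ 0 ∧ t ^ 2 - t - 1 ≠ 0 ∧ t ^ 2 + t - 1 ≠ 0 := by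
  classical
  have hc := rxsq_card hm hK
  obtain ⟨P, hPdef⟩ : ∃ P : K[X],
      P = X * (X ^ 2 - 1) * (X ^ 2 + 1) * (X ^ 2 - X - 1) * (X ^ 2 + X - 1) := ⟨_, rfl⟩
  have hmon : P.Monic := by
    rw [hPdef]
    monicity!
  have hP : P ≠ 0 := hmon.ne_zero
  have hdeg : P.natDegree ≤ 9 := by
    rw [hPdef]
    compute_degree
  by_contra hcon
  push Not at hcon
  have hsub : (Finset.univ : Finset K).val ⊆ P.roots := by
    intro t _
    rw [Polynomial.mem_roots hP, Polynomial.IsRoot.def, hPdef]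
    simp only [eval_mul, eval_X, eval_sub, eval_add, eval_pow, eval_one]
    by_cases h0 : t = 0
    · simp [h0]
    by_cases h1 : t ^ 2 - 1 = 0
    · simp [h1]
    by_cases h2 : t ^ 2 + 1 = 0
    · simp [h2]
    by_cases h3 : t ^ 2 - t - 1 = 0
    · simp [h3]
    have h4 := hcon t h0 h1 h2 h3
    simp [h4]
  have h1 := Polynomial.card_le_degree_of_subset_roots hsub
  rw [Finset.card_univ] at h1
  omega

/-- RX-SQ. -/
theorem biadd_sq_trivial (hm : 1 ≤ m) (hK : Fintype.card K = 3 ^ (2 * m + 1))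
    {M : Type*} [CommGroup M] (β : K → K → M)
    (hl : ∀ x x' y, β (x + x') y = β x y * β x' y)
    (hr : ∀ x y y', β x (y + y') = β x y * β x y')
    (hinv : ∀ v x y, v ≠ 0 → β (v ^ 2 * x) (v ^ 2 * y) = β x y) : ∀ x y, β x y = 1 := by
  have h3 : (3 : K) = 0 := rxsq_three hK
  have h2 : (2 : K) ≠ 0 := by
    intro h
    have h1 : (1 : K) = 3 - 2 := by norm_num
    rw [h3, h] at h1
    simp at h1
  obtain ⟨t, ht0, ht1, ht2, ht3, ht4⟩ := rxsq_exists_t hm hK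
  have hβ0 : ∀ y, β 0 y = 1 := by
    intro y
    have h := hl 0 0 y
    rw [add_zero] at h
    exact mul_eq_left.1 h.symm
  have hsq : ∀ v y, v ≠ 0 → β (v ^ 2) y = β 1 (y / v ^ 2) := by
    intro v y hv
    have hv2 : v ^ 2 ≠ 0 := pow_ne_zero 2 hv
    rw [← hinv v 1 (y / v ^ 2) hv, mul_one, mul_div_cancel₀ _ hv2]
  obtain ⟨v, hv⟩ : ∃ v : K, v = t - 1 / t := ⟨_, rfl⟩
  obtain ⟨v', hv'⟩ : ∃ v' : K, v' = t + 1 / t := ⟨_, rfl⟩
  have hvne : v ≠ 0 := by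
    have h : v = (t ^ 2 - 1) / t := by rw [hv]; field_simp
    rw [h]; exact div_ne_zero ht1 ht0
  have hv'ne : v' ≠ 0 := by
    have h : v' = (t ^ 2 + 1) / t := by rw [hv']; field_simp
    rw [h]; exact div_ne_zero ht2 ht0
  have hvv : v' ^ 2 = v ^ 2 + 1 := by
    rw [hv, hv']
    field_simp
    linear_combination (t ^ 2) * h3
  obtain ⟨ρ, hρ⟩ : ∃ ρ : K, ρ = v ^ 2 := ⟨_, rfl⟩
  have hρ0 : ρ ≠ 0 := by rw [hρ]; exact pow_ne_zero 2 hvne
  have hρ1 : ρ + 1 ≠ 0 := by rw [hρ, ← hvv]; exact pow_ne_zero 2 hv'ne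
  have hρne1 : ρ - 1 ≠ 0 := by
    have h : ρ - 1 = (t ^ 2 - t - 1) * (t ^ 2 + t - 1) / t ^ 2 := by
      rw [hρ, hv]; field_simp; ring
    rw [h]; exact div_ne_zero (mul_ne_zero ht3 ht4) (pow_ne_zero 2 ht0)
  have hE : ρ ^ 2 + ρ + 1 = (ρ - 1) ^ 2 := by linear_combination ρ * h3
  have hEne : ρ ^ 2 + ρ + 1 ≠ 0 := by rw [hE]; exact pow_ne_zero 2 hρne1
  have key : ∀ y, β 1 (y / (ρ + 1)) = β 1 (y / ρ) * β 1 y := by
    intro y
    rw [hρ, ← hvv, ← hsq v' y hv'ne, hvv, hl, hsq v y hvne]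
  have hall : ∀ w, β 1 w = 1 := by
    intro w
    obtain ⟨y, hy⟩ : ∃ y : K, y = -w * (ρ * (ρ + 1)) / (ρ ^ 2 + ρ + 1) := ⟨_, rfl⟩
    have h := key y
    have e : y / (ρ + 1) = y / ρ + y + w := by
      obtain ⟨d, hd⟩ : ∃ d : K, d = ρ ^ 2 + ρ + 1 := ⟨_, rfl⟩
      have hdne : d ≠ 0 := by rw [hd]; exact hEne
      rw [← hd] at hy
      rw [hy]
      field_simp
      rw [hd]; ring
    rw [e, hr, hr] at h
    exact mul_eq_left.1 h
  have hsq1 : ∀ u y, β (u ^ 2) y = 1 := by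
    intro u y
    by_cases hu : u = 0
    · rw [hu]; simp [hβ0]
    · rw [hsq u y hu, hall]
  intro x y
  obtain ⟨u, hu⟩ : ∃ u : K, u = x / 2 := ⟨_, rfl⟩
  have hx : x = 2 * u := by rw [hu]; field_simp
  have h1 := hl (u ^ 2) (2 * u + 1) y
  have e1 : u ^ 2 + (2 * u + 1) = (u + 1) ^ 2 := by ring
  rw [e1, hsq1, hsq1, one_mul] at h1
  have h4 := hl (2 * u) 1 y
  rw [← h1, hall, mul_one] at h4
  rw [hx]; exact h4.symm

end witnesses

end Cfsg.Agent.Lib.Helper12.Rx
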