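import Cfsg.Agent.Lib.Helper24.HaSEVEN
import Cfsg.Agent.Lib.Helper70.HsSTAB

/-! # Ha hive (helper14, S2534), leaf HA-EIGHT: `hall_eight_no_six_orbit` (helper24) -/

set_option autoImplicit false

namespace Cfsg.Agent.Lib.Helper14.Ha

open Cfsg Cfsg.Agent.Lib.Helper15.Hs

section perm

variable {α : Type*} [Fintype α] [DecidableEq α] (π : Set ℕ) (H : Subgroup (Equiv.Perm α))

omit [Fintype α] [DecidableEq α] in
/-- orbits are invariant -/
theorem eight_orbit_invariant (a : α) :
    ∀ g ∈ H, ∀ x ∈ MulAction.orbit H a, g x ∈ MulAction.orbit H a := by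
  intro g hg x hx
  exact MulAction.mem_orbit_of_mem_orbit (⟨g, hg⟩ : H) hx

/-- HA-EIGHT -/
theorem hall_eight_no_six_orbit (hH : IsPiHall π H) (hcard : Nat.card α = 8)
    (h2 : 2 ∈ π) (h3 : 3 ∈ π) (h5 : 5 ∉ π) (h7 : 7 ∉ π)
    (O : Set α) (hO : Nat.card ↥O = 6)
    (htr : ∀ a ∈ O, ∀ b ∈ O, ∃ g ∈ H, g a = b ∧ ∀ z ∉ O, g z = z) : False := by
  classical
  have hOn : O.ncard = 6 := by rw [← Nat.card_coe_set_eq]; exact hO
  have hne : O.Nonempty := by
    rw [← Set.ncard_pos (Set.toFinite O)]; omega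
  obtain ⟨a, ha⟩ := hne
  have hsub : O ⊆ MulAction.orbit H a := by
    intro b hb
    obtain ⟨g, hg, hgb, -⟩ := htr a ha b hb
    exact ⟨⟨g, hg⟩, hgb⟩
  have h6 : 6 ≤ (MulAction.orbit H a).ncard := by
    rw [← hOn]; exact Set.ncard_le_ncard hsub (Set.toFinite _)
  have h8 : (MulAction.orbit H a).ncard ≤ 8 := by
    have := Set.ncard_le_ncard (Set.subset_univ (MulAction.orbit H a)) (Set.toFinite _)
    rwa [Set.ncard_univ, hcard] at this
  obtain ⟨-, -, hch⟩ := hall_restrict π H hH (MulAction.orbit H a) (eight_orbit_invariant H a)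
  have hch2 := hch 2 Nat.prime_two h2
  rw [hcard, Nat.card_coe_set_eq] at hch2
  have h678 : (MulAction.orbit H a).ncard = 6 ∨ (MulAction.orbit H a).ncard = 7 ∨
      (MulAction.orbit H a).ncard = 8 := by omega
  rcases h678 with h | h | h
  · rw [h] at hch2; exact hch2 (by decide)
  · rw [h] at hch2; exact hch2 (by decide)
  · -- transitive case
    have huniv : MulAction.orbit H a = Set.univ := by
      apply Set.eq_of_subset_of_ncard_le (Set.subset_univ _) _ (Set.toFinite _)
      rw [Set.ncard_univ, hcard, h]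
    have hpt : MulAction.IsPretransitive H α :=
      (MulAction.isPretransitive_iff_orbit_eq_univ (G := H) a).mpr huniv
    -- a point outside `O`
    have hcompl : ∃ z, z ∉ O := by
      by_contra hcon
      push Not at hcon
      have : O = Set.univ := Set.eq_univ_of_forall hcon
      rw [this, Set.ncard_univ, hcard] at hOn
      omega
    obtain ⟨z, hz⟩ := hcompl
    have hK := hall_stabilizer π H hH hpt z
    set K := resSub (H ⊓ MulAction.stabilizer (Equiv.Perm α) z) ({z}ᶜ : Set α) with hKdef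
    have hc7 : Nat.card ↥({z}ᶜ : Set α) = 7 := by
      have h1 := Set.ncard_add_ncard_compl ({z} : Set α)
      rw [Set.ncard_singleton, hcard] at h1
      rw [Nat.card_coe_set_eq]
      omega
    -- the 6-subset
    let O' : Set ↥({z}ᶜ : Set α) := {y | (y : α) ∈ O}
    have hO' : Nat.card ↥O' = 6 := by
      rw [← hO]
      refine Nat.card_congr ⟨fun y => ⟨(y : ↥({z}ᶜ : Set α)), y.2⟩,
        fun x => ⟨⟨(x : α), ?_⟩, x.2⟩, fun y => rfl, fun x => rfl⟩
      intro hxz
      rw [Set.mem_singleton_iff] at hxz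
      exact hz (hxz ▸ x.2)
    refine hall_seven_no_six_orbit (α := ↥({z}ᶜ : Set α)) π K hK hc7 h2 h3 h5 h7 O' hO' ?_
    intro y hy y' hy'
    obtain ⟨g, hg, hgy, hfix⟩ := htr (y : α) hy (y' : α) hy'
    have hgz : g z = z := hfix z hz
    have hmem : ∀ x : α, x ∈ ({z}ᶜ : Set α) ↔ g x ∈ ({z}ᶜ : Set α) := by
      intro x
      simp only [Set.mem_compl_iff, Set.mem_singleton_iff]
      constructor
      · intro hx hgx
        apply hx
        apply g.injective
        rw [hgx, hgz]
      · intro hx hxz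
        apply hx
        rw [hxz, hgz]
    refine ⟨g.subtypePerm (fun x => (hmem x).symm), ⟨g, ⟨hg, ?_⟩, fun x => rfl⟩, ?_⟩
    · change g ∈ MulAction.stabilizer (Equiv.Perm α) z
      rw [MulAction.mem_stabilizer_iff]
      exact hgz
    · apply Subtype.ext
      exact hgy

end perm

end Cfsg.Agent.Lib.Helper14.Ha
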