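import Cfsg.Agent.Lib.Helper15.HsBasic

/-! # Hs hive (helper15, S2536), leaf HS-IDX: `no_index_pred` (helper24) -/

set_option autoImplicit false

namespace Cfsg.Agent.Lib.Helper15.Hs

open Cfsg

section leaves

variable {α : Type*} [Fintype α] [DecidableEq α] (π : Set ℕ) (H : Subgroup (Equiv.Perm α))

/-- a subgroup of `Perm α` of index `k` with `k ! < |α| !` has a non-trivial normal core. -/
theorem idx_normalCore_nontrivial (k : ℕ) (hidx : H.index = k)
    (hlt : k.factorial < (Nat.card α).factorial) : Nontrivial H.normalCore := by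
  by_contra hnt
  rw [not_nontrivial_iff_subsingleton] at hnt
  have hbot : H.normalCore = ⊥ := by
    rw [Subgroup.eq_bot_iff_forall]
    intro x hx
    have := Subsingleton.elim (⟨x, hx⟩ : H.normalCore) 1
    exact congrArg Subtype.val this
  have hker : (MulAction.toPermHom (Equiv.Perm α) (Equiv.Perm α ⧸ H)).ker = ⊥ := by
    rw [← Subgroup.normalCore_eq_ker]
    exact hbot
  have hinj : Function.Injective (MulAction.toPermHom (Equiv.Perm α) (Equiv.Perm α ⧸ H)) :=
    (MonoidHom.ker_eq_bot_iff _).mp hker
  have hfin : Finite (Equiv.Perm α ⧸ H) := inferInstance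
  have hle := Nat.card_le_card_of_injective _ hinj
  rw [Nat.card_perm, Nat.card_perm] at hle
  have hk : Nat.card (Equiv.Perm α ⧸ H) = k := by
    rw [← hidx]
    rfl
  rw [hk] at hle
  omega

/-- HS-IDX -/
theorem no_index_pred (hm : 6 ≤ Nat.card α) (hidx : H.index = Nat.card α - 1) : False := by
  have hlt : (Nat.card α - 1).factorial < (Nat.card α).factorial := by
    obtain ⟨m, hm'⟩ : ∃ m, Nat.card α = m + 1 := ⟨Nat.card α - 1, by omega⟩
    rw [hm', Nat.add_sub_cancel, Nat.factorial_succ]
    have hpos : 0 < m.factorial := Nat.factorial_pos m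
    have : 2 ≤ m + 1 := by omega
    nlinarith
  have hnt := idx_normalCore_nontrivial H _ hidx hlt
  have hA : alternatingGroup α ≤ H.normalCore :=
    Equiv.Perm.alternatingGroup_le_of_normal (by omega) hnt
  have hAH : alternatingGroup α ≤ H := hA.trans (Subgroup.normalCore_le H)
  have hdvd : H.index ∣ (alternatingGroup α).index := Subgroup.index_dvd_of_le hAH
  have hnt' : Nontrivial α := by
    rw [← Fintype.one_lt_card_iff_nontrivial, ← Nat.card_eq_fintype_card]
    omega
  rw [alternatingGroup.index_eq_two, hidx] at hdvd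
  have := Nat.le_of_dvd (by norm_num) hdvd
  omega

end leaves

end Cfsg.Agent.Lib.Helper15.Hs
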