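import Cfsg.Agent.Lib.Helper15.HsBasic
import Cfsg.Agent.Lib.Helper78.HsRES
import Cfsg.Agent.Lib.Helper24.HsIDX

/-! # Ha hive (helper14, S2534), leaf HA-SEVEN: `hall_seven_no_six_orbit` (helper24) -/

set_option autoImplicit false

namespace Cfsg.Agent.Lib.Helper14.Ha

open Cfsg Cfsg.Agent.Lib.Helper15.Hs

section perm

variable {α : Type*} [Fintype α] [DecidableEq α] (π : Set ℕ) (H : Subgroup (Equiv.Perm α))

omit [Fintype α] [DecidableEq α] in
/-- the size of an orbit of a Hall `π`-subgroup has only prime divisors in `π`. -/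
theorem seven_orbit_prime_mem (hH : IsPiHall π H) (a : α) (p : ℕ) (hp : p.Prime)
    (hd : p ∣ (MulAction.orbit H a).ncard) : p ∈ π := by
  have h1 : (MulAction.stabilizer H a).index = (MulAction.orbit H a).ncard :=
    MulAction.index_stabilizer H a
  have h2 : (MulAction.stabilizer H a).index ∣ Nat.card H := Subgroup.index_dvd_card _
  exact hH.1 p hp (hd.trans (h1 ▸ h2))

omit [DecidableEq α] in
/-- a subset `O` on which `H` acts transitively (in the weak sense) and whose size plus one is a non-`π`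
prime ... here: the general step `O` is the orbit, provided the only possible bigger orbit size is excluded. -/
theorem seven_invariant (a : α) (O : Set α) (ha : a ∈ O)
    (htr : ∀ b ∈ O, ∃ g ∈ H, g a = b)
    (hcard : (MulAction.orbit H a).ncard ≤ O.ncard) :
    ∀ g ∈ H, ∀ x ∈ O, g x ∈ O := by
  have hsub : O ⊆ MulAction.orbit H a := by
    intro b hb
    obtain ⟨g, hg, hgb⟩ := htr b hb
    exact ⟨⟨g, hg⟩, hgb⟩
  have heq : O = MulAction.orbit H a :=
    Set.eq_of_subset_of_ncard_le hsub hcard (Set.toFinite _)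
  intro g hg x hx
  rw [heq] at hx ⊢
  exact MulAction.mem_orbit_of_mem_orbit (⟨g, hg⟩ : H) hx

/-- HA-SEVEN -/
theorem hall_seven_no_six_orbit (hH : IsPiHall π H) (hcard : Nat.card α = 7)
    (h2 : 2 ∈ π) (h3 : 3 ∈ π) (h5 : 5 ∉ π) (h7 : 7 ∉ π)
    (O : Set α) (hO : Nat.card ↥O = 6) (htr : ∀ a ∈ O, ∀ b ∈ O, ∃ g ∈ H, g a = b) : False := by
  classical
  have hOn : O.ncard = 6 := by rw [← Nat.card_coe_set_eq]; exact hO
  have hne : O.Nonempty := by
    rw [← Set.ncard_pos (Set.toFinite O)]; omega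
  obtain ⟨a, ha⟩ := hne
  -- the orbit of `a`
  have hsub : O ⊆ MulAction.orbit H a := by
    intro b hb
    obtain ⟨g, hg, hgb⟩ := htr a ha b hb
    exact ⟨⟨g, hg⟩, hgb⟩
  have h6 : 6 ≤ (MulAction.orbit H a).ncard := by
    rw [← hOn]; exact Set.ncard_le_ncard hsub (Set.toFinite _)
  have h7' : (MulAction.orbit H a).ncard ≤ 7 := by
    have := Set.ncard_le_ncard (Set.subset_univ (MulAction.orbit H a)) (Set.toFinite _)
    rwa [Set.ncard_univ, hcard] at this
  have hne7 : (MulAction.orbit H a).ncard ≠ 7 := by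
    intro h
    exact h7 (seven_orbit_prime_mem π H hH a 7 (by norm_num) (by rw [h]))
  have hle : (MulAction.orbit H a).ncard ≤ O.ncard := by omega
  have hinv := seven_invariant H a O ha (htr a ha) hle
  -- restrict to `O`
  obtain ⟨hR, -, -⟩ := hall_restrict π H hH O hinv
  set R := resSub H O with hRdef
  have hperm : Nat.card (Equiv.Perm ↥O) = 720 := by
    rw [Nat.card_perm, hO]; rfl
  have hmul : Nat.card R * R.index = 720 := by
    rw [← hperm]; exact Subgroup.card_mul_index R
  have hi2 : ¬ 2 ∣ R.index := hR.2 2 Nat.prime_two h2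
  have hi3 : ¬ 3 ∣ R.index := hR.2 3 Nat.prime_three h3
  have hidvd : R.index ∣ 720 := ⟨Nat.card R, by rw [← hmul, mul_comm]⟩
  have hcop : Nat.Coprime R.index 144 := by
    have e : (144 : ℕ) = 2 ^ 4 * 3 ^ 2 := by norm_num
    rw [e]
    apply Nat.Coprime.mul_right
    · exact Nat.Coprime.pow_right _ ((Nat.coprime_comm.mp ((Nat.Prime.coprime_iff_not_dvd Nat.prime_two).mpr hi2)))
    · exact Nat.Coprime.pow_right _ ((Nat.coprime_comm.mp ((Nat.Prime.coprime_iff_not_dvd Nat.prime_three).mpr hi3)))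
  have hd5 : R.index ∣ 5 := by
    have e : (720 : ℕ) = 144 * 5 := by norm_num
    rw [e] at hidvd
    exact hcop.dvd_of_dvd_mul_left hidvd
  rcases (Nat.dvd_prime (by norm_num : Nat.Prime 5)).mp hd5 with h1 | h5'
  · -- index 1: `5 ∣ |R|`
    rw [h1, mul_one] at hmul
    exact h5 (hR.1 5 (by norm_num) (by rw [hmul]; norm_num))
  · -- index 5 = 6 - 1
    exact no_index_pred (α := ↥O) R (by rw [hO]) (by rw [h5', hO])

end perm

end Cfsg.Agent.Lib.Helper14.Ha
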