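import Cfsg.Agent.Lib.Helper24.HsPRIMcore
import Cfsg.Agent.Lib.Helper88.HsCYC

/-!
# Hs hive (S2536), leaf HS-PRIM: a primitive Hall `π`-subgroup of `Perm α` (with two primes of `π` below `|α|`)
has every prime `≤ |α|` in `π`.  Wrapper of `prim_core` with helper88's `exists_cycle_mem`.
-/

set_option autoImplicit false

namespace Cfsg.Agent.Lib.Helper15.Hs

open Cfsg

section leaves

variable {α : Type*} [Fintype α] [DecidableEq α] (π : Set ℕ) (H : Subgroup (Equiv.Perm α))

theorem prim_all_primes (hH : IsPiHall π H) (hprim : MulAction.IsPreprimitive H α)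
    (h2 : TwoIn π (Nat.card α)) : ∀ r : ℕ, r.Prime → r ≤ Nat.card α → r ∈ π :=
  prim_core π H hH hprim h2 (fun p hp hpπ hle => exists_cycle_mem π H hH p hp hpπ hle)

end leaves

end Cfsg.Agent.Lib.Helper15.Hs
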