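import Cfsg.Agent.Lib.Helper2.G2oDefs

/-! # G2o hive (S4278, architect helper2): leaf G2O-NSQ (helper24). Mathlib only; the import is kept for the namespace. -/

set_option autoImplicit false

namespace Cfsg.Agent.Lib.Helper2.G2o

variable (F : Type*) [Field F]

theorem g2onsq_aux [Fintype F] (hodd : Odd (Fintype.card F)) :
    (2 : F) ≠ 0 ∧ ∃ d : F, d ≠ 0 ∧ ∀ c : F, c ≠ 0 → ¬ IsSquare c →
      ∃ y : F, y ≠ 0 ∧ d * c = y ^ 2 := by
  classical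
  have hch : ringChar F ≠ 2 := by
    intro h
    have := (FiniteField.even_card_iff_char_two (F := F)).1 h
    rcases hodd with ⟨m, hm⟩
    omega
  refine ⟨Ring.two_ne_zero hch, ?_⟩
  obtain ⟨d, hd⟩ := FiniteField.exists_nonsquare hch
  have hd0 : d ≠ 0 := by
    rintro rfl
    exact hd ⟨0, by simp⟩
  refine ⟨d, hd0, ?_⟩
  intro c hc hcs
  have h1 : quadraticChar F d = -1 := quadraticChar_neg_one_iff_not_isSquare.2 hd
  have h2 : quadraticChar F c = -1 := quadraticChar_neg_one_iff_not_isSquare.2 hcs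
  have h3 : quadraticChar F (d * c) = 1 := by
    rw [map_mul, h1, h2]; norm_num
  have hdc : d * c ≠ 0 := mul_ne_zero hd0 hc
  obtain ⟨y, hy⟩ := (quadraticChar_one_iff_isSquare hdc).1 h3
  refine ⟨y, ?_, by rw [hy, sq]⟩
  rintro rfl
  apply hdc
  rw [hy]; simp

/-- G2O-NSQ -/
theorem nsq [Fintype F] (hodd : Odd (Fintype.card F)) :
    (2 : F) ≠ 0 ∧ ∃ d : F, d ≠ 0 ∧ ∀ c : F, c ≠ 0 → ¬ IsSquare c → ∀ k : ℤ, k = 1 ∨ k = -1 →
      ∃ y : F, y ≠ 0 ∧ d ^ k * c = y ^ 2 := by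
  obtain ⟨h2, d, hd0, hd⟩ := g2onsq_aux F hodd
  refine ⟨h2, d, hd0, ?_⟩
  intro c hc hcs k hk
  obtain ⟨y, hy0, hy⟩ := hd c hc hcs
  rcases hk with rfl | rfl
  · exact ⟨y, hy0, by rw [zpow_one, hy]⟩
  · refine ⟨d⁻¹ * y, mul_ne_zero (inv_ne_zero hd0) hy0, ?_⟩
    rw [mul_pow, ← hy, zpow_neg_one]
    field_simp

end Cfsg.Agent.Lib.Helper2.G2o
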