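import Mathlib
import Cfsg.Agent.Lib.Helper23.FitLocal
import Cfsg.Agent.Lib.Helper32.FitDer
import Cfsg.Agent.Lib.Helper22.FStar
import Cfsg.Agent.Lib.Helper11.PConstrained
import Cfsg.Agent.Lib.Helper24.Coprime

/-!
# Auxiliary lemmas on Fitting subgroups for the commutator theorem
-/

set_option autoImplicit false
set_option linter.unusedSectionVars false
set_option linter.unusedVariables false
set_option linter.style.haveILetI false

namespace Cfsg.Agent.Lib.Helper24.HH

open Subgroup Cfsg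

universe u

variable {G : Type u} [Group G]

theorem eq_bot_of_isPGroup_of_not_dvd [Finite G] {q : ℕ} [Fact q.Prime] (H K : Subgroup G)
    (hH : IsPGroup q H) (hHK : H ≤ K) (h : ¬ q ∣ Nat.card K) : H = ⊥ := by
  obtain ⟨e, he⟩ := IsPGroup.iff_card.mp hH
  have hdvd : Nat.card H ∣ Nat.card K := Subgroup.card_dvd_of_le hHK
  rcases Nat.eq_zero_or_pos e with h0 | h0
  · rw [h0, pow_zero] at he
    exact Subgroup.card_eq_one.mp he
  · exfalso
    apply h
    rw [he] at hdvd
    exact (dvd_pow_self q h0.ne').trans hdvd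

/-- a Sylow `q`-subgroup of `N` supplements a normal subgroup `F` with `N / F` a `q`-group -/
theorem le_sup_of_sylow_of_pquot [Finite G] {q : ℕ} [hq : Fact q.Prime] (N F Q : Subgroup G)
    [hFn : F.Normal] (hQN : Q ≤ N) (hFN : F ≤ N) (hpow : ∀ y ∈ N, ∃ k : ℕ, y ^ (q ^ k) ∈ F)
    (hQi : ¬ q ∣ Q.relIndex N) : N ≤ Q ⊔ F := by
  rw [← Subgroup.relIndex_eq_one]
  have h1 : (Q ⊔ F).relIndex N ∣ Q.relIndex N := Subgroup.relIndex_dvd_of_le_left N le_sup_left
  have h2 : (Q ⊔ F).relIndex N ∣ F.relIndex N := Subgroup.relIndex_dvd_of_le_left N le_sup_right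
  have hquot : IsPGroup q (↥N ⧸ F.subgroupOf N) := by
    intro yb
    obtain ⟨y, rfl⟩ := QuotientGroup.mk_surjective yb
    obtain ⟨k, hk⟩ := hpow y y.2
    refine ⟨k, ?_⟩
    rw [← QuotientGroup.mk_pow, QuotientGroup.eq_one_iff, Subgroup.mem_subgroupOf]
    simpa using hk
  obtain ⟨m, hm⟩ := IsPGroup.iff_card.mp hquot
  have h3 : F.relIndex N = q ^ m := by
    rw [Subgroup.relIndex, Subgroup.index_eq_card]
    exact hm
  rw [h3] at h2
  obtain ⟨j, -, hj⟩ := (Nat.dvd_prime_pow hq.out).mp h2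
  rcases Nat.eq_zero_or_pos j with h0 | h0
  · rw [hj, h0, pow_zero]
  · exfalso
    apply hQi
    rw [hj] at h1
    exact (dvd_pow_self q h0.ne').trans h1

/-- membership criterion for `F(K)`: an element of a normal subgroup `N ≤ K` with `N / (N ∩ F)`
a `q`-group, centralising `O_p(K)` for all `p ≠ q`, lies in `F(K)` -/
theorem mem_fittingOf_of_centralizes [Finite G] {q : ℕ} [hq : Fact q.Prime] (K N : Subgroup G)
    [hKn : K.Normal] [hNn : N.Normal] (hKs : Group.IsSolvable K) (hNK : N ≤ K)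
    (hpow : ∀ y ∈ N, ∃ k : ℕ, y ^ (q ^ k) ∈ fittingOf K) (c : G) (hcN : c ∈ N)
    (hc : ∀ (p : ℕ) [Fact p.Prime], p ≠ q → c ∈ centralizer ((Helper23.pCoreOf p K : Subgroup G) : Set G)) :
    c ∈ fittingOf K := by
  classical
  haveI := hKs
  -- the normal subgroup of `K` of such elements
  let C : Subgroup G := N ⊓ ⨅ (p : Nat.Primes) (_ : (p : ℕ) ≠ q),
    centralizer ((Helper23.pCoreOf (p : ℕ) K : Subgroup G) : Set G)
  have hpn : ∀ p : ℕ, (Helper23.pCoreOf p K : Subgroup G).Normal := by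
    intro p
    haveI : (pCore p ↥K).Characteristic := Cfsg.Agent.Lib.Helper11.pCore_characteristic' p ↥K
    have h1 := normalizer_le_normalizer_map_of_characteristic K (pCore p ↥K)
    rw [Subgroup.normalizer_eq_top_iff.mpr hKn] at h1
    exact Subgroup.normalizer_eq_top_iff.mp (top_le_iff.mp h1)
  haveI hCn : C.Normal := by
    haveI : (⨅ (p : Nat.Primes) (_ : (p : ℕ) ≠ q),
        centralizer ((Helper23.pCoreOf (p : ℕ) K : Subgroup G) : Set G)).Normal :=
      Subgroup.normal_iInf_normal (fun p => Subgroup.normal_iInf_normal (fun _ => by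
        haveI := hpn p
        exact Subgroup.normal_centralizer))
    infer_instance
  have hcC : c ∈ C := by
    refine ⟨hcN, ?_⟩
    refine Subgroup.mem_iInf.2 (fun p => Subgroup.mem_iInf.2 (fun hp => ?_))
    haveI : Fact (p : ℕ).Prime := ⟨p.2⟩
    exact hc p hp
  let D : Subgroup ↥K := C.subgroupOf K
  haveI hDn : D.Normal := inferInstance
  have hcent : ∀ (p : ℕ) (d : ↥K),
      (d : G) ∈ centralizer ((Helper23.pCoreOf p K : Subgroup G) : Set G) →
      d ∈ centralizer ((pCore p ↥K : Subgroup ↥K) : Set ↥K) := by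
    intro p d hd
    rw [mem_centralizer_iff] at hd ⊢
    intro u hu
    apply Subtype.ext
    exact hd (u : G) ⟨u, hu, rfl⟩
  have hD : D ≤ fittingSubgroup ↥K := by
    apply Cfsg.Agent.Lib.Helper32.FitDer.le_fitting_of_forall_pow_mem_centralizer
    intro p hp d hd
    haveI : Fact p.Prime := ⟨hp⟩
    have hdC : (d : G) ∈ C := hd
    by_cases hpq : p = q
    · -- a `q`-power of `d` lies in `F`, and a further `q`-power centralises `O_q(K)`
      subst hpq
      obtain ⟨k, hk⟩ := hpow (d : G) hdC.1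
      obtain ⟨f, hf, hfd⟩ := hk
      have hfd' : f = d ^ (p ^ k) := Subtype.ext (by simpa using hfd)
      obtain ⟨e, n', hn', hord⟩ := Nat.exists_eq_pow_mul_and_not_dvd
        (orderOf_pos f).ne' p hp.ne_one
      have hy : f ^ (p ^ e) ∈ ⨆ (r : Nat.Primes) (_ : (r : ℕ) ≠ p), pCore (r : ℕ) ↥K := by
        apply Cfsg.Agent.Lib.Helper32.FitDer.mem_iSup_pCore_of_coprime p
          (Subgroup.pow_mem _ hf _)
        rw [orderOf_pow_of_dvd (pow_ne_zero _ hp.ne_zero) (by rw [hord]; exact dvd_mul_right _ _),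
          hord, Nat.mul_div_cancel_left _ (pow_pos hp.pos e)]
        exact hn'
      have hle : (⨆ (r : Nat.Primes) (_ : (r : ℕ) ≠ p), pCore (r : ℕ) ↥K)
          ≤ centralizer ((pCore p ↥K : Subgroup ↥K) : Set ↥K) := by
        apply iSup₂_le
        intro r hr
        haveI : Fact (r : ℕ).Prime := ⟨r.2⟩
        intro u hu
        apply hcent
        have h1 := Cfsg.Agent.Lib.Helper23.pCoreOf_le_centralizer_pCoreOf hr K
        exact h1 ⟨u, hu, rfl⟩
      refine ⟨k + e, ?_⟩
      rw [pow_add, pow_mul, ← hfd']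
      exact hle hy
    · refine ⟨0, ?_⟩
      rw [pow_zero, pow_one]
      apply hcent
      have h2 := hdC.2
      exact Subgroup.mem_iInf.1 (Subgroup.mem_iInf.1 h2 ⟨p, hp⟩) hpq
  have hcK : c ∈ K := hNK hcN
  have : (⟨c, hcK⟩ : ↥K) ∈ D := hcC
  exact ⟨⟨c, hcK⟩, hD this, rfl⟩

end Cfsg.Agent.Lib.Helper24.HH
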