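import Mathlib
import Cfsg.Agent.Lib.Helper24.HHFit1
import Cfsg.Agent.Lib.Helper24.HHP
import Cfsg.Agent.Lib.Helper24.InvCompl
import Cfsg.Agent.Lib.Helper23.MaxLocalFit

/-!
# `[K, x] ≤ F(K)` for an element `x` of prime order acting coprimely on a solvable normal subgroup
`K` of odd order with `C_{F(K)}(x) = 1`.
-/

set_option autoImplicit false
set_option linter.unusedSectionVars false
set_option linter.unusedVariables false
set_option linter.style.haveILetI false
set_option maxHeartbeats 800000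

namespace Cfsg.Agent.Lib.Helper24.HH

open Subgroup Cfsg
open scoped commutatorElement

universe u

theorem commutator_mem_fittingOf {G : Type u} [Group G] [Finite G] (hodd : Odd (Nat.card G))
    (K : Subgroup G) [hKn : K.Normal] (hKs : Group.IsSolvable K) (x : G) {r : ℕ} (hr : r.Prime)
    (hxr : x ^ r = 1) (hrK : ¬ r ∣ Nat.card K)
    (hfix : ∀ f ∈ fittingOf K, x * f = f * x → f = 1) :
    ∀ k ∈ K, k * x * k⁻¹ * x⁻¹ ∈ fittingOf K := by
  classical
  set F : Subgroup G := fittingOf K with hF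
  have hFK : F ≤ K := Cfsg.Agent.Lib.Helper23.fittingOf_le K
  haveI hFn : F.Normal := by
    have h1 := normalizer_le_normalizer_map_of_characteristic K (fittingSubgroup ↥K)
    rw [Subgroup.normalizer_eq_top_iff.mpr hKn] at h1
    exact Subgroup.normalizer_eq_top_iff.mp (top_le_iff.mp h1)
  have hpn : ∀ p : ℕ, (Helper23.pCoreOf p K : Subgroup G).Normal := by
    intro p
    haveI : (pCore p ↥K).Characteristic := Cfsg.Agent.Lib.Helper11.pCore_characteristic' p ↥K
    have h1 := normalizer_le_normalizer_map_of_characteristic K (pCore p ↥K)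
    rw [Subgroup.normalizer_eq_top_iff.mpr hKn] at h1
    exact Subgroup.normalizer_eq_top_iff.mp (top_le_iff.mp h1)
  have hKodd : Odd (Nat.card K) := hodd.of_dvd_nat (Subgroup.card_subgroup_dvd_card K)
  let π : G →* G ⧸ F := QuotientGroup.mk' F
  have hπsurj : Function.Surjective π := QuotientGroup.mk'_surjective F
  have hπker : ∀ y : G, π y = 1 ↔ y ∈ F := fun y => QuotientGroup.eq_one_iff y
  set Kb : Subgroup (G ⧸ F) := K.map π with hKb
  set xb : G ⧸ F := π x with hxb
  set Xb : Subgroup (G ⧸ F) := zpowers xb with hXb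
  set R : Subgroup G := zpowers x with hR
  have hxbr : xb ^ r = 1 := by rw [hxb, ← map_pow, hxr, map_one]
  haveI hKbn : Kb.Normal := hKn.map π hπsurj
  have hKbcard : Nat.card Kb ∣ Nat.card K := Subgroup.card_map_dvd K π
  have hcentXb : ∀ t : G ⧸ F, t * xb = xb * t → t ∈ centralizer (Xb : Set (G ⧸ F)) := by
    intro t ht
    rw [mem_centralizer_iff]
    rintro y ⟨k, rfl⟩
    have : Commute t xb := ht
    exact (this.zpow_right k).eq.symm
  have hsolvR : Group.IsSolvable R := by
    have : ∀ a b : R, a * b = b * a := by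
      rintro ⟨a, k, rfl⟩ ⟨b, l, rfl⟩
      apply Subtype.ext
      show x ^ k * x ^ l = x ^ l * x ^ k
      rw [← zpow_add, ← zpow_add, add_comm]
    exact Group.isSolvable_of_comm this
  have hRcard : Nat.card R ∣ r := by
    rw [hR, Nat.card_zpowers]
    exact orderOf_dvd_of_pow_eq_one hxr
  have hcop_of_le : ∀ N : Subgroup G, N ≤ K → (Nat.card R).Coprime (Nat.card N) := by
    intro N hNK
    apply Nat.Coprime.coprime_dvd_left hRcard
    apply Nat.Coprime.coprime_dvd_right (Subgroup.card_dvd_of_le hNK)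
    exact (Nat.Prime.coprime_iff_not_dvd hr).mpr hrK
  -- Part (I): `x̄` centralises every `O_q(K̄)`
  have partI : ∀ (q : ℕ) [Fact q.Prime],
      (Helper23.pCoreOf q Kb : Subgroup (G ⧸ F)) ≤ centralizer (Xb : Set (G ⧸ F)) := by
    intro q hqF
    have hq : q.Prime := hqF.out
    set Qb : Subgroup (G ⧸ F) := Helper23.pCoreOf q Kb with hQb
    have hQbq : IsPGroup q Qb := Cfsg.Agent.Lib.Helper23.isPGroup_pCoreOf q Kb
    have hQbK : Qb ≤ Kb := Cfsg.Agent.Lib.Helper23.pCoreOf_le q Kb
    by_cases hqK : q ∣ Nat.card K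
    swap
    · have hqKb : ¬ q ∣ Nat.card Kb := fun h => hqK (h.trans hKbcard)
      rw [eq_bot_of_isPGroup_of_not_dvd Qb Kb hQbq hQbK hqKb]
      exact bot_le
    have hqr : q ≠ r := by
      rintro rfl
      exact hrK hqK
    have hq2 : q ≠ 2 := by
      rintro rfl
      exact (Nat.not_even_iff_odd.mpr hKodd) (even_iff_two_dvd.mpr hqK)
    haveI hQbn : Qb.Normal := by
      haveI : (pCore q ↥Kb).Characteristic :=
        Cfsg.Agent.Lib.Helper11.pCore_characteristic' q ↥Kb
      have h1 := normalizer_le_normalizer_map_of_characteristic Kb (pCore q ↥Kb)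
      rw [Subgroup.normalizer_eq_top_iff.mpr hKbn] at h1
      exact Subgroup.normalizer_eq_top_iff.mp (top_le_iff.mp h1)
    set N : Subgroup G := Qb.comap π with hN
    haveI hNn : N.Normal := hQbn.comap π
    have hFN : F ≤ N := by
      intro f hf
      show π f ∈ Qb
      rw [(hπker f).mpr hf]
      exact Qb.one_mem
    have hNK : N ≤ K := by
      intro y hy
      have h1 : π y ∈ Kb := hQbK hy
      obtain ⟨k, hk, hky⟩ := h1
      have h2 : π (k⁻¹ * y) = 1 := by rw [map_mul, map_inv, hky, inv_mul_cancel]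
      have h3 : k⁻¹ * y ∈ K := hFK ((hπker _).mp h2)
      have : y = k * (k⁻¹ * y) := by group
      rw [this]
      exact K.mul_mem hk h3
    have hpow : ∀ y ∈ N, ∃ k : ℕ, y ^ (q ^ k) ∈ F := by
      intro y hy
      obtain ⟨k, hk⟩ := hQbq ⟨π y, hy⟩
      refine ⟨k, ?_⟩
      rw [← hπker, map_pow]
      have := congrArg Subtype.val hk
      simpa using this
    have hRN : R ≤ normalizer (N : Set G) := by
      rw [Subgroup.normalizer_eq_top_iff.mpr hNn]
      exact le_top
    obtain ⟨P, hP⟩ := exists_invariant_sylow (p := q) R N hRN (hcop_of_le N hNK) (Or.inl hsolvR)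
    obtain ⟨hQN, hQq, hQi⟩ := sylow_map_facts N P
    set Q : Subgroup G := (P : Subgroup ↥N).map N.subtype with hQ
    have hNQF : N ≤ Q ⊔ F := le_sup_of_sylow_of_pquot N F Q hQN hFN hpow hQi
    have hxQ : x ∈ normalizer (Q : Set G) := hP (mem_zpowers x)
    -- the commutators `[g, x]`, `g ∈ Q`, lie in `F`
    have hcF : ∀ g ∈ Q, g * x * g⁻¹ * x⁻¹ ∈ F := by
      intro g hg
      have hcN : g * x * g⁻¹ * x⁻¹ ∈ N := by
        have h1 : x * g⁻¹ * x⁻¹ ∈ N := hNn.conj_mem _ (N.inv_mem (hQN hg)) x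
        have e : g * x * g⁻¹ * x⁻¹ = g * (x * g⁻¹ * x⁻¹) := by group
        rw [e]
        exact N.mul_mem (hQN hg) h1
      apply mem_fittingOf_of_centralizes K N hKs hNK hpow _ hcN
      intro p hpF hpq
      have hp : p.Prime := hpF.out
      by_cases hpK : p ∣ Nat.card K
      swap
      · rw [eq_bot_of_isPGroup_of_not_dvd (Helper23.pCoreOf p K) K
          (Cfsg.Agent.Lib.Helper23.isPGroup_pCoreOf p K)
          (Cfsg.Agent.Lib.Helper23.pCoreOf_le p K) hpK]
        rw [mem_centralizer_iff]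
        intro h hh
        rw [Subgroup.coe_bot, Set.mem_singleton_iff] at hh
        rw [hh, one_mul, mul_one]
      have hpr : p ≠ r := by
        rintro rfl
        exact hrK hpK
      haveI := hpn p
      have htop : normalizer ((Helper23.pCoreOf p K : Subgroup G) : Set G) = ⊤ :=
        Subgroup.normalizer_eq_top_iff.mpr (hpn p)
      apply hh_transfer_pgroup hp hq hr hpq hpr hqr (Helper23.pCoreOf p K) Q
        (Cfsg.Agent.Lib.Helper23.isPGroup_pCoreOf p K) x (by rw [htop]; trivial) hxQ hxr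
        (fun v hv h => hfix v (Cfsg.Agent.Lib.Helper23.pCoreOf_le_fittingOf p K hv) h) hQq
        (by rw [htop]; exact le_top) (fun h2 => absurd h2 hq2) g hg
    -- conclusion of part (I)
    intro yb hyb
    obtain ⟨y, rfl⟩ := hπsurj yb
    have hyN : y ∈ N := hyb
    have hQF : Q ≤ normalizer (F : Set G) := by
      rw [Subgroup.normalizer_eq_top_iff.mpr hFn]
      exact le_top
    obtain ⟨g, hg, f, hf, hygf⟩ := exists_mul_of_mem_sup_of_le_normalizer Q F hQF y (hNQF hyN)
    have h1 : π y = π g := by rw [hygf, map_mul, (hπker f).mpr hf, mul_one]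
    rw [h1]
    apply hcentXb
    have h2 : π (g * x * g⁻¹ * x⁻¹) = 1 := (hπker _).mpr (hcF g hg)
    rw [map_mul, map_mul, map_mul, map_inv, map_inv] at h2
    show π g * π x = π x * π g
    calc π g * π x = (π g * π x * (π g)⁻¹ * (π x)⁻¹) * π x * π g := by group
      _ = π x * π g := by rw [h2, one_mul]
  -- Part (II)
  have hF2 : fittingOf Kb ≤ centralizer (Xb : Set (G ⧸ F)) :=
    Cfsg.Agent.Lib.Helper23.fittingOf_le_of_pCoreOf_le (fun q hq => partI q)
  have hKbs : Group.IsSolvable Kb := by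
    haveI := hKs
    exact Group.isSolvable_of_surjective (π.subgroupMap_surjective K)
  have hcent := Cfsg.Agent.Lib.Helper23.centralizer_fittingOf_inf_le (H := Kb) (S := Kb) hKbs
    (inf_le_left.trans le_normalizer)
  have hXbN : Xb ≤ normalizer (Kb : Set (G ⧸ F)) := by
    rw [Subgroup.normalizer_eq_top_iff.mpr hKbn]
    exact le_top
  have hcomm1 : ⁅fittingOf Kb, Xb⁆ = ⊥ := by
    rw [commutator_eq_bot_iff_le_centralizer]
    exact hF2
  have h1 : ⁅⁅Xb, fittingOf Kb⁆, Kb⁆ = ⊥ := by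
    rw [commutator_comm Xb, hcomm1]
    exact Subgroup.commutator_bot_left Kb
  have h2 : ⁅⁅fittingOf Kb, Kb⁆, Xb⁆ = ⊥ := by
    have h3 : ⁅fittingOf Kb, Kb⁆ ≤ fittingOf Kb :=
      commutator_le_of_le_normalizer _ _ (Cfsg.Agent.Lib.Helper23.le_normalizer_fittingOf Kb)
    exact le_bot_iff.mp ((Subgroup.commutator_mono h3 le_rfl).trans hcomm1.le)
  have h3 : ⁅⁅Kb, Xb⁆, fittingOf Kb⁆ = ⊥ := Subgroup.commutator_commutator_eq_bot_of_rotate h1 h2
  have h4 : ⁅Kb, Xb⁆ ≤ Kb := commutator_le_of_le_normalizer Kb Xb hXbN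
  have h5 : ⁅Kb, Xb⁆ ≤ centralizer ((fittingOf Kb : Subgroup (G ⧸ F)) : Set (G ⧸ F)) := by
    rw [← commutator_eq_bot_iff_le_centralizer]
    exact h3
  have h6 : ⁅Kb, Xb⁆ ≤ fittingOf Kb := by
    intro t ht
    exact hcent ⟨⟨h4 ht, h5 ht⟩, h4 ht⟩
  have h7 : ⁅⁅Kb, Xb⁆, Xb⁆ = ⊥ := by
    rw [commutator_eq_bot_iff_le_centralizer]
    exact h6.trans hF2
  have hcopb : (Nat.card Xb).Coprime (Nat.card Kb) := by
    have hXbcard : Nat.card Xb ∣ r := by
      rw [hXb, Nat.card_zpowers]
      exact orderOf_dvd_of_pow_eq_one hxbr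
    apply Nat.Coprime.coprime_dvd_left hXbcard
    apply Nat.Coprime.coprime_dvd_right hKbcard
    exact (Nat.Prime.coprime_iff_not_dvd hr).mpr hrK
  have hsolvXb : Group.IsSolvable Xb := by
    have : ∀ a b : Xb, a * b = b * a := by
      rintro ⟨a, k, rfl⟩ ⟨b, l, rfl⟩
      apply Subtype.ext
      show xb ^ k * xb ^ l = xb ^ l * xb ^ k
      rw [← zpow_add, ← zpow_add, add_comm]
    exact Group.isSolvable_of_comm this
  rw [commutator_commutator_eq Xb Kb hXbN hcopb (Or.inl hsolvXb)] at h7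
  intro k hk
  have h8 : ⁅π k, xb⁆ ∈ ⁅Kb, Xb⁆ :=
    Subgroup.commutator_mem_commutator ⟨k, hk, rfl⟩ (mem_zpowers xb)
  rw [h7, Subgroup.mem_bot, commutatorElement_def] at h8
  rw [← hπker, map_mul, map_mul, map_mul, map_inv, map_inv]
  exact h8

end Cfsg.Agent.Lib.Helper24.HH
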