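import Cfsg.Agent.Lib.Helper6.Ls.Defs

/-! # Ls hive (helper6), leaf AB-CONJ: `actsNontriv_map_conj` (helper24) -/

set_option autoImplicit false

namespace Cfsg.Agent.Lib.Helper6.Ls

open Module Cfsg.Agent.Lib.Helper99

section abstract

variable {G : Type*} [Group G] [Finite G] {W : Type*} [AddCommGroup W] [Module ℂ W]
  [FiniteDimensional ℂ W]

theorem abconj_apply_conj (ρ : Representation ℂ G W) (g z : G) (w : W) :
    ρ (g * z * g⁻¹) w = ρ g (ρ z (ρ g⁻¹ w)) := by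
  rw [map_mul, map_mul]
  rfl

theorem abconj_apply_inv_self (ρ : Representation ℂ G W) (g : G) (w : W) :
    ρ g (ρ g⁻¹ w) = w := by
  have h : ρ (g * g⁻¹) w = ρ g (ρ g⁻¹ w) := by
    rw [map_mul]
    rfl
  rw [← h, mul_inv_cancel, map_one]
  rfl

theorem abconj_apply_self_inv (ρ : Representation ℂ G W) (g : G) (w : W) :
    ρ g⁻¹ (ρ g w) = w := by
  have h : ρ (g⁻¹ * g) w = ρ g⁻¹ (ρ g w) := by
    rw [map_mul]
    rfl
  rw [← h, inv_mul_cancel, map_one]
  rfl

/-- AB-CONJ -/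
theorem actsNontriv_map_conj (ρ : Representation ℂ G W) (Z : Subgroup G) (g : G) :
    ActsNontriv ρ (Z.map (MulAut.conj g).toMonoidHom) ⊤ ↔ ActsNontriv ρ Z ⊤ := by
  constructor
  · rintro ⟨z', hz', w, -, hw⟩
    obtain ⟨z, hz, rfl⟩ := Subgroup.mem_map.mp hz'
    refine ⟨z, hz, ρ g⁻¹ w, Submodule.mem_top, ?_⟩
    intro h
    apply hw
    have h1 : (MulAut.conj g).toMonoidHom z = g * z * g⁻¹ := rfl
    rw [h1, abconj_apply_conj, h, abconj_apply_inv_self]
  · rintro ⟨z, hz, w, -, hw⟩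
    refine ⟨(MulAut.conj g).toMonoidHom z, Subgroup.mem_map.mpr ⟨z, hz, rfl⟩, ρ g w,
      Submodule.mem_top, ?_⟩
    intro h
    apply hw
    have h1 : (MulAut.conj g).toMonoidHom z = g * z * g⁻¹ := rfl
    rw [h1, abconj_apply_conj, abconj_apply_self_inv] at h
    have h2 := congrArg (ρ g⁻¹) h
    rwa [abconj_apply_self_inv, abconj_apply_self_inv] at h2

end abstract

end Cfsg.Agent.Lib.Helper6.Ls
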