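import Cfsg.Agent.Lib.Helper6.Ls.Defs

/-! # Ls hive (helper6), leaf AB-STAB: `stable_fixIn_of_normalizes` (helper24) -/

set_option autoImplicit false
set_option linter.unusedSectionVars false

namespace Cfsg.Agent.Lib.Helper6.Ls

open Module Cfsg.Agent.Lib.Helper99

section abstract

variable {G : Type*} [Group G] [Finite G] {W : Type*} [AddCommGroup W] [Module ℂ W]
  [FiniteDimensional ℂ W]

theorem abstab_mem_fixIn_iff (ρ : Representation ℂ G W) (Z : Subgroup G) (U : Submodule ℂ W)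
    (w : W) : w ∈ fixIn ρ Z U ↔ w ∈ U ∧ ∀ z ∈ Z, ρ z w = w := by
  unfold fixIn
  rw [Submodule.mem_inf, Submodule.mem_iInf]
  constructor
  · rintro ⟨hU, h⟩
    refine ⟨hU, fun z hz => ?_⟩
    have := h ⟨z, hz⟩
    rw [LinearMap.mem_ker, LinearMap.sub_apply, sub_eq_zero] at this
    exact this
  · rintro ⟨hU, h⟩
    refine ⟨hU, fun z => ?_⟩
    rw [LinearMap.mem_ker, LinearMap.sub_apply, sub_eq_zero]
    exact h z.1 z.2

theorem abstab_apply_mul (ρ : Representation ℂ G W) (a b : G) (w : W) :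
    ρ (a * b) w = ρ a (ρ b w) := by
  rw [map_mul]
  rfl

/-- AB-STAB -/
theorem stable_fixIn_of_normalizes (ρ : Representation ℂ G W) (Z : Subgroup G) (g : G)
    (hg : ∀ z ∈ Z, g⁻¹ * z * g ∈ Z) : Stable ρ g (fixIn ρ Z ⊤) := by
  intro w hw
  rw [abstab_mem_fixIn_iff] at hw ⊢
  refine ⟨Submodule.mem_top, fun z hz => ?_⟩
  have h1 : z * g = g * (g⁻¹ * z * g) := by group
  rw [← abstab_apply_mul, h1, abstab_apply_mul, hw.2 _ (hg z hz)]

end abstract

end Cfsg.Agent.Lib.Helper6.Ls
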