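import Cfsg.Agent.Lib.Helper6.Ls.Defs

/-! # Ls hive (helper6), leaf AB-TOR: `torus_eigs` (helper24) -/

set_option autoImplicit false
set_option linter.unusedSectionVars false

namespace Cfsg.Agent.Lib.Helper6.Ls

open Module Cfsg.Agent.Lib.Helper99

section abstract

variable {G : Type*} [Group G] [Finite G] {W : Type*} [AddCommGroup W] [Module ℂ W]
  [FiniteDimensional ℂ W]

theorem abtor_mem_eigIn_iff (ρ : Representation ℂ G W) (Z : Subgroup G) (lam : G → ℂ)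
    (U : Submodule ℂ W) (w : W) :
    w ∈ eigIn ρ Z lam U ↔ w ∈ U ∧ ∀ z ∈ Z, ρ z w = lam z • w := by
  unfold eigIn
  rw [Submodule.mem_inf, Submodule.mem_iInf]
  constructor
  · rintro ⟨hU, h⟩
    refine ⟨hU, fun z hz => ?_⟩
    have := h ⟨z, hz⟩
    rw [LinearMap.mem_ker, LinearMap.sub_apply, sub_eq_zero] at this
    exact this
  · rintro ⟨hU, h⟩
    refine ⟨hU, fun z => ?_⟩
    rw [LinearMap.mem_ker, LinearMap.sub_apply, sub_eq_zero]
    exact h z.1 z.2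

theorem abtor_apply_mul (ρ : Representation ℂ G W) (a b : G) (w : W) :
    ρ (a * b) w = ρ a (ρ b w) := by
  rw [map_mul]
  rfl

theorem abtor_apply_inv_self (ρ : Representation ℂ G W) (g : G) (w : W) :
    ρ g⁻¹ (ρ g w) = w := by
  rw [← abtor_apply_mul, inv_mul_cancel, map_one]
  rfl

theorem abtor_apply_ne_zero (ρ : Representation ℂ G W) (g : G) {w : W} (hw : w ≠ 0) :
    ρ g w ≠ 0 := by
  intro h
  apply hw
  have := congrArg (ρ g⁻¹) h
  rwa [abtor_apply_inv_self, map_zero] at this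

/-- `lam` is multiplicative (for quotients) on `Z` as soon as its eigenspace is non-zero. -/
theorem abtor_lam_div (ρ : Representation ℂ G W) (Z : Subgroup G) (lam : G → ℂ)
    (U : Submodule ℂ W) (hne : eigIn ρ Z lam U ≠ ⊥) {a b : G} (ha : a ∈ Z) (hb : b ∈ Z)
    (hab : lam a = lam b) : lam (a * b⁻¹) = 1 := by
  obtain ⟨v, hv, hv0⟩ := (Submodule.ne_bot_iff _).mp hne
  rw [abtor_mem_eigIn_iff] at hv
  have h1 : ρ (a * b⁻¹) v = lam (a * b⁻¹) • v := hv.2 _ (Z.mul_mem ha (Z.inv_mem hb))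
  have hb' : ρ b v = lam b • v := hv.2 b hb
  have ha' : ρ a v = lam a • v := hv.2 a ha
  have h2 : ρ (a * b⁻¹) (ρ b v) = ρ a v := by
    rw [← abtor_apply_mul, inv_mul_cancel_right]
  rw [hb', map_smul, h1, ha', smul_smul, hab] at h2
  have hb0 : lam b ≠ 0 := by
    intro h0
    rw [h0, zero_smul] at hb'
    exact abtor_apply_ne_zero ρ b hv0 hb'
  have h3 : (lam b * lam (a * b⁻¹) - lam b) • v = 0 := by
    rw [sub_smul, h2, sub_self]
  rcases smul_eq_zero.mp h3 with h4 | h4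
  · have h5 : lam b * (lam (a * b⁻¹) - 1) = 0 := by
      rw [mul_sub, mul_one]
      exact h4
    rcases mul_eq_zero.mp h5 with h6 | h6
    · exact absurd h6 hb0
    · exact sub_eq_zero.mp h6
  · exact absurd h4 hv0

/-- conjugation by `t` is onto `Z` when it maps the finite group `Z` into itself. -/
theorem abtor_conj_surj (Z : Subgroup G) (t : G) (htZ : ∀ z ∈ Z, t⁻¹ * z * t ∈ Z) {z0 : G}
    (hz0 : z0 ∈ Z) : ∃ z ∈ Z, t⁻¹ * z * t = z0 := by
  let f : Z → Z := fun z => ⟨t⁻¹ * (z : G) * t, htZ z z.2⟩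
  have hinj : Function.Injective f := by
    intro a b hab
    have h := congrArg Subtype.val hab
    simp only [f] at h
    apply Subtype.ext
    have h2 : t * (t⁻¹ * (a : G) * t) * t⁻¹ = t * (t⁻¹ * (b : G) * t) * t⁻¹ := by rw [h]
    have e1 : t * (t⁻¹ * (a : G) * t) * t⁻¹ = (a : G) := by group
    have e2 : t * (t⁻¹ * (b : G) * t) * t⁻¹ = (b : G) := by group
    rw [e1, e2] at h2
    exact h2
  have hsurj : Function.Surjective f := Finite.injective_iff_surjective.mp hinj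
  obtain ⟨z, hz⟩ := hsurj ⟨z0, hz0⟩
  exact ⟨z, z.2, congrArg Subtype.val hz⟩

/-- AB-TOR -/
theorem torus_eigs (ρ : Representation ℂ G W) (U : Submodule ℂ W) (Z : Subgroup G)
    {κ : Type*} [Fintype κ] (t : κ → G)
    (htZ : ∀ k, ∀ z ∈ Z, (t k)⁻¹ * z * t k ∈ Z)
    (hfree : ∀ k k', k ≠ k' → ∀ z' ∈ Z, ∃ z ∈ Z, (t k)⁻¹ * z * t k * ((t k')⁻¹ * z * t k')⁻¹ = z')
    (hUt : ∀ k, Stable ρ (t k) U)
    (lam : G → ℂ) (hlam : ∃ z ∈ Z, lam z ≠ 1) (hne : eigIn ρ Z lam U ≠ ⊥) :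
    ∃ lams : κ → G → ℂ, (∀ k k', k ≠ k' → ∃ z ∈ Z, lams k z ≠ lams k' z) ∧
      (∀ k, ∃ z ∈ Z, lams k z ≠ 1) ∧ ∀ k, eigIn ρ Z (lams k) U ≠ ⊥ := by
  obtain ⟨z0, hz0, hlz0⟩ := hlam
  refine ⟨fun k z => lam ((t k)⁻¹ * z * t k), ?_, ?_, ?_⟩
  · intro k k' hkk'
    obtain ⟨z, hz, hzz⟩ := hfree k k' hkk' z0 hz0
    refine ⟨z, hz, fun heq => hlz0 ?_⟩
    have := abtor_lam_div ρ Z lam U hne (htZ k z hz) (htZ k' z hz) heq
    rwa [hzz] at this
  · intro k
    obtain ⟨z, hz, hzz⟩ := abtor_conj_surj Z (t k) (htZ k) hz0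
    refine ⟨z, hz, ?_⟩
    show lam ((t k)⁻¹ * z * t k) ≠ 1
    rw [hzz]
    exact hlz0
  · intro k
    obtain ⟨v, hv, hv0⟩ := (Submodule.ne_bot_iff _).mp hne
    rw [abtor_mem_eigIn_iff] at hv
    refine (Submodule.ne_bot_iff _).mpr ⟨ρ (t k) v, ?_, abtor_apply_ne_zero ρ (t k) hv0⟩
    rw [abtor_mem_eigIn_iff]
    refine ⟨hUt k v hv.1, fun z hz => ?_⟩
    have h1 : z * t k = t k * ((t k)⁻¹ * z * t k) := by group
    rw [← abtor_apply_mul, h1, abtor_apply_mul, hv.2 _ (htZ k z hz), map_smul]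

end abstract

end Cfsg.Agent.Lib.Helper6.Ls
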