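import Mathlib
import Cfsg.Agent.Lib.Helper21.S11Defs

/-! # S11 mini-hive (S3911, architect helper21): leaf S11-CONJ (helper24) -/

set_option autoImplicit false

namespace Cfsg.Agent.Lib.Helper21.S11

variable {G : Type*} [Group G] [Finite G]

/-- S11-CONJ. Conjugation commutes with the quotient map. -/
theorem map_conj_mk (M : Subgroup G) [M.Normal] (X : Subgroup G) (g : G) :
    (X.map (MulAut.conj g).toMonoidHom).map (QuotientGroup.mk' M) =
      (X.map (QuotientGroup.mk' M)).map (MulAut.conj (QuotientGroup.mk' M g)).toMonoidHom := by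
  rw [Subgroup.map_map, Subgroup.map_map]
  congr 1

end Cfsg.Agent.Lib.Helper21.S11
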