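import Mathlib
import Cfsg.Agent.Lib.Helper56.FrobApply
import Cfsg.Agent.Lib.Helper24.Omega1
import Cfsg.Agent.Lib.Helper24.Coprime
import Cfsg.Agent.Lib.Helper33.Conj

/-!
# A Frobenius group acting on a `q`-group with prime action (B&G Theorem 15.2, the `Q / Q₀` part)

No quotient groups: the Frobenius fixed point formula of `Helper56.FrobApply` is applied to
pairs of subgroups `B ≤ A ≤ Q` and the two instances are divided.
-/

set_option autoImplicit false
set_option linter.unusedSectionVars false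
set_option linter.unusedVariables false
set_option linter.style.haveILetI false

namespace Cfsg.Agent.Lib.Helper24.BG152

open Subgroup
open Cfsg.Agent.Lib.Helper33
open scoped commutatorElement

variable {G : Type*} [Group G] [Finite G]

/-- elementwise form of `X ≤ N(H)`. -/
theorem fq_conj_mem {X H : Subgroup G} (h : X ≤ normalizer (H : Set G)) :
    ∀ x ∈ X, ∀ y ∈ H, x * y * x⁻¹ ∈ H := by
  intro x hx y hy
  exact (mem_normalizer_iff.mp (h hx) y).mp hy

/-- `X ≤ N(H)` from the elementwise form. -/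
theorem fq_le_normalizer {X H : Subgroup G} (h : ∀ x ∈ X, ∀ y ∈ H, x * y * x⁻¹ ∈ H) :
    X ≤ normalizer (H : Set G) := by
  intro x hx
  rw [mem_normalizer_iff]
  intro y
  constructor
  · exact h x hx y
  · intro hy
    have := h x⁻¹ (X.inv_mem hx) _ hy
    have e : x⁻¹ * (x * y * x⁻¹) * x⁻¹⁻¹ = y := by group
    rwa [e] at this

theorem fq_norm_inf {X A B : Subgroup G} (hA : X ≤ normalizer (A : Set G))
    (hB : X ≤ normalizer (B : Set G)) : X ≤ normalizer ((A ⊓ B : Subgroup G) : Set G) := by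
  intro x hx
  rw [← cj_eq_self_iff, cj_inf, cj_eq_self_iff.mpr (hA hx), cj_eq_self_iff.mpr (hB hx)]

theorem fq_norm_sup {X A B : Subgroup G} (hA : X ≤ normalizer (A : Set G))
    (hB : X ≤ normalizer (B : Set G)) : X ≤ normalizer ((A ⊔ B : Subgroup G) : Set G) := by
  intro x hx
  rw [← cj_eq_self_iff, cj_sup, cj_eq_self_iff.mpr (hA hx), cj_eq_self_iff.mpr (hB hx)]

theorem fq_norm_centralizer {X D : Subgroup G} (hD : X ≤ normalizer (D : Set G)) :
    X ≤ normalizer ((centralizer (D : Set G) : Subgroup G) : Set G) := by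
  intro x hx
  rw [← cj_eq_self_iff, ← centralizer_cj, cj_eq_self_iff.mpr (hD hx)]

theorem fq_centralizer_zpowers (x : G) :
    centralizer ((zpowers x : Subgroup G) : Set G) = centralizer ({x} : Set G) := by
  apply le_antisymm
  · exact centralizer_le (by
      intro y hy
      rw [Set.mem_singleton_iff] at hy
      rw [hy]
      exact mem_zpowers x)
  · intro g hg
    rw [mem_centralizer_iff] at hg ⊢
    intro y hy
    obtain ⟨n, rfl⟩ := mem_zpowers_iff.mp hy
    have h1 : x * g = g * x := hg x (Set.mem_singleton x)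
    have h2 : Commute x g := h1
    exact (h2.zpow_left n).eq

/-- **Two-subgroup Frobenius formula.** -/
theorem fq_pair (D E A B : Subgroup G) (hE1 : E ≠ ⊥)
    (hED : ∀ e ∈ E, ∀ d ∈ D, e * d * e⁻¹ ∈ D)
    (hfpf : ∀ e ∈ E, e ≠ 1 → ∀ d ∈ D, e * d = d * e → d = 1)
    (hA : ∀ x ∈ D ⊔ E, ∀ h ∈ A, x * h * x⁻¹ ∈ A)
    (hB : ∀ x ∈ D ⊔ E, ∀ h ∈ B, x * h * x⁻¹ ∈ B)
    (hsA : Group.IsSolvable A) (hsB : Group.IsSolvable B)
    (hcA : (Nat.card A).Coprime (Nat.card ↥(D ⊔ E)))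
    (hcB : (Nat.card B).Coprime (Nat.card ↥(D ⊔ E)))
    (hBA : B ≤ A) (hAB : A ⊓ centralizer (D : Set G) ≤ B) :
    Nat.card A * Nat.card ↥(B ⊓ centralizer (E : Set G)) ^ Nat.card E
      = Nat.card B * Nat.card ↥(A ⊓ centralizer (E : Set G)) ^ Nat.card E := by
  have hfA := Cfsg.Agent.Lib.Helper56.FrobApply.frobenius_formula D E A hE1 hED hfpf hA hsA hcA
  have hfB := Cfsg.Agent.Lib.Helper56.FrobApply.frobenius_formula D E B hE1 hED hfpf hB hsB hcB
  have e1 : A ⊓ centralizer (D : Set G) = B ⊓ centralizer (D : Set G) :=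
    le_antisymm (le_inf hAB inf_le_right) (inf_le_inf_right _ hBA)
  have e2 : A ⊓ centralizer ((D ⊔ E : Subgroup G) : Set G)
      = B ⊓ centralizer ((D ⊔ E : Subgroup G) : Set G) := by
    apply le_antisymm
    · refine le_inf ?_ inf_le_right
      refine le_trans ?_ hAB
      exact inf_le_inf_left _ (centralizer_le (by
        intro d hd; exact (le_sup_left : D ≤ D ⊔ E) hd))
    · exact inf_le_inf_right _ hBA
  rw [e1, e2] at hfA
  set x := Nat.card ↥(B ⊓ centralizer ((D ⊔ E : Subgroup G) : Set G)) ^ Nat.card E with hx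
  set y := Nat.card ↥(B ⊓ centralizer (D : Set G)) with hy
  set a := Nat.card ↥(A ⊓ centralizer (E : Set G)) ^ Nat.card E with ha
  set b := Nat.card ↥(B ⊓ centralizer (E : Set G)) ^ Nat.card E with hb
  have hxpos : 0 < x := pow_pos Nat.card_pos _
  have hypos : 0 < y := Nat.card_pos
  have hxy : 0 < x * y := Nat.mul_pos hxpos hypos
  apply Nat.eq_of_mul_eq_mul_left hxy
  calc x * y * (Nat.card A * b) = (x * Nat.card A) * (b * y) := by ring
    _ = (a * y) * (x * Nat.card B) := by rw [hfA, hfB]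
    _ = x * y * (Nat.card B * a) := by ring

/-- The packaged key lemma: a `D`,`K`-invariant pair `B < A ≤ Q` with `C_A(D) ≤ B`. -/
theorem fq_key {q : ℕ} [Fact q.Prime] (Q D K : Subgroup G) (hQ : IsPGroup q Q)
    (hKD : K ≤ normalizer (D : Set G)) (hK1 : K ≠ ⊥)
    (hfpf : ∀ k ∈ K, k ≠ 1 → ∀ d ∈ D, k * d = d * k → d = 1)
    (hcop : (Nat.card Q).Coprime (Nat.card ↥(D ⊔ K)))
    (hpr : ∀ k ∈ K, k ≠ 1 → Q ⊓ centralizer ({k} : Set G) = Q ⊓ centralizer (K : Set G))
    (hq : Nat.card ↥(Q ⊓ centralizer (K : Set G)) = q)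
    (p₁ : ℕ) (k₁ : G) (hk₁ : k₁ ∈ K) (hk₁1 : k₁ ≠ 1) (hp₁ : Nat.card (zpowers k₁) = p₁)
    (A B : Subgroup G) (hAQ : A ≤ Q) (hBA : B ≤ A)
    (hA : D ⊔ K ≤ normalizer (A : Set G)) (hB : D ⊔ K ≤ normalizer (B : Set G))
    (hAB : A ⊓ centralizer (D : Set G) ≤ B) (hne : B ≠ A) :
    Nat.card K = p₁ ∧ Nat.card A = Nat.card B * q ^ Nat.card K ∧
      Q ⊓ centralizer (K : Set G) ≤ A ∧ B ⊓ centralizer (K : Set G) = ⊥ := by
  have hqp : q.Prime := Fact.out
  have hBQ : B ≤ Q := le_trans hBA hAQ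
  have hED : ∀ e ∈ K, ∀ d ∈ D, e * d * e⁻¹ ∈ D := fq_conj_mem hKD
  have hsolv : ∀ X : Subgroup G, X ≤ Q → Group.IsSolvable X := by
    intro X hX
    haveI : Group.IsNilpotent X := (hQ.to_le hX).isNilpotent
    infer_instance
  have hcopX : ∀ X : Subgroup G, X ≤ Q → ∀ Y : Subgroup G, Y ≤ D ⊔ K →
      (Nat.card X).Coprime (Nat.card Y) := by
    intro X hX Y hY
    exact Nat.Coprime.coprime_dvd_left (Subgroup.card_dvd_of_le hX)
      (Nat.Coprime.coprime_dvd_right (Subgroup.card_dvd_of_le hY) hcop)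
  -- formula for K
  have h1 := fq_pair D K A B hK1 hED hfpf (fq_conj_mem hA) (fq_conj_mem hB)
    (hsolv A hAQ) (hsolv B hBQ) (hcopX A hAQ _ le_rfl) (hcopX B hBQ _ le_rfl) hBA hAB
  -- formula for E₁
  set E₁ : Subgroup G := zpowers k₁ with hE₁
  have hE₁K : E₁ ≤ K := by rw [hE₁, zpowers_le]; exact hk₁
  have hE₁1 : E₁ ≠ ⊥ := by
    rw [hE₁, Ne, zpowers_eq_bot]; exact hk₁1
  have hDE : D ⊔ E₁ ≤ D ⊔ K := sup_le_sup_left hE₁K D
  have h2 := fq_pair D E₁ A B hE₁1 (fun e he => hED e (hE₁K he))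
    (fun e he => hfpf e (hE₁K he))
    (fq_conj_mem (le_trans hDE hA)) (fq_conj_mem (le_trans hDE hB))
    (hsolv A hAQ) (hsolv B hBQ) (hcopX A hAQ _ hDE) (hcopX B hBQ _ hDE) hBA hAB
  have hcE : ∀ X : Subgroup G, X ≤ Q →
      X ⊓ centralizer (E₁ : Set G) = X ⊓ centralizer (K : Set G) := by
    intro X hX
    rw [hE₁, fq_centralizer_zpowers]
    have e1 : X ⊓ centralizer ({k₁} : Set G) = X ⊓ (Q ⊓ centralizer ({k₁} : Set G)) := by
      rw [← inf_assoc, inf_of_le_left hX]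
    have e2 : X ⊓ centralizer (K : Set G) = X ⊓ (Q ⊓ centralizer (K : Set G)) := by
      rw [← inf_assoc, inf_of_le_left hX]
    rw [e1, e2, hpr k₁ hk₁ hk₁1]
  rw [hcE A hAQ, hcE B hBQ, hp₁] at h2
  -- the numbers a, b
  set a := Nat.card ↥(A ⊓ centralizer (K : Set G)) with ha
  set b := Nat.card ↥(B ⊓ centralizer (K : Set G)) with hb
  have haq : a ∣ q := by
    rw [← hq]; exact Subgroup.card_dvd_of_le (inf_le_inf_right _ hAQ)
  have hba : b ∣ a := Subgroup.card_dvd_of_le (inf_le_inf_right _ hBA)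
  have hlt : Nat.card B ≠ Nat.card A := by
    intro h
    exact hne (Subgroup.eq_of_le_of_card_ge hBA (le_of_eq h.symm))
  have hBpos : 0 < Nat.card B := Nat.card_pos
  rcases (Nat.dvd_prime hqp).mp haq with ha1 | haq'
  · -- a = 1, so b = 1
    exfalso
    have hb1 : b = 1 := by rw [ha1] at hba; exact Nat.dvd_one.mp hba
    rw [ha1, hb1] at h1
    simp at h1
    exact hlt h1.symm
  · rw [haq'] at hba h1 h2
    rcases (Nat.dvd_prime hqp).mp hba with hb1 | hbq
    · rw [hb1] at h1 h2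
      simp only [one_pow, mul_one] at h1 h2
      have hpow : q ^ Nat.card K = q ^ p₁ := by
        have : Nat.card B * q ^ Nat.card K = Nat.card B * q ^ p₁ := by rw [← h1, ← h2]
        exact Nat.eq_of_mul_eq_mul_left hBpos this
      have hn : Nat.card K = p₁ := Nat.pow_right_injective hqp.two_le hpow
      refine ⟨hn, h1, ?_, ?_⟩
      · have : A ⊓ centralizer (K : Set G) = Q ⊓ centralizer (K : Set G) := by
          apply Subgroup.eq_of_le_of_card_ge (inf_le_inf_right _ hAQ)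
          rw [hq, ← haq']
        rw [← this]; exact inf_le_left
      · exact Subgroup.card_eq_one.mp hb1
    · exfalso
      rw [hbq] at h1
      have hqpos : 0 < q ^ Nat.card K := pow_pos hqp.pos _
      exact hlt (Nat.eq_of_mul_eq_mul_right hqpos h1).symm

/-- **A Frobenius group `D ⋊ K` acting on a `q`-group `Q` with `C_Q(k) = C_Q(K)` of order `q`
for all `k ∈ K#` and `C_Q(D) ≠ Q`.**  Then `|K|` is prime, `|Q| = |C_Q(D)| q ^ |K|`,
`Q / C_Q(D)` is elementary abelian and no `D`,`K`-invariant subgroup lies strictly between. -/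
theorem frob_qgroup {q : ℕ} [Fact q.Prime] (Q D K : Subgroup G) (hQ : IsPGroup q Q)
    (hDQ : D ≤ normalizer (Q : Set G)) (hKQ : K ≤ normalizer (Q : Set G))
    (hKD : K ≤ normalizer (D : Set G)) (hK1 : K ≠ ⊥)
    (hfpf : ∀ k ∈ K, k ≠ 1 → ∀ d ∈ D, k * d = d * k → d = 1)
    (hcop : (Nat.card Q).Coprime (Nat.card ↥(D ⊔ K)))
    (hpr : ∀ k ∈ K, k ≠ 1 → Q ⊓ centralizer ({k} : Set G) = Q ⊓ centralizer (K : Set G))
    (hq : Nat.card ↥(Q ⊓ centralizer (K : Set G)) = q)
    (hne : Q ⊓ centralizer (D : Set G) ≠ Q) :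
    (Nat.card K).Prime ∧
      Nat.card Q = Nat.card ↥(Q ⊓ centralizer (D : Set G)) * q ^ Nat.card K ∧
      (∀ a ∈ Q, ∀ b ∈ Q, a ^ q ∈ Q ⊓ centralizer (D : Set G) ∧
        a * b * a⁻¹ * b⁻¹ ∈ Q ⊓ centralizer (D : Set G)) ∧
      Q ≤ normalizer ((Q ⊓ centralizer (D : Set G) : Subgroup G) : Set G) ∧
      D ≤ normalizer ((Q ⊓ centralizer (D : Set G) : Subgroup G) : Set G) ∧
      K ≤ normalizer ((Q ⊓ centralizer (D : Set G) : Subgroup G) : Set G) ∧
      ∀ N : Subgroup G, Q ⊓ centralizer (D : Set G) < N → N < Q →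
        D ≤ normalizer (N : Set G) → K ≤ normalizer (N : Set G) → False := by
  have hqp : q.Prime := Fact.out
  set Q₀ : Subgroup G := Q ⊓ centralizer (D : Set G) with hQ₀
  -- invariance
  have hXQ : D ⊔ K ≤ normalizer (Q : Set G) := sup_le hDQ hKQ
  have hXD : D ⊔ K ≤ normalizer (D : Set G) := sup_le le_normalizer hKD
  have hXC : D ⊔ K ≤ normalizer ((centralizer (D : Set G) : Subgroup G) : Set G) :=
    fq_norm_centralizer hXD
  have hXQ₀ : D ⊔ K ≤ normalizer (Q₀ : Set G) := fq_norm_inf hXQ hXC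
  -- an element of prime order in K
  have hKcard : Nat.card K ≠ 1 := fun h => hK1 (Subgroup.card_eq_one.mp h)
  obtain ⟨p₁, hp₁, hp₁d⟩ := Nat.exists_prime_and_dvd hKcard
  haveI : Fact p₁.Prime := ⟨hp₁⟩
  obtain ⟨k₀, hk₀⟩ := exists_prime_orderOf_dvd_card' (G := K) p₁ hp₁d
  set k₁ : G := (k₀ : G) with hk₁def
  have hk₁K : k₁ ∈ K := k₀.2
  have hord : orderOf k₁ = p₁ := by
    rw [hk₁def, Subgroup.orderOf_coe]; exact hk₀
  have hk₁1 : k₁ ≠ 1 := by
    intro h
    rw [h, orderOf_one] at hord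
    exact hp₁.one_lt.ne hord
  have hcz : Nat.card (zpowers k₁) = p₁ := by rw [Nat.card_zpowers, hord]
  have key := fun (A B : Subgroup G) => fq_key Q D K hQ hKD hK1 hfpf hcop hpr hq p₁ k₁ hk₁K hk₁1 hcz A B
  -- the pair (Q, Q₀)
  obtain ⟨hn, hcard, -, hbot⟩ := key Q Q₀ le_rfl inf_le_left hXQ hXQ₀ le_rfl hne
  have hKs : Q ⊓ centralizer (K : Set G) ≠ ⊥ := by
    intro h
    rw [h, Subgroup.card_bot] at hq
    exact hqp.one_lt.ne hq
  -- the Frattini subgroup
  set P : Subgroup G := (frattini ↥Q).map Q.subtype with hP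
  have hPQ : P ≤ Q := by
    rw [hP]; exact map_subtype_le _
  have hXP : D ⊔ K ≤ normalizer (P : Set G) :=
    le_trans hXQ (Cfsg.Agent.Lib.Helper24.normalizer_le_normalizer_map_of_characteristic Q
      (frattini ↥Q))
  have hPQ₀ : P ≤ Q₀ := by
    by_contra hcon
    have hne1 : P ⊓ centralizer (D : Set G) ≠ P := by
      intro h
      apply hcon
      rw [← h]
      exact inf_le_inf_right _ hPQ
    obtain ⟨-, -, hKsP, -⟩ := key P (P ⊓ centralizer (D : Set G)) hPQ inf_le_left hXP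
      (fq_norm_inf hXP hXC) le_rfl hne1
    have hsupQ : P ⊔ Q₀ ≤ Q := sup_le hPQ inf_le_left
    have hsup : P ⊔ Q₀ = Q := by
      by_contra hne2
      obtain ⟨-, -, -, hb2⟩ := key Q (P ⊔ Q₀) le_rfl hsupQ hXQ (fq_norm_sup hXP hXQ₀)
        (le_sup_right) hne2
      apply hKs
      rw [eq_bot_iff, ← hb2]
      exact le_inf (le_trans hKsP le_sup_left) inf_le_right
    -- non-generators
    have h1 : Q₀.subgroupOf Q ⊔ frattini ↥Q = ⊤ := by
      rw [eq_top_iff]
      intro x _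
      have hx : (x : G) ∈ P ⊔ Q₀ := by rw [hsup]; exact x.2
      have hmap : P ⊔ Q₀ = (Q₀.subgroupOf Q ⊔ frattini ↥Q).map Q.subtype := by
        rw [Subgroup.map_sup, Subgroup.subgroupOf_map_subtype, inf_of_le_left (inf_le_left : Q₀ ≤ Q),
          sup_comm]
      rw [hmap] at hx
      obtain ⟨y, hy, hyx⟩ := hx
      have : y = x := Subtype.ext hyx
      rwa [← this]
    have h2 := frattini_nongenerating h1
    apply hne
    apply le_antisymm inf_le_left
    intro x hx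
    have : (⟨x, hx⟩ : Q) ∈ Q₀.subgroupOf Q := by rw [h2]; exact mem_top _
    exact this
  have hQQ₀ : Q ≤ normalizer (Q₀ : Set G) := by
    apply fq_le_normalizer
    intro x hx y hy
    have hyQ : y ∈ Q := (inf_le_left : Q₀ ≤ Q) hy
    have hc : (⁅(⟨x, hx⟩ : Q), ⟨y, hyQ⟩⁆ : Q) ∈ frattini ↥Q :=
      commutator_le_frattini_of_isPGroup hQ
        (by rw [_root_.commutator_def]; exact commutator_mem_commutator (mem_top _) (mem_top _))
    have hc' : x * y * x⁻¹ * y⁻¹ ∈ P := by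
      rw [hP]
      refine ⟨_, hc, ?_⟩
      simp [commutatorElement_def]
    have e : x * y * x⁻¹ = (x * y * x⁻¹ * y⁻¹) * y := by group
    rw [e]
    exact Q₀.mul_mem (hPQ₀ hc') hy
  refine ⟨hn ▸ hp₁, hcard, ?_, hQQ₀, le_trans le_sup_left hXQ₀, le_trans le_sup_right hXQ₀, ?_⟩
  · intro a ha b hb
    constructor
    · apply hPQ₀
      rw [hP]
      refine ⟨_, pow_mem_frattini_of_isPGroup hQ (⟨a, ha⟩ : Q), ?_⟩
      simp
    · apply hPQ₀
      have hc : (⁅(⟨a, ha⟩ : Q), ⟨b, hb⟩⁆ : Q) ∈ frattini ↥Q :=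
        commutator_le_frattini_of_isPGroup hQ
          (by rw [_root_.commutator_def]; exact commutator_mem_commutator (mem_top _) (mem_top _))
      rw [hP]
      refine ⟨_, hc, ?_⟩
      simp [commutatorElement_def]
  · intro N hN1 hN2 hDN hKN
    have hNQ : N ≤ Q := hN2.le
    have hAB : N ⊓ centralizer (D : Set G) ≤ Q₀ := inf_le_inf_right _ hNQ
    obtain ⟨-, hcN, -, -⟩ := key N Q₀ hNQ hN1.le (sup_le hDN hKN) hXQ₀ hAB hN1.ne
    have : N = Q := Subgroup.eq_of_le_of_card_ge hNQ (by rw [hcN, hcard])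
    exact hN2.ne this

end Cfsg.Agent.Lib.Helper24.BG152
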