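import Mathlib
import Cfsg.Prelude.Def_OddOrderLocal
import Cfsg.Agent.Lib.Helper24.BG152FQ
import Cfsg.Agent.Lib.Helper23.TypeP
import Cfsg.Agent.Lib.Helper48.NilHallA
import Cfsg.Agent.Lib.Helper21.SupNormalizer

/-!
# B&G Theorem 15.2 (S1437): the part in the ambient group

Generic lemmas (no minimal simple input): conjugacy of complements of a normal Hall subgroup of a
solvable subgroup, invariance of `Q ⊓ C(D)` under conjugation, `≤ fittingHallOf`, and the
assembly of the `Q / Q₀` clauses from `frob_qgroup`.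
-/

set_option autoImplicit false
set_option linter.unusedSectionVars false
set_option linter.unusedVariables false
set_option linter.style.haveILetI false

namespace Cfsg.Agent.Lib.Helper24.BG152

open Subgroup Cfsg
open Cfsg.Agent.Lib.Helper33

variable {G : Type*} [Group G] [Finite G]

/-- a normal nilpotent Hall subgroup of `M` lies in `M_F`. -/
theorem a_le_fittingHallOf {M Q : Subgroup G} (hQM : Q ≤ M) (hMQ : M ≤ normalizer (Q : Set G))
    (hnil : Group.IsNilpotent Q) (hcop : (Nat.card Q).Coprime (Q.relIndex M)) :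
    Q ≤ fittingHallOf M := by
  have h1 : Q.subgroupOf M ≤ fittingHall ↥M := by
    unfold fittingHall
    apply le_sSup
    refine ⟨(normal_subgroupOf_iff_le_normalizer hQM).mpr hMQ, ?_, ?_⟩
    · exact (Group.isNilpotent_congr (subgroupOfEquivOfLe hQM)).mpr hnil
    · rw [Nat.card_congr (subgroupOfEquivOfLe hQM).toEquiv]
      exact hcop
  have h2 := Subgroup.map_mono (f := M.subtype) h1
  rw [subgroupOf_map_subtype, inf_of_le_left hQM] at h2
  exact h2

/-- `Q ⊓ C(D)` does not change when `D` is conjugated by an element normalizing `Q` and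
`Q ⊓ C(D)`. -/
theorem a_inf_centralizer_cj {Q D' : Subgroup G} {c : G}
    (hcQ : c ∈ normalizer (Q : Set G))
    (hcQ₀ : c ∈ normalizer ((Q ⊓ centralizer (D' : Set G) : Subgroup G) : Set G)) :
    Q ⊓ centralizer ((cj c D' : Subgroup G) : Set G) = Q ⊓ centralizer (D' : Set G) := by
  rw [centralizer_cj]
  conv_lhs => rw [← cj_eq_self_iff.mpr hcQ]
  rw [← cj_inf]
  exact cj_eq_self_iff.mpr hcQ₀

/-- two complements of a Hall subgroup `Q` of a solvable subgroup `W` are conjugate in `W`. -/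
theorem a_compl_conj {W Q D D' : Subgroup G} (hW : Group.IsSolvable W)
    (hD : IsComplIn Q D W) (hD' : IsComplIn Q D' W)
    (hcop : (Nat.card Q).Coprime (Nat.card D)) : ∃ c ∈ W, cj c D' = D := by
  have h1 := Cfsg.Agent.Lib.Helper23.card_isComplIn hD
  have h2 := Cfsg.Agent.Lib.Helper23.card_isComplIn hD'
  have hQpos : 0 < Nat.card Q := Nat.card_pos
  have hcard : Nat.card D' = Nat.card D := by
    apply Nat.eq_of_mul_eq_mul_left hQpos
    rw [h1, h2]
  have hrel : D.relIndex W = Nat.card Q := by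
    have h3 := Cfsg.Agent.Lib.Helper48.NilHall.relIndex_mul_card hD.2.1
    have hDpos : 0 < Nat.card D := Nat.card_pos
    apply Nat.eq_of_mul_eq_mul_right hDpos
    rw [h3, h1]
  haveI := hW
  exact Cfsg.Agent.Lib.Helper48.NilHall.hall_conj_in W D D' hD.2.1 hD'.2.1 hcard
    (by rw [hrel]; exact hcop.symm)

theorem a_card_compl {W Q D : Subgroup G} (hD : IsComplIn Q D W) :
    Nat.card D = Q.relIndex W := by
  have h1 := Cfsg.Agent.Lib.Helper23.card_isComplIn hD
  have h3 := Cfsg.Agent.Lib.Helper48.NilHall.relIndex_mul_card hD.1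
  have hQpos : 0 < Nat.card Q := Nat.card_pos
  apply Nat.eq_of_mul_eq_mul_left hQpos
  rw [h1, mul_comm, h3]

theorem a_le_sup_of_compl {W Q D : Subgroup G} (hD : IsComplIn Q D W) : W ≤ Q ⊔ D := by
  intro w hw
  obtain ⟨a, ha, b, hb, rfl⟩ := hD.2.2.2 w hw
  exact mul_mem (le_sup_left (a := Q) (b := D) ha) (le_sup_right (a := Q) (b := D) hb)

/-- **Assembly of the complement clauses of S1437** from one `K`-invariant complement `D'`
of the normal Sylow `q`-subgroup `Q` of `W = M_σ`. -/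
theorem a_compl_clauses {q : ℕ} [Fact q.Prime] {M W K Q D' : Subgroup G}
    (hWsolv : Group.IsSolvable W) (hMWK : M ≤ W ⊔ K) (hWM : W ≤ M) (hKM : K ≤ M)
    (hMQ : M ≤ normalizer (Q : Set G)) (hQ : IsPGroup q Q)
    (hD' : IsComplIn Q D' W) (hKD' : K ≤ normalizer (D' : Set G)) (hK1 : K ≠ ⊥)
    (hcopWK : (Nat.card W).Coprime (Nat.card K))
    (hsyl : ¬ q ∣ Q.relIndex W)
    (hpr : ∀ k ∈ K, k ≠ 1 →
      W ⊓ centralizer ({k} : Set G) = W ⊓ centralizer (K : Set G))
    (hKsQ : W ⊓ centralizer (K : Set G) ≤ Q)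
    (hq : Nat.card ↥(W ⊓ centralizer (K : Set G)) = q)
    (hne : ¬ D' ≤ centralizer (Q : Set G))
    (hnilD : ∀ D : Subgroup G, IsComplIn Q D W → Group.IsNilpotent D) :
    (Nat.card K).Prime ∧ ∀ D : Subgroup G, IsComplIn Q D W →
      Group.IsNilpotent D ∧
      M ≤ normalizer ((Q ⊓ centralizer (D : Set G) : Subgroup G) : Set G) ∧
      Q ⊓ centralizer (D : Set G) < Q ∧
      Nat.card Q = Nat.card ↥(Q ⊓ centralizer (D : Set G)) * q ^ Nat.card K ∧
      (∀ a ∈ Q, ∀ b ∈ Q, a ^ q ∈ Q ⊓ centralizer (D : Set G) ∧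
        a * b * a⁻¹ * b⁻¹ ∈ Q ⊓ centralizer (D : Set G)) ∧
      ∀ N : Subgroup G, Q ⊓ centralizer (D : Set G) < N → N < Q →
        ¬ M ≤ normalizer (N : Set G) := by
  have hqp : q.Prime := Fact.out
  have hQW : Q ≤ W := hD'.1
  have hD'W : D' ≤ W := hD'.2.1
  have hD'M : D' ≤ M := le_trans hD'W hWM
  -- regular action of K on D'
  have hfpf : ∀ k ∈ K, k ≠ 1 → ∀ d ∈ D', k * d = d * k → d = 1 := by
    intro k hk hk1 d hd hkd
    have h1 : d ∈ W ⊓ centralizer ({k} : Set G) := by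
      refine ⟨hD'W hd, ?_⟩
      show d ∈ centralizer ({k} : Set G)
      rw [mem_centralizer_iff]
      intro x hx
      rw [Set.mem_singleton_iff] at hx
      rw [hx]; exact hkd
    rw [hpr k hk hk1] at h1
    have h2 : d ∈ Q ⊓ D' := ⟨hKsQ h1, hd⟩
    rw [hD'.2.2.1] at h2
    exact mem_bot.mp h2
  -- coprimality
  have hcardD' : Nat.card D' = Q.relIndex W := a_card_compl hD'
  have hqD' : ¬ q ∣ Nat.card D' := by rw [hcardD']; exact hsyl
  have hqW : q ∣ Nat.card W := by
    rw [← hq]; exact Subgroup.card_dvd_of_le inf_le_left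
  have hqK : ¬ q ∣ Nat.card K := by
    intro h
    have := Nat.dvd_gcd hqW h
    rw [hcopWK] at this
    exact hqp.one_lt.ne' (Nat.dvd_one.mp this)
  have hcop : (Nat.card Q).Coprime (Nat.card ↥(D' ⊔ K)) := by
    obtain ⟨n, hn⟩ := hQ.exists_card_eq
    rw [hn]
    apply Nat.Coprime.pow_left
    rw [Nat.Prime.coprime_iff_not_dvd hqp]
    intro h
    have h2 := dvd_trans h (Cfsg.Agent.Lib.Helper21.card_sup_dvd hKD')
    rcases (Nat.Prime.dvd_mul hqp).mp h2 with h3 | h3
    · exact hqD' h3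
    · exact hqK h3
  have hprQ : ∀ k ∈ K, k ≠ 1 →
      Q ⊓ centralizer ({k} : Set G) = Q ⊓ centralizer (K : Set G) := by
    intro k hk hk1
    have e1 : Q ⊓ centralizer ({k} : Set G) = Q ⊓ (W ⊓ centralizer ({k} : Set G)) := by
      rw [← inf_assoc, inf_of_le_left hQW]
    have e2 : Q ⊓ centralizer (K : Set G) = Q ⊓ (W ⊓ centralizer (K : Set G)) := by
      rw [← inf_assoc, inf_of_le_left hQW]
    rw [e1, e2, hpr k hk hk1]
  have hKs : Q ⊓ centralizer (K : Set G) = W ⊓ centralizer (K : Set G) :=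
    le_antisymm (inf_le_inf_right _ hQW) (le_inf hKsQ inf_le_right)
  have hqQ : Nat.card ↥(Q ⊓ centralizer (K : Set G)) = q := by rw [hKs]; exact hq
  have hne' : Q ⊓ centralizer (D' : Set G) ≠ Q := by
    intro h
    apply hne
    rw [le_centralizer_iff]
    rw [← h]; exact inf_le_right
  obtain ⟨hprime, hcard, helts, hQn, hDn, hKn, hmin⟩ :=
    frob_qgroup Q D' K hQ (le_trans hD'M hMQ) (le_trans hKM hMQ) hKD' hK1 hfpf hcop hprQ hqQ hne'
  have hMn : M ≤ normalizer ((Q ⊓ centralizer (D' : Set G) : Subgroup G) : Set G) := by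
    refine le_trans hMWK (sup_le ?_ hKn)
    exact le_trans (a_le_sup_of_compl hD') (sup_le hQn hDn)
  refine ⟨hprime, ?_⟩
  intro D hD
  have hcardD : Nat.card D = Q.relIndex W := a_card_compl hD
  have hcopQD : (Nat.card Q).Coprime (Nat.card D) := by
    obtain ⟨n, hn⟩ := hQ.exists_card_eq
    rw [hn]
    apply Nat.Coprime.pow_left
    rw [Nat.Prime.coprime_iff_not_dvd hqp, hcardD]
    exact hsyl
  obtain ⟨c, hcW, hcD⟩ := a_compl_conj hWsolv hD hD' hcopQD
  have hcM : c ∈ M := hWM hcW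
  have hQ₀ : Q ⊓ centralizer (D : Set G) = Q ⊓ centralizer (D' : Set G) := by
    rw [← hcD]
    exact a_inf_centralizer_cj (hMQ hcM) (hMn hcM)
  rw [hQ₀]
  refine ⟨hnilD D hD, hMn, lt_of_le_of_ne inf_le_left hne', hcard, helts, ?_⟩
  intro N hN1 hN2 hMN
  exact hmin N hN1 hN2 (le_trans hD'M hMN) (le_trans hKM hMN)

end Cfsg.Agent.Lib.Helper24.BG152
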