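import Mathlib
import Cfsg.Agent.S1350
import Cfsg.Agent.S1426
import Cfsg.Agent.S1429
import Cfsg.Agent.S1430
import Cfsg.Agent.Lib.Helper56.BG147b
import Cfsg.Agent.Lib.Helper10.BG145a
import Cfsg.Agent.Lib.Helper23.FitUniqueB
import Cfsg.Agent.Lib.Helper62.Subnormal
import Cfsg.Agent.Lib.Helper91.BG152Defs
import Cfsg.Agent.Lib.Helper24.BG152A

/-!
# B&G Theorem 15.2, Case B: the glue from a maximal subgroup with `M_F ≠ M_σ` to the abstract
configuration `CfgB` on the type `↥M`
-/

set_option autoImplicit false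
set_option linter.unusedSectionVars false
set_option linter.unusedVariables false
set_option linter.style.haveILetI false

namespace Cfsg.Agent.Lib.Helper24.BG152

open Subgroup Cfsg
open Cfsg.Agent.Lib.Helper33

universe u

variable {G : Type u} [Group G] [Finite G]

theorem g_sigmaCore_le (M : Subgroup G) : sigmaCore M ≤ M := by
  unfold sigmaCore
  exact map_subtype_le _

theorem g_coprime_of_hall {π : Set ℕ} {W M : Subgroup G} (h : IsPiHallOf π W M) :
    (Nat.card W).Coprime (W.relIndex M) := by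
  apply Nat.Coprime.symm
  apply Nat.coprime_of_dvd
  intro k hk hk1 hk2
  exact h.2.2 k hk (h.2.1 k hk hk2) hk1

/-- `M_σ` nilpotent implies `M_F = M_σ`. -/
theorem g_fittingHallOf_eq (hG : IsMinSimpleOddOrder G) {M : Subgroup G} (hM : IsCoatom M)
    (hnil : Group.IsNilpotent (sigmaCore M)) : fittingHallOf M = sigmaCore M := by
  apply le_antisymm (Cfsg.Agent.Lib.Helper10.BG145.fittingHallOf_le_sigmaCore hG hM)
  exact a_le_fittingHallOf (g_sigmaCore_le M) (Cfsg.Agent.Lib.Helper24.BG.le_normalizer_sigmaCore M)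
    hnil (g_coprime_of_hall (Cfsg.Agent.S1350.result hG M hM).1)

/-- `M_σ` not nilpotent implies `M` is of type `P₁`. -/
theorem g_P1 (hG : IsMinSimpleOddOrder G) {M : Subgroup G} (hM : IsCoatom M)
    (hnn : ¬ Group.IsNilpotent (sigmaCore M)) :
    ∀ q : ℕ, q.Prime → q ∣ Nat.card M → q ∉ sigma M → q ∈ kappa M := by
  by_contra hcon
  have hcon' := hcon
  push Not at hcon'
  obtain ⟨q, hq, hqM, hqs, hqk⟩ := hcon'
  haveI : Fact q.Prime := ⟨hq⟩
  have hq' : q ∉ sigma M ∪ kappa M := by
    rintro (h | h)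
    · exact hqs h
    · exact hqk h
  exact hnn (Cfsg.Agent.S1429.result hG M hM hcon q hqM hq'
    (Sylow.nonempty (p := q) (G := ↥M)).some).2.2

/-- the standard facts of Case B. -/
theorem g_caseB (hG : IsMinSimpleOddOrder G) {M K U : Subgroup G} (hM : IsCoatom M)
    (hKU : IsSigmaDecomposition M K U) (hne : fittingHallOf M ≠ sigmaCore M) :
    ¬ Group.IsNilpotent (sigmaCore M) ∧ U = ⊥ ∧ K ≠ ⊥ ∧ IsComplIn K (sigmaCore M) M := by
  have hnn : ¬ Group.IsNilpotent (sigmaCore M) := fun h => hne (g_fittingHallOf_eq hG hM h)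
  have hS := (Cfsg.Agent.S1350.result hG M hM).1
  have hP1 := g_P1 hG hM hnn
  have hc : IsComplIn K (sigmaCore M) M :=
    Cfsg.Agent.Lib.Helper56.BG147.isComplIn_of_P1 hS hP1 hKU.hall
  have hsup : K ⊔ sigmaCore M = M := by
    apply le_antisymm (sup_le hc.1 hc.2.1)
    intro m hm
    obtain ⟨a, ha, b, hb, rfl⟩ := hc.2.2.2 m hm
    exact mul_mem (le_sup_left (a := K) (b := sigmaCore M) ha)
      (le_sup_right (a := K) (b := sigmaCore M) hb)
  have hU : U = ⊥ := by
    have h3 := Cfsg.Agent.Lib.Helper23.card_isComplIn hKU.compl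
    rw [hsup] at h3
    have hMpos : 0 < Nat.card M := Nat.card_pos
    have : Nat.card U = 1 := by
      have h4 : Nat.card U * Nat.card M = 1 * Nat.card M := by rw [h3, one_mul]
      exact Nat.eq_of_mul_eq_mul_right hMpos h4
    exact Subgroup.card_eq_one.mp this
  refine ⟨hnn, hU, ?_, hc⟩
  intro hK
  rw [hK] at hc
  have h26 := (Cfsg.Agent.S1426.result hG M hM ⊥ hc).2.1
  rw [Subgroup.commutator_bot_right] at h26
  apply hnn
  rw [← h26]
  infer_instance

/-- transport of `W ⊓ C(K)` to the type `↥M`. -/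
theorem g_map_inf_centralizer {M W K : Subgroup G} (hWM : W ≤ M) (hKM : K ≤ M) :
    ((W.subgroupOf M) ⊓ centralizer ((K.subgroupOf M : Subgroup ↥M) : Set ↥M)).map M.subtype
      = W ⊓ centralizer (K : Set G) := by
  ext x
  constructor
  · rintro ⟨y, ⟨hyW, hyC⟩, rfl⟩
    refine ⟨hyW, ?_⟩
    show (y : G) ∈ centralizer (K : Set G)
    rw [mem_centralizer_iff]
    intro k hk
    have := mem_centralizer_iff.mp hyC ⟨k, hKM hk⟩ (by
      show (⟨k, hKM hk⟩ : M) ∈ K.subgroupOf M
      rw [mem_subgroupOf]; exact hk)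
    exact congrArg Subtype.val this
  · rintro ⟨hxW, hxC⟩
    refine ⟨⟨x, hWM hxW⟩, ⟨?_, ?_⟩, rfl⟩
    · show (⟨x, hWM hxW⟩ : M) ∈ W.subgroupOf M
      rw [mem_subgroupOf]; exact hxW
    · show (⟨x, hWM hxW⟩ : M) ∈ centralizer ((K.subgroupOf M : Subgroup ↥M) : Set ↥M)
      rw [mem_centralizer_iff]
      intro k hk
      apply Subtype.ext
      exact mem_centralizer_iff.mp hxC (k : G) (mem_subgroupOf.mp hk)

/-- **The abstract configuration of Case B** for a maximal subgroup with `M_F ≠ M_σ`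
(the primality of `|K*|` is a hypothesis: it is S1373). -/
theorem g_cfgB (hG : IsMinSimpleOddOrder G) {M K U : Subgroup G} (hM : IsCoatom M)
    (hKU : IsSigmaDecomposition M K U) (hne : fittingHallOf M ≠ sigmaCore M)
    (hq : (Nat.card ↥(sigmaCore M ⊓ centralizer (K : Set G))).Prime) :
    Cfsg.Agent.Lib.Helper91.BG152.CfgB ((sigmaCore M).subgroupOf M) (K.subgroupOf M)
      (piCore {Nat.card ↥(sigmaCore M ⊓ centralizer (K : Set G))} ↥M)
      (Nat.card ↥(sigmaCore M ⊓ centralizer (K : Set G))) := by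
  obtain ⟨hnn, hU, hK1, hc⟩ := g_caseB hG hM hKU hne
  set W := sigmaCore M with hW
  set q := Nat.card ↥(W ⊓ centralizer (K : Set G)) with hqdef
  have hWM : W ≤ M := hc.2.1
  have hKM : K ≤ M := hc.1
  haveI : Fact q.Prime := ⟨hq⟩
  have hS := (Cfsg.Agent.S1350.result hG M hM).1
  have hmapinj : Function.Injective (Subgroup.map (M.subtype)) :=
    Subgroup.map_injective M.subtype_injective
  refine
    { odd := ?_, solv := ?_, sup := ?_, cop := ?_, K1 := ?_, pa := ?_, qp := hq, cKs := ?_,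
      comm := ?_, nn := ?_, pQ := ?_, maxQ := ?_ }
  · -- odd
    exact Odd.of_dvd_nat hG.1 (Subgroup.card_subgroup_dvd_card M)
  · -- solvable
    exact Cfsg.Agent.Lib.Helper23.isSolvable_of_ne_top hG hM.1
  · -- sup
    rw [← Subgroup.subgroupOf_sup hWM hKM, Subgroup.subgroupOf_eq_top]
    intro m hm
    obtain ⟨a, ha, b, hb, rfl⟩ := hc.2.2.2 m hm
    exact mul_mem (le_sup_right (a := W) (b := K) ha) (le_sup_left (a := W) (b := K) hb)
  · -- coprime
    rw [Nat.card_congr (subgroupOfEquivOfLe hWM).toEquiv,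
      Nat.card_congr (subgroupOfEquivOfLe hKM).toEquiv]
    apply Nat.coprime_of_dvd
    intro k hk hk1 hk2
    exact (hKU.hall.2.1 k hk hk2).2.2.1 (hS.2.1 k hk hk1)
  · -- K ≠ ⊥
    intro h
    apply hK1
    rw [Subgroup.subgroupOf_eq_bot] at h
    rw [eq_bot_iff]
    intro x hx
    exact (disjoint_iff.mp h) ▸ (⟨hx, hKM hx⟩ : x ∈ K ⊓ M)
  · -- prime action
    intro k hk hk1
    have hkK : (k : G) ∈ K := mem_subgroupOf.mp hk
    have hk1' : (k : G) ≠ 1 := fun h => hk1 (Subtype.ext h)
    have h30 := (Cfsg.Agent.S1430.result hG M hM K hKU.hall hK1).1 (k : G) hkK hk1'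
    apply le_antisymm
    · rintro x ⟨hxW, hxC⟩
      refine ⟨hxW, ?_⟩
      have hx1 : (x : G) ∈ W ⊓ centralizer ({(k : G)} : Set G) := by
        refine ⟨mem_subgroupOf.mp hxW, ?_⟩
        show (x : G) ∈ centralizer ({(k : G)} : Set G)
        rw [mem_centralizer_iff]
        intro y hy
        rw [Set.mem_singleton_iff] at hy
        rw [hy]
        exact congrArg Subtype.val (mem_centralizer_iff.mp hxC k (Set.mem_singleton k))
      rw [h30] at hx1
      show x ∈ centralizer ((K.subgroupOf M : Subgroup ↥M) : Set ↥M)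
      rw [mem_centralizer_iff]
      intro y hy
      apply Subtype.ext
      exact mem_centralizer_iff.mp hx1.2 (y : G) (mem_subgroupOf.mp hy)
    · exact inf_le_inf_left _ (centralizer_le (by
        intro y hy
        rw [Set.mem_singleton_iff] at hy
        rw [hy]; exact hk))
  · -- card of Ks
    rw [← Subgroup.card_map_of_injective M.subtype_injective, g_map_inf_centralizer hWM hKM]
  · -- [H, K] = H
    apply hmapinj
    rw [Subgroup.map_commutator, subgroupOf_map_subtype, subgroupOf_map_subtype,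
      inf_of_le_left hWM, inf_of_le_left hKM]
    exact (Cfsg.Agent.S1426.result hG M hM K hc).2.1
  · -- not nilpotent
    intro h
    exact hnn ((Group.isNilpotent_congr (subgroupOfEquivOfLe hWM)).mp h)
  · exact Cfsg.Agent.Lib.Helper62.isPGroup_piCore_singleton q
  · intro N hN hNp
    apply Cfsg.Agent.Lib.Helper62.le_piCore hN
    intro p hp hpd
    obtain ⟨n, hn⟩ := hNp.exists_card_eq
    rw [hn] at hpd
    exact (Nat.prime_dvd_prime_iff_eq hp hq).mp (hp.dvd_of_dvd_pow hpd)

end Cfsg.Agent.Lib.Helper24.BG152
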