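import Mathlib
import Cfsg.Agent.S1365
import Cfsg.Agent.S1414
import Cfsg.Agent.Lib.Helper24.BG152G
import Cfsg.Agent.Lib.Helper21.BG152B0
import Cfsg.Agent.Lib.Helper21.BG152B4
import Cfsg.Agent.Lib.Helper21.BG152B4b
import Cfsg.Agent.Lib.Helper64.BG152B1
import Cfsg.Agent.Lib.Helper19.PNil

/-!
# S1437 (B&G Theorem 15.2, full structure statement): assembly

Parametrised on the three abstract leaves B3 (`map_nilpotent`), B3b (`Q_sylow`), B9
(`no_normal_compl`) of the `BG152` hive and on S1373 (`|K*|` prime).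
-/

set_option autoImplicit false
set_option linter.unusedSectionVars false
set_option linter.unusedVariables false
set_option linter.style.haveILetI false

namespace Cfsg.Agent.Lib.Helper24.BG152

open Subgroup Cfsg
open Cfsg.Agent.Lib.Helper33
open scoped Pointwise

universe u

variable {G : Type u} [Group G] [Finite G]

/-- a normal subgroup of `↥M` maps to a subgroup of `G` normalized by `M`. -/
theorem s_le_normalizer_map {M : Subgroup G} (N : Subgroup ↥M) [hN : N.Normal] :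
    M ≤ normalizer ((N.map M.subtype : Subgroup G) : Set G) := by
  apply fq_le_normalizer
  rintro m hm _ ⟨y, hy, rfl⟩
  exact ⟨⟨m, hm⟩ * y * ⟨m, hm⟩⁻¹, hN.conj_mem y hy ⟨m, hm⟩, rfl⟩

/-- `K'.map ≤ N(D''.map)` from `K' ≤ N(D'')`. -/
theorem s_map_le_normalizer {M : Subgroup G} {K' D'' : Subgroup ↥M}
    (h : K' ≤ normalizer (D'' : Set ↥M)) :
    K'.map M.subtype ≤ normalizer ((D''.map M.subtype : Subgroup G) : Set G) :=
  le_trans (Subgroup.map_mono h) (le_normalizer_map M.subtype)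

theorem s_relIndex_map {M : Subgroup G} (N : Subgroup ↥M) :
    (N.map M.subtype).relIndex M = N.index := by
  unfold relIndex
  congr 1
  exact comap_map_eq_self_of_injective M.subtype_injective N

/-- complement in `↥M` to complement in `G`. -/
theorem s_isComplIn_map {M W : Subgroup G} (hWM : W ≤ M) {Q' D'' : Subgroup ↥M} [hQn : Q'.Normal]
    (hQD : Q' ⊓ D'' = ⊥) (hsup : Q' ⊔ D'' = W.subgroupOf M) :
    IsComplIn (Q'.map M.subtype) (D''.map M.subtype) W := by
  have hQW : Q'.map M.subtype ≤ W := by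
    have : Q' ≤ W.subgroupOf M := hsup ▸ le_sup_left
    have := Subgroup.map_mono (f := M.subtype) this
    rwa [subgroupOf_map_subtype, inf_of_le_left hWM] at this
  have hDW : D''.map M.subtype ≤ W := by
    have : D'' ≤ W.subgroupOf M := hsup ▸ le_sup_right
    have := Subgroup.map_mono (f := M.subtype) this
    rwa [subgroupOf_map_subtype, inf_of_le_left hWM] at this
  refine ⟨hQW, hDW, ?_, ?_⟩
  · rw [← Subgroup.map_inf _ _ _ M.subtype_injective, hQD, Subgroup.map_bot]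
  · intro w hw
    have hw' : (⟨w, hWM hw⟩ : M) ∈ Q' ⊔ D'' := by
      rw [hsup, mem_subgroupOf]; exact hw
    have hset : ((Q' ⊔ D'' : Subgroup ↥M) : Set ↥M) = (Q' : Set ↥M) * (D'' : Set ↥M) :=
      Subgroup.normal_mul Q' D''
    have hw'' : (⟨w, hWM hw⟩ : M) ∈ (Q' : Set ↥M) * (D'' : Set ↥M) := by
      rw [← hset]; exact hw'
    obtain ⟨a, ha, b, hb, hab⟩ := Set.mem_mul.mp hw''
    refine ⟨(a : G), ⟨a, ha, rfl⟩, (b : G), ⟨b, hb, rfl⟩, ?_⟩
    have := congrArg Subtype.val hab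
    simpa using this.symm

/-- complement in `G` to complement in `↥M`. -/
theorem s_compl_subgroupOf {M W Q D : Subgroup G} (hWM : W ≤ M) (hD : IsComplIn Q D W) :
    D.subgroupOf M ≤ W.subgroupOf M ∧ Q.subgroupOf M ⊓ D.subgroupOf M = ⊥ ∧
      Q.subgroupOf M ⊔ D.subgroupOf M = W.subgroupOf M := by
  have hQM : Q ≤ M := le_trans hD.1 hWM
  have hDM : D ≤ M := le_trans hD.2.1 hWM
  refine ⟨?_, ?_, ?_⟩
  · intro x hx
    rw [mem_subgroupOf] at hx ⊢
    exact hD.2.1 hx
  · rw [eq_bot_iff]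
    intro x hx
    have hx1 : x ∈ Q.subgroupOf M := hx.1
    have hx2 : x ∈ D.subgroupOf M := hx.2
    rw [mem_subgroupOf] at hx1 hx2
    have : (x : G) ∈ Q ⊓ D := ⟨hx1, hx2⟩
    rw [hD.2.2.1, mem_bot] at this
    rw [mem_bot]
    exact Subtype.ext this
  · rw [← Subgroup.subgroupOf_sup hQM hDM]
    congr 1
    exact le_antisymm (sup_le hD.1 hD.2.1) (a_le_sup_of_compl hD)

/-- **S1437 from S1373 and the abstract leaves B3, B3b, B9.** -/
theorem s1437_of (hG : IsMinSimpleOddOrder G) {M K U : Subgroup G} (hM : IsCoatom M)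
    (hKU : IsSigmaDecomposition M K U) (hne : fittingHallOf M ≠ sigmaCore M)
    (hq : (Nat.card ↥(sigmaCore M ⊓ centralizer (K : Set G))).Prime)
    (hB3 : Group.IsNilpotent ↥(((sigmaCore M).subgroupOf M).map
      (QuotientGroup.mk' (piCore {Nat.card ↥(sigmaCore M ⊓ centralizer (K : Set G))} ↥M))))
    (hB3b : ¬ Nat.card ↥(sigmaCore M ⊓ centralizer (K : Set G)) ∣
      (piCore {Nat.card ↥(sigmaCore M ⊓ centralizer (K : Set G))} ↥M).index)
    (hB9 : ¬ HasNormalPComplement (Nat.card ↥(sigmaCore M ⊓ centralizer (K : Set G)))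
      ↥((sigmaCore M).subgroupOf M)) :
    U = ⊥ ∧ sigmaCore M = ⁅M, M⁆ ∧ (Nat.card K).Prime ∧
      (Nat.card ↥(sigmaCore M ⊓ centralizer (K : Set G))).Prime ∧
      Nat.card ↥(sigmaCore M ⊓ centralizer (K : Set G)) ∣ Nat.card (fittingHallOf M) ∧
      Nat.card ↥(sigmaCore M ⊓ centralizer (K : Set G)) ∈ beta M ∧
      ∃ Q : Subgroup G, Q ≤ fittingHallOf M ∧ M ≤ normalizer (Q : Set G) ∧
        IsPGroup (Nat.card ↥(sigmaCore M ⊓ centralizer (K : Set G))) Q ∧
        ¬ Nat.card ↥(sigmaCore M ⊓ centralizer (K : Set G)) ∣ Q.relIndex (sigmaCore M) ∧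
        ∀ D : Subgroup G, IsComplIn Q D (sigmaCore M) →
          Group.IsNilpotent D ∧
          M ≤ normalizer ((Q ⊓ centralizer (D : Set G) : Subgroup G) : Set G) ∧
          Q ⊓ centralizer (D : Set G) < Q ∧
          Nat.card Q = Nat.card ↥(Q ⊓ centralizer (D : Set G)) *
            Nat.card ↥(sigmaCore M ⊓ centralizer (K : Set G)) ^ Nat.card K ∧
          (∀ a ∈ Q, ∀ b ∈ Q,
            a ^ Nat.card ↥(sigmaCore M ⊓ centralizer (K : Set G)) ∈
              Q ⊓ centralizer (D : Set G) ∧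
            a * b * a⁻¹ * b⁻¹ ∈ Q ⊓ centralizer (D : Set G)) ∧
          ∀ N : Subgroup G, Q ⊓ centralizer (D : Set G) < N → N < Q →
            ¬ M ≤ normalizer (N : Set G) := by
  obtain ⟨hnn, hU, hK1, hc⟩ := g_caseB hG hM hKU hne
  have h := g_cfgB hG hM hKU hne hq
  set W := sigmaCore M with hW
  set q := Nat.card ↥(W ⊓ centralizer (K : Set G)) with hqdef
  haveI : Fact q.Prime := ⟨hq⟩
  have hWM : W ≤ M := hc.2.1
  have hKM : K ≤ M := hc.1
  have hMW : M ≤ normalizer (W : Set G) := Cfsg.Agent.Lib.Helper24.BG.le_normalizer_sigmaCore M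
  haveI hHn : (W.subgroupOf M).Normal := (normal_subgroupOf_iff_le_normalizer hWM).mpr hMW
  set Q' : Subgroup ↥M := piCore {q} ↥M with hQ'
  haveI hQ'n : Q'.Normal := piCore_normal _ _
  have hB0 : Q' ≤ W.subgroupOf M := Cfsg.Agent.Lib.Helper91.BG152.Q_le_H h
  have hB1 : W.subgroupOf M ⊓ centralizer ((K.subgroupOf M : Subgroup ↥M) : Set ↥M) ≤ Q' :=
    Cfsg.Agent.Lib.Helper91.BG152.Ks_le_Q h
  obtain ⟨D'', hD''H, hQD'', hsup'', hKD''⟩ :=
    Cfsg.Agent.Lib.Helper91.BG152.exists_inv_compl_core h hB3b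
  set Q : Subgroup G := Q'.map M.subtype with hQdef
  set D' : Subgroup G := D''.map M.subtype with hD'def
  have hQM : Q ≤ M := map_subtype_le _
  have hMQ : M ≤ normalizer (Q : Set G) := s_le_normalizer_map Q'
  have hQp : IsPGroup q Q := h.pQ.map _
  have hD' : IsComplIn Q D' W := s_isComplIn_map hWM hQD'' hsup''
  have hQW : Q ≤ W := hD'.1
  have hD'W : D' ≤ W := hD'.2.1
  have hKD' : K ≤ normalizer (D' : Set G) := by
    have := s_map_le_normalizer hKD''
    rwa [subgroupOf_map_subtype, inf_of_le_left hKM] at this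
  have hrelM : Q.relIndex M = Q'.index := s_relIndex_map Q'
  have hsylM : ¬ q ∣ Q.relIndex M := by rw [hrelM]; exact hB3b
  have hsyl : ¬ q ∣ Q.relIndex W := by
    intro hd
    apply hsylM
    rw [← relIndex_mul_relIndex Q W M hQW hWM]
    exact dvd_mul_of_dvd_left hd _
  have hKsQ : W ⊓ centralizer (K : Set G) ≤ Q := by
    have := Subgroup.map_mono (f := M.subtype) hB1
    rwa [g_map_inf_centralizer hWM hKM] at this
  have hpr := (Cfsg.Agent.S1430.result hG M hM K hKU.hall hK1).1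
  have hcopWK : (Nat.card W).Coprime (Nat.card K) := by
    have := h.cop
    rwa [Nat.card_congr (subgroupOfEquivOfLe hWM).toEquiv,
      Nat.card_congr (subgroupOfEquivOfLe hKM).toEquiv] at this
  have hMWK : M ≤ W ⊔ K := by
    intro m hm
    obtain ⟨a, ha, b, hb, rfl⟩ := hc.2.2.2 m hm
    exact mul_mem (le_sup_right (a := W) (b := K) ha) (le_sup_left (a := W) (b := K) hb)
  have hWtop : W ≠ ⊤ := fun hWt => hM.1 (top_le_iff.mp (hWt ▸ hWM))
  have hWsolv : Group.IsSolvable W := Cfsg.Agent.Lib.Helper23.isSolvable_of_ne_top hG hWtop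
  have hQ'eq : Q.subgroupOf M = Q' :=
    comap_map_eq_self_of_injective M.subtype_injective Q'
  have hnilD : ∀ D : Subgroup G, IsComplIn Q D W → Group.IsNilpotent D := by
    intro D hD
    obtain ⟨h1, h2, h3⟩ := s_compl_subgroupOf hWM hD
    rw [hQ'eq] at h2 h3
    have := (Cfsg.Agent.Lib.Helper91.BG152.compl_props_core h hB1 hB3 hB3b h1 h2 h3).1
    exact (Group.isNilpotent_congr (subgroupOfEquivOfLe (le_trans hD.2.1 hWM))).mp this
  have hne' : ¬ D' ≤ centralizer (Q : Set G) := by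
    intro hcen
    apply hnn
    have hQcen : Q ≤ centralizer (D' : Set G) := le_centralizer_iff.mp hcen
    have hWsup : W ≤ Q ⊔ D' := a_le_sup_of_compl hD'
    have hQnil : Group.IsNilpotent Q := hQp.isNilpotent
    have h1 : Q ≤ fittingOf W :=
      Cfsg.Agent.Lib.Helper91.BG152.Ks_le_Q_le_fittingOf hQW (le_trans hWM hMQ) hQnil
    have hWD' : W ≤ normalizer (D' : Set G) :=
      le_trans hWsup (sup_le (le_trans hQcen (centralizer_le_normalizer _)) le_normalizer)
    have h2 : D' ≤ fittingOf W :=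
      Cfsg.Agent.Lib.Helper91.BG152.Ks_le_Q_le_fittingOf hD'W hWD' (hnilD D' hD')
    have h3 : fittingOf W = W :=
      le_antisymm (Cfsg.Agent.Lib.Helper91.BG152.Ks_le_Q_fittingOf_le W)
        (le_trans hWsup (sup_le h1 h2))
    have h4 := Cfsg.Agent.Lib.Helper91.BG152.Ks_le_Q_isNilpotent_fittingOf W
    rwa [h3] at h4
  obtain ⟨hprime, hall⟩ := a_compl_clauses hWsolv hMWK hWM hKM hMQ hQp hD' hKD' hK1 hcopWK hsyl
    hpr hKsQ rfl hne' hnilD
  have hQF : Q ≤ fittingHallOf M := by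
    apply a_le_fittingHallOf hQM hMQ hQp.isNilpotent
    obtain ⟨n, hn⟩ := hQp.exists_card_eq
    rw [hn]
    apply Nat.Coprime.pow_left
    rw [Nat.Prime.coprime_iff_not_dvd hq]
    exact hsylM
  have hqM : q ∣ Nat.card M := Subgroup.card_dvd_of_le (le_trans inf_le_left hWM)
  refine ⟨hU, ?_, hprime, hq, ?_, ?_, Q, hQF, hMQ, hQp, hsyl, hall⟩
  · have := (Cfsg.Agent.S1365.result hG M hM K U hKU hK1).1
    rw [hU, bot_sup_eq] at this
    exact this.symm
  · exact Subgroup.card_dvd_of_le (le_trans hKsQ hQF)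
  · by_contra hβ
    have h14 := ((Cfsg.Agent.S1414.result hG M hM).2.2.2.2 q hq hqM hβ).2.1
    exact hB9 (Cfsg.Agent.Lib.Helper19.hnpc_of_mulEquiv (subgroupOfEquivOfLe hWM).symm h14)

end Cfsg.Agent.Lib.Helper24.BG152
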