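import Mathlib
import Cfsg.Agent.S1437
import Cfsg.Agent.S1351
import Cfsg.Agent.S1352
import Cfsg.Agent.Lib.Helper22.Fitting
import Cfsg.Agent.Lib.Helper23.TypeP
import Cfsg.Agent.Lib.Helper35.HallFusion
import Cfsg.Agent.Lib.Helper81.BG152B6
import Cfsg.Agent.Lib.Helper60.BG152B7core
import Cfsg.Agent.Lib.Helper64.BG152B10x

/-!
# B&G Theorem 15.2: the Case B halves of S1355 and S1356, and generic Fitting facts
-/

set_option autoImplicit false
set_option linter.unusedSectionVars false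
set_option linter.unusedVariables false
set_option linter.style.haveILetI false

namespace Cfsg.Agent.Lib.Helper24.BG152

open Subgroup Cfsg
open Cfsg.Agent.Lib.Helper33

universe u

section generic

variable (X : Type u) [Group X] [Finite X]

/-- `M_F ≤ F(M)`. -/
theorem c_fittingHall_le_fitting : fittingHall X ≤ fittingSubgroup X := by
  unfold fittingHall
  apply sSup_le
  intro N hN
  exact Cfsg.Agent.Lib.Helper22.le_fittingSubgroup hN.1 hN.2.1

/-- `M_F` is nilpotent. -/
theorem c_fittingHall_isNilpotent : Group.IsNilpotent ↥(fittingHall X) := by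
  haveI := Cfsg.Agent.Lib.Helper22.fittingSubgroup_isNilpotent (G := X)
  have h := c_fittingHall_le_fitting X
  haveI : Group.IsNilpotent ↥((fittingHall X).subgroupOf (fittingSubgroup X)) := inferInstance
  exact (Group.isNilpotent_congr (subgroupOfEquivOfLe h)).mp inferInstance

/-- `F(M) ≤ C_M(M_F) M_F` (the Hall decomposition of the nilpotent group `F(M)`). -/
theorem c_fitting_le : fittingSubgroup X ≤
    centralizer ((fittingHall X : Subgroup X) : Set X) ⊔ fittingHall X := by
  set N := fittingHall X with hN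
  set F := fittingSubgroup X with hF
  haveI : N.Normal := fittingHall_normal X
  have hcop : (Nat.card N).Coprime N.index := Cfsg.Agent.Lib.Helper23.fittingHall_coprime X
  haveI hFnil : Group.IsNilpotent ↥F := Cfsg.Agent.Lib.Helper22.fittingSubgroup_isNilpotent
  have hNF : N ≤ F := c_fittingHall_le_fitting X
  intro x hx
  set a := Nat.card N with ha
  set b := N.index with hb
  have hab : a * b = Nat.card X := N.card_mul_index
  have hxab : x ^ (a * b) = 1 := by rw [hab]; exact pow_card_eq_one'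
  have h1 : x ^ b ∈ N := Subgroup.pow_index_mem N x
  have h2 : x ^ a ∈ centralizer (N : Set X) := by
    rw [mem_centralizer_iff]
    intro n hn
    have e1 : (⟨x ^ a, F.pow_mem hx a⟩ : F) ^ b = 1 := by
      apply Subtype.ext
      show (x ^ a) ^ b = 1
      rw [← pow_mul]; exact hxab
    have e2 : (⟨n, hNF hn⟩ : F) ^ a = 1 := by
      apply Subtype.ext
      show n ^ a = 1
      have : (⟨n, hn⟩ : N) ^ Nat.card N = 1 := pow_card_eq_one'
      exact congrArg Subtype.val this
    have := Cfsg.Agent.Lib.Helper35.commute_of_coprime_of_isNilpotent ↥F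
      ⟨x ^ a, F.pow_mem hx a⟩ ⟨n, hNF hn⟩ b a e1 e2 hcop.symm
    exact (congrArg Subtype.val this.eq).symm
  have hbez : (Nat.gcd a b : ℤ) = a * Nat.gcdA a b + b * Nat.gcdB a b := Nat.gcd_eq_gcd_ab a b
  have hg : Nat.gcd a b = 1 := hcop
  rw [hg] at hbez
  have hx1 : x = (x ^ a) ^ (Nat.gcdA a b) * (x ^ b) ^ (Nat.gcdB a b) := by
    rw [← zpow_natCast x a, ← zpow_natCast x b, ← zpow_mul, ← zpow_mul, ← zpow_add]
    rw [← hbez]
    simp
  rw [hx1]
  exact mul_mem (le_sup_left (a := centralizer (N : Set X)) (b := N)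
      ((centralizer (N : Set X)).zpow_mem h2 _))
    (le_sup_right (a := centralizer (N : Set X)) (b := N) (N.zpow_mem h1 _))

/-- a nilpotent quotient image stays nilpotent modulo a larger normal subgroup. -/
theorem c_map_nilpotent_mono {N₁ N₂ : Subgroup X} [N₁.Normal] [N₂.Normal] (h : N₁ ≤ N₂)
    (H : Subgroup X) (hn : Group.IsNilpotent ↥(H.map (QuotientGroup.mk' N₁))) :
    Group.IsNilpotent ↥(H.map (QuotientGroup.mk' N₂)) := by
  let φ : X ⧸ N₁ →* X ⧸ N₂ := QuotientGroup.map N₁ N₂ (MonoidHom.id X) (by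
    intro x hx; exact h hx)
  have hφ : (H.map (QuotientGroup.mk' N₁)).map φ = H.map (QuotientGroup.mk' N₂) := by
    rw [Subgroup.map_map]
    congr 1
  rw [← hφ]
  haveI := hn
  exact Group.nilpotent_of_surjective (φ.subgroupMap (H.map (QuotientGroup.mk' N₁)))
    (φ.subgroupMap_surjective _)

end generic

section ambient

variable {G : Type u} [Group G] [Finite G]

/-- transport of a centralizer from `↥M` to `G`. -/
theorem c_map_centralizer {M : Subgroup G} (N : Subgroup ↥M) :
    (centralizer ((N : Subgroup ↥M) : Set ↥M)).map M.subtype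
      = M ⊓ centralizer ((N.map M.subtype : Subgroup G) : Set G) := by
  ext x
  constructor
  · rintro ⟨y, hy, rfl⟩
    refine ⟨y.2, ?_⟩
    show (y : G) ∈ centralizer ((N.map M.subtype : Subgroup G) : Set G)
    rw [mem_centralizer_iff]
    rintro _ ⟨n, hn, rfl⟩
    exact congrArg Subtype.val (mem_centralizer_iff.mp hy n hn)
  · rintro ⟨hxM, hxC⟩
    refine ⟨⟨x, hxM⟩, ?_, rfl⟩
    show (⟨x, hxM⟩ : M) ∈ centralizer ((N : Subgroup ↥M) : Set ↥M)
    rw [mem_centralizer_iff]
    intro n hn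
    apply Subtype.ext
    exact mem_centralizer_iff.mp hxC (n : G) ⟨n, hn, rfl⟩

/-- `M_F ≤ F(M)`, ambient form. -/
theorem c_fittingHallOf_le_fittingOf (M : Subgroup G) : fittingHallOf M ≤ fittingOf M :=
  Subgroup.map_mono (c_fittingHall_le_fitting ↥M)

/-- `M_F` is nilpotent, ambient form. -/
theorem c_fittingHallOf_isNilpotent (M : Subgroup G) : Group.IsNilpotent ↥(fittingHallOf M) := by
  haveI := c_fittingHall_isNilpotent ↥M
  exact Group.nilpotent_of_mulEquiv
    (Subgroup.equivMapOfInjective (fittingHall ↥M) M.subtype M.subtype_injective)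

/-- `F(M) ≤ C_M(M_F) M_F`, ambient form (every `M`). -/
theorem c_fittingOf_le (M : Subgroup G) :
    fittingOf M ≤ (M ⊓ centralizer ((fittingHallOf M : Subgroup G) : Set G)) ⊔ fittingHallOf M := by
  have := Subgroup.map_mono (f := M.subtype) (c_fitting_le ↥M)
  rw [Subgroup.map_sup, c_map_centralizer] at this
  exact this

/-- a σ-decomposition exists (S1351 + S1352). -/
theorem c_exists_decomp (hG : IsMinSimpleOddOrder G) {M : Subgroup G} (hM : IsCoatom M) :
    ∃ K U : Subgroup G, IsSigmaDecomposition M K U := by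
  obtain ⟨⟨K, hK⟩, hcyc⟩ := Cfsg.Agent.S1351.result hG M hM
  obtain ⟨⟨U, hU⟩, -⟩ := Cfsg.Agent.S1352.result hG M hM K (hcyc K hK) hK
  exact ⟨K, U, hU⟩

/-- **Case B of S1355** (`M_F ≠ M_σ`). -/
theorem s1355_caseB (hG : IsMinSimpleOddOrder G) {M : Subgroup G} (hM : IsCoatom M)
    (hne : fittingHallOf M ≠ sigmaCore M) :
    fittingHallOf M ≠ ⊥ ∧ fittingHallOf M ≤ sigmaCore M ∧ sigmaCore M ≤ ⁅M, M⁆ ∧ ⁅M, M⁆ < M ∧
      Group.IsNilpotent ↥((commutator ↥M).map (QuotientGroup.mk' (fittingHall ↥M))) := by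
  obtain ⟨K, U, hKU⟩ := c_exists_decomp hG hM
  obtain ⟨hnn, hU, hK1, hc⟩ := g_caseB hG hM hKU hne
  have hq := Cfsg.Agent.S1373.result hG M hM K U hKU hK1 hU
  have h := g_cfgB hG hM hKU hne hq
  have h37 := Cfsg.Agent.S1437.result hG M hM K U hKU hne
  have hWM : sigmaCore M ≤ M := hc.2.1
  haveI hHn : ((sigmaCore M).subgroupOf M).Normal :=
    (normal_subgroupOf_iff_le_normalizer hWM).mpr
      (Cfsg.Agent.Lib.Helper24.BG.le_normalizer_sigmaCore M)
  haveI : Fact (Nat.card ↥(sigmaCore M ⊓ centralizer (K : Set G))).Prime := ⟨hq⟩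
  refine ⟨?_, Cfsg.Agent.Lib.Helper10.BG145.fittingHallOf_le_sigmaCore hG hM, h37.2.1.le, ?_, ?_⟩
  · intro hbot
    have := h37.2.2.2.2.1
    rw [hbot, Subgroup.card_bot] at this
    exact hq.one_lt.ne' (Nat.dvd_one.mp this)
  · rw [← h37.2.1]
    apply lt_of_le_of_ne hWM
    intro heq
    apply hK1
    have hKW : K ≤ sigmaCore M := by rw [heq]; exact hc.1
    have : K ≤ K ⊓ sigmaCore M := le_inf le_rfl hKW
    rw [hc.2.2.1] at this
    exact eq_bot_iff.mpr this
  · have hcomm : commutator ↥M = (sigmaCore M).subgroupOf M := by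
      apply Subgroup.map_injective M.subtype_injective
      rw [subgroupOf_map_subtype, inf_of_le_left hWM, _root_.commutator_def, Subgroup.map_commutator,
        ← MonoidHom.range_eq_map, Subgroup.range_subtype]
      exact h37.2.1.symm
    rw [hcomm]
    set Q' : Subgroup ↥M := piCore {Nat.card ↥(sigmaCore M ⊓ centralizer (K : Set G))} ↥M with hQ'
    have hQ'F : Q' ≤ fittingHall ↥M := by
      unfold fittingHall
      apply le_sSup
      refine ⟨piCore_normal _ _, h.pQ.isNilpotent, ?_⟩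
      obtain ⟨n, hn⟩ := h.pQ.exists_card_eq
      rw [hn]
      apply Nat.Coprime.pow_left
      rw [Nat.Prime.coprime_iff_not_dvd hq]
      exact Cfsg.Agent.Lib.Helper91.BG152.Q_sylow h
    exact c_map_nilpotent_mono ↥M hQ'F _ (Cfsg.Agent.Lib.Helper91.BG152.map_nilpotent h)

/-- **Case B of S1356** (`M_F ≠ M_σ`). -/
theorem s1356_caseB (hG : IsMinSimpleOddOrder G) {M : Subgroup G} (hM : IsCoatom M)
    (hne : fittingHallOf M ≠ sigmaCore M) :
    ⁅⁅M, M⁆, ⁅M, M⁆⁆ ≤ fittingOf M ∧
      fittingOf M = (M ⊓ centralizer ((fittingHallOf M : Subgroup G) : Set G)) ⊔ fittingHallOf M ∧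
      ((kappa M).Nonempty → fittingOf M ≤ ⁅M, M⁆) := by
  obtain ⟨K, U, hKU⟩ := c_exists_decomp hG hM
  obtain ⟨hnn, hU, hK1, hc⟩ := g_caseB hG hM hKU hne
  have hq := Cfsg.Agent.S1373.result hG M hM K U hKU hK1 hU
  have h := g_cfgB hG hM hKU hne hq
  have h37 := Cfsg.Agent.S1437.result hG M hM K U hKU hne
  have hWM : sigmaCore M ≤ M := hc.2.1
  haveI hHn : ((sigmaCore M).subgroupOf M).Normal :=
    (normal_subgroupOf_iff_le_normalizer hWM).mpr
      (Cfsg.Agent.Lib.Helper24.BG.le_normalizer_sigmaCore M)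
  haveI : Fact (Nat.card ↥(sigmaCore M ⊓ centralizer (K : Set G))).Prime := ⟨hq⟩
  set Q' : Subgroup ↥M := piCore {Nat.card ↥(sigmaCore M ⊓ centralizer (K : Set G))} ↥M with hQ'
  haveI hQ'n : Q'.Normal := piCore_normal _ _
  have hB7 : Group.IsNilpotent ↥(Q' ⊔ centralizer (Q' : Set ↥M)) :=
    Cfsg.Agent.Lib.Helper91.BG152.B7_core h.qp h.pQ
      (Cfsg.Agent.Lib.Helper91.BG152.centralizer_Q_le h)
      (Cfsg.Agent.Lib.Helper91.BG152.map_nilpotent h)
  haveI hCn : (centralizer (Q' : Set ↥M)).Normal := Subgroup.normal_centralizer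
  have hQCF : Q' ⊔ centralizer (Q' : Set ↥M) ≤ fittingSubgroup ↥M :=
    Cfsg.Agent.Lib.Helper22.le_fittingSubgroup inferInstance hB7
  have hQ'F : Q' ≤ fittingHall ↥M := by
    unfold fittingHall
    apply le_sSup
    refine ⟨piCore_normal _ _, h.pQ.isNilpotent, ?_⟩
    obtain ⟨n, hn⟩ := h.pQ.exists_card_eq
    rw [hn]
    apply Nat.Coprime.pow_left
    rw [Nat.Prime.coprime_iff_not_dvd hq]
    exact Cfsg.Agent.Lib.Helper91.BG152.Q_sylow h
  refine ⟨?_, ?_, ?_⟩
  · rw [← h37.2.1]
    have h1 := le_trans (Cfsg.Agent.Lib.Helper91.BG152.commutator_le h) hQCF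
    have h2 := Subgroup.map_mono (f := M.subtype) h1
    rw [Subgroup.map_commutator, subgroupOf_map_subtype, inf_of_le_left hWM] at h2
    exact h2
  · apply le_antisymm (c_fittingOf_le M)
    apply sup_le _ (c_fittingHallOf_le_fittingOf M)
    have h1 : centralizer ((fittingHall ↥M : Subgroup ↥M) : Set ↥M) ≤ fittingSubgroup ↥M :=
      le_trans (centralizer_le hQ'F) (le_trans le_sup_right hQCF)
    have h2 := Subgroup.map_mono (f := M.subtype) h1
    rw [c_map_centralizer] at h2
    exact h2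
  · intro _
    rw [← h37.2.1]
    have h1 := Cfsg.Agent.Lib.Helper91.BG152.fitting_le_H h
    have h2 := Subgroup.map_mono (f := M.subtype) h1
    rw [subgroupOf_map_subtype, inf_of_le_left hWM] at h2
    exact h2

end ambient

end Cfsg.Agent.Lib.Helper24.BG152
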