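import Mathlib
import Cfsg.Agent.S1415
import Cfsg.Agent.Lib.Helper24.BG152C
import Cfsg.Agent.Lib.Helper76.BGSigU3
import Cfsg.Agent.Lib.Helper19.BG124a

/-!
# B&G Theorem 15.2: Case A (`M_F = M_σ`) of S1355
-/

set_option autoImplicit false
set_option linter.unusedSectionVars false
set_option linter.unusedVariables false
set_option linter.style.haveILetI false

namespace Cfsg.Agent.Lib.Helper24.BG152

open Subgroup Cfsg
open Cfsg.Agent.Lib.Helper33

universe u

variable {G : Type u} [Group G] [Finite G]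

/-- a complement of `M_σ` in `M` exists. -/
theorem d_exists_compl (hG : IsMinSimpleOddOrder G) {M : Subgroup G} (hM : IsCoatom M) :
    ∃ E : Subgroup G, IsComplIn E (sigmaCore M) M := by
  obtain ⟨K, U, hKU⟩ := c_exists_decomp hG hM
  exact ⟨U ⊔ K, Cfsg.Agent.Lib.Helper76.BGSigU.isComplIn_UK (Cfsg.Agent.S1350.result hG M hM).1 hKU⟩

/-- `M_σ ≤ M'` for every maximal subgroup. -/
theorem d_sigmaCore_le_commutator (hG : IsMinSimpleOddOrder G) {M : Subgroup G}
    (hM : IsCoatom M) : sigmaCore M ≤ ⁅M, M⁆ := by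
  obtain ⟨E, hE⟩ := d_exists_compl hG hM
  have h := (Cfsg.Agent.S1426.result hG M hM E hE).2.1
  rw [← h]
  exact commutator_mono hE.2.1 hE.1

/-- `M' < M` for every maximal subgroup. -/
theorem d_commutator_lt (hG : IsMinSimpleOddOrder G) {M : Subgroup G} (hM : IsCoatom M) :
    ⁅M, M⁆ < M := by
  haveI hs : Group.IsSolvable ↥M := Cfsg.Agent.Lib.Helper23.isSolvable_of_ne_top hG hM.1
  have hW1 := Cfsg.Agent.Lib.Helper19.BG124.sigmaCore_ne_bot hG hM
  haveI : Nontrivial ↥M := by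
    rw [Subgroup.nontrivial_iff_ne_bot]
    intro h
    apply hW1
    rw [eq_bot_iff, ← h]
    exact g_sigmaCore_le M
  have h1 := Group.IsSolvable.commutator_lt_top_of_nontrivial ↥M
  have h2 : (commutator ↥M).map M.subtype = ⁅M, M⁆ := by
    rw [_root_.commutator_def, Subgroup.map_commutator, ← MonoidHom.range_eq_map,
      Subgroup.range_subtype]
  rw [← h2]
  apply lt_of_le_of_ne (map_subtype_le _)
  intro heq
  have : (commutator ↥M).map M.subtype = (⊤ : Subgroup ↥M).map M.subtype := by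
    rw [heq, ← MonoidHom.range_eq_map, Subgroup.range_subtype]
  exact h1.ne (Subgroup.map_injective M.subtype_injective this)

/-- the image of `M'` modulo a normal subgroup `N` of `↥M` with `N.map = M_σ` is nilpotent. -/
theorem d_map_commutator_nilpotent (hG : IsMinSimpleOddOrder G) {M : Subgroup G}
    (hM : IsCoatom M) (N : Subgroup ↥M) [N.Normal] (hN : N.map M.subtype = sigmaCore M) :
    Group.IsNilpotent ↥((commutator ↥M).map (QuotientGroup.mk' N)) := by
  obtain ⟨E, hE⟩ := d_exists_compl hG hM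
  have hEnil := (Cfsg.Agent.S1415.result hG M hM E hE).1
  set f := QuotientGroup.mk' N with hf
  set E' : Subgroup ↥M := E.subgroupOf M with hE'
  -- `⊤.map f ≤ E'.map f`
  have htop : (⊤ : Subgroup ↥M).map f ≤ E'.map f := by
    rintro _ ⟨m, -, rfl⟩
    obtain ⟨a, ha, b, hb, hab⟩ := hE.2.2.2 (m : G) m.2
    have hbN : (⟨b, hE.2.1 hb⟩ : M) ∈ N := by
      have : b ∈ N.map M.subtype := by rw [hN]; exact hb
      obtain ⟨y, hy, hyb⟩ := this
      have : y = ⟨b, hE.2.1 hb⟩ := Subtype.ext hyb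
      rwa [← this]
    refine ⟨⟨a, hE.1 ha⟩, ?_, ?_⟩
    · show (⟨a, hE.1 ha⟩ : M) ∈ E.subgroupOf M
      rw [mem_subgroupOf]; exact ha
    · have hm : m = ⟨a, hE.1 ha⟩ * ⟨b, hE.2.1 hb⟩ := Subtype.ext hab
      rw [hm, map_mul]
      have : f ⟨b, hE.2.1 hb⟩ = 1 := by
        rw [hf, QuotientGroup.mk'_apply, QuotientGroup.eq_one_iff]; exact hbN
      rw [this, mul_one]
  have hle : (commutator ↥M).map f ≤ (⁅E', E'⁆).map f := by
    rw [_root_.commutator_def, Subgroup.map_commutator, Subgroup.map_commutator]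
    exact commutator_mono htop htop
  -- `⁅E', E'⁆` is nilpotent
  have hE'nil : Group.IsNilpotent ↥(⁅E', E'⁆ : Subgroup ↥M) := by
    have hmap : (⁅E', E'⁆ : Subgroup ↥M).map M.subtype = ⁅E, E⁆ := by
      rw [Subgroup.map_commutator, subgroupOf_map_subtype, inf_of_le_left hE.1]
    haveI : Group.IsNilpotent ↥((⁅E', E'⁆ : Subgroup ↥M).map M.subtype) := by
      rw [hmap]; exact hEnil
    exact Group.nilpotent_of_mulEquiv
      (Subgroup.equivMapOfInjective (⁅E', E'⁆ : Subgroup ↥M) M.subtype M.subtype_injective).symm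
  haveI hTnil : Group.IsNilpotent ↥((⁅E', E'⁆ : Subgroup ↥M).map f) :=
    Group.nilpotent_of_surjective (f.subgroupMap ⁅E', E'⁆) (f.subgroupMap_surjective _)
  haveI : Group.IsNilpotent
      ↥(((commutator ↥M).map f).subgroupOf ((⁅E', E'⁆ : Subgroup ↥M).map f)) := inferInstance
  exact (Group.isNilpotent_congr (subgroupOfEquivOfLe hle)).mp inferInstance

/-- **Case A of S1355** (`M_F = M_σ`). -/
theorem s1355_caseA (hG : IsMinSimpleOddOrder G) {M : Subgroup G} (hM : IsCoatom M)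
    (heq : fittingHallOf M = sigmaCore M) :
    fittingHallOf M ≠ ⊥ ∧ fittingHallOf M ≤ sigmaCore M ∧ sigmaCore M ≤ ⁅M, M⁆ ∧ ⁅M, M⁆ < M ∧
      Group.IsNilpotent ↥((commutator ↥M).map (QuotientGroup.mk' (fittingHall ↥M))) := by
  refine ⟨?_, heq.le, d_sigmaCore_le_commutator hG hM, d_commutator_lt hG hM, ?_⟩
  · rw [heq]; exact Cfsg.Agent.Lib.Helper19.BG124.sigmaCore_ne_bot hG hM
  · exact d_map_commutator_nilpotent hG hM (fittingHall ↥M) heq

/-- **S1355**, both cases. -/
theorem s1355_all (hG : IsMinSimpleOddOrder G) {M : Subgroup G} (hM : IsCoatom M) :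
    fittingHallOf M ≠ ⊥ ∧ fittingHallOf M ≤ sigmaCore M ∧ sigmaCore M ≤ ⁅M, M⁆ ∧ ⁅M, M⁆ < M ∧
      Group.IsNilpotent ↥((commutator ↥M).map (QuotientGroup.mk' (fittingHall ↥M))) := by
  by_cases h : fittingHallOf M = sigmaCore M
  · exact s1355_caseA hG hM h
  · exact s1355_caseB hG hM h

end Cfsg.Agent.Lib.Helper24.BG152
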