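import Mathlib
import Cfsg.Agent.Lib.Helper22.CgDefs

/-!
# Cg hive (S4257, architect helper22): leaf CG5, core form (helper24)

`cg5_core`: CG5 with CG4 and CG8c as explicit hypotheses.
-/

set_option autoImplicit false

namespace Cfsg.Agent.Lib.Helper22.Cg

open Subgroup

universe u

/-- the elements commuting with `Q` modulo the normal subgroup `N` -/
def cg5D {G : Type u} [Group G] (N : Subgroup G) [hN : N.Normal] (Q : Subgroup G) : Subgroup G where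
  carrier := {g | ∀ y ∈ Q, y⁻¹ * g⁻¹ * y * g ∈ N}
  one_mem' := by
    intro y _
    have : y⁻¹ * (1 : G)⁻¹ * y * 1 = 1 := by group
    rw [this]
    exact N.one_mem
  mul_mem' := by
    intro a b ha hb y hy
    have h1 := hb y hy
    have h2 := hN.conj_mem _ (ha y hy) b⁻¹
    have h3 := N.mul_mem h1 h2
    have e : y⁻¹ * b⁻¹ * y * b * (b⁻¹ * (y⁻¹ * a⁻¹ * y * a) * b⁻¹⁻¹) = y⁻¹ * (a * b)⁻¹ * y * (a * b) := by
      group
    rwa [e] at h3
  inv_mem' := by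
    intro a ha y hy
    have h1 := N.inv_mem (ha y hy)
    have h2 := hN.conj_mem _ h1 a
    have e : a * (y⁻¹ * a⁻¹ * y * a)⁻¹ * a⁻¹ = y⁻¹ * a⁻¹⁻¹ * y * a⁻¹ := by group
    rwa [e] at h2

/-- CG5 (core form): CG4 and CG8c as hypotheses. -/
theorem cg5_core {G : Type u} [Group G] [Finite G]
    (hcg4 : ∀ D : Subgroup G, (∀ g : G, ∃ k : G, k * g * k⁻¹ ∈ D) → D = ⊤)
    (q : ℕ) [Fact q.Prime]
    (hcg8c : ∀ g : G, ¬ q ∣ cs g → ∃ Q : Sylow q G, ∀ y ∈ Q, g * y = y * g)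
    (N : Subgroup G) [N.Normal] (Q : Sylow q G)
    (hdich : ∀ g : G, (¬ q ∣ cs g) ∨ (∀ h : G, g⁻¹ * h⁻¹ * g * h ∈ N)) :
    ∀ y ∈ Q, ∀ g : G, y⁻¹ * g⁻¹ * y * g ∈ N := by
  have hD : cg5D N (Q : Subgroup G) = ⊤ := by
    apply hcg4
    intro g
    rcases hdich g with hq | hc
    · obtain ⟨Q', hQ'⟩ := hcg8c g hq
      obtain ⟨k, hk⟩ := MulAction.exists_smul_eq G Q' Q
      refine ⟨k, ?_⟩
      intro y hy
      have hy' : y ∈ ((k • Q' : Sylow q G) : Subgroup G) := by rw [hk]; exact hy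
      rw [Sylow.coe_subgroup_smul, Subgroup.mem_pointwise_smul_iff_inv_smul_mem] at hy'
      have hy2 : k⁻¹ * y * k ∈ (Q' : Subgroup G) := by
        have e : (MulAut.conj k)⁻¹ • y = k⁻¹ * y * k := by
          rw [MulAut.smul_def, ← map_inv, MulAut.conj_apply]
          group
        rwa [e] at hy'
      have hcomm := hQ' _ hy2
      have hc2 : (k * g * k⁻¹) * y = y * (k * g * k⁻¹) := by
        calc (k * g * k⁻¹) * y = k * (g * (k⁻¹ * y * k)) * k⁻¹ := by group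
          _ = k * ((k⁻¹ * y * k) * g) * k⁻¹ := by rw [hcomm]
          _ = y * (k * g * k⁻¹) := by group
      have e : y⁻¹ * (k * g * k⁻¹)⁻¹ * y * (k * g * k⁻¹) = 1 := by
        calc y⁻¹ * (k * g * k⁻¹)⁻¹ * y * (k * g * k⁻¹)
            = y⁻¹ * (k * g * k⁻¹)⁻¹ * (y * (k * g * k⁻¹)) := by group
          _ = y⁻¹ * (k * g * k⁻¹)⁻¹ * ((k * g * k⁻¹) * y) := by rw [hc2]
          _ = 1 := by group
      rw [e]
      exact N.one_mem
    · refine ⟨1, ?_⟩
      intro y hy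
      have h1 := N.inv_mem (hc y)
      have e : (g⁻¹ * y⁻¹ * g * y)⁻¹ = y⁻¹ * (1 * g * 1⁻¹)⁻¹ * y * (1 * g * 1⁻¹) := by group
      rwa [e] at h1
  intro y hy g
  have hg : g ∈ cg5D N (Q : Subgroup G) := by rw [hD]; exact Subgroup.mem_top g
  exact hg y hy

end Cfsg.Agent.Lib.Helper22.Cg
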