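import Mathlib
import Cfsg.Agent.Lib.Helper22.CgDefs
import Cfsg.Agent.Lib.Helper24.CgCG5core
import Cfsg.Agent.Lib.Helper88.CgCG4

/-!
# Cg hive (S4257, architect helper22): leaf CG5 (helper24)

`cg5` = `cg5_core` applied to the landed CG4 (helper88) and a private copy of CG8c
(`cg5_sylow_centralizes`, fixed point of a Sylow `q`-subgroup on the cosets of the centralizer).
-/

set_option autoImplicit false

namespace Cfsg.Agent.Lib.Helper22.Cg

open Subgroup

universe u

/-- private copy of CG8c (helper24): if `q ∤ |g^G|` then some Sylow `q`-subgroup centralizes `g` -/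
theorem cg5_sylow_centralizes {G : Type u} [Group G] [Finite G] (q : ℕ) [Fact q.Prime] (g : G)
    (hq : ¬ q ∣ cs g) : ∃ Q : Sylow q G, ∀ y ∈ Q, g * y = y * g := by
  obtain ⟨Q0⟩ : Nonempty (Sylow q G) := inferInstance
  have hcard : ¬ q ∣ Nat.card (G ⧸ centralizer ({g} : Set G)) := by
    rw [← Subgroup.index_eq_card]
    exact hq
  obtain ⟨x, hx⟩ := Q0.2.nonempty_fixed_point_of_prime_not_dvd_card
    (G ⧸ centralizer ({g} : Set G)) hcard
  induction x using QuotientGroup.induction_on with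
  | H k =>
    rw [MulAction.mem_fixedPoints] at hx
    refine ⟨k⁻¹ • Q0, ?_⟩
    intro y hy
    have hy' : y ∈ ((k⁻¹ • Q0 : Sylow q G) : Subgroup G) := hy
    rw [Sylow.coe_subgroup_smul, Subgroup.mem_pointwise_smul_iff_inv_smul_mem] at hy'
    replace hy := hy'
    clear hy' 
    have e : (MulAut.conj k⁻¹)⁻¹ • y = k * y * k⁻¹ := by
      rw [MulAut.smul_def, ← map_inv, MulAut.conj_apply]
      group
    rw [e] at hy
    have h1 := hx ⟨k * y * k⁻¹, hy⟩
    have h2 : ((k * y * k⁻¹ * k : G) : G ⧸ centralizer ({g} : Set G)) = (k : G ⧸ centralizer ({g} : Set G)) := h1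
    rw [QuotientGroup.eq, Subgroup.mem_centralizer_iff] at h2
    have h3 := h2 g (Set.mem_singleton g)
    have e2 : (k * y * k⁻¹ * k)⁻¹ * k = y⁻¹ := by group
    rw [e2] at h3
    calc g * y = y * (y⁻¹ * g) * y := by group
      _ = y * (g * y⁻¹) * y := by rw [← h3]
      _ = y * g := by group

/-- CG5. (uses CG4, CG8c, Sylow conjugacy) If every element either has class size prime to `q`
or is central modulo the normal subgroup `N`, then a Sylow `q`-subgroup is central modulo `N`. -/
theorem cg5 {G : Type u} [Group G] [Finite G] (q : ℕ) [Fact q.Prime] (N : Subgroup G) [N.Normal]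
    (Q : Sylow q G)
    (hdich : ∀ g : G, (¬ q ∣ cs g) ∨ (∀ h : G, g⁻¹ * h⁻¹ * g * h ∈ N)) :
    ∀ y ∈ Q, ∀ g : G, y⁻¹ * g⁻¹ * y * g ∈ N :=
  cg5_core (fun D h => cg4 D h) q (fun g hq => cg5_sylow_centralizes q g hq) N Q hdich

end Cfsg.Agent.Lib.Helper22.Cg
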