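import Cfsg.Agent.Lib.Helper46.AhDefs

/-! # Ah hive (helper46, S2538), leaf AH-JOR: `three_dvd_of_cycle` (helper24) -/

set_option autoImplicit false

namespace Cfsg.Agent.Lib.Helper46.Ah

open Cfsg Equiv
open Cfsg.Agent.Lib.Helper15.Hs (resSub mem_resSub)

section leaves

variable {α : Type*} [Fintype α] [DecidableEq α] {π : Set ℕ} (M : Subgroup (Perm α)) (B : Set α)

omit [Fintype α] [DecidableEq α] in
/-- a permutation cycling three points `a → b → c → a` (`a ≠ b`, `a ≠ c`) has order divisible by 3. -/
theorem jor_three_dvd_orderOf (σ : Perm α) {a b c : α} (hab : a ≠ b) (hac : a ≠ c)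
    (h1 : σ a = b) (h2 : σ b = c) (h3 : σ c = a) : 3 ∣ orderOf σ := by
  have hcb : (σ ^ 3) b = b := by
    rw [pow_succ, pow_two, Perm.mul_apply, Perm.mul_apply, h2, h3, h1]
  have hcc : (σ ^ 3) c = c := by
    rw [pow_succ, pow_two, Perm.mul_apply, Perm.mul_apply, h3, h1, h2]
  have hpow : σ ^ orderOf σ = 1 := pow_orderOf_eq_one σ
  have hdm := Nat.div_add_mod (orderOf σ) 3
  have hlt : orderOf σ % 3 < 3 := Nat.mod_lt _ (by norm_num)
  rcases (by omega : orderOf σ % 3 = 0 ∨ orderOf σ % 3 = 1 ∨ orderOf σ % 3 = 2) with h | h | h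
  · exact Nat.dvd_of_mod_eq_zero h
  · exfalso
    have e : orderOf σ = 3 * (orderOf σ / 3) + 1 := by omega
    have h4 : (σ ^ orderOf σ) a = b := by
      rw [e, pow_succ, pow_mul, Perm.mul_apply, h1]
      exact Perm.pow_apply_eq_self_of_apply_eq_self hcb _
    rw [hpow, Perm.one_apply] at h4
    exact hab h4
  · exfalso
    have e : orderOf σ = 3 * (orderOf σ / 3) + 1 + 1 := by omega
    have h4 : (σ ^ orderOf σ) a = c := by
      rw [e, pow_succ, pow_succ, pow_mul, Perm.mul_apply, Perm.mul_apply, h1, h2]
      exact Perm.pow_apply_eq_self_of_apply_eq_self hcc _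
    rw [hpow, Perm.one_apply] at h4
    exact hac h4

omit [DecidableEq α] in
/-- a 3-pretransitive subgroup of `Perm α` (`|α| ≥ 3`) has order divisible by 3. -/
theorem jor_three_dvd_card_of_three_pretransitive
    (h3t : MulAction.IsMultiplyPretransitive M α 3) (hm : 3 ≤ Fintype.card α) :
    3 ∣ Nat.card M := by
  have hne : Nonempty (Fin 3 ↪ α) := by
    apply Function.Embedding.nonempty_of_card_le
    simpa using hm
  obtain ⟨x⟩ := hne
  let y : Fin 3 ↪ α := (finRotate 3).toEmbedding.trans x
  obtain ⟨h, hh⟩ := h3t.exists_smul_eq x y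
  have key : ∀ i : Fin 3, (h : Perm α) (x i) = x (finRotate 3 i) := by
    intro i
    have := congrArg (fun f : Fin 3 ↪ α => f i) hh
    simp only [Function.Embedding.smul_apply, y, Function.Embedding.trans_apply,
      Equiv.coe_toEmbedding] at this
    exact this
  have h1 : (h : Perm α) (x 0) = x 1 := by
    have := key 0; simpa using this
  have h2 : (h : Perm α) (x 1) = x 2 := by
    have := key 1; simpa using this
  have h3 : (h : Perm α) (x 2) = x 0 := by
    have := key 2; simpa using this
  have hab : x 0 ≠ x 1 := fun e => by simpa using x.injective e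
  have hac : x 0 ≠ x 2 := fun e => by simpa using x.injective e
  have hd : 3 ∣ orderOf (h : Perm α) := jor_three_dvd_orderOf _ hab hac h1 h2 h3
  rw [Subgroup.orderOf_coe] at hd
  exact hd.trans (orderOf_dvd_natCard h)

/-- AH-JOR -/
theorem three_dvd_of_cycle (hprim : MulAction.IsPreprimitive M α) {g : Perm α} (hg : g ∈ M)
    (hc : g.IsCycle) {r : ℕ} (hr : r.Prime) (hs : g.support.card = r)
    (hle : r + 2 ≤ Fintype.card α) : 3 ∣ Nat.card M := by
  classical
  have hcard : Nat.card α = Fintype.card α := Nat.card_eq_fintype_card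
  obtain ⟨n, hn⟩ : ∃ n, Nat.card α = r + (n + 2) := ⟨Nat.card α - r - 2, by omega⟩
  have hsc : Set.ncard ((g.support : Set α)ᶜ) = (n + 1) + 1 := by
    apply Nat.add_left_cancel
    rw [Set.ncard_add_ncard_compl, Set.ncard_coe_finset, hs, hn]
  have hr2 := hr.two_le
  have hsn' : (n + 1) + 2 < Nat.card α := by omega
  have hprim' : MulAction.IsPreprimitive (fixingSubgroup M ((g.support : Set α)ᶜ))
      (SubMulAction.ofFixingSubgroup M ((g.support : Set α)ᶜ)) := by
    have := Equiv.Perm.isPretransitive_of_isCycle_mem hc hg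
    apply MulAction.IsPreprimitive.of_prime_card
    have hcard' : Nat.card (SubMulAction.ofFixingSubgroup M ((g.support : Set α)ᶜ)) = r := by
      rw [Nat.card_eq_fintype_card, Fintype.card_subtype, ← hs]
      apply congr_arg
      ext x
      simp [SubMulAction.mem_ofFixingSubgroup_iff]
    rw [hcard']
    exact hr
  have hmp : MulAction.IsMultiplyPreprimitive M α ((n + 1) + 2) :=
    hprim.isMultiplyPreprimitive hsc hsn' hprim'
  have hmt : MulAction.IsMultiplyPretransitive M α ((n + 1) + 2) :=
    MulAction.IsMultiplyPreprimitive.isMultiplyPretransitive ..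
  have h3t : MulAction.IsMultiplyPretransitive M α 3 :=
    MulAction.isMultiplyPretransitive_of_le (m := 3) (n := (n + 1) + 2) (by omega) (by omega)
  exact jor_three_dvd_card_of_three_pretransitive M h3t (by omega)

end leaves

end Cfsg.Agent.Lib.Helper46.Ah
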