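import Cfsg.Agent.Lib.Helper64.BG129NW
import Cfsg.Agent.Lib.Helper64.BG95Glue
import Cfsg.Agent.Lib.Helper68.BG134B
import Cfsg.Agent.Lib.Helper24.GoodPointA
import Cfsg.Agent.S1422

/-!
# BG Lemma 13.12 (nonabelian case), part A: the maximal subgroup over `N_G(A)`

`q ∈ τ₂(M)`, Sylow `q`-subgroups of `G` nonabelian, `A ≤ E` of type `(q,q)`.  Every maximal
subgroup `H ≥ N_G(A)` is different from `M`, has `q ∈ σ(H)`, and `q` is not ideal.
-/

set_option autoImplicit false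
set_option linter.unusedSectionVars false
set_option linter.unusedVariables false
set_option linter.style.haveILetI false

namespace Cfsg.Agent.Lib.Helper24.BG1312

open Subgroup Cfsg Cfsg.Agent.Lib.Helper33 Cfsg.Agent.Lib.Helper63
open Cfsg.Agent.Lib.Helper64.BG127

universe u

variable {G : Type u} [Group G] [Finite G]

/-- the maximal subgroups over `N_G(A)` -/
theorem exists_H (hG : IsMinSimpleOddOrder G) {M E : Subgroup G} (hM : IsCoatom M)
    (hE : IsComplIn E (sigmaCore M) M) {q : ℕ} [hq' : Fact q.Prime] (hq : q ∈ tau2 M)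
    (hS : ∀ S : Sylow q G, ¬ IsMulCommutative (S : Subgroup G)) {A : Subgroup G}
    (hA : A ≤ E ∧ IsElementaryAbelian q A ∧ Nat.card A = q ^ 2) :
    ∃ H : Subgroup G, IsCoatom H ∧ H ≠ M ∧ normalizer (A : Set G) ≤ H ∧ q ∈ sigma H ∧
      ¬ IsIdealPrime q G := by
  have hqp : q.Prime := hq'.out
  have Hy := Cfsg.Agent.Lib.Helper64.BG129N.hyp_of_minSimple hG
  have D := data hG Hy hM hE hq hS hA
  obtain ⟨P, S, hAP, hPM, hPp, hPi, hPc, hΩ, hPS, hSp, hSi, hSna, -⟩ := D.syl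
  obtain ⟨hnid, hmax⟩ := Hy.h08 M hM q hq.2.1 hq.2.2.1 hq.2.2.2
  have hAM : A ≤ M := hA.1.trans hE.1
  have hmaxA := hmax A hAM hA.2.1 hA.2.2
  obtain ⟨hSM, -, y, hyS, hyM, hyA, hy⟩ := exists_outer hA.2.1 hmaxA hPM hPi hAP hPc
    (fun x hx hxp => (hΩ x hx).mp hxp) hSp hPS hSna
  obtain ⟨⟨hEA, hpts⟩, ⟨hCA, hNE, hNA⟩, hbad⟩ := Hy.h18 M hM E hE q hq A hA
  have hA1 : A ≠ ⊥ := by
    intro h
    have h2 := hA.2.2
    rw [h, Subgroup.card_bot] at h2
    have : 1 < q ^ 2 := Nat.one_lt_pow (by norm_num) hqp.one_lt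
    omega
  have hAtop : A ≠ ⊤ := fun h => hM.1 (top_le_iff.mp (h ▸ hAM))
  obtain ⟨H, hH, hNH⟩ := (eq_top_or_exists_le_coatom (normalizer (A : Set G))).resolve_left
    (BG10.normalizer_ne_top hG hA1 hAtop)
  refine ⟨H, hH, ?_, hNH, ?_, hnid⟩
  · rintro rfl; exact hNA hNH
  -- the nonabelian `q`-group `T = ⟨y, A⟩`
  obtain ⟨T, hTdef⟩ : ∃ T : Subgroup G, T = closure ({y} ∪ (A : Set G)) := ⟨_, rfl⟩
  have hyT : y ∈ T := by rw [hTdef]; exact subset_closure (Or.inl rfl)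
  have hAT : A ≤ T := by
    intro a ha; rw [hTdef]; exact subset_closure (Or.inr ha)
  have hTS : T ≤ S := by
    rw [hTdef, closure_le]
    rintro x (hx | hx)
    · rw [Set.mem_singleton_iff] at hx; rw [hx]; exact hyS
    · exact hPS (hAP hx)
  have hTp : IsPGroup q T := hSp.to_le hTS
  have hyN : y ∈ normalizer (A : Set G) :=
    Cfsg.Agent.Lib.Helper24.GoodPoint.mem_normalizer_of_conj_mem y A hyA
  have hTN : T ≤ normalizer (A : Set G) := by
    rw [hTdef, closure_le]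
    rintro x (hx | hx)
    · rw [Set.mem_singleton_iff] at hx; rw [hx]; exact hyN
    · exact le_normalizer hx
  have hTna : ¬ IsMulCommutative T := by
    intro hc
    apply hyM
    apply (hCA.trans inf_le_left)
    rw [mem_centralizer_iff]
    intro a ha
    have := hc.is_comm.comm ⟨a, hAT ha⟩ ⟨y, hyT⟩
    exact congrArg Subtype.val this
  have hU := Cfsg.Agent.S1422.result hG q T hTp hTna
  have hStop : S ≠ ⊤ := Cfsg.Agent.Lib.Helper64.ne_top_of_isPGroup hG hSp
  have hTH : T ≤ H := hTN.trans hNH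
  have hSH : S ≤ H := BG10.le_of_inUniqueMaximal hU hH hTH hStop hTS
  have hS1 : S ≠ ⊥ := by
    intro h
    apply hA1
    rw [eq_bot_iff, ← h]
    exact hAP.trans hPS
  have hNS : normalizer (S : Set G) ≤ H :=
    BG10.le_of_inUniqueMaximal hU hH hTH (BG10.normalizer_ne_top hG hS1 hStop)
      (hTS.trans le_normalizer)
  have hidx : ¬ q ∣ S.relIndex H := fun h => hSi (h.trans (Subgroup.relIndex_dvd_index_of_le hSH))
  obtain ⟨P', hP'⟩ := Cfsg.Agent.Lib.Helper24.exists_sylow_map_eq H S hSH hSp hidx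
  refine ⟨hqp, ?_, P', by rw [hP']; exact hNS⟩
  have h1 : q ∣ Nat.card A := by rw [hA.2.2]; exact dvd_pow_self q (by norm_num)
  exact h1.trans (Subgroup.card_dvd_of_le ((hAP.trans hPS).trans hSH))

end Cfsg.Agent.Lib.Helper24.BG1312
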