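import Cfsg.Agent.Lib.Helper24.BG1312A
import Cfsg.Agent.Lib.Helper70.BG1216b

/-!
# BG Lemma 13.12 (nonabelian case), part B: an invariant Sylow subgroup and a complement

For `P ≤ H` a `σ(H)'`-subgroup normalizing a `q`-subgroup `A ≤ H_σ`, there are a Sylow
`q`-subgroup `S ≥ A` of `H_σ` and a complement `E_H ≥ P` of `H_σ` in `H` normalizing `S`.
-/

set_option autoImplicit false
set_option linter.unusedSectionVars false
set_option linter.unusedVariables false
set_option linter.style.haveILetI false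

namespace Cfsg.Agent.Lib.Helper24.BG1312

open Subgroup Cfsg Cfsg.Agent.Lib.Helper33 Cfsg.Agent.Lib.Helper63

universe u

variable {G : Type u} [Group G] [Finite G]

/-- conjugating a complement by an element of the big group -/
theorem isComplIn_cj {E N M : Subgroup G} (hE : IsComplIn E N M) (hMN : M ≤ normalizer (N : Set G))
    {c : G} (hc : c ∈ M) : IsComplIn (cj c E) N M := by
  obtain ⟨hEM, hNM, hEN, hdec⟩ := hE
  have hcM : cj c M = M := cj_eq_self_of_mem hc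
  have hcN : cj c N = N := cj_eq_self_iff.mpr (hMN hc)
  refine ⟨?_, hNM, ?_, ?_⟩
  · rw [← hcM]; exact cj_mono hEM
  · rw [← hcN, ← cj_inf, hEN, cj_bot]
  · intro m hm
    have h1 : c⁻¹ * m * c ∈ M := M.mul_mem (M.mul_mem (M.inv_mem hc) hm) hc
    obtain ⟨a, ha, b, hb, hab⟩ := hdec _ h1
    refine ⟨c * a * c⁻¹, mem_cj'.mpr ⟨a, ha, rfl⟩, c * b * c⁻¹, ?_, ?_⟩
    · rw [← hcN]; exact mem_cj'.mpr ⟨b, hb, rfl⟩
    · have : c * a * c⁻¹ * (c * b * c⁻¹) = c * (a * b) * c⁻¹ := by group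
      rw [this, ← hab]; group

/-- an invariant Sylow subgroup over `A` and a complement over `P` normalizing it -/
theorem exists_S_E (hG : IsMinSimpleOddOrder G) {H : Subgroup G} (hH : IsCoatom H)
    (hHall : IsPiHallOf (sigma H) (sigmaCore H) H) {q : ℕ} [hq' : Fact q.Prime]
    {P A : Subgroup G} (hPH : P ≤ H)
    (hPcop : (Nat.card P).Coprime (Nat.card (sigmaCore H)))
    (hAσ : A ≤ sigmaCore H) (hAq : IsPGroup q A) (hPA : P ≤ normalizer (A : Set G)) :
    ∃ S EH : Subgroup G, S ≤ sigmaCore H ∧ IsPGroup q S ∧ A ≤ S ∧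
      IsComplIn EH (sigmaCore H) H ∧ P ≤ EH ∧ EH ≤ normalizer (S : Set G) := by
  have hHN : H ≤ normalizer ((sigmaCore H : Subgroup G) : Set G) :=
    Cfsg.Agent.Lib.Helper24.BG.le_normalizer_sigmaCore H
  obtain ⟨E', hE', hPE'⟩ := BG13.exists_compl_ge hG hH.1 hHall hPH hPcop
  have hσtop : sigmaCore H ≠ ⊤ := fun h => hH.1 (top_le_iff.mp (h ▸ hHall.1))
  have hsolv : Group.IsSolvable ↥(sigmaCore H) :=
    Cfsg.Agent.Lib.Helper23.isSolvable_of_ne_top hG hσtop
  have hcopE : (Nat.card E').Coprime (Nat.card (sigmaCore H)) :=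
    Cfsg.Agent.Lib.Helper70.BG1216.coprime_card_compl hHall hE'
  have hE'N : E' ≤ normalizer ((sigmaCore H : Subgroup G) : Set G) := hE'.1.trans hHN
  have hPN : P ≤ normalizer ((sigmaCore H : Subgroup G) : Set G) := hPH.trans hHN
  obtain ⟨S', hS'⟩ := Cfsg.Agent.Lib.Helper24.exists_invariant_sylow (p := q) E' (sigmaCore H)
    hE'N hcopE (Or.inr hsolv)
  obtain ⟨S₁, hAS₁, hPS₁⟩ := Cfsg.Agent.Lib.Helper24.invariant_pSubgroup_le_sylow (p := q) P
    (sigmaCore H) hPN hPcop (Or.inr hsolv) A hAσ hAq hPA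
  obtain ⟨c, hc, hcS⟩ := Cfsg.Agent.Lib.Helper24.invariant_sylow_conj (p := q) P (sigmaCore H)
    hPN hPcop (Or.inr hsolv) S' S₁ (hPE'.trans hS') hPS₁
  obtain ⟨hS₁le, hS₁p, -⟩ := Cfsg.Agent.Lib.Helper24.sylow_map_facts (sigmaCore H) S₁
  have hcH : c ∈ H := hHall.1 hc.1
  refine ⟨(S₁ : Subgroup (sigmaCore H)).map (sigmaCore H).subtype, cj c E', hS₁le, hS₁p, hAS₁,
    isComplIn_cj hE' hHN hcH, ?_, ?_⟩
  · -- `P = cPc⁻¹ ≤ cE'c⁻¹`
    intro x hx
    rw [mem_cj]
    have hcx : c⁻¹ * x * c = x := by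
      have := (mem_centralizer_iff.mp hc.2) x hx
      rw [mul_assoc, this, ← mul_assoc, inv_mul_cancel, one_mul]
    rw [hcx]; exact hPE' hx
  · rw [← hcS, normalizer_cj]
    exact cj_mono hS'

end Cfsg.Agent.Lib.Helper24.BG1312
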