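import Cfsg.Agent.Lib.Helper24.BG1312B
import Cfsg.Agent.Lib.Helper24.Lifting
import Cfsg.Agent.Lib.Helper62.BG13K
import Cfsg.Agent.S0016
import Cfsg.Agent.S1415
import Cfsg.Agent.S1427

/-!
# BG Lemma 13.12 (nonabelian case), part C: the auxiliary lemmas
-/

set_option autoImplicit false
set_option linter.unusedSectionVars false
set_option linter.unusedVariables false
set_option linter.style.haveILetI false

namespace Cfsg.Agent.Lib.Helper24.BG1312

open Subgroup Cfsg Cfsg.Agent.Lib.Helper33 Cfsg.Agent.Lib.Helper63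
open Cfsg.Agent.Lib.Helper64.BG127
open scoped commutatorElement

universe u

variable {G : Type u} [Group G] [Finite G]

/-- `N_G(X) ≤ M` when `M` is the unique maximal subgroup over `C_G(X)` -/
theorem normalizer_le_of_good (hG : IsMinSimpleOddOrder G) {M X : Subgroup G}
    (hX : Good M X) (h1 : X ≠ ⊥) (h2 : X ≠ ⊤) : normalizer (X : Set G) ≤ M := by
  obtain ⟨L, hL, hNL⟩ := (eq_top_or_exists_le_coatom (normalizer (X : Set G))).resolve_left
    (BG10.normalizer_ne_top hG h1 h2)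
  have : L = M := hX.2 L hL ((Subgroup.centralizer_le_normalizer _).trans hNL)
  exact this ▸ hNL

/-- a relative Sylow subgroup of `EH` outside `C` when `EH` is not inside `C` -/
theorem exists_relSylow_not_le {EH C : Subgroup G} (h : ¬ EH ≤ C) :
    ∃ r : ℕ, r.Prime ∧ ∃ R : Subgroup G, R ≤ EH ∧ IsPGroup r R ∧ ¬ r ∣ R.relIndex EH ∧
      ¬ R ≤ C := by
  have h1 : (EH ⊓ C).relIndex EH ≠ 1 := by
    intro h1
    rw [Subgroup.relIndex_eq_one] at h1
    exact h (h1.trans inf_le_right)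
  obtain ⟨r, hr, hrd⟩ := Nat.exists_prime_and_dvd h1
  haveI : Fact r.Prime := ⟨hr⟩
  obtain ⟨R, -, hRE, hRr, hRi⟩ :=
    Cfsg.Agent.Lib.Helper32.exists_relSylow_ge (p := r) (bot_le : (⊥ : Subgroup G) ≤ EH)
      IsPGroup.of_bot
  refine ⟨r, hr, R, hRE, hRr, hRi, ?_⟩
  intro hRC
  apply hRi
  have hRD : R ≤ EH ⊓ C := le_inf hRE hRC
  rw [← Subgroup.relIndex_mul_relIndex R (EH ⊓ C) EH hRD inf_le_left]
  exact Dvd.dvd.mul_left hrd _

/-- `τ₃(H)`-subgroups of a complement lie in its derived subgroup (from S1415) -/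
theorem le_commutator_of_tau3 (hG : IsMinSimpleOddOrder G) {H EH : Subgroup G} (hH : IsCoatom H)
    (hEH : IsComplIn EH (sigmaCore H) H) {r : ℕ} [hr' : Fact r.Prime] (hr : r ∈ tau3 H)
    {R : Subgroup G} (hREH : R ≤ EH) (hRr : IsPGroup r R) : R ≤ ⁅EH, EH⁆ := by
  have hEHtop : EH ≠ ⊤ := fun h => hH.1 (top_le_iff.mp (h ▸ hEH.1))
  haveI : Group.IsSolvable ↥EH := Cfsg.Agent.Lib.Helper23.isSolvable_of_ne_top hG hEHtop
  obtain ⟨m, n, hmn, hcopmn, hmπ, hnπ⟩ :=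
    Cfsg.Agent.Lib.Helper19.HallRel.pi_factorization (tau3 H) (Nat.card EH) Nat.card_pos
  have hRn : (Nat.card R).Coprime n := by
    obtain ⟨k, hk⟩ := IsPGroup.iff_card.mp hRr
    rw [hk]
    apply Nat.Coprime.pow_left
    rw [Nat.Prime.coprime_iff_not_dvd hr'.out]
    intro hd; exact hnπ r hr'.out hd hr
  obtain ⟨E₃, hE₃E, hE₃c, hRE₃⟩ :=
    Cfsg.Agent.Lib.Helper68.BG1215.hall_exists_ge m n hmn hcopmn hREH hRn
  have hE₃hall : IsPiHallOf (tau3 H) E₃ EH := by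
    refine ⟨hE₃E, fun s hs hsd => hmπ s hs (hE₃c ▸ hsd), fun s hs hsτ hsd => ?_⟩
    have h1 : Nat.card E₃ * E₃.relIndex EH = Nat.card EH :=
      Cfsg.Agent.Lib.Helper33.card_mul_relIndex_eq' hE₃E
    rw [hE₃c, hmn] at h1
    have hm0 : 0 < m := by
      rcases Nat.eq_zero_or_pos m with h0 | h0
      · rw [h0, zero_mul] at hmn
        exact absurd hmn (Nat.card_pos (α := ↥EH)).ne'
      · exact h0
    have h2 : E₃.relIndex EH = n := Nat.eq_of_mul_eq_mul_left hm0 h1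
    exact hnπ s hs (h2 ▸ hsd) hsτ
  exact hRE₃.trans ((Cfsg.Agent.S1415.result hG H hH EH hEH).2.2 E₃ hE₃hall).2.1

/-- semiprime action of a cyclic Sylow subgroup (from S1427) -/
theorem le_centralizer_of_tau1 (hG : IsMinSimpleOddOrder G) {H EH : Subgroup G} (hH : IsCoatom H)
    (hEH : IsComplIn EH (sigmaCore H) H) {r : ℕ} [hr' : Fact r.Prime] (hr : r ∈ tau1 H)
    {R : Subgroup G} (hREH : R ≤ EH) (hRr : IsPGroup r R) (hRi : ¬ r ∣ R.relIndex EH)
    {x : G} (hxR : x ∈ R) (hx1 : x ≠ 1) {Y : Subgroup G} (hYσ : Y ≤ sigmaCore H)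
    (hYx : Y ≤ centralizer ({x} : Set G)) : Y ≤ centralizer (R : Set G) := by
  obtain ⟨Sy, hSy⟩ := Cfsg.Agent.Lib.Helper24.exists_sylow_map_eq EH R hREH hRr hRi
  have hS1 : (Sy : Subgroup EH) ≠ ⊥ := by
    intro h
    rw [h, Subgroup.map_bot] at hSy
    rw [← hSy, Subgroup.mem_bot] at hxR
    exact hx1 hxR
  have hr2 : r ≠ 2 :=
    Cfsg.Agent.Lib.Helper23.ne_two_of_dvd_card_subgroup hG (S := H) hr.2.2.1
  have hrk : PRankLE r 1 ↥(Sy : Subgroup EH) :=
    BG10.pRankLE_of_injective ((Subgroup.inclusion hEH.1).comp (Subgroup.subtype _))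
      ((Subgroup.inclusion_injective hEH.1).comp (Subgroup.subtype_injective _)) hr.2.2.2.2
  have hSc : IsCyclic ↥(Sy : Subgroup EH) := by
    apply Cfsg.Agent.Lib.Helper49.isCyclic_of_isPGroup_rankLEOne hr2 Sy.isPGroup'
    intro A hA hAe
    have := hrk A hA hAe
    rwa [pow_one] at this
  have h27 := Cfsg.Agent.S1427.result hG H hH EH hEH r Sy hS1 hSc x (hSy ▸ hxR) hx1
  rw [hSy] at h27
  have h1 : Y ≤ sigmaCore H ⊓ centralizer ({x} : Set G) := le_inf hYσ hYx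
  rw [h27] at h1
  exact h1.trans inf_le_right

/-- the group-theoretic core of steps (4b) and (6): `E_H` normalizes `A₀ = Ω₁(Z(C_S(P)))` -/
theorem le_normalizer_of_central_omega {q : ℕ} [hq' : Fact q.Prime] {S EH P A₀ : Subgroup G}
    (hSq : IsPGroup q S) (hA0S : A₀ ≤ S) (hA01 : A₀ ≠ ⊥)
    (hPEH : P ≤ EH) (hEHS : EH ≤ normalizer (S : Set G))
    (hK : ⁅EH, EH⁆ ≤ centralizer (S : Set G)) (hA0P : A₀ ≤ centralizer (P : Set G))
    (hkey : ∀ z : G, z ∈ centralizer (P : Set G) → z ∈ centralizer (A₀ : Set G) → z ^ q = 1 →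
      z ∈ A₀)
    (hcard : Nat.card A₀ = q) : EH ≤ normalizer (A₀ : Set G) := by
  have hqp : q.Prime := hq'.out
  obtain ⟨Y, hYdef⟩ : ∃ Y : Subgroup G, Y = S ⊓ centralizer (P : Set G) := ⟨_, rfl⟩
  have hA0Y : A₀ ≤ Y := by rw [hYdef]; exact le_inf hA0S hA0P
  have hYq : IsPGroup q Y := by rw [hYdef]; exact hSq.to_le inf_le_left
  -- `Y` is `EH`-invariant
  have hinv : ∀ e ∈ EH, ∀ s ∈ Y, e * s * e⁻¹ ∈ Y := by
    intro e he s hs
    rw [hYdef] at hs ⊢
    have hsS : s ∈ S := hs.1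
    have hsP : s ∈ centralizer (P : Set G) := hs.2
    refine Subgroup.mem_inf.mpr ⟨(mem_normalizer_iff.mp (hEHS he) s).mp hsS, ?_⟩
    rw [mem_centralizer_iff]
    intro x hx
    -- `k = e⁻¹ x e x⁻¹ ∈ [EH,EH]` centralizes `S`
    have hk : ⁅e⁻¹, x⁆ ∈ ⁅EH, EH⁆ :=
      Subgroup.commutator_mem_commutator (EH.inv_mem he) (hPEH hx)
    have hks : ⁅e⁻¹, x⁆ * s = s * ⁅e⁻¹, x⁆ :=
      ((mem_centralizer_iff.mp (hK hk)) s hsS).symm
    have hxs : x * s = s * x := (mem_centralizer_iff.mp hsP) x hx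
    rw [commutatorElement_def, inv_inv] at hks
    -- goal: x * (e s e⁻¹) = (e s e⁻¹) * x
    have h1 : x * (e * s * e⁻¹) = e * ((e⁻¹ * x * e * x⁻¹) * (x * s)) * (e⁻¹) := by group
    have h2 : e * s * e⁻¹ * x = e * (s * (e⁻¹ * x * e * x⁻¹) * x) * e⁻¹ := by group
    rw [h1, h2, hxs, ← mul_assoc (e⁻¹ * x * e * x⁻¹) s x, hks]
  -- a central element of order `q` in `Y`
  have hYne : Y ≠ ⊥ := fun h => hA01 (eq_bot_iff.mpr (h ▸ hA0Y))
  haveI : Nontrivial ↥Y := (Subgroup.nontrivial_iff_ne_bot Y).mpr hYne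
  have hcen : center ↥Y ≠ ⊥ := by
    haveI := hYq.center_nontrivial
    exact (Subgroup.nontrivial_iff_ne_bot _).mp inferInstance
  obtain ⟨z, hzc, hz1, hzq⟩ := Cfsg.Agent.S0016.exists_order_p hYq (center ↥Y) hcen
  obtain ⟨zG, hzG⟩ : ∃ zG : G, zG = (z : G) := ⟨_, rfl⟩
  have hzY : zG ∈ Y := hzG ▸ z.2
  have hzG1 : zG ≠ 1 := by
    intro h
    apply hz1
    apply Subtype.ext
    rw [← hzG, h]; rfl
  have hzGq : zG ^ q = 1 := by
    have := congrArg Subtype.val hzq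
    rw [hzG]
    simpa using this
  have hzcomm : ∀ y ∈ Y, y * zG = zG * y := by
    intro y hy
    have := mem_center_iff.mp hzc ⟨y, hy⟩
    rw [hzG]
    simpa using congrArg Subtype.val this
  have hzP : zG ∈ centralizer (P : Set G) := by
    rw [hYdef] at hzY; exact hzY.2
  have hzA : zG ∈ A₀ := by
    apply hkey zG hzP _ hzGq
    rw [mem_centralizer_iff]
    intro a ha
    exact hzcomm a (hA0Y ha)
  -- `A₀ = ⟨z⟩`
  have hord : orderOf zG = q := orderOf_eq_prime hzGq hzG1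
  have hA0z : zpowers zG = A₀ := by
    apply Subgroup.eq_of_le_of_card_ge (zpowers_le.mpr hzA)
    rw [Nat.card_zpowers, hord, hcard]
  -- conjugates of `z` under `EH` stay in `A₀`
  have hconj : ∀ e ∈ EH, e * zG * e⁻¹ ∈ A₀ := by
    intro e he
    have h1 : e * zG * e⁻¹ ∈ Y := hinv e he zG hzY
    apply hkey
    · rw [hYdef] at h1; exact h1.2
    · rw [mem_centralizer_iff]
      intro a ha
      have h2 : e⁻¹ * a * (e⁻¹)⁻¹ ∈ Y := hinv e⁻¹ (EH.inv_mem he) a (hA0Y ha)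
      have h3 := hzcomm _ h2
      rw [inv_inv] at h3
      have e1 : a * (e * zG * e⁻¹) = e * ((e⁻¹ * a * e) * zG) * e⁻¹ := by group
      have e2 : e * zG * e⁻¹ * a = e * (zG * (e⁻¹ * a * e)) * e⁻¹ := by group
      rw [e1, e2, h3]
    · rw [conj_pow, hzGq, mul_one, mul_inv_cancel]
  apply Cfsg.Agent.Lib.Helper24.Lifting.le_normalizer_of_conj_mem
  intro e he x hx
  rw [← hA0z] at hx
  obtain ⟨k, rfl⟩ := mem_zpowers_iff.mp hx
  rw [← conj_zpow]
  exact A₀.zpow_mem (hconj e he) k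

end Cfsg.Agent.Lib.Helper24.BG1312
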