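import Cfsg.Agent.Lib.Helper24.BG1312C
import Cfsg.Agent.Lib.Helper24.S1421A
import Cfsg.Agent.Lib.Helper76.BGSigU3
import Cfsg.Agent.Lib.Helper96.BG127
import Cfsg.Agent.Lib.Helper33.Control
import Cfsg.Agent.S1423
import Cfsg.Agent.S1426

/-!
# BG Lemma 13.12 (nonabelian case), part D: the rank-one lemma
-/

set_option autoImplicit false
set_option linter.unusedSectionVars false
set_option linter.unusedVariables false
set_option linter.style.haveILetI false

namespace Cfsg.Agent.Lib.Helper24.BG1312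

open Subgroup Cfsg Cfsg.Agent.Lib.Helper33 Cfsg.Agent.Lib.Helper63
open Cfsg.Agent.Lib.Helper64.BG127
open scoped commutatorElement

universe u

variable {G : Type u} [Group G] [Finite G]

/-- step (5): elementary abelian `q`-subgroups of `C_M(P)` have order at most `q` -/
theorem card_le_of_elemAb_cent (hG : IsMinSimpleOddOrder G) {M E : Subgroup G} (hM : IsCoatom M)
    (hE : IsComplIn E (sigmaCore M) M) {q : ℕ} [hq' : Fact q.Prime] (hq : q ∈ tau2 M)
    {A : Subgroup G} (hA : A ≤ E ∧ IsElementaryAbelian q A ∧ Nat.card A = q ^ 2)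
    {p : ℕ} [hp' : Fact p.Prime] (hp : p ∈ tau1 M) {P : Subgroup G} (hPE : P ≤ E)
    (hP : Nat.card P = p) (hPA : ¬ P ≤ centralizer (A : Set G))
    {B : Subgroup G} (hBM : B ≤ M) (hBP : B ≤ centralizer (P : Set G))
    (hB : IsElementaryAbelian q B) : Nat.card B ≤ q := by
  have hqp : q.Prime := hq'.out
  have hpp : p.Prime := hp'.out
  by_contra hlt
  push Not at hlt
  have Hy := Cfsg.Agent.Lib.Helper64.BG129N.hyp_of_minSimple hG
  obtain ⟨⟨hEA, hpts⟩, ⟨hCA, hNE, hNA⟩, hbad⟩ := Hy.h18 M hM E hE q hq A hA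
  obtain ⟨B', hB'B, hB'e, hB'c⟩ := BG10.exists_elemAb_sq hB hlt
  have hHallM : IsPiHallOf (sigma M) (sigmaCore M) M :=
    Cfsg.Agent.Lib.Helper19.BG124.sigmaHallIn hG hM
  have hN : ¬ q ∣ Nat.card (sigmaCore M) := fun h => hq.2.1 (hHallM.2.1 q hqp h)
  have hB'q : IsPGroup q B' := BG10.isPGroup_of_elemAb hB'e
  obtain ⟨m, hm, hconj⟩ :=
    Cfsg.Agent.Lib.Helper76.BGSigU.exists_conj_le_compl hE hN hB'q (hB'B.trans hBM)
  -- `B₁ = m⁻¹ B' m = A`
  have hB₁E : cj m⁻¹ B' ≤ E := by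
    intro x hx
    obtain ⟨h, hh, rfl⟩ := mem_cj'.mp hx
    have := hconj h hh
    rwa [inv_inv]
  have hB₁e : IsElementaryAbelian q (cj m⁻¹ B') := BG10.map_elemAb _ hB'e
  have hB₁A : cj m⁻¹ B' ≤ A := by
    intro x hx
    by_cases hx1 : x = 1
    · rw [hx1]; exact A.one_mem
    · have hxq : x ^ q = 1 := hB₁e.2 x hx
      have hord : orderOf x = q := orderOf_eq_prime hxq hx1
      have hz : zpowers x ≤ A := by
        apply hpts
        · exact zpowers_le.mpr (hB₁E hx)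
        · rw [Nat.card_zpowers, hord]
      exact hz (mem_zpowers x)
  have hB₁ : cj m⁻¹ B' = A := by
    apply Subgroup.eq_of_le_of_card_ge hB₁A
    rw [card_cj, hB'c, hA.2.2]
  -- `P₁ = m⁻¹ P m` centralizes `A`
  have hPB' : P ≤ centralizer (B' : Set G) :=
    (Subgroup.le_centralizer_iff.mp hBP).trans (Subgroup.centralizer_le hB'B)
  have hP₁A : cj m⁻¹ P ≤ centralizer (A : Set G) := by
    rw [← hB₁, centralizer_cj]
    exact cj_mono hPB'
  have hP₁E : cj m⁻¹ P ≤ E := by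
    rw [← hNE]; exact hP₁A.trans hCA
  have hPp : IsPGroup p P := IsPGroup.of_card (n := 1) (by rw [hP, pow_one])
  have hP₁p : IsPGroup p (cj m⁻¹ P) := isPGroup_cj hPp
  obtain ⟨R, hP₁R, hRE, hRp, hRi⟩ := Cfsg.Agent.Lib.Helper32.exists_relSylow_ge hP₁E hP₁p
  obtain ⟨c, hc, hcle⟩ := sylow_sub hRE hRp hRi hPE hPp
  have hp2 : p ≠ 2 :=
    Cfsg.Agent.Lib.Helper23.ne_two_of_dvd_card_subgroup hG (S := M) hp.2.2.1
  have hrk : PRankLE p 1 ↥R :=
    BG10.pRankLE_of_injective (Subgroup.inclusion (hRE.trans hE.1))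
      (Subgroup.inclusion_injective _) hp.2.2.2.2
  haveI hcyc : IsCyclic ↥R := by
    apply Cfsg.Agent.Lib.Helper49.isCyclic_of_isPGroup_rankLEOne hp2 hRp
    intro A' hA' hAe
    have := hrk A' hA' hAe
    rwa [pow_one] at this
  have heq : cj c P = cj m⁻¹ P :=
    Cfsg.Agent.Lib.Helper67.eq_of_le_isCyclic_of_card_eq R _ _ hcle hP₁R
      (by rw [card_cj, card_cj])
  apply hPA
  have h1 : cj c P ≤ centralizer (A : Set G) := heq ▸ hP₁A
  rw [cj_le_iff, ← centralizer_cj] at h1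
  have hcA : cj c⁻¹ A = A := cj_eq_self_iff.mpr (hEA (E.inv_mem hc))
  rwa [hcA] at h1

end Cfsg.Agent.Lib.Helper24.BG1312
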