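import Cfsg.Agent.Lib.Helper24.BG1312D
import Cfsg.Agent.S1414

/-!
# BG Lemma 13.12 (`tau12_regular`), the nonabelian case

`M` maximal, `q ∈ τ₂(M)` with nonabelian Sylow `q`-subgroups of `G`, `A ≤ E` of type `(q,q)`,
`A₀ = A ∩ C_G(M_σ)`, `p ∈ τ₁(M)`, `P ≤ E` of order `p` centralizing `A₀` but not `A`: impossible.
The only unproved input is BG 13.4 (statement S1428), taken as the hypothesis `Stmt28 G`.
-/

set_option autoImplicit false
set_option linter.unusedSectionVars false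
set_option linter.unusedVariables false
set_option linter.style.haveILetI false
set_option maxHeartbeats 1600000

namespace Cfsg.Agent.Lib.Helper24.BG1312

open Subgroup Cfsg Cfsg.Agent.Lib.Helper33 Cfsg.Agent.Lib.Helper63
open Cfsg.Agent.Lib.Helper64.BG127 Cfsg.Agent.Lib.Helper62.BG13K
open scoped commutatorElement

universe u

variable {G : Type u} [Group G] [Finite G]

/-- The statement of S1428 (BG 13.4) as a proposition. -/
def Stmt28 (G : Type u) [Group G] : Prop :=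
  ∀ (M : Subgroup G), IsCoatom M → ∀ (E : Subgroup G), IsComplIn E (sigmaCore M) M →
    ∀ (p : ℕ), p ∈ tau1 M → ∀ (P : Subgroup G), P ≤ E → Nat.card P = p →
    ∀ (R : Subgroup G), R ≤ E ⊓ centralizer (P : Set G) → (Nat.card R).Prime →
      sigmaCore M ⊓ centralizer (P : Set G) ≤ sigmaCore M ⊓ centralizer (R : Set G)

/-- a subgroup of `EH` containing the derived subgroup is normal in `EH` -/
theorem le_normalizer_of_commutator_le {EH K : Subgroup G} (hK : K ≤ EH) (h : ⁅EH, EH⁆ ≤ K) :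
    EH ≤ normalizer (K : Set G) := by
  apply Cfsg.Agent.Lib.Helper24.Lifting.le_normalizer_of_conj_mem
  intro e he x hx
  have : e * x * e⁻¹ = ⁅e, x⁆ * x := by simp [commutatorElement_def]
  rw [this]
  exact K.mul_mem (h (Subgroup.commutator_mem_commutator he (hK hx))) hx

/-- **BG Lemma 13.12, nonabelian case.** -/
theorem tau12_nonabelian_false (hG : IsMinSimpleOddOrder G) (h28 : Stmt28 G)
    {M E : Subgroup G} (hM : IsCoatom M) (hE : IsComplIn E (sigmaCore M) M)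
    {q : ℕ} [hq' : Fact q.Prime] (hq : q ∈ tau2 M)
    (hS : ∀ S : Sylow q G, ¬ IsMulCommutative (S : Subgroup G))
    {A : Subgroup G} (hA : A ≤ E ∧ IsElementaryAbelian q A ∧ Nat.card A = q ^ 2)
    {p : ℕ} [hp' : Fact p.Prime] (hp : p ∈ tau1 M) {P : Subgroup G} (hPE : P ≤ E)
    (hP : Nat.card P = p)
    (hPA0 : P ≤ centralizer ((A ⊓ centralizer (sigmaCore M : Set G) : Subgroup G) : Set G))
    (hPA : ¬ P ≤ centralizer (A : Set G)) : False := by
  have hqp : q.Prime := hq'.out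
  have hpp : p.Prime := hp'.out
  have Hy := Cfsg.Agent.Lib.Helper64.BG129N.hyp_of_minSimple hG
  have D := data hG Hy hM hE hq hS hA
  obtain ⟨A₀, hA₀def⟩ : ∃ A₀ : Subgroup G, A₀ = A ⊓ centralizer (sigmaCore M : Set G) := ⟨_, rfl⟩
  have hcard0 : Nat.card A₀ = q := hA₀def ▸ D.card₀
  have hgood : Good M A₀ := hA₀def ▸ D.good₀
  rw [← hA₀def] at hPA0
  obtain ⟨⟨hEA, hpts⟩, ⟨hCA, hNE, hNA⟩, hbad⟩ := Hy.h18 M hM E hE q hq A hA
  have hAM : A ≤ M := hA.1.trans hE.1
  obtain ⟨hnil, -, h17c, h17d, h17e, -⟩ := Hy.h17 M hM q hq A ⟨hAM, hA.2⟩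
  have hHallM : IsPiHallOf (sigma M) (sigmaCore M) M :=
    Cfsg.Agent.Lib.Helper19.BG124.sigmaHallIn hG hM
  have hU := Cfsg.Agent.Lib.Helper19.BG124.uniqStmt hG
  have hA0A : A₀ ≤ A := hA₀def ▸ inf_le_left
  have hA01 : A₀ ≠ ⊥ := by
    intro h
    rw [h, Subgroup.card_bot] at hcard0
    exact hqp.one_lt.ne hcard0
  have hA0top : A₀ ≠ ⊤ := fun h => hM.1 (top_le_iff.mp (h ▸ hA0A.trans hAM))
  have hNA0 : normalizer (A₀ : Set G) ≤ M := normalizer_le_of_good hG hgood hA01 hA0top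
  -- the maximal subgroup `H`
  obtain ⟨H, hH, hHM, hNH, hqH, hnid⟩ := exists_H hG hM hE hq hS hA
  have hHallH : IsPiHallOf (sigma H) (sigmaCore H) H :=
    Cfsg.Agent.Lib.Helper19.BG124.sigmaHallIn hG hH
  have hAH : A ≤ H := le_normalizer.trans hNH
  have hPNA : P ≤ normalizer (A : Set G) := hPE.trans hEA
  have hPH : P ≤ H := hPNA.trans hNH
  have hAq : IsPGroup q A := BG10.isPGroup_of_elemAb hA.2.1
  have hAσ : A ≤ sigmaCore H :=
    Cfsg.Agent.Lib.Helper68.BG1215.le_sigmaCore_of_isPGroup hHallH hqH hAH hAq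
  have hMσH : sigmaCore M ⊓ H = ⊥ := h17e H hH hHM hAH
  have hPp : IsPGroup p P := IsPGroup.of_card (n := 1) (by rw [hP, pow_one])
  have hpq : p ≠ q := by
    rintro rfl
    exact hq.2.2.2 hp.2.2.2.2
  have hcoppq : (p : ℕ).Coprime q := (Nat.coprime_primes hpp hqp).mpr hpq
  -- normal `q`-complements
  have hqdH : q ∣ Nat.card H := hqH.2.1
  have hqβ : q ∉ beta H := fun h => hnid h.2
  obtain ⟨hnpc1, hnpc2, -⟩ := (Cfsg.Agent.S1414.result hG H hH).2.2.2.2 q hqp hqdH hqβ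
  obtain ⟨O, hO⟩ := npcIn_of_hasNormalPComplement hnpc1
  obtain ⟨T, hT⟩ := npcIn_of_hasNormalPComplement hnpc2
  -- (3) `p ∉ σ(H)`
  have hpσH : p ∉ sigma H := by
    intro hpσ
    have hPσ : P ≤ sigmaCore H :=
      Cfsg.Agent.Lib.Helper68.BG1215.le_sigmaCore_of_isPGroup hHallH hpσ hPH hPp
    have hPT : P ≤ T := hT.le_of_coprime hPσ (by rw [hP]; exact hcoppq)
    have hAT : A ⊓ T = ⊥ := inf_eq_bot_of_coprime hAq hT.2.2.1
    apply hPA
    intro x hx
    rw [mem_centralizer_iff]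
    intro a ha
    exact (commute_of_inf_eq_bot hAT (hPT hx) (hPNA hx) ha (hT.2.1 (hAσ ha))).symm
  have hPcop : (Nat.card P).Coprime (Nat.card (sigmaCore H)) := by
    rw [hP, Nat.Prime.coprime_iff_not_dvd hpp]
    intro hd; exact hpσH (hHallH.2.1 p hpp hd)
  -- (4) the Sylow subgroup `S` and the complement `EH`
  obtain ⟨S, EH, hSσ, hSq, hAS, hEH, hPEH, hEHS⟩ :=
    exists_S_E hG hH hHallH hPH hPcop hAσ hAq hPNA
  have hEHq : (Nat.card EH).Coprime q := by
    rw [Nat.coprime_comm, Nat.Prime.coprime_iff_not_dvd hqp]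
    intro hd
    exact Cfsg.Agent.Lib.Helper96.BG127.not_mem_sigma_of_dvd_card_compl hHallH hEH hqp hd hqH
  have hK : ⁅EH, EH⁆ ≤ centralizer (S : Set G) :=
    comm_le_centralizer (L := H) hEH.1 (hSσ.trans hHallH.1) hEHS hSq hEHq hO
  -- (5), (6)
  have hA0P : A₀ ≤ centralizer (P : Set G) := Subgroup.le_centralizer_iff.mp hPA0
  have hA0e : IsElementaryAbelian q A₀ := BG10.elemAb_mono hA0A hA.2.1
  have hkey : ∀ z : G, z ∈ centralizer (P : Set G) → z ∈ centralizer (A₀ : Set G) → z ^ q = 1 →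
      z ∈ A₀ := by
    intro z hzP hzA hzq
    have hB := Cfsg.Agent.Lib.Helper47.BG11.elemAb_sup_zpowers hA0e hzA hzq
    have hzM : z ∈ M := hgood.1 hzA
    have hBM : A₀ ⊔ zpowers z ≤ M := sup_le (hA0A.trans hAM) (zpowers_le.mpr hzM)
    have hBP : A₀ ⊔ zpowers z ≤ centralizer (P : Set G) := sup_le hA0P (zpowers_le.mpr hzP)
    have hle := card_le_of_elemAb_cent hG hM hE hq hA hp hPE hP hPA hBM hBP hB
    have h1 : A₀ = A₀ ⊔ zpowers z :=
      Subgroup.eq_of_le_of_card_ge le_sup_left (by rw [hcard0]; exact hle)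
    rw [h1]; exact le_sup_right (α := Subgroup G) (mem_zpowers z)
  have hEHN : EH ≤ normalizer (A₀ : Set G) :=
    le_normalizer_of_central_omega hSq (hA0A.trans hAS) hA01 hPEH hEHS hK hA0P hkey hcard0
  have hEHM : EH ≤ M := hEHN.trans hNA0
  have hA0σ : A₀ ≤ sigmaCore H := hA0A.trans hAσ
  -- (7) `EH` does not centralize `A₀`
  have hnot : ¬ EH ≤ centralizer (A₀ : Set G) := by
    intro hc
    have h1 : A₀ ≤ sigmaCore H ⊓ centralizer (EH : Set G) :=
      le_inf hA0σ (Subgroup.le_centralizer_iff.mp hc)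
    have h2 := (Cfsg.Agent.S1426.result hG H hH EH hEH).1
    have h3 : A₀ ≤ ⁅sigmaCore H, sigmaCore H⁆ := h1.trans h2
    obtain ⟨Sy⟩ : Nonempty (Sylow q ↥(sigmaCore H)) := inferInstance
    have h4 := (Cfsg.Agent.S1423.result hG H hH q hqH A₀ (hA0A.trans hAH) hcard0 Sy
      (Or.inr h3)).1
    exact hHM (h4.2 M hM hgood.1).symm
  obtain ⟨r, hr, R, hRE, hRr, hRi, hRC⟩ := exists_relSylow_not_le hnot
  haveI : Fact r.Prime := ⟨hr⟩
  have hR1 : R ≠ ⊥ := fun h => hRC (h ▸ bot_le)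
  have hrR : r ∣ Nat.card R := by
    obtain ⟨k, hk⟩ := IsPGroup.iff_card.mp hRr
    rcases Nat.eq_zero_or_pos k with rfl | hk0
    · rw [pow_zero] at hk
      exact absurd (Subgroup.card_eq_one.mp hk) hR1
    · rw [hk]; exact dvd_pow_self r hk0.ne'
  have hrE : r ∣ Nat.card EH := hrR.trans (Subgroup.card_dvd_of_le hRE)
  obtain ⟨hrσ, hcls⟩ := Cfsg.Agent.Lib.Helper24.S1421.prime_class hG hH hEH hr hrE
  have hpE : p ∣ Nat.card EH := hP ▸ Subgroup.card_dvd_of_le hPEH
  obtain ⟨-, hclsp⟩ := Cfsg.Agent.Lib.Helper24.S1421.prime_class hG hH hEH hpp hpE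
  -- (9) no prime of `τ₂(H)`
  have htau2 : ∀ s : ℕ, s.Prime → s ∈ tau2 H → False := by
    intro s hs hsτ
    haveI : Fact s.Prime := ⟨hs⟩
    obtain ⟨B, hBE, hBe, hBc⟩ :=
      Cfsg.Agent.Lib.Helper96.BG127.exists_elemAb_sq_le_compl hEH hsτ
    have hBM : B ≤ M := hBE.trans hEHM
    have hBs : IsPGroup s B := BG10.isPGroup_of_elemAb hBe
    have hsσM : s ∉ sigma M := by
      intro hsσ
      have h1 : B ≤ sigmaCore M :=
        Cfsg.Agent.Lib.Helper68.BG1215.le_sigmaCore_of_isPGroup hHallM hsσ hBM hBs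
      have h2 : B ≤ sigmaCore M ⊓ H := le_inf h1 (hBE.trans hEH.1)
      rw [hMσH, le_bot_iff] at h2
      rw [h2, Subgroup.card_bot] at hBc
      have : 1 < s ^ 2 := Nat.one_lt_pow (by norm_num) hs.one_lt
      omega
    have hr2 : PRankLE s 2 ↥M := by
      by_contra h
      exact hsσM (Cfsg.Agent.Lib.Helper23.alpha_subset_sigma hG hU hM ⟨hs, h⟩)
    have hr1 : ¬ PRankLE s 1 ↥M := by
      intro h
      have := BG10.card_le_of_pRankLE h hBM hBe
      rw [hBc, pow_one] at this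
      nlinarith [hs.one_lt]
    have hsq : s = q := tau2_eq hG Hy hM hE hq hA D s ⟨hs, hsσM, hr2, hr1⟩
    exact hsτ.2.1 (hsq ▸ hqH)
  -- `[EH,EH]` centralizes `A` and `A₀`
  have hKA : ⁅EH, EH⁆ ≤ centralizer (A : Set G) := hK.trans (Subgroup.centralizer_le hAS)
  have hKA0 : ⁅EH, EH⁆ ≤ centralizer (A₀ : Set G) :=
    hKA.trans (Subgroup.centralizer_le hA0A)
  -- `p ∈ τ₁(H)`
  have hp1H : p ∈ tau1 H := by
    rcases hclsp with (h1 | h3) | h2
    · exact h1
    · exact absurd ((le_commutator_of_tau3 hG hH hEH h3 hPEH hPp).trans hKA) hPA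
    · exact absurd h2 (htau2 p hpp)
  rcases hcls with (hr1 | hr3) | hr2
  · -- `r ∈ τ₁(H)`
    by_cases hrp : r = p
    · -- (10)
      subst hrp
      obtain ⟨g, hg, hgle⟩ := sylow_sub hRE hRr hRi hPEH hPp
      have hP1 : P ≠ ⊥ := by
        intro h
        rw [h, Subgroup.card_bot] at hP
        exact hpp.one_lt.ne hP
      obtain ⟨x₀, hx₀1⟩ := (Subgroup.ne_bot_iff_exists_ne_one.mp hP1 : ∃ a : ↥P, a ≠ 1)
      have hx₀1' : (x₀ : G) ≠ 1 := fun h => hx₀1 (Subtype.ext h)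
      have hxR : g * (x₀ : G) * g⁻¹ ∈ R := hgle (mem_cj'.mpr ⟨x₀, x₀.2, rfl⟩)
      have hx1 : g * (x₀ : G) * g⁻¹ ≠ 1 := by
        intro h
        apply hx₀1'
        have : (x₀ : G) = g⁻¹ * (g * (x₀ : G) * g⁻¹) * g := by group
        rw [this, h]; group
      have hgN : g ∈ normalizer (A₀ : Set G) := hEHN hg
      have hYx : A₀ ≤ centralizer ({g * (x₀ : G) * g⁻¹} : Set G) := by
        intro a ha
        rw [mem_centralizer_iff]
        intro y hy
        rw [Set.mem_singleton_iff] at hy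
        rw [hy]
        have ha' : g⁻¹ * a * g ∈ A₀ := by
          have := (mem_normalizer_iff.mp (Subgroup.inv_mem _ hgN) a).mp ha
          rwa [inv_inv] at this
        have hc : (x₀ : G) * (g⁻¹ * a * g) = (g⁻¹ * a * g) * (x₀ : G) :=
          ((mem_centralizer_iff.mp (hPA0 x₀.2)) _ ha').symm
        have e1 : g * (x₀ : G) * g⁻¹ * a = g * ((x₀ : G) * (g⁻¹ * a * g)) * g⁻¹ := by group
        have e2 : a * (g * (x₀ : G) * g⁻¹) = g * ((g⁻¹ * a * g) * (x₀ : G)) * g⁻¹ := by group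
        rw [e1, e2, hc]
      have h1 := le_centralizer_of_tau1 hG hH hEH hr1 hRE hRr hRi hxR hx1 hA0σ hYx
      exact hRC (Subgroup.le_centralizer_iff.mp h1)
    · -- (11)
      obtain ⟨N, hNdef⟩ : ∃ N : Subgroup G, N = ⁅EH, EH⁆ ⊔ R := ⟨_, rfl⟩
      have hKN : ⁅EH, EH⁆ ≤ N := hNdef ▸ le_sup_left
      have hRN : R ≤ N := hNdef ▸ le_sup_right
      have hNE' : N ≤ EH := hNdef ▸ sup_le (Subgroup.commutator_le_self EH) hRE
      have hEHN' : EH ≤ normalizer (N : Set G) := le_normalizer_of_commutator_le hNE' hKN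
      have hPN : P ≤ normalizer (N : Set G) := hPEH.trans hEHN'
      have hKH : Nat.card ↥⁅EH, EH⁆ ∣ Nat.card ↥⁅H, H⁆ :=
        Subgroup.card_dvd_of_le (Subgroup.commutator_mono hEH.1 hEH.1)
      have hpK : ¬ p ∣ Nat.card ↥⁅EH, EH⁆ := fun h => hp1H.2.2.2.1 (h.trans hKH)
      have hcardN : Nat.card N ∣ Nat.card ↥⁅EH, EH⁆ * Nat.card R := by
        have hRK : R ≤ normalizer ((⁅EH, EH⁆ : Subgroup G) : Set G) :=
          hRE.trans (le_normalizer_of_commutator_le (Subgroup.commutator_le_self EH) le_rfl)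
        have h1 := Cfsg.Agent.Lib.Helper10.card_sup_mul_card_inf hRK
        rw [hNdef, sup_comm, mul_comm (Nat.card ↥⁅EH, EH⁆), ← h1]
        exact Dvd.intro _ rfl
      have hpN : ¬ p ∣ Nat.card N := by
        intro h
        rcases (Nat.Prime.dvd_mul hpp).mp (h.trans hcardN) with h1 | h1
        · exact hpK h1
        · obtain ⟨k, hk⟩ := IsPGroup.iff_card.mp hRr
          rw [hk] at h1
          exact hrp ((Nat.prime_dvd_prime_iff_eq hpp hr).mp (hpp.dvd_of_dvd_pow h1)).symm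
      have hcopN : (Nat.card P).Coprime (Nat.card N) := by
        rw [hP, Nat.Prime.coprime_iff_not_dvd hpp]; exact hpN
      have hNtop : N ≠ ⊤ := fun h => hH.1 (top_le_iff.mp (h ▸ hNE'.trans hEH.1))
      have hNsolv : Group.IsSolvable ↥N :=
        Cfsg.Agent.Lib.Helper23.isSolvable_of_ne_top hG hNtop
      obtain ⟨Sy', hSy'⟩ := Cfsg.Agent.Lib.Helper24.exists_invariant_sylow (p := r) P N hPN hcopN
        (Or.inr hNsolv)
      obtain ⟨hR'N, hR'r, hR'i⟩ := Cfsg.Agent.Lib.Helper24.sylow_map_facts N Sy'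
      obtain ⟨R', hR'def⟩ : ∃ R' : Subgroup G, R' = (Sy' : Subgroup N).map N.subtype := ⟨_, rfl⟩
      rw [← hR'def] at hSy' hR'N hR'r hR'i
      have hRiN : ¬ r ∣ R.relIndex N := by
        intro h
        apply hRi
        rw [← Subgroup.relIndex_mul_relIndex R N EH hRN hNE']
        exact Dvd.dvd.mul_right h _
      obtain ⟨n, hn, hnR⟩ := sylow_sub_eq hRN hRr hRiN hR'N hR'r hR'i
      have hnE : n ∈ EH := hNE' hn
      have hR'E : R' ≤ EH := hR'N.trans hNE'
      have hR'iE : ¬ r ∣ R'.relIndex EH := by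
        have := relIndex_cj n R EH
        rw [cj_eq_self_of_mem hnE, hnR] at this
        rw [this]; exact hRi
      have hR'C : ¬ R' ≤ centralizer (A₀ : Set G) := by
        intro h
        apply hRC
        have h1 : cj n R ≤ centralizer (A₀ : Set G) := hnR ▸ h
        rw [cj_le_iff, ← centralizer_cj] at h1
        have : cj n⁻¹ A₀ = A₀ := cj_eq_self_iff.mpr (hEHN (EH.inv_mem hnE))
        rwa [this] at h1
      have hrK : (Nat.card ↥⁅EH, EH⁆).Coprime r := by
        rw [Nat.coprime_comm, Nat.Prime.coprime_iff_not_dvd hr]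
        exact fun h => hr1.2.2.2.1 (h.trans hKH)
      have hR'K : R' ⊓ ⁅EH, EH⁆ = ⊥ := inf_eq_bot_of_coprime hR'r hrK
      have hR'P : R' ≤ centralizer (P : Set G) := by
        intro y hy
        rw [mem_centralizer_iff]
        intro x hx
        have h1 : x * y * x⁻¹ * y⁻¹ ∈ R' :=
          R'.mul_mem ((mem_normalizer_iff.mp (hSy' hx) y).mp hy) (R'.inv_mem hy)
        have h2 : x * y * x⁻¹ * y⁻¹ ∈ ⁅EH, EH⁆ := by
          have := Subgroup.commutator_mem_commutator (hPEH hx) (hR'E hy)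
          rwa [commutatorElement_def] at this
        have h3 : x * y * x⁻¹ * y⁻¹ ∈ R' ⊓ ⁅EH, EH⁆ := ⟨h1, h2⟩
        rw [hR'K, mem_bot] at h3
        have : x * y = (x * y * x⁻¹ * y⁻¹) * (y * x) := by group
        rw [this, h3, one_mul]
      have hR'1 : R' ≠ ⊥ := fun h => hR'C (h ▸ bot_le)
      have hrR' : r ∣ Nat.card R' := by
        obtain ⟨k, hk⟩ := IsPGroup.iff_card.mp hR'r
        rcases Nat.eq_zero_or_pos k with rfl | hk0
        · rw [pow_zero] at hk
          exact absurd (Subgroup.card_eq_one.mp hk) hR'1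
        · rw [hk]; exact dvd_pow_self r hk0.ne'
      obtain ⟨x', hx'⟩ := exists_prime_orderOf_dvd_card' (G := ↥R') r hrR'
      have hxo : orderOf (x' : G) = r := by rw [← hx']; exact Subgroup.orderOf_coe x'
      have hx1 : (x' : G) ≠ 1 := by
        intro h
        rw [h, orderOf_one] at hxo
        exact hr.one_lt.ne hxo
      have hR₀ : zpowers (x' : G) ≤ EH ⊓ centralizer (P : Set G) :=
        zpowers_le.mpr ⟨hR'E x'.2, hR'P x'.2⟩
      have hR₀c : (Nat.card (zpowers (x' : G))).Prime := by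
        rw [Nat.card_zpowers, hxo]; exact hr
      have h2 := h28 H hH EH hEH p hp1H P hPEH hP (zpowers (x' : G)) hR₀ hR₀c
      have h3 : A₀ ≤ sigmaCore H ⊓ centralizer (P : Set G) := le_inf hA0σ hA0P
      have h4 : A₀ ≤ centralizer ((zpowers (x' : G) : Subgroup G) : Set G) :=
        (h3.trans h2).trans inf_le_right
      have hYx : A₀ ≤ centralizer ({(x' : G)} : Set G) := by
        apply h4.trans
        apply Subgroup.centralizer_le
        intro y hy
        rw [Set.mem_singleton_iff] at hy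
        rw [hy]; exact mem_zpowers _
      have h5 := le_centralizer_of_tau1 hG hH hEH hr1 hR'E hR'r hR'iE x'.2 hx1 hA0σ hYx
      exact hR'C (Subgroup.le_centralizer_iff.mp h5)
  · -- (8) `r ∈ τ₃(H)`
    exact hRC ((le_commutator_of_tau3 hG hH hEH hr3 hRE hRr).trans hKA0)
  · exact htau2 r hr hr2

end Cfsg.Agent.Lib.Helper24.BG1312
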