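import Mathlib
import Cfsg.Agent.S1358
import Cfsg.Agent.S1365
import Cfsg.Agent.Lib.Helper24.BG152D

/-!
# B&G Theorem 15.2: Case A (`M_F = M_σ`) of S1356
-/

set_option autoImplicit false
set_option linter.unusedSectionVars false
set_option linter.unusedVariables false
set_option linter.style.haveILetI false

namespace Cfsg.Agent.Lib.Helper24.BG152

open Subgroup Cfsg
open Cfsg.Agent.Lib.Helper33
open scoped commutatorElement

universe u

/-- a finite nilpotent group all of whose Sylow subgroups are commutative is commutative. -/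
theorem e_comm_of_sylow {N : Type*} [Group N] [Finite N] [hN : Group.IsNilpotent N]
    (h : ∀ (p : ℕ) [Fact p.Prime] (P : Sylow p N), ∀ a ∈ (P : Subgroup N), ∀ b ∈ (P : Subgroup N),
      a * b = b * a) : ∀ a b : N, a * b = b * a := by
  obtain ⟨e⟩ := (Group.isNilpotent_of_finite_tfae (G := N)).out 0 4 rfl rfl |>.mp hN
  intro a b
  have hcomm : ∀ x y : (∀ p : (Nat.card N).primeFactors, ∀ P : Sylow p N, (↑P : Subgroup N)),
      x * y = y * x := by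
    intro x y
    funext p P
    haveI : Fact (p : ℕ).Prime := ⟨Nat.prime_of_mem_primeFactors p.2⟩
    apply Subtype.ext
    exact h p P (x p P) (x p P).2 (y p P) (y p P).2
  have := hcomm (e.symm a) (e.symm b)
  have h2 := congrArg e this
  simpa using h2

variable {G : Type u} [Group G] [Finite G]

/-- the commutator identity behind `(A W)' ≤ A' W`. -/
theorem e_commutator_sup_le {A W : Subgroup G} (hAW : A ≤ normalizer (W : Set G)) :
    ⁅A ⊔ W, A ⊔ W⁆ ≤ ⁅A, A⁆ ⊔ W := by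
  rw [commutator_le]
  intro x hx y hy
  obtain ⟨a, ha, w, hw, rfl⟩ := Cfsg.Agent.Lib.Helper19.BG14.mul_decomp hAW hx
  obtain ⟨a', ha', w', hw', rfl⟩ := Cfsg.Agent.Lib.Helper19.BG14.mul_decomp hAW hy
  have hc : ∀ g ∈ A, ∀ v ∈ W, g * v * g⁻¹ ∈ W := fq_conj_mem hAW
  have e : ⁅a * w, a' * w'⁆ = (a * w * a⁻¹) * ((a * a') * (w' * w⁻¹) * (a * a')⁻¹) *
      ((a * a' * a⁻¹) * w'⁻¹ * (a * a' * a⁻¹)⁻¹) * ⁅a, a'⁆ := by
    rw [commutatorElement_def, commutatorElement_def]; group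
  rw [e]
  have h1 : a * w * a⁻¹ ∈ W := hc a ha w hw
  have h2 : (a * a') * (w' * w⁻¹) * (a * a')⁻¹ ∈ W :=
    hc _ (A.mul_mem ha ha') _ (W.mul_mem hw' (W.inv_mem hw))
  have h3 : (a * a' * a⁻¹) * w'⁻¹ * (a * a' * a⁻¹)⁻¹ ∈ W :=
    hc _ (A.mul_mem (A.mul_mem ha ha') (A.inv_mem ha)) _ (W.inv_mem hw')
  have h4 : ⁅a, a'⁆ ∈ ⁅A, A⁆ := commutator_mem_commutator ha ha'
  exact mul_mem (le_sup_right (a := ⁅A, A⁆) (b := W) (W.mul_mem (W.mul_mem h1 h2) h3))
    (le_sup_left (a := ⁅A, A⁆) (b := W) h4)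

theorem e_commutator_eq_bot_of_comm {A : Subgroup G} (h : ∀ a ∈ A, ∀ b ∈ A, a * b = b * a) :
    ⁅A, A⁆ = ⊥ := by
  rw [eq_bot_iff, commutator_le]
  intro a ha b hb
  rw [mem_bot, commutatorElement_eq_one_iff_mul_comm]
  exact h a ha b hb

/-- A1b: if `K = ⊥` then `U'` is abelian. -/
theorem a1b (hG : IsMinSimpleOddOrder G) {M K U : Subgroup G} (hM : IsCoatom M)
    (hKU : IsSigmaDecomposition M K U) (hK : K = ⊥) :
    ∀ a ∈ ⁅U, U⁆, ∀ b ∈ ⁅U, U⁆, a * b = b * a := by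
  have hE := Cfsg.Agent.Lib.Helper76.BGSigU.isComplIn_UK (Cfsg.Agent.S1350.result hG M hM).1 hKU
  rw [hK, sup_bot_eq] at hE
  haveI hnil := (Cfsg.Agent.S1415.result hG M hM U hE).1
  have h58 := Cfsg.Agent.S1358.result hG M hM K U hKU
  have hUU : ⁅U, U⁆ ≤ U := Cfsg.Agent.Lib.Helper24.commutator_le_of_le_normalizer U U le_normalizer
  have key := e_comm_of_sylow (N := ↥⁅U, U⁆) (by
    intro p hp P a ha b hb
    -- push `P` into `U`
    let ι : ↥⁅U, U⁆ →* ↥U := Subgroup.inclusion hUU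
    have hι : Function.Injective ι := Subgroup.inclusion_injective hUU
    have hP1 : IsPGroup p ((P : Subgroup ↥⁅U, U⁆).map ι) := P.2.map ι
    obtain ⟨S, hS⟩ := hP1.exists_le_sylow
    have hSc := (h58 p hp.out S).1
    have h1 : ι a ∈ (S : Subgroup ↥U) := hS ⟨a, ha, rfl⟩
    have h2 : ι b ∈ (S : Subgroup ↥U) := hS ⟨b, hb, rfl⟩
    have h3 : (⟨ι a, h1⟩ : (S : Subgroup ↥U)) * ⟨ι b, h2⟩ = ⟨ι b, h2⟩ * ⟨ι a, h1⟩ :=
      hSc.is_comm.comm _ _
    have h4 : ι a * ι b = ι b * ι a := congrArg Subtype.val h3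
    apply hι
    rw [map_mul, map_mul]; exact h4)
  intro a ha b hb
  exact congrArg Subtype.val (key ⟨a, ha⟩ ⟨b, hb⟩)

/-- A1a: if `K ≠ ⊥` then `U` is abelian (S1430(2) and Hall conjugacy). -/
theorem e_U_comm (hG : IsMinSimpleOddOrder G) {M K U : Subgroup G} (hM : IsCoatom M)
    (hKU : IsSigmaDecomposition M K U) (hK1 : K ≠ ⊥) : ∀ a ∈ U, ∀ b ∈ U, a * b = b * a := by
  obtain ⟨U₀, hU₀c, hU₀H, -, -⟩ := (Cfsg.Agent.S1430.result hG M hM K hKU.hall hK1).2.1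
  have hS := (Cfsg.Agent.S1350.result hG M hM).1
  set W := sigmaCore M with hW
  have hUM : U ≤ M := hKU.compl.1
  have hU₀M : U₀ ≤ M := hU₀H.1
  -- primes of `|U|`
  have hUπ : ∀ p : ℕ, p.Prime → p ∣ Nat.card U → p ∉ kappa M ∧ p ∉ sigma M := by
    intro p hp hpU
    refine ⟨Cfsg.Agent.Lib.Helper76.BGSigU.not_kappa_of_dvd_card_U hKU hp hpU, ?_⟩
    haveI : Fact p.Prime := ⟨hp⟩
    obtain ⟨x, hx⟩ := exists_prime_orderOf_dvd_card' (G := U) p hpU
    have hx1 : (x : G) ≠ 1 := by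
      intro h
      have : x = 1 := Subtype.ext h
      rw [this, orderOf_one] at hx
      exact hp.one_lt.ne hx
    have hxp : (x : G) ^ p = 1 := by
      have : x ^ p = 1 := by rw [← hx]; exact pow_orderOf_eq_one x
      exact congrArg Subtype.val this
    exact Cfsg.Agent.Lib.Helper76.BGSigU.not_sigma_of_mem_U hS hKU x.2 hx1 hxp
  -- cardinalities
  have hc1 := Cfsg.Agent.Lib.Helper23.card_isComplIn hKU.compl
  have hc2 : U₀.relIndex M * Nat.card U₀ = Nat.card M :=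
    Cfsg.Agent.Lib.Helper48.NilHall.relIndex_mul_card hU₀M
  have hMW : M ≤ normalizer (W : Set G) := Cfsg.Agent.Lib.Helper24.BG.le_normalizer_sigmaCore M
  have hKW : Nat.card ↥(K ⊔ W) ∣ Nat.card W * Nat.card K := by
    rw [sup_comm]
    exact Cfsg.Agent.Lib.Helper21.card_sup_dvd (le_trans hKU.hall.1 hMW)
  -- `|U| ∣ |U₀|`
  have hd1 : Nat.card U ∣ Nat.card U₀ := by
    have h1 : Nat.card U ∣ U₀.relIndex M * Nat.card U₀ := by
      rw [hc2, ← hc1]; exact dvd_mul_right _ _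
    apply (Nat.Coprime.dvd_mul_left ?_).mp h1
    apply Nat.coprime_of_dvd
    intro p hp hpU hpr
    obtain ⟨h1, h2⟩ := hUπ p hp hpU
    exact hU₀H.2.2 p hp ⟨hp, h1, h2⟩ hpr
  -- `|U₀| ∣ |U|`
  have hd2 : Nat.card U₀ ∣ Nat.card U := by
    have h1 : Nat.card U₀ ∣ Nat.card U * Nat.card ↥(K ⊔ W) := by
      rw [hc1, ← hc2]; exact dvd_mul_left _ _
    apply (Nat.Coprime.dvd_mul_right ?_).mp h1
    apply Nat.coprime_of_dvd
    intro p hp hpU₀ hpKW
    obtain ⟨-, h1, h2⟩ := hU₀H.2.1 p hp hpU₀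
    rcases (Nat.Prime.dvd_mul hp).mp (dvd_trans hpKW hKW) with h3 | h3
    · exact h2 (hS.2.1 p hp h3)
    · exact h1 (hKU.hall.2.1 p hp h3)
  have hcard : Nat.card U = Nat.card U₀ := Nat.dvd_antisymm hd1 hd2
  have hcop : (Nat.card U₀).Coprime (U₀.relIndex M) := by
    apply Nat.coprime_of_dvd
    intro p hp hpU₀ hpr
    exact hU₀H.2.2 p hp (hU₀H.2.1 p hp hpU₀) hpr
  haveI : Group.IsSolvable ↥M := Cfsg.Agent.Lib.Helper23.isSolvable_of_ne_top hG hM.1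
  obtain ⟨c, hcM, hc⟩ := Cfsg.Agent.Lib.Helper48.NilHall.hall_conj_in M U₀ U hU₀M hUM hcard hcop
  intro a ha b hb
  have ha' : c * a * c⁻¹ ∈ U₀ := by rw [← hc]; exact conj_mem_cj ha
  have hb' : c * b * c⁻¹ ∈ U₀ := by rw [← hc]; exact conj_mem_cj hb
  have h3 : (⟨c * a * c⁻¹, ha'⟩ : U₀) * ⟨c * b * c⁻¹, hb'⟩ = ⟨c * b * c⁻¹, hb'⟩ * ⟨c * a * c⁻¹, ha'⟩ :=
    hU₀c.is_comm.comm _ _
  have h4 : c * a * c⁻¹ * (c * b * c⁻¹) = c * b * c⁻¹ * (c * a * c⁻¹) := congrArg Subtype.val h3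
  have h5 : c * (a * b) * c⁻¹ = c * (b * a) * c⁻¹ := by
    calc c * (a * b) * c⁻¹ = c * a * c⁻¹ * (c * b * c⁻¹) := by group
      _ = c * b * c⁻¹ * (c * a * c⁻¹) := h4
      _ = c * (b * a) * c⁻¹ := by group
  exact mul_left_cancel (mul_right_cancel h5)

/-- `M'' ≤ M_σ`, given that `U` is abelian when `K ≠ ⊥` (leaf A1a). -/
theorem e_second_derived_le (hG : IsMinSimpleOddOrder G) {M K U : Subgroup G} (hM : IsCoatom M)
    (hKU : IsSigmaDecomposition M K U)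
    (hA1a : K ≠ ⊥ → ∀ a ∈ U, ∀ b ∈ U, a * b = b * a) :
    ⁅⁅M, M⁆, ⁅M, M⁆⁆ ≤ sigmaCore M := by
  set W := sigmaCore M with hW
  have hMW : M ≤ normalizer (W : Set G) := Cfsg.Agent.Lib.Helper24.BG.le_normalizer_sigmaCore M
  have hUM : U ≤ M := hKU.compl.1
  have hUW : U ≤ normalizer (W : Set G) := le_trans hUM hMW
  by_cases hK : K = ⊥
  · -- `M = U W`
    have hE := Cfsg.Agent.Lib.Helper76.BGSigU.isComplIn_UK (Cfsg.Agent.S1350.result hG M hM).1 hKU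
    rw [hK, sup_bot_eq] at hE
    have hMsup : M ≤ U ⊔ W := by
      intro m hm
      obtain ⟨a, ha, b, hb, rfl⟩ := hE.2.2.2 m hm
      exact mul_mem (le_sup_left (a := U) (b := W) ha) (le_sup_right (a := U) (b := W) hb)
    have h1 : ⁅M, M⁆ ≤ ⁅U, U⁆ ⊔ W :=
      le_trans (commutator_mono hMsup hMsup) (e_commutator_sup_le hUW)
    have hUU : ⁅U, U⁆ ≤ U :=
      Cfsg.Agent.Lib.Helper24.commutator_le_of_le_normalizer U U le_normalizer
    have h2 : ⁅⁅U, U⁆ ⊔ W, ⁅U, U⁆ ⊔ W⁆ ≤ ⁅⁅U, U⁆, ⁅U, U⁆⁆ ⊔ W :=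
      e_commutator_sup_le (le_trans hUU hUW)
    rw [e_commutator_eq_bot_of_comm (a1b hG hM hKU hK), bot_sup_eq] at h2
    exact le_trans (commutator_mono h1 h1) h2
  · have h65 := (Cfsg.Agent.S1365.result hG M hM K U hKU hK).1
    rw [h65]
    have h2 := e_commutator_sup_le hUW
    rw [e_commutator_eq_bot_of_comm (hA1a hK), bot_sup_eq] at h2
    exact h2

/-- **Case A of S1356** (`M_F = M_σ`), given the leaves A1a and A2. -/
theorem s1356_caseA (hG : IsMinSimpleOddOrder G) {M : Subgroup G} (hM : IsCoatom M)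
    (heq : fittingHallOf M = sigmaCore M)
    (hA1a : ∀ K U : Subgroup G, IsSigmaDecomposition M K U → K ≠ ⊥ →
      ∀ a ∈ U, ∀ b ∈ U, a * b = b * a)
    (hA2 : ∀ K U : Subgroup G, IsSigmaDecomposition M K U →
      M ⊓ centralizer ((sigmaCore M : Subgroup G) : Set G) ≤ fittingOf M ∧
      M ⊓ centralizer ((sigmaCore M : Subgroup G) : Set G) ≤ U ⊔ sigmaCore M) :
    ⁅⁅M, M⁆, ⁅M, M⁆⁆ ≤ fittingOf M ∧
      fittingOf M = (M ⊓ centralizer ((fittingHallOf M : Subgroup G) : Set G)) ⊔ fittingHallOf M ∧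
      ((kappa M).Nonempty → fittingOf M ≤ ⁅M, M⁆) := by
  obtain ⟨K, U, hKU⟩ := c_exists_decomp hG hM
  have hFF : fittingHallOf M ≤ fittingOf M := c_fittingHallOf_le_fittingOf M
  have h2 := hA2 K U hKU
  refine ⟨?_, ?_, ?_⟩
  · refine le_trans (e_second_derived_le hG hM hKU (hA1a K U hKU)) ?_
    rw [← heq]; exact hFF
  · apply le_antisymm (c_fittingOf_le M)
    apply sup_le _ hFF
    rw [heq]; exact h2.1
  · rintro ⟨p, hp⟩
    have hK : K ≠ ⊥ := by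
      intro hK
      have h1 := hKU.hall.2.2 p hp.1 hp
      rw [hK] at h1
      apply h1
      rw [Subgroup.relIndex_bot_left]
      exact hp.2.1
    have h65 := (Cfsg.Agent.S1365.result hG M hM K U hKU hK).1
    rw [h65]
    refine le_trans (c_fittingOf_le M) (sup_le ?_ ?_)
    · rw [heq]; exact h2.2
    · rw [heq]; exact le_sup_right

end Cfsg.Agent.Lib.Helper24.BG152
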