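import Mathlib
import Cfsg.Agent.S1365
import Cfsg.Agent.Lib.Helper24.BG152E
import Cfsg.Agent.Lib.Helper64.BG152A2
import Cfsg.Agent.Lib.Helper63.BG14b
import Cfsg.Agent.Lib.Helper10.FFCore
import Cfsg.Agent.Lib.Helper21.SupNormalizer
import Cfsg.Agent.Lib.Helper76.BGSigU

/-!
# B&G Theorem 15.2: the second half of leaf A2 (`C_M(M_σ) ≤ U M_σ`) and the assembly of S1356
-/

set_option autoImplicit false
set_option linter.unusedSectionVars false
set_option linter.unusedVariables false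

namespace Cfsg.Agent.Lib.Helper24.BG152

open Subgroup Cfsg

universe u
variable {G : Type u} [Group G] [Finite G]

/-- a subgroup `X ≤ M` normalizing `N ≤ M` with `|X|` prime to `|M : N|` lies in `N`. -/
theorem h_le_of_coprime_relIndex {N M X : Subgroup G} (hNM : N ≤ M) (hXM : X ≤ M)
    (hn : X ≤ normalizer (N : Set G)) (hcop : (Nat.card X).Coprime (N.relIndex M)) : X ≤ N := by
  have h1 : Nat.card ↥(N ⊔ X) ∣ Nat.card N * Nat.card X :=
    Cfsg.Agent.Lib.Helper21.card_sup_dvd hn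
  have h2 : N ≤ N ⊔ X := le_sup_left
  have h3 : N ⊔ X ≤ M := sup_le hNM hXM
  have h4 := Subgroup.relIndex_mul_relIndex N (N ⊔ X) M h2 h3
  have h5 : Nat.card N * N.relIndex (N ⊔ X) = Nat.card ↥(N ⊔ X) :=
    Cfsg.Agent.Lib.Helper76.BGSigU.card_mul_relIndex h2
  have h6 : N.relIndex (N ⊔ X) ∣ Nat.card X := by
    rw [← h5] at h1
    exact Nat.dvd_of_mul_dvd_mul_left Nat.card_pos h1
  have h7 : N.relIndex (N ⊔ X) ∣ N.relIndex M := Dvd.intro _ h4
  have h8 : N.relIndex (N ⊔ X) = 1 := Nat.eq_one_of_dvd_coprimes hcop h6 h7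
  have h9 : N ⊔ X ≤ N := Subgroup.relIndex_eq_one.mp h8
  exact le_sup_right.trans h9

/-- second half of leaf A2: `C_M(M_σ) ≤ U M_σ`. -/
theorem h_cent_le_sup (hG : IsMinSimpleOddOrder G) {M K U : Subgroup G} (hM : IsCoatom M)
    (hKU : IsSigmaDecomposition M K U) :
    M ⊓ centralizer (sigmaCore M : Set G) ≤ U ⊔ sigmaCore M := by
  by_cases hK : K = ⊥
  · intro c hc
    obtain ⟨a, ha, b, hb, rfl⟩ := hKU.compl.2.2.2 c hc.1
    rw [hK, bot_sup_eq] at hb
    exact mul_mem (Subgroup.mem_sup_left ha) (Subgroup.mem_sup_right hb)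
  · have h65 := (Cfsg.Agent.S1365.result hG M hM K U hKU hK).1
    have h1 : sigmaCore M ≠ ⊥ := Cfsg.Agent.Lib.Helper19.BG124.sigmaCore_ne_bot hG hM
    have hHall : (Nat.card (sigmaCore M)).Coprime ((sigmaCore M).relIndex (sigmaCore M)) := by
      rw [Subgroup.relIndex_self]
      exact Nat.coprime_one_right _
    obtain ⟨X, hXc, hXτ, hX⟩ :=
      Cfsg.Agent.Lib.Helper47.BG153.cent_hall hG hM (le_refl (sigmaCore M)) h1 hHall
    rw [hX]
    refine sup_le (inf_le_left.trans le_sup_right) ?_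
    have hXM : X ≤ M := by
      have : X ≤ M ⊓ centralizer (sigmaCore M : Set G) := by
        rw [hX]; exact le_sup_right
      exact this.trans inf_le_left
    have hMn : M ≤ normalizer ((⁅M, M⁆ : Subgroup G) : Set G) :=
      Cfsg.Agent.Lib.Helper10.le_normalizer_commutator_of_le Subgroup.le_normalizer
        Subgroup.le_normalizer
    have hNM : U ⊔ sigmaCore M ≤ M := by
      rw [← h65]; exact Subgroup.commutator_le_self M
    have hKM : K ≤ M := hKU.hall.1
    -- `|M : U M_σ|` divides `|K|`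
    have hidx : (U ⊔ sigmaCore M).relIndex M ∣ Nat.card K := by
      have hKn : K ≤ normalizer ((U ⊔ sigmaCore M : Subgroup G) : Set G) := by
        rw [← h65]; exact hKM.trans hMn
      have h2 : Nat.card ↥((U ⊔ sigmaCore M) ⊔ K) ∣ Nat.card ↥(U ⊔ sigmaCore M) * Nat.card K :=
        Cfsg.Agent.Lib.Helper21.card_sup_dvd hKn
      have h3 : (U ⊔ sigmaCore M) ⊔ K = M := by
        apply le_antisymm (sup_le hNM hKM)
        intro m hm
        obtain ⟨a, ha, b, hb, rfl⟩ := hKU.compl.2.2.2 m hm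
        have hb' : b ∈ (U ⊔ sigmaCore M) ⊔ K := by
          have : K ⊔ sigmaCore M ≤ (U ⊔ sigmaCore M) ⊔ K :=
            sup_le le_sup_right (le_sup_right.trans le_sup_left)
          exact this hb
        exact mul_mem (Subgroup.mem_sup_left (Subgroup.mem_sup_left ha)) hb'
      rw [h3] at h2
      rw [← Cfsg.Agent.Lib.Helper76.BGSigU.card_mul_relIndex hNM] at h2
      exact Nat.dvd_of_mul_dvd_mul_left Nat.card_pos h2
    have hcop : (Nat.card X).Coprime (Nat.card K) := by
      apply Nat.coprime_of_dvd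
      intro p hp hpX hpK
      exact Cfsg.Agent.Lib.Helper63.BG14.not_kappa_of_tau2 (hXτ p hp hpX) (hKU.hall.2.1 p hp hpK)
    apply h_le_of_coprime_relIndex hNM hXM
    · rw [← h65]; exact hXM.trans hMn
    · exact Nat.Coprime.coprime_dvd_right hidx hcop

/-- **S1356** (B&G Theorem 15.2, the Fitting-subgroup clauses). -/
theorem s1356_all (hG : IsMinSimpleOddOrder G) {M : Subgroup G} (hM : IsCoatom M) :
    ⁅⁅M, M⁆, ⁅M, M⁆⁆ ≤ fittingOf M ∧
      fittingOf M = (M ⊓ centralizer ((fittingHallOf M : Subgroup G) : Set G)) ⊔ fittingHallOf M ∧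
      ((kappa M).Nonempty → fittingOf M ≤ ⁅M, M⁆) := by
  by_cases h : fittingHallOf M = sigmaCore M
  · exact s1356_caseA hG hM h (fun K U hKU hK1 => e_U_comm hG hM hKU hK1)
      (fun K U hKU => ⟨a2' hG hM, h_cent_le_sup hG hM hKU⟩)
  · exact s1356_caseB hG hM h

end Cfsg.Agent.Lib.Helper24.BG152
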