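import Mathlib
import Cfsg.Agent.S1437
import Cfsg.Agent.S1423
import Cfsg.Agent.Lib.Helper35.HallFusion
import Cfsg.Agent.Lib.Helper64.BG9
import Cfsg.Agent.Lib.Helper63.BG13a

/-!
# B&G Theorem 15.2: `F(M)` is a TI-subgroup when `M_F ≠ M_σ`
-/

set_option autoImplicit false
set_option linter.unusedSectionVars false
set_option linter.unusedVariables false
set_option linter.style.haveILetI false

namespace Cfsg.Agent.Lib.Helper24.BG152

open Subgroup Cfsg
open Cfsg.Agent.Lib.Helper33

universe u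

variable {G : Type u} [Group G] [Finite G]

/-- for `x ∈ F(M)` of prime order, `M` is the only maximal subgroup containing `C_G(x)`. -/
theorem t_uniq (hG : IsMinSimpleOddOrder G) {M K U : Subgroup G} (hM : IsCoatom M)
    (hKU : IsSigmaDecomposition M K U) (hne : fittingHallOf M ≠ sigmaCore M)
    {x : G} (hx : x ∈ fittingOf M) (hr : (orderOf x).Prime) :
    centralizer ({x} : Set G) ≤ M ∧
      ∀ L : Subgroup G, IsCoatom L → centralizer ({x} : Set G) ≤ L → L = M := by
  obtain ⟨hU, hWM', hKprime, hq, hqF, hqβ, Q, hQF, hMQ, hQp, hsyl, hall⟩ :=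
    Cfsg.Agent.S1437.result hG M hM K U hKU hne
  set W := sigmaCore M with hW
  set q := Nat.card ↥(W ⊓ centralizer (K : Set G)) with hqdef
  haveI : Fact q.Prime := ⟨hq⟩
  have hWM : W ≤ M := g_sigmaCore_le M
  have hqσ : q ∈ sigma M :=
    (Cfsg.Agent.S1350.result hG M hM).1.2.1 q hq (Subgroup.card_dvd_of_le inf_le_left)
  have hFM : fittingOf M ≤ M := Cfsg.Agent.Lib.Helper91.BG152.Ks_le_Q_fittingOf_le M
  have hx1 : x ≠ 1 := by
    intro h
    rw [h, orderOf_one] at hr
    exact Nat.not_prime_one hr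
  have hKsM : W ⊓ centralizer (K : Set G) ≤ M := le_trans inf_le_left hWM
  obtain ⟨P, hP⟩ := IsPGroup.exists_le_sylow (hQp.comap_subtype (H := Q) (K := W))
  have h23 : ∀ X : Subgroup G, X ≤ M → Nat.card X = q → _ :=
    fun X hXM hXc => Cfsg.Agent.S1423.result hG M hM q hqσ X hXM hXc P (Or.inl hqβ)
  by_cases hrq : orderOf x = q
  · have hXM : zpowers x ≤ M := by rw [zpowers_le]; exact hFM hx
    have hXc : Nat.card (zpowers x) = q := by rw [Nat.card_zpowers, hrq]
    have := (h23 (zpowers x) hXM hXc).1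
    rwa [fq_centralizer_zpowers] at this
  · -- `Q ≤ C_G(x)`
    have hQW : Q ≤ W :=
      le_trans hQF (Cfsg.Agent.Lib.Helper10.BG145.fittingHallOf_le_sigmaCore hG hM)
    have hQM : Q ≤ M := le_trans hQW hWM
    have hQnil : Group.IsNilpotent Q := hQp.isNilpotent
    have hQFit : Q ≤ fittingOf M :=
      Cfsg.Agent.Lib.Helper91.BG152.Ks_le_Q_le_fittingOf hQM hMQ hQnil
    haveI hFnil : Group.IsNilpotent ↥(fittingOf M) :=
      Cfsg.Agent.Lib.Helper91.BG152.Ks_le_Q_isNilpotent_fittingOf M
    have hQcen : Q ≤ centralizer ({x} : Set G) := by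
      intro y hy
      rw [mem_centralizer_iff]
      intro z hz
      rw [Set.mem_singleton_iff] at hz
      rw [hz]
      obtain ⟨k, hk⟩ := (IsPGroup.iff_orderOf.mp hQp) ⟨y, hy⟩
      have hyk : (⟨y, hQFit hy⟩ : fittingOf M) ^ (q ^ k) = 1 := by
        apply Subtype.ext
        have : orderOf y = q ^ k := by
          rw [← hk]; exact (Subgroup.orderOf_mk y hy).symm
        show y ^ (q ^ k) = 1
        rw [← this]; exact pow_orderOf_eq_one y
      have hxr : (⟨x, hx⟩ : fittingOf M) ^ (orderOf x) = 1 := by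
        apply Subtype.ext
        show x ^ orderOf x = 1
        exact pow_orderOf_eq_one x
      have hcop : Nat.Coprime (orderOf x) (q ^ k) := by
        apply Nat.Coprime.pow_right
        rw [Nat.coprime_primes hr hq]
        exact hrq
      have := Cfsg.Agent.Lib.Helper35.commute_of_coprime_of_isNilpotent (fittingOf M)
        ⟨x, hx⟩ ⟨y, hQFit hy⟩ _ _ hxr hyk hcop
      exact congrArg Subtype.val this.eq
    -- `P.map = Q`
    set Pm : Subgroup G := (P : Subgroup ↥W).map W.subtype with hPm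
    have hQPm : Q ≤ Pm := by
      have := Subgroup.map_mono (f := W.subtype)
        (show Q.subgroupOf W ≤ (P : Subgroup ↥W) from hP)
      rwa [subgroupOf_map_subtype, inf_of_le_left hQW] at this
    have hPmW : Pm ≤ W := map_subtype_le _
    have hPmp : IsPGroup q Pm := P.2.map _
    have hPmQ : Pm ≤ Q := by
      rw [← relIndex_eq_one]
      have h1 : Q.relIndex Pm ∣ Q.relIndex W := by
        rw [← relIndex_mul_relIndex Q Pm W hQPm hPmW]
        exact dvd_mul_right _ _
      have h2 : Q.relIndex Pm ∣ Nat.card Pm := by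
        have := Subgroup.index_dvd_card (Q.subgroupOf Pm)
        exact this
      obtain ⟨n, hn⟩ := hPmp.exists_card_eq
      rw [hn] at h2
      obtain ⟨j, hj, hj2⟩ := (Nat.dvd_prime_pow hq).mp h2
      rcases Nat.eq_zero_or_pos j with h0 | h0
      · rw [hj2, h0, pow_zero]
      · exfalso
        apply hsyl
        refine dvd_trans ?_ h1
        rw [hj2]
        exact dvd_pow_self q h0.ne'
    have hPmeq : Pm = Q := le_antisymm hPmQ hQPm
    have hIU := (h23 _ hKsM rfl).2.1
    have huniq : ∀ L : Subgroup G, IsCoatom L → centralizer ({x} : Set G) ≤ L → L = M := by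
      intro L hL hCL
      have h1 : IsCoatom L ∧ Pm ≤ L := ⟨hL, by rw [hPmeq]; exact le_trans hQcen hCL⟩
      have h2 : IsCoatom M ∧ Pm ≤ M := ⟨hM, le_trans hPmW hWM⟩
      exact hIU.unique h1 h2
    refine ⟨?_, huniq⟩
    have hne_top := Cfsg.Agent.Lib.Helper64.BG9.centralizer_singleton_ne_top hG hx1
    rcases eq_top_or_exists_le_coatom (centralizer ({x} : Set G)) with h | ⟨L, hL, hCL⟩
    · exact absurd h hne_top
    · rw [← huniq L hL hCL]; exact hCL

/-- **`F(M)` is a TI-subgroup** when `M_F ≠ M_σ` (B&G Theorem 15.2). -/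
theorem ti_fittingOf (hG : IsMinSimpleOddOrder G) {M K U : Subgroup G} (hM : IsCoatom M)
    (hKU : IsSigmaDecomposition M K U) (hne : fittingHallOf M ≠ sigmaCore M) :
    IsTISubset (fittingOf M : Set G) := by
  intro g hg y hy hgy
  by_contra hy1
  have hord1 : orderOf y ≠ 1 := fun h => hy1 (orderOf_eq_one_iff.mp h)
  obtain ⟨r, hr, hrd⟩ := Nat.exists_prime_and_dvd hord1
  have hord0 : orderOf y ≠ 0 := (orderOf_pos y).ne'
  set x := y ^ (orderOf y / r) with hxdef
  have hxord : orderOf x = r := orderOf_pow_orderOf_div hord0 hrd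
  have hxF : x ∈ fittingOf M := (fittingOf M).pow_mem hy _
  have hgx : g * x * g⁻¹ = (g * y * g⁻¹) ^ (orderOf y / r) := by
    rw [hxdef, conj_pow]
  have hgxF : g * x * g⁻¹ ∈ fittingOf M := by
    rw [hgx]; exact (fittingOf M).pow_mem hgy _
  have hgxord : orderOf (g * x * g⁻¹) = r := by
    rw [← hxord]
    exact orderOf_injective (MulAut.conj g).toMonoidHom (MulAut.conj g).injective x
  have A1 := t_uniq hG hM hKU hne hxF (hxord ▸ hr)
  have A2 := t_uniq hG hM hKU hne hgxF (hgxord ▸ hr)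
  -- `C(x) ≤ cj g⁻¹ M`
  have hle : centralizer ({x} : Set G) ≤ cj g⁻¹ M := by
    intro c hc
    rw [mem_cj, inv_inv]
    apply A2.1
    rw [mem_centralizer_iff] at hc ⊢
    intro z hz
    rw [Set.mem_singleton_iff] at hz
    rw [hz]
    have h1 : x * c = c * x := hc x (Set.mem_singleton x)
    calc g * x * g⁻¹ * (g * c * g⁻¹) = g * (x * c) * g⁻¹ := by group
      _ = g * (c * x) * g⁻¹ := by rw [h1]
      _ = g * c * g⁻¹ * (g * x * g⁻¹) := by group
  have heq : cj g⁻¹ M = M :=
    A1.2 _ (Cfsg.Agent.Lib.Helper63.BG13.isCoatom_cj hM g⁻¹) hle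
  have hginv : g⁻¹ ∈ normalizer (M : Set G) := cj_eq_self_iff.mp heq
  have hMne : M ≠ ⊥ := by
    intro h
    apply hy1
    have : y ∈ M := Cfsg.Agent.Lib.Helper91.BG152.Ks_le_Q_fittingOf_le M hy
    rw [h, mem_bot] at this
    exact this
  have hNM : normalizer (M : Set G) = M :=
    Cfsg.Agent.Lib.Helper23.normalizer_eq_of_isCoatom hG hM hMne le_rfl le_normalizer
  rw [hNM] at hginv
  have hgM : g ∈ M := by
    have := M.inv_mem hginv
    rwa [inv_inv] at this
  exact hg (Cfsg.Agent.Lib.Helper91.BG152.Ks_le_Q_le_normalizer_fittingOf M hgM)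

end Cfsg.Agent.Lib.Helper24.BG152
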