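import Mathlib
import Cfsg.Agent.S1350
import Cfsg.Agent.S1363
import Cfsg.Agent.S1365
import Cfsg.Agent.Lib.Helper24.SylowInv
import Cfsg.Agent.Lib.Helper24.BG152G
import Cfsg.Agent.Lib.Helper24.BG152C
import Cfsg.Agent.Lib.Helper47.BG11a
import Cfsg.Agent.Lib.Helper10.BG145a
import Cfsg.Agent.Lib.Helper23.TypeP
import Cfsg.Agent.Lib.Helper62.BG1382a

/-!
# S1389: Sylow normalizers of `M_s` and the Hall property of `M_F`, `M_s` in `G`
-/

set_option autoImplicit false
set_option linter.unusedSectionVars false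
set_option linter.unusedVariables false
set_option linter.style.haveILetI false

namespace Cfsg.Agent.Lib.Helper24.BG1389

open Subgroup Cfsg

universe u
variable {G : Type u} [Group G] [Finite G]

/-- a Hall subgroup of `M` inside `M_σ` is a Hall subgroup of `G` -/
theorem hall_in_G (hG : IsMinSimpleOddOrder G) {M X : Subgroup G} (hM : IsCoatom M)
    (hXW : X ≤ sigmaCore M) (hcop : (Nat.card X).Coprime (X.relIndex M)) :
    (Nat.card X).Coprime X.index := by
  obtain ⟨h1, h2, -⟩ := Cfsg.Agent.S1350.result hG M hM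
  have hXM : X ≤ M := hXW.trans h1.1
  rw [← Subgroup.relIndex_mul_index hXM]
  apply Nat.Coprime.mul_right hcop
  apply Nat.coprime_of_dvd
  intro k hk hk1 hk2
  have hkσ : k ∈ sigma M := h2.1 k hk (hk1.trans (Subgroup.card_dvd_of_le hXW))
  exact h2.2 k hk hkσ (hk2.trans (Subgroup.index_dvd_of_le h1.1))

/-- Sylow subgroups of a Hall subgroup of `M` inside `M_σ` have their normalizers in `M` -/
theorem normalizer_sylow_le (hG : IsMinSimpleOddOrder G) {M X : Subgroup G} (hM : IsCoatom M)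
    (hXW : X ≤ sigmaCore M) (hcop : (Nat.card X).Coprime (X.relIndex M)) {p : ℕ} (hp : p.Prime)
    (P : Sylow p ↥X) (hP : (P : Subgroup ↥X) ≠ ⊥) :
    normalizer (((P : Subgroup ↥X).map X.subtype : Subgroup G) : Set G) ≤ M := by
  haveI : Fact p.Prime := ⟨hp⟩
  obtain ⟨h1, h2, -⟩ := Cfsg.Agent.S1350.result hG M hM
  have hXM : X ≤ M := hXW.trans h1.1
  obtain ⟨hQX, hQp, hQi⟩ := Cfsg.Agent.Lib.Helper24.sylow_map_facts X P
  set Q : Subgroup G := (P : Subgroup ↥X).map X.subtype with hQ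
  have hQ1 : Q ≠ ⊥ := by
    intro h
    apply hP
    rw [hQ] at h
    exact (Subgroup.map_eq_bot_iff_of_injective _ X.subtype_injective).mp h
  have hpQ : p ∣ Nat.card Q := by
    obtain ⟨n, hn⟩ := hQp.exists_card_eq
    rw [hn]
    rcases n with _ | n
    · exfalso
      apply hQ1
      rw [pow_zero] at hn
      exact Subgroup.card_eq_one.mp hn
    · exact dvd_pow_self p (Nat.succ_ne_zero n)
  have hpX : p ∣ Nat.card X := hpQ.trans (Subgroup.card_dvd_of_le hQX)
  have hpσ : p ∈ sigma M := h1.2.1 p hp (hpX.trans (Subgroup.card_dvd_of_le hXW))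
  have hQi' : ¬ p ∣ Q.relIndex M := by
    rw [← Subgroup.relIndex_mul_relIndex Q X M hQX hXM]
    intro hd
    rcases (Nat.Prime.dvd_mul hp).mp hd with h | h
    · exact hQi h
    · have h3 : p ∣ Nat.gcd (Nat.card X) (X.relIndex M) := Nat.dvd_gcd hpX h
      rw [hcop] at h3
      exact hp.one_lt.ne' (Nat.dvd_one.mp h3)
  exact Cfsg.Agent.Lib.Helper47.BG11.normalizer_le_of_sigma hpσ (hQX.trans hXM) hQp hQi'

/-- `M_F` is a Hall subgroup of `M` -/
theorem fittingHallOf_coprime (M : Subgroup G) :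
    (Nat.card (fittingHallOf M)).Coprime ((fittingHallOf M).relIndex M) := by
  have h := Cfsg.Agent.Lib.Helper23.fittingHall_coprime ↥M
  have hrel : (fittingHallOf M).relIndex M = (fittingHall ↥M).index := by
    unfold Subgroup.relIndex fittingHallOf
    congr 1
    ext y
    simp [Subgroup.mem_subgroupOf]
  rw [hrel, Cfsg.Agent.Lib.Helper23.card_fittingHallOf]
  exact h

/-- the two facts about `M_s` -/
theorem typeCore_facts (hG : IsMinSimpleOddOrder G) {M : Subgroup G} (hM : IsCoatom M) :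
    typeCore M ≤ sigmaCore M ∧ (Nat.card (typeCore M)).Coprime ((typeCore M).relIndex M) := by
  classical
  unfold typeCore
  by_cases h : IsOfTypeIII M ∨ IsOfTypeIV M
  · rw [if_pos h]
    obtain ⟨K, U, hKU⟩ := Cfsg.Agent.Lib.Helper24.BG152.c_exists_decomp hG hM
    obtain ⟨hK1, hU⟩ :=
      Cfsg.Agent.Lib.Helper62.BG1382.k_ne_bot_and_U_eq_bot_of_typeIII_or_IV hG hM hKU
        (fun hK1 => (Cfsg.Agent.S1363.result hG M hM K U hKU hK1).2) h
    have h65 := (Cfsg.Agent.S1365.result hG M hM K U hKU hK1).1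
    rw [hU, bot_sup_eq] at h65
    rw [h65]
    exact ⟨le_refl _, Cfsg.Agent.Lib.Helper24.BG152.g_coprime_of_hall
      (Cfsg.Agent.S1350.result hG M hM).1⟩
  · rw [if_neg h]
    exact ⟨Cfsg.Agent.Lib.Helper10.BG145.fittingHallOf_le_sigmaCore hG hM, fittingHallOf_coprime M⟩

/-- **S1389**. -/
theorem s1389 (hG : IsMinSimpleOddOrder G) {M : Subgroup G} (hM : IsCoatom M) :
    (∀ (p : ℕ), p.Prime → ∀ (P : Sylow p ↥(typeCore M)), (P : Subgroup ↥(typeCore M)) ≠ ⊥ →
        normalizer ((((P : Subgroup ↥(typeCore M)).map (typeCore M).subtype : Subgroup G)) : Set G) ≤ M) ∧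
      (Nat.card (fittingHallOf M)).Coprime (fittingHallOf M).index ∧
      (Nat.card (typeCore M)).Coprime (typeCore M).index := by
  obtain ⟨h1, h2⟩ := typeCore_facts hG hM
  refine ⟨fun p hp P hP => normalizer_sylow_le hG hM h1 h2 hp P hP, ?_, hall_in_G hG hM h1 h2⟩
  exact hall_in_G hG hM (Cfsg.Agent.Lib.Helper10.BG145.fittingHallOf_le_sigmaCore hG hM)
    (fittingHallOf_coprime M)

end Cfsg.Agent.Lib.Helper24.BG1389
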