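import Mathlib
import Cfsg.Agent.Lib.Helper56.FrobApply
import Cfsg.Agent.Lib.Helper24.BG152FQ
import Cfsg.Agent.Lib.Helper21.SupNormalizer

/-!
# Leaf [L-B] of the S1435 hive (helper96): a Frobenius group acting coprimely with `C(K) = 1`
-/

set_option autoImplicit false
set_option linter.unusedSectionVars false
set_option linter.unusedVariables false

open Subgroup

namespace Cfsg.Agent.Lib.Helper96.BG1435

variable {G : Type*} [Group G] [Finite G]

/-- [L-B] a Frobenius group `S K` (`K` f.p.f. on `S`) acting coprimely on a solvable group `H0`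
with `C_{H0}(K) = 1` has `[H0, S] = 1`. -/
theorem le_centralizer_of_frobenius {S K H0 : Subgroup G} (hK1 : K ≠ ⊥)
    (hKS : K ≤ normalizer (S : Set G))
    (hfpf : ∀ e ∈ K, e ≠ 1 → ∀ u ∈ S, e * u = u * e → u = 1)
    (hS : S ≤ normalizer (H0 : Set G)) (hK : K ≤ normalizer (H0 : Set G))
    (hsolv : Group.IsSolvable H0) (hcop : (Nat.card H0).Coprime (Nat.card S * Nat.card K))
    (hCK : H0 ⊓ centralizer (K : Set G) = ⊥) : S ≤ centralizer (H0 : Set G) := by
  have hcop' : (Nat.card H0).Coprime (Nat.card ↥(S ⊔ K)) :=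
    Nat.Coprime.coprime_dvd_right (Cfsg.Agent.Lib.Helper21.card_sup_dvd hKS) hcop
  have hf := Cfsg.Agent.Lib.Helper56.FrobApply.frobenius_formula S K H0 hK1
    (Cfsg.Agent.Lib.Helper24.BG152.fq_conj_mem hKS) hfpf
    (Cfsg.Agent.Lib.Helper24.BG152.fq_conj_mem (sup_le hS hK)) hsolv hcop'
  have h1 : H0 ⊓ centralizer ((S ⊔ K : Subgroup G) : Set G) = ⊥ := by
    rw [eq_bot_iff, ← hCK]
    exact inf_le_inf_left _ (centralizer_le (by
      intro k hk; exact (le_sup_right : K ≤ S ⊔ K) hk))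
  rw [h1, hCK, Subgroup.card_bot, one_pow, one_mul, one_mul] at hf
  have h2 : H0 ⊓ centralizer (S : Set G) = H0 :=
    Subgroup.eq_of_le_of_card_ge inf_le_left (le_of_eq hf)
  rw [le_centralizer_iff]
  rw [← h2]
  exact inf_le_right

end Cfsg.Agent.Lib.Helper96.BG1435
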