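import Cfsg.Agent.Lib.Helper24.ExtraMod2

set_option autoImplicit false

namespace Cfsg.Agent.Lib.Helper24.ExtraMod

open Finset Subgroup
open scoped commutatorElement

section Ex
variable {G : Type*} [Group G] {p : ℕ} {E Z : Subgroup G}

/-- the centralizer of `x` and `y` in `E`. -/
def E2 (E : Subgroup G) (x y : G) : Subgroup G := E ⊓ centralizer {x} ⊓ centralizer {y}

theorem mem_E2 {E : Subgroup G} {x y g : G} :
    g ∈ E2 E x y ↔ g ∈ E ∧ g * x = x * g ∧ g * y = y * g := by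
  unfold E2
  rw [Subgroup.mem_inf, Subgroup.mem_inf, mem_centralizer_singleton_iff,
    mem_centralizer_singleton_iff, and_assoc]

theorem ExLike.card_E2 [Finite G] (h : ExLike p E Z) {x y : G} (hx : x ∈ E) (hy : y ∈ E) :
    Nat.card E ≤ p * p * Nat.card (E2 E x y) := by
  have h1 := h.card_le hx E le_rfl
  have h2 := h.card_le hy (E ⊓ centralizer {x}) inf_le_left
  unfold E2
  calc Nat.card E ≤ p * Nat.card (E ⊓ centralizer {x} : Subgroup G) := h1
    _ ≤ p * (p * Nat.card (E ⊓ centralizer {x} ⊓ centralizer {y} : Subgroup G)) :=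
        Nat.mul_le_mul_left _ h2
    _ = _ := by ring

theorem ExLike.exists_mul_mem_E2 [Fact p.Prime] (h : ExLike p E Z) {x y : G} (hx : x ∈ E)
    (hy : y ∈ E) (hc : ⁅y, x⁆ ≠ 1) {g : G} (hg : g ∈ E) :
    ∃ a b : ℕ, g * y ^ a * x ^ b ∈ E2 E x y := by
  have hcZ : ⁅y, x⁆ ∈ Z := h.comm_mem y hy x hx
  obtain ⟨a, ha⟩ := h.exists_pow_eq hcZ hc (inv_mem (h.comm_mem g hg x hx))
  have hg1 : g * y ^ a ∈ E := mul_mem hg (pow_mem hy a)
  have e1 : ⁅g * y ^ a, x⁆ = 1 := by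
    rw [h.comm_mul_left hg (pow_mem hy a) hx, h.comm_pow_left hy hx, ha, mul_inv_cancel]
  obtain ⟨b, hb⟩ := h.exists_pow_eq hcZ hc (h.comm_mem (g * y ^ a) hg1 y hy)
  refine ⟨a, b, ?_⟩
  rw [mem_E2]
  refine ⟨mul_mem hg1 (pow_mem hx b), ?_, ?_⟩
  · rw [← comm_eq_one_iff, h.comm_mul_left hg1 (pow_mem hx b) hx, e1, h.comm_pow_left hx hx,
      commutatorElement_self, one_pow, one_mul]
  · rw [← comm_eq_one_iff, h.comm_mul_left hg1 (pow_mem hx b) hy, h.comm_pow_left hx hy,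
      ← commutatorElement_inv y x, inv_pow, hb, mul_inv_cancel]

theorem ExLike.toE2 [Fact p.Prime] (h : ExLike p E Z) {x y : G} (hx : x ∈ E) (hy : y ∈ E)
    (hc : ⁅y, x⁆ ≠ 1) : ExLike p (E2 E x y) Z where
  card_Z := h.card_Z
  Z_le := fun c hc' => mem_E2.2 ⟨h.Z_le hc', (h.central c hc' x hx).symm,
    (h.central c hc' y hy).symm⟩
  central := fun c hc' g hg => h.central c hc' g (mem_E2.1 hg).1
  comm_mem := fun a ha b hb => h.comm_mem a (mem_E2.1 ha).1 b (mem_E2.1 hb).1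
  center_le := by
    intro u hu hcomm
    obtain ⟨huE, hux, huy⟩ := mem_E2.1 hu
    apply h.center_le u huE
    intro g hg
    obtain ⟨a, b, hab⟩ := h.exists_mul_mem_E2 hx hy hc hg
    have cx : Commute u x := hux
    have cy : Commute u y := huy
    have c2 : Commute u (y ^ a * x ^ b) := (cy.pow_right a).mul_right (cx.pow_right b)
    have c1 : Commute u (g * y ^ a * x ^ b) := (hcomm _ hab).symm
    have c3 : Commute u (g * y ^ a * x ^ b * (y ^ a * x ^ b)⁻¹) := c1.mul_right c2.inv_right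
    have e : g * y ^ a * x ^ b * (y ^ a * x ^ b)⁻¹ = g := by group
    rw [e] at c3
    exact c3.eq.symm

theorem ExLike.exists_pow_eq_one_odd [Finite G] [hp : Fact p.Prime] (h : ExLike p E Z)
    (hp2 : p ≠ 2) (hcard : p * p < Nat.card E) : ∃ x ∈ E, x ∉ Z ∧ x ^ p = 1 := by
  classical
  have hpow : ∀ a ∈ E, ∀ b ∈ E, (a * b) ^ p = a ^ p * b ^ p := by
    intro a ha b hb
    apply Cfsg.Agent.Lib.Helper2.mul_pow_prime_of_commutator_central hp.out hp2 a b
    · exact (h.comm_comm hb ha ha).symm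
    · exact (h.comm_comm hb ha hb).symm
    · exact h.pow_eq_one (h.comm_mem b hb a ha)
  by_contra hcon
  push Not at hcon
  let K : Type _ := {a : G // a ∈ E ∧ a ^ p = 1}
  have hKZ : Nat.card K ≤ Nat.card Z :=
    Nat.card_le_card_of_injective
      (fun k : K => (⟨k.1, by_contra fun hk => hcon k.1 k.2.1 hk k.2.2⟩ : Z))
      (fun a b hab => Subtype.ext (congrArg (fun t : Z => (t : G)) hab))
  let f : E → Z := fun a => ⟨(a : G) ^ p, h.pow_p_mem a.2⟩
  have key := Cfsg.Agent.Lib.Helper24.PiCl.card_le_mul_of_fiber_le f (Nat.card K) ?_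
  · rw [h.card_Z] at key hKZ
    have : Nat.card E ≤ p * p := le_trans key (Nat.mul_le_mul_left _ hKZ)
    omega
  intro b
  by_cases hb : Nonempty {a // f a = b}
  · obtain ⟨⟨a₀, ha₀⟩⟩ := hb
    have hmem : ∀ a : {a // f a = b}, (a₀ : G)⁻¹ * (a.1 : G) ∈ E ∧
        ((a₀ : G)⁻¹ * (a.1 : G)) ^ p = 1 := by
      intro a
      refine ⟨mul_mem (inv_mem a₀.2) a.1.2, ?_⟩
      rw [hpow _ (inv_mem a₀.2) _ a.1.2, inv_pow]
      have e1 : (a.1 : G) ^ p = (a₀ : G) ^ p := congrArg Subtype.val (a.2.trans ha₀.symm)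
      rw [e1, inv_mul_cancel]
    apply Nat.card_le_card_of_injective (fun a : {a // f a = b} =>
      (⟨(a₀ : G)⁻¹ * (a.1 : G), hmem a⟩ : K))
    intro a a' haa
    have := congrArg Subtype.val haa
    simp only [mul_right_inj] at this
    exact Subtype.ext (Subtype.ext this)
  · rw [not_nonempty_iff] at hb
    simp [Nat.card_of_isEmpty]

theorem ExLike.exists_pow_eq_one_two [Finite G] (h : ExLike 2 E Z)
    (hcard : 2 * 2 * 2 < Nat.card E) : ∃ x ∈ E, x ∉ Z ∧ x ^ 2 = 1 := by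
  by_contra hcon
  push Not at hcon
  have hZ2 := h.card_Z
  obtain ⟨x₀, hx₀, hx₀Z⟩ := exists_not_mem_of_card_lt (E := E) (Z := Z) (by omega)
  obtain ⟨y₀, hy₀, hc⟩ := h.exists_not_comm hx₀ hx₀Z
  have h4 := h.card_E2 hx₀ hy₀
  have hE2 := (h.toE2 hx₀ hy₀ hc)
  obtain ⟨u, hu, huZ⟩ := exists_not_mem_of_card_lt (E := E2 E x₀ y₀) (Z := Z) (by omega)
  obtain ⟨huE, hux, huy⟩ := mem_E2.1 hu
  have hx2 : x₀ ^ 2 ≠ 1 := hcon x₀ hx₀ hx₀Z
  have hu2 : u ^ 2 ≠ 1 := hcon u huE huZ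
  have hx2Z : x₀ ^ 2 ∈ Z := h.pow_p_mem hx₀
  have hu2Z : u ^ 2 ∈ Z := h.pow_p_mem huE
  obtain ⟨t, -, ht⟩ := (Nat.card_eq_two_iff' (1 : Z)).1 hZ2
  have e1 : (⟨x₀ ^ 2, hx2Z⟩ : Z) = t := ht _ (fun e => hx2 (congrArg Subtype.val e))
  have e2 : (⟨u ^ 2, hu2Z⟩ : Z) = t := ht _ (fun e => hu2 (congrArg Subtype.val e))
  have e3 : x₀ ^ 2 = u ^ 2 := congrArg Subtype.val (e1.trans e2.symm)
  have cux : Commute u x₀ := hux
  have e4 : (x₀ * u) ^ 2 = 1 := by
    rw [cux.symm.mul_pow, e3]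
    have := h.pow_eq_one hu2Z
    rw [pow_two] at this
    exact this
  have hxu : x₀ * u ∈ Z := by
    by_contra hn
    exact hcon _ (mul_mem hx₀ huE) hn e4
  have c1 : Commute y₀ (x₀ * u) := h.central _ hxu y₀ hy₀
  have c2 : Commute y₀ u := (show Commute u y₀ from huy).symm
  have c3 : Commute y₀ (x₀ * u * u⁻¹) := c1.mul_right c2.inv_right
  rw [mul_inv_cancel_right] at c3
  exact hc ((comm_eq_one_iff _ _).2 c3.eq)

end Ex

end Cfsg.Agent.Lib.Helper24.ExtraMod
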