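import Mathlib
import Cfsg.Agent.Lib.Helper24.ExtraMod3
import Cfsg.Agent.Lib.Helper86.OrderPCube
import Cfsg.Agent.Lib.Helper33.Conj
import Cfsg.Agent.Lib.Helper19.BG14B

/-!
# A commutative odd `p'`-group acting on a nonabelian group of order `p ^ 3`, trivially on the centre
and with `C_P(k) = Z(P)` for all `k ≠ 1`, has order dividing `p - 1` or `p + 1`.

(The "cyclic `p'`-subgroups of `SL₂(p)`" step of B&G Theorem 15.7/15.8, for the S1383 hive.)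
-/

set_option autoImplicit false
set_option linter.unusedSectionVars false
set_option linter.unusedVariables false
set_option linter.style.haveILetI false

namespace Cfsg.Agent.Lib.Helper91.BG157

open Subgroup
open Cfsg.Agent.Lib.Helper24.ExtraMod
open scoped commutatorElement

variable {G : Type*} [Group G] [Finite G]

/-- a free action of a group on a type: the order of the group divides the size of the type -/
theorem sl2_card_dvd_of_free {Γ X : Type*} [Group Γ] [MulAction Γ X]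
    (h : ∀ b : X, MulAction.stabilizer Γ b = ⊥) : Nat.card Γ ∣ Nat.card X := by
  have e := MulAction.selfEquivOrbitsQuotientProd h
  rw [Nat.card_congr e, Nat.card_prod]
  exact dvd_mul_left _ _

/-- the hypotheses give an `ExLike` structure -/
theorem sl2_exLike {p : ℕ} [Fact p.Prime] {P Z : Subgroup G} (hP : Nat.card P = p ^ 3)
    (hna : ¬ ∀ a ∈ P, ∀ b ∈ P, a * b = b * a) (hZP : Z ≤ P) (hZ : Nat.card Z = p)
    (hZc : Z ≤ Subgroup.centralizer (P : Set G)) : ExLike p P Z := by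
  have hna' : ¬ ∀ a b : ↥P, a * b = b * a := by
    intro h
    apply hna
    intro a ha b hb
    exact congrArg Subtype.val (h ⟨a, ha⟩ ⟨b, hb⟩)
  obtain ⟨hc, hcomm, -⟩ := Cfsg.Agent.Lib.Helper86.nonabelian_basic p hP hna'
  have hle : Z.subgroupOf P ≤ Subgroup.center ↥P := by
    intro x hx
    rw [Subgroup.mem_center_iff]
    intro g
    have := Subgroup.mem_centralizer_iff.mp (hZc (Subgroup.mem_subgroupOf.mp hx)) g g.2
    exact Subtype.ext this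
  have heq : Z.subgroupOf P = Subgroup.center ↥P := by
    apply Subgroup.eq_of_le_of_card_ge hle
    rw [hc, Nat.card_congr (Subgroup.subgroupOfEquivOfLe hZP).toEquiv, hZ]
  refine ⟨hZ, hZP, ?_, ?_, ?_⟩
  · intro c hc g hg
    exact (Subgroup.mem_centralizer_iff.mp (hZc hc) g hg)
  · intro a ha b hb
    have h1 : ⁅(⟨a, ha⟩ : ↥P), ⟨b, hb⟩⁆ ∈ commutator ↥P :=
      Subgroup.commutator_mem_commutator (Subgroup.mem_top _) (Subgroup.mem_top _)
    rw [hcomm, ← heq] at h1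
    exact Subgroup.mem_subgroupOf.mp h1
  · intro x hx hcen
    have h1 : (⟨x, hx⟩ : ↥P) ∈ Subgroup.center ↥P := by
      rw [Subgroup.mem_center_iff]
      intro g
      exact Subtype.ext (hcen g g.2)
    rw [← heq] at h1
    exact Subgroup.mem_subgroupOf.mp h1

section Lines

variable {p : ℕ} [hp : Fact p.Prime] {P Z : Subgroup G}

/-- the line through `y`: `C_P(y)` -/
def sl2Ln (P : Subgroup G) (y : G) : Subgroup G := P ⊓ centralizer {y}

theorem mem_sl2Ln {P : Subgroup G} {y x : G} : x ∈ sl2Ln P y ↔ x ∈ P ∧ x * y = y * x := by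
  unfold sl2Ln
  rw [Subgroup.mem_inf, mem_centralizer_singleton_iff]

theorem sl2_self_mem_Ln {y : G} (hy : y ∈ P) : y ∈ sl2Ln P y := mem_sl2Ln.2 ⟨hy, rfl⟩

theorem sl2_Z_le_Ln (h : ExLike p P Z) {y : G} (hy : y ∈ P) : Z ≤ sl2Ln P y := by
  intro z hz
  exact mem_sl2Ln.2 ⟨h.Z_le hz, (h.central z hz y hy).symm⟩

theorem sl2_card_Ln (h : ExLike p P Z) (hP : Nat.card P = p ^ 3) {y : G} (hy : y ∈ P)
    (hyZ : y ∉ Z) : Nat.card (sl2Ln P y) = p ^ 2 := by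
  have hpp : p.Prime := hp.out
  have h1 := h.card_le hy P le_rfl
  rw [hP] at h1
  have h2 : Nat.card (sl2Ln P y) ∣ p ^ 3 := by
    rw [← hP]
    exact Subgroup.card_dvd_of_le inf_le_left
  obtain ⟨k, hk3, hk⟩ := (Nat.dvd_prime_pow hpp).mp h2
  have h3 : sl2Ln P y = P ⊓ centralizer {y} := rfl
  rw [← h3, hk] at h1
  have hk2 : 2 ≤ k := by
    by_contra hlt
    push Not at hlt
    have : p * p ^ k ≤ p * p ^ 1 :=
      Nat.mul_le_mul_left _ (Nat.pow_le_pow_right hpp.pos (by omega))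
    have h4 : p ^ 3 ≤ p * p ^ 1 := h1.trans this
    have h5 : p * p ^ 1 = p ^ 2 := by ring
    rw [h5] at h4
    have := (Nat.pow_lt_pow_right hpp.one_lt (show 2 < 3 by norm_num))
    omega
  have hk3' : k ≠ 3 := by
    intro h3k
    rw [h3k, ← hP] at hk
    have hle : sl2Ln P y ≤ P := inf_le_left
    have heq : sl2Ln P y = P := Subgroup.eq_of_le_of_card_ge hle (le_of_eq hk.symm)
    apply hyZ
    apply h.center_le y hy
    intro g hg
    have : g ∈ sl2Ln P y := by rw [heq]; exact hg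
    exact (mem_sl2Ln.1 this).2
  have : k = 2 := by omega
  rw [hk, this]

theorem sl2_Ln_comm (h : ExLike p P Z) (hP : Nat.card P = p ^ 3) {y : G} (hy : y ∈ P)
    (hyZ : y ∉ Z) : ∀ a ∈ sl2Ln P y, ∀ b ∈ sl2Ln P y, a * b = b * a := by
  intro a ha b hb
  have hc : IsMulCommutative ↥(sl2Ln P y) :=
    IsPGroup.isMulCommutative_of_card_eq_prime_sq (sl2_card_Ln h hP hy hyZ)
  have := hc.is_comm.comm (⟨a, ha⟩ : ↥(sl2Ln P y)) ⟨b, hb⟩
  exact congrArg Subtype.val this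

/-- two noncentral commuting elements define the same line -/
theorem sl2_Ln_eq (h : ExLike p P Z) (hP : Nat.card P = p ^ 3) {y y' : G} (hy : y ∈ P)
    (hyZ : y ∉ Z) (hy' : y' ∈ P) (hy'Z : y' ∉ Z) (hc : y' * y = y * y') : sl2Ln P y' = sl2Ln P y := by
  symm
  apply Subgroup.eq_of_le_of_card_ge
  · intro x hx
    refine mem_sl2Ln.2 ⟨(mem_sl2Ln.1 hx).1, ?_⟩
    exact sl2_Ln_comm h hP hy hyZ x hx y' (mem_sl2Ln.2 ⟨hy', hc⟩)
  · rw [sl2_card_Ln h hP hy hyZ, sl2_card_Ln h hP hy' hy'Z]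

end Lines


/-- the configuration of the lemma -/
structure SL2Cfg (p : ℕ) (P K Z : Subgroup G) : Prop where
  ex : ExLike p P Z
  card : Nat.card P = p ^ 3
  norm : K ≤ normalizer (P : Set G)
  comm : ∀ a ∈ K, ∀ b ∈ K, a * b = b * a
  odd : Odd (Nat.card K)
  cop : (Nat.card K).Coprime p
  centZ : K ≤ centralizer (Z : Set G)
  reg : ∀ k ∈ K, k ≠ 1 → P ⊓ centralizer ({k} : Set G) ≤ Z

section Cfg

variable {p : ℕ} [hp : Fact p.Prime] {P K Z : Subgroup G}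

theorem SL2Cfg.conj_mem (c : SL2Cfg p P K Z) {k y : G} (hk : k ∈ K) (hy : y ∈ P) :
    k * y * k⁻¹ ∈ P := (mem_normalizer_iff.mp (c.norm hk) y).mp hy

theorem SL2Cfg.conj_Z (c : SL2Cfg p P K Z) {k z : G} (hk : k ∈ K) (hz : z ∈ Z) :
    k * z * k⁻¹ = z := by
  have := mem_centralizer_iff.mp (c.centZ hk) z hz
  rw [← this]; group

theorem SL2Cfg.conj_not_mem (c : SL2Cfg p P K Z) {k y : G} (hk : k ∈ K) (hy : y ∉ Z) :
    k * y * k⁻¹ ∉ Z := by
  intro h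
  apply hy
  have h1 := c.conj_Z (K.inv_mem hk) h
  have h2 : k⁻¹ * (k * y * k⁻¹) * k⁻¹⁻¹ = y := by group
  rw [h2] at h1
  rw [h1]; exact h

/-- `k x k⁻¹ ∈ C_P(k y k⁻¹)` for `x ∈ C_P(y)` -/
theorem SL2Cfg.conj_mem_Ln (c : SL2Cfg p P K Z) {k x y : G} (hk : k ∈ K) (hx : x ∈ sl2Ln P y) :
    k * x * k⁻¹ ∈ sl2Ln P (k * y * k⁻¹) := by
  obtain ⟨hxP, hxy⟩ := mem_sl2Ln.1 hx
  refine mem_sl2Ln.2 ⟨c.conj_mem hk hxP, ?_⟩
  calc k * x * k⁻¹ * (k * y * k⁻¹) = k * (x * y) * k⁻¹ := by group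
    _ = k * (y * x) * k⁻¹ := by rw [hxy]
    _ = k * y * k⁻¹ * (k * x * k⁻¹) := by group

/-- an element of `K` fixing a coset `uZ`, `u ∉ Z`, is trivial -/
theorem SL2Cfg.eq_one_of_coset (c : SL2Cfg p P K Z) {s u z₀ : G} (hs : s ∈ K) (hu : u ∈ P)
    (huZ : u ∉ Z) (hz₀ : z₀ ∈ Z) (h : s * u * s⁻¹ = u * z₀) : s = 1 := by
  have hpow : ∀ m : ℕ, s ^ m * u * (s ^ m)⁻¹ = u * z₀ ^ m := by
    intro m
    induction m with
    | zero => simp
    | succ m ih =>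
      have hzm : s * z₀ ^ m * s⁻¹ = z₀ ^ m := c.conj_Z hs (Z.pow_mem hz₀ m)
      calc s ^ (m + 1) * u * (s ^ (m + 1))⁻¹ = s * (s ^ m * u * (s ^ m)⁻¹) * s⁻¹ := by
            rw [pow_succ']; group
        _ = s * (u * z₀ ^ m) * s⁻¹ := by rw [ih]
        _ = (s * u * s⁻¹) * (s * z₀ ^ m * s⁻¹) := by group
        _ = u * z₀ * z₀ ^ m := by rw [h, hzm]
        _ = u * z₀ ^ (m + 1) := by rw [pow_succ', mul_assoc]
  have h1 := hpow (orderOf s)
  rw [pow_orderOf_eq_one] at h1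
  have h2 : z₀ ^ orderOf s = 1 := by
    have : u * 1 = u * z₀ ^ orderOf s := by simpa using h1
    exact (mul_left_cancel this).symm
  have h3 : z₀ ^ p = 1 := c.ex.pow_eq_one hz₀
  have hcop : (orderOf s).Coprime p := by
    have hd : orderOf s ∣ Nat.card K := by
      have := orderOf_dvd_natCard (⟨s, hs⟩ : ↥K)
      rwa [Subgroup.orderOf_mk] at this
    exact Nat.Coprime.coprime_dvd_left hd c.cop
  have h4 : z₀ = 1 := by
    have hd : orderOf z₀ ∣ Nat.gcd (orderOf s) p :=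
      Nat.dvd_gcd (orderOf_dvd_of_pow_eq_one h2) (orderOf_dvd_of_pow_eq_one h3)
    rw [hcop] at hd
    exact orderOf_eq_one_iff.mp (Nat.dvd_one.mp hd)
  rw [h4, mul_one] at h
  by_contra hs1
  apply huZ
  apply c.reg s hs hs1
  refine Subgroup.mem_inf.mpr ⟨hu, ?_⟩
  rw [mem_centralizer_singleton_iff]
  calc u * s = (s * u * s⁻¹) * s := by rw [h]
    _ = s * u := by group

/-- the line through `u` is `⟨u⟩ Z` -/
theorem SL2Cfg.exists_pow_mul (c : SL2Cfg p P K Z) {u x : G} (hu : u ∈ P) (huZ : u ∉ Z)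
    (hx : x ∈ sl2Ln P u) : ∃ i : ℕ, ∃ z ∈ Z, x = u ^ i * z := by
  have hpp : p.Prime := hp.out
  have hle : zpowers u ⊔ Z ≤ sl2Ln P u :=
    sup_le (by rw [zpowers_le]; exact sl2_self_mem_Ln hu) (sl2_Z_le_Ln c.ex hu)
  have heq : zpowers u ⊔ Z = sl2Ln P u := by
    apply Subgroup.eq_of_le_of_card_ge hle
    rw [sl2_card_Ln c.ex c.card hu huZ]
    have h2 : Nat.card ↥(zpowers u ⊔ Z) ∣ p ^ 2 := by
      rw [← sl2_card_Ln c.ex c.card hu huZ]
      exact Subgroup.card_dvd_of_le hle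
    obtain ⟨k, hk2, hk⟩ := (Nat.dvd_prime_pow hpp).mp h2
    rw [hk]
    have hk1 : ¬ k ≤ 1 := by
      intro hk1
      have h3 : Nat.card ↥(zpowers u ⊔ Z) ≤ Nat.card Z := by
        rw [hk, c.ex.card_Z]
        calc p ^ k ≤ p ^ 1 := Nat.pow_le_pow_right hpp.pos hk1
          _ = p := pow_one p
      have h4 : Z = zpowers u ⊔ Z := Subgroup.eq_of_le_of_card_ge le_sup_right h3
      apply huZ
      rw [h4]
      exact Subgroup.mem_sup_left (mem_zpowers u)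
    have : k = 2 := by omega
    rw [this]
  rw [← heq] at hx
  have hn : zpowers u ≤ normalizer (Z : Set G) := by
    rw [zpowers_le, mem_normalizer_iff]
    intro z
    constructor
    · intro hz
      have : u * z * u⁻¹ = z := by
        rw [c.ex.central z hz u hu]; group
      rw [this]; exact hz
    · intro hz
      have h1 := c.ex.central _ hz u⁻¹ (P.inv_mem hu)
      have : z = u⁻¹ * (u * z * u⁻¹) * u := by group
      rw [this, h1]
      have : u * z * u⁻¹ * u⁻¹ * u = u * z * u⁻¹ := by group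
      rw [this]; exact hz
  obtain ⟨a, ha, z, hz, rfl⟩ := Cfsg.Agent.Lib.Helper19.BG14.mul_decomp hn hx
  have ha' : a ∈ Submonoid.powers u := mem_powers_iff_mem_zpowers.mpr ha
  obtain ⟨i, rfl⟩ := (Submonoid.mem_powers_iff _ _).mp ha'
  exact ⟨i, z, hz, rfl⟩

theorem SL2Cfg.comm_Z_left (c : SL2Cfg p P K Z) {z x : G} (hz : z ∈ Z) (hx : x ∈ P) :
    ⁅z, x⁆ = 1 :=
  (comm_eq_one_iff z x).2 (c.ex.central z hz x hx).symm

theorem SL2Cfg.comm_left (c : SL2Cfg p P K Z) {u v z : G} (hu : u ∈ P) (hv : v ∈ P) (hz : z ∈ Z)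
    (i : ℕ) : ⁅u ^ i * z, v⁆ = ⁅u, v⁆ ^ i := by
  rw [c.ex.comm_mul_left (P.pow_mem hu i) (c.ex.Z_le hz) hv, c.ex.comm_pow_left hu hv,
    c.comm_Z_left hz hv, mul_one]

theorem SL2Cfg.comm_right (c : SL2Cfg p P K Z) {a v z : G} (ha : a ∈ P) (hv : v ∈ P) (hz : z ∈ Z)
    (j : ℕ) : ⁅a, v ^ j * z⁆ = ⁅a, v⁆ ^ j := by
  have e : ⁅a, v ^ j * z⁆ = ⁅v ^ j * z, a⁆⁻¹ := (commutatorElement_inv _ _).symm
  rw [e, c.comm_left hv ha hz j, ← inv_pow, commutatorElement_inv]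

theorem SL2Cfg.pairing (c : SL2Cfg p P K Z) {t u v z z' : G} (ht : t ∈ K) (hu : u ∈ P)
    (hv : v ∈ P) (hz : z ∈ Z) (hz' : z' ∈ Z) {i j : ℕ} (h1 : t * u * t⁻¹ = u ^ i * z)
    (h2 : t * v * t⁻¹ = v ^ j * z') : ⁅u, v⁆ = ⁅u, v⁆ ^ (i * j) := by
  have e1 : t * ⁅u, v⁆ * t⁻¹ = ⁅t * u * t⁻¹, t * v * t⁻¹⁆ := by
    simp only [commutatorElement_def]; group
  have e2 : t * ⁅u, v⁆ * t⁻¹ = ⁅u, v⁆ := c.conj_Z ht (c.ex.comm_mem u hu v hv)
  calc ⁅u, v⁆ = t * ⁅u, v⁆ * t⁻¹ := e2.symm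
    _ = ⁅u ^ i * z, v ^ j * z'⁆ := by rw [e1, h1, h2]
    _ = ⁅u, v⁆ ^ (i * j) := by
      rw [c.comm_right (mul_mem (pow_mem hu i) (c.ex.Z_le hz)) hv hz' j, c.comm_left hu hv hz i,
        ← pow_mul]

theorem SL2Cfg.pairing_mod (c : SL2Cfg p P K Z) {t u v z z' : G} (ht : t ∈ K) (hu : u ∈ P)
    (hv : v ∈ P) (hz : z ∈ Z) (hz' : z' ∈ Z) {i j : ℕ} (h1 : t * u * t⁻¹ = u ^ i * z)
    (h2 : t * v * t⁻¹ = v ^ j * z') (hne : u * v ≠ v * u) : (i : ZMod p) * (j : ZMod p) = 1 := by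
  have h := c.pairing ht hu hv hz hz' h1 h2
  have hc1 : ⁅u, v⁆ ≠ 1 := fun e => hne ((comm_eq_one_iff u v).1 e)
  have ho : orderOf ⁅u, v⁆ = p := c.ex.orderOf_eq (c.ex.comm_mem u hu v hv) hc1
  have h' : ⁅u, v⁆ ^ 1 = ⁅u, v⁆ ^ (i * j) := by rw [pow_one]; exact h
  rw [pow_eq_pow_iff_modEq, ho] at h'
  have := (ZMod.natCast_eq_natCast_iff _ _ _).mpr h'
  push_cast at this
  exact this.symm

theorem SL2Cfg.orderOf_dvd (c : SL2Cfg p P K Z) {t : G} (ht : t ∈ K) : orderOf t ∣ Nat.card K := by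
  have := orderOf_dvd_natCard (⟨t, ht⟩ : ↥K)
  rwa [Subgroup.orderOf_mk] at this

/-- an element of `K` with three pairwise distinct invariant lines is trivial -/
theorem SL2Cfg.three_lines (c : SL2Cfg p P K Z) {t u v w : G} (ht : t ∈ K) (hu : u ∈ P)
    (huZ : u ∉ Z) (hv : v ∈ P) (hvZ : v ∉ Z) (hw : w ∈ P) (hwZ : w ∉ Z)
    (huv : u * v ≠ v * u) (huw : u * w ≠ w * u) (hvw : v * w ≠ w * v)
    (h1 : t * u * t⁻¹ ∈ sl2Ln P u) (h2 : t * v * t⁻¹ ∈ sl2Ln P v) (h3 : t * w * t⁻¹ ∈ sl2Ln P w) :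
    t = 1 := by
  have hpp : p.Prime := hp.out
  obtain ⟨i, z₁, hz₁, e₁⟩ := c.exists_pow_mul hu huZ h1
  obtain ⟨j, z₂, hz₂, e₂⟩ := c.exists_pow_mul hv hvZ h2
  obtain ⟨k, z₃, hz₃, e₃⟩ := c.exists_pow_mul hw hwZ h3
  have m1 := c.pairing_mod ht hu hv hz₁ hz₂ e₁ e₂ huv
  have m2 := c.pairing_mod ht hu hw hz₁ hz₃ e₁ e₃ huw
  have m3 := c.pairing_mod ht hv hw hz₂ hz₃ e₂ e₃ hvw
  have hik : (i : ZMod p) = k := by
    calc (i : ZMod p) = i * (j * k) := by rw [m3, mul_one]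
      _ = (i * j) * k := by ring
      _ = k := by rw [m1, one_mul]
  have hii : ((i * i : ℕ) : ZMod p) = ((1 : ℕ) : ZMod p) := by
    push_cast
    nth_rewrite 2 [hik]
    exact m2
  have hmod : i * i ≡ 1 [MOD p] := (ZMod.natCast_eq_natCast_iff _ _ _).mp hii
  have hii1 : 1 ≤ i * i := by
    by_contra h0
    have h00 : i * i = 0 := by omega
    rw [h00] at hmod
    have := (Nat.modEq_iff_dvd' (Nat.zero_le 1)).mp hmod
    have h1p : p ∣ 1 := by simpa using this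
    exact hpp.one_lt.ne' (Nat.dvd_one.mp h1p)
  obtain ⟨q, hq⟩ : ∃ q, i * i = 1 + p * q := by
    obtain ⟨q, hq⟩ := (Nat.modEq_iff_dvd' hii1).mp hmod.symm
    exact ⟨q, by omega⟩
  have hcomm : Commute (u ^ i) z₁ := c.ex.central z₁ hz₁ (u ^ i) (pow_mem hu i)
  have ht2 : (t * t) * u * (t * t)⁻¹ = u * ((u ^ p) ^ q * z₁ ^ i * z₁) := by
    calc (t * t) * u * (t * t)⁻¹ = t * (t * u * t⁻¹) * t⁻¹ := by group
      _ = t * (u ^ i * z₁) * t⁻¹ := by rw [e₁]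
      _ = (t * u * t⁻¹) ^ i * (t * z₁ * t⁻¹) := by rw [conj_pow]; group
      _ = (u ^ i * z₁) ^ i * z₁ := by rw [e₁, c.conj_Z ht hz₁]
      _ = (u ^ i) ^ i * z₁ ^ i * z₁ := by rw [hcomm.mul_pow]
      _ = u ^ (i * i) * z₁ ^ i * z₁ := by rw [← pow_mul]
      _ = u * ((u ^ p) ^ q * z₁ ^ i * z₁) := by
        rw [hq, pow_add, pow_one, pow_mul]; group
  have hz : (u ^ p) ^ q * z₁ ^ i * z₁ ∈ Z :=
    mul_mem (mul_mem (pow_mem (c.ex.pow_p_mem hu) q) (pow_mem hz₁ i)) hz₁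
  have ht2' := c.eq_one_of_coset (K.mul_mem ht ht) hu huZ hz ht2
  have ho : orderOf t ∣ 2 := orderOf_dvd_of_pow_eq_one (by rw [pow_two]; exact ht2')
  have hodd : Odd (orderOf t) := Odd.of_dvd_nat c.odd (c.orderOf_dvd ht)
  have : orderOf t = 1 := by
    rcases (Nat.dvd_prime Nat.prime_two).mp ho with h | h
    · exact h
    · rw [h] at hodd
      exact absurd hodd (by decide)
  exact orderOf_eq_one_iff.mp this

/-- `|L \ Z| = |L| - |Z|` -/
theorem sl2_card_diff (L Z : Subgroup G) (h : Z ≤ L) :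
    Nat.card {y : G // y ∈ L ∧ y ∉ Z} = Nat.card L - Nat.card Z := by
  have h1 : Nat.card {y : G // y ∈ L ∧ y ∉ Z} = ((L : Set G) \ (Z : Set G)).ncard := by
    rw [← Nat.card_coe_set_eq]
    rfl
  rw [h1, Set.ncard_sdiff (by exact_mod_cast h), ← Nat.card_coe_set_eq, ← Nat.card_coe_set_eq]
  rfl

open Cfsg.Agent.Lib.Helper33 in
/-- for `k ∈ K` and `u ∈ P \ Z`: `k` maps `u` into its line iff `k` normalizes the line -/
theorem SL2Cfg.fix_iff (c : SL2Cfg p P K Z) {k u : G} (hk : k ∈ K) (hu : u ∈ P) (huZ : u ∉ Z) :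
    k * u * k⁻¹ ∈ sl2Ln P u ↔ k ∈ normalizer (sl2Ln P u : Set G) := by
  constructor
  · intro h
    rw [← cj_eq_self_iff]
    apply Subgroup.eq_of_le_of_card_ge _ (le_of_eq (card_cj k (sl2Ln P u)).symm)
    intro x hx
    obtain ⟨y, hy, rfl⟩ := mem_cj'.mp hx
    have h1 := c.conj_mem_Ln hk hy
    rw [sl2_Ln_eq c.ex c.card hu huZ (c.conj_mem hk hu) (c.conj_not_mem hk huZ)
      (mem_sl2Ln.1 h).2] at h1
    exact h1
  · intro h
    exact (mem_normalizer_iff.mp h u).mp (sl2_self_mem_Ln hu)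

/-- **key lemma**: if some `t ≠ 1` of `K` normalizes a line then all of `K` does -/
theorem SL2Cfg.le_normalizer_of_fix (c : SL2Cfg p P K Z) {t u : G} (ht : t ∈ K) (ht1 : t ≠ 1)
    (hu : u ∈ P) (huZ : u ∉ Z) (h : t ∈ normalizer (sl2Ln P u : Set G)) :
    K ≤ normalizer (sl2Ln P u : Set G) := by
  intro s hs
  rw [← c.fix_iff hs hu huZ]
  by_contra hcon
  have h0 : t * u * t⁻¹ ∈ sl2Ln P u := (c.fix_iff ht hu huZ).2 h
  set u₁ := s * u * s⁻¹ with hu₁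
  set u₂ := s * u₁ * s⁻¹ with hu₂
  have hu₁P : u₁ ∈ P := c.conj_mem hs hu
  have hu₁Z : u₁ ∉ Z := c.conj_not_mem hs huZ
  have hu₂P : u₂ ∈ P := c.conj_mem hs hu₁P
  have hu₂Z : u₂ ∉ Z := c.conj_not_mem hs hu₁Z
  have hts : t * s = s * t := c.comm t ht s hs
  have hconj : ∀ y : G, t * (s * y * s⁻¹) * t⁻¹ = s * (t * y * t⁻¹) * s⁻¹ := by
    intro y
    calc t * (s * y * s⁻¹) * t⁻¹ = (t * s) * y * (t * s)⁻¹ := by group
      _ = (s * t) * y * (s * t)⁻¹ := by rw [hts]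
      _ = s * (t * y * t⁻¹) * s⁻¹ := by group
  have h1 : t * u₁ * t⁻¹ ∈ sl2Ln P u₁ := by
    rw [hu₁, hconj u]
    exact c.conj_mem_Ln hs h0
  have h2 : t * u₂ * t⁻¹ ∈ sl2Ln P u₂ := by
    rw [hu₂, hconj u₁]
    exact c.conj_mem_Ln hs h1
  have hnc01 : u * u₁ ≠ u₁ * u := by
    intro e
    exact hcon (mem_sl2Ln.2 ⟨hu₁P, e.symm⟩)
  have hnc12 : u₁ * u₂ ≠ u₂ * u₁ := by
    intro e
    apply hnc01
    have e' : s * (u * u₁) * s⁻¹ = s * (u₁ * u) * s⁻¹ := by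
      calc s * (u * u₁) * s⁻¹ = (s * u * s⁻¹) * (s * u₁ * s⁻¹) := by group
        _ = u₁ * u₂ := rfl
        _ = u₂ * u₁ := e
        _ = (s * u₁ * s⁻¹) * (s * u * s⁻¹) := rfl
        _ = s * (u₁ * u) * s⁻¹ := by group
    exact mul_left_cancel (mul_right_cancel e')
  have hnc02 : u * u₂ ≠ u₂ * u := by
    intro e
    -- `s * s` normalizes the line, hence so does `s`
    have hss : (s * s) * u * (s * s)⁻¹ ∈ sl2Ln P u := by
      have : (s * s) * u * (s * s)⁻¹ = u₂ := by rw [hu₂, hu₁]; group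
      rw [this]
      exact mem_sl2Ln.2 ⟨hu₂P, e.symm⟩
    have hssN : s * s ∈ normalizer (sl2Ln P u : Set G) :=
      (c.fix_iff (K.mul_mem hs hs) hu huZ).1 hss
    have hodd : Odd (orderOf s) := Odd.of_dvd_nat c.odd (c.orderOf_dvd hs)
    obtain ⟨m, hm⟩ := hodd
    have hpow : (s * s) ^ (m + 1) = s := by
      rw [← pow_two, ← pow_mul]
      have : 2 * (m + 1) = orderOf s + 1 := by omega
      rw [this, pow_succ, pow_orderOf_eq_one, one_mul]
    have hsN : s ∈ normalizer (sl2Ln P u : Set G) := by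
      rw [← hpow]
      exact Subgroup.pow_mem _ hssN _
    exact hcon ((c.fix_iff hs hu huZ).2 hsN)
  exact ht1 (c.three_lines ht hu huZ hu₁P hu₁Z hu₂P hu₂Z hnc01 hnc02 hnc12 h0 h1 h2)

/-- if `K` normalizes a line then `|K|` divides `p - 1` -/
theorem SL2Cfg.dvd_pred (c : SL2Cfg p P K Z) {u : G} (hu : u ∈ P) (huZ : u ∉ Z)
    (hN : K ≤ normalizer (sl2Ln P u : Set G)) : Nat.card K ∣ p - 1 := by
  have hmem : ∀ (k : ↥K) (y : {y : G // y ∈ sl2Ln P u ∧ y ∉ Z}),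
      (k : G) * y.1 * (k : G)⁻¹ ∈ sl2Ln P u ∧ (k : G) * y.1 * (k : G)⁻¹ ∉ Z := fun k y =>
    ⟨(mem_normalizer_iff.mp (hN k.2) y.1).mp y.2.1, c.conj_not_mem k.2 y.2.2⟩
  letI : MulAction ↥K {y : G // y ∈ sl2Ln P u ∧ y ∉ Z} :=
    { smul := fun k y => ⟨(k : G) * y.1 * (k : G)⁻¹, hmem k y⟩
      one_smul := by
        intro y
        apply Subtype.ext
        show ((1 : ↥K) : G) * y.1 * ((1 : ↥K) : G)⁻¹ = y.1
        simp
      mul_smul := by
        intro a b y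
        apply Subtype.ext
        show ((a * b : ↥K) : G) * y.1 * ((a * b : ↥K) : G)⁻¹
          = (a : G) * ((b : G) * y.1 * (b : G)⁻¹) * (a : G)⁻¹
        rw [Subgroup.coe_mul]
        group }
  have hfree : ∀ y : {y : G // y ∈ sl2Ln P u ∧ y ∉ Z}, MulAction.stabilizer ↥K y = ⊥ := by
    intro y
    rw [Subgroup.eq_bot_iff_forall]
    intro k hk
    rw [MulAction.mem_stabilizer_iff] at hk
    have hk' : (k : G) * y.1 * (k : G)⁻¹ = y.1 := congrArg Subtype.val hk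
    by_contra hk1
    have hk1' : (k : G) ≠ 1 := fun e => hk1 (Subtype.ext e)
    apply y.2.2
    apply c.reg k k.2 hk1'
    refine Subgroup.mem_inf.mpr ⟨(mem_sl2Ln.1 y.2.1).1, ?_⟩
    rw [mem_centralizer_singleton_iff]
    calc y.1 * (k : G) = ((k : G) * y.1 * (k : G)⁻¹) * k := by rw [hk']
      _ = k * y.1 := by group
  have hdvd := sl2_card_dvd_of_free hfree
  rw [sl2_card_diff _ _ (sl2_Z_le_Ln c.ex hu), sl2_card_Ln c.ex c.card hu huZ, c.ex.card_Z] at hdvd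
  have e : p ^ 2 - p = p * (p - 1) := by rw [Nat.mul_sub, mul_one, sq]
  rw [e] at hdvd
  exact Nat.Coprime.dvd_of_dvd_mul_left c.cop hdvd

theorem sl2_arith {p N : ℕ} (hp : 2 ≤ p) (h : p ^ 3 - p = N * (p ^ 2 - p)) : N = p + 1 := by
  obtain ⟨q, rfl⟩ := Nat.exists_eq_add_of_le hp
  have e2 : (2 + q) ^ 2 - (2 + q) = (2 + q) * (1 + q) := Nat.sub_eq_of_eq_add (by ring)
  have e3 : (2 + q) ^ 3 - (2 + q) = (3 + q) * ((2 + q) * (1 + q)) :=
    Nat.sub_eq_of_eq_add (by ring)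
  rw [e2, e3] at h
  have := Nat.eq_of_mul_eq_mul_right (by positivity) h
  omega

open Cfsg.Agent.Lib.Helper33 in
/-- if no nontrivial element of `K` normalizes a line then `|K|` divides `p + 1` -/
theorem SL2Cfg.dvd_succ (c : SL2Cfg p P K Z)
    (hfree : ∀ u ∈ P, u ∉ Z → ∀ t ∈ K, t ∈ normalizer (sl2Ln P u : Set G) → t = 1) :
    Nat.card K ∣ p + 1 := by
  have hpp : p.Prime := hp.out
  have hcj : ∀ k : G, k ∈ K → ∀ u : G, cj k (sl2Ln P u) = sl2Ln P (k * u * k⁻¹) := by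
    intro k hk u
    ext x
    rw [mem_cj, mem_sl2Ln, mem_sl2Ln]
    constructor
    · rintro ⟨h1, h2⟩
      refine ⟨?_, ?_⟩
      · have := c.conj_mem hk h1
        have e : k * (k⁻¹ * x * k) * k⁻¹ = x := by group
        rwa [e] at this
      · calc x * (k * u * k⁻¹) = k * ((k⁻¹ * x * k) * u) * k⁻¹ := by group
          _ = k * (u * (k⁻¹ * x * k)) * k⁻¹ := by rw [h2]
          _ = k * u * k⁻¹ * x := by group
    · rintro ⟨h1, h2⟩
      refine ⟨?_, ?_⟩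
      · have := c.conj_mem (K.inv_mem hk) h1
        rwa [inv_inv] at this
      · calc k⁻¹ * x * k * u = k⁻¹ * (x * (k * u * k⁻¹)) * k := by group
          _ = k⁻¹ * ((k * u * k⁻¹) * x) * k := by rw [h2]
          _ = u * (k⁻¹ * x * k) := by group
  letI : MulAction ↥K {L : Subgroup G // ∃ u, u ∈ P ∧ u ∉ Z ∧ L = sl2Ln P u} :=
    { smul := fun k L => ⟨cj (k : G) L.1, by
        obtain ⟨u, hu, huZ, hL⟩ := L.2
        exact ⟨(k : G) * u * (k : G)⁻¹, c.conj_mem k.2 hu, c.conj_not_mem k.2 huZ, by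
          rw [hL, hcj _ k.2]⟩⟩
      one_smul := by
        intro L
        apply Subtype.ext
        show cj ((1 : ↥K) : G) L.1 = L.1
        rw [Subgroup.coe_one, cj_one]
      mul_smul := by
        intro a b L
        apply Subtype.ext
        show cj ((a * b : ↥K) : G) L.1 = cj (a : G) (cj (b : G) L.1)
        rw [Subgroup.coe_mul, cj_mul] }
  have hstab : ∀ L : {L : Subgroup G // ∃ u, u ∈ P ∧ u ∉ Z ∧ L = sl2Ln P u},
      MulAction.stabilizer ↥K L = ⊥ := by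
    intro L
    rw [Subgroup.eq_bot_iff_forall]
    intro k hk
    rw [MulAction.mem_stabilizer_iff] at hk
    have hk' : cj (k : G) L.1 = L.1 := congrArg Subtype.val hk
    obtain ⟨u, hu, huZ, hL⟩ := L.2
    rw [cj_eq_self_iff, hL] at hk'
    exact Subtype.ext (hfree u hu huZ k k.2 hk')
  have hdvd := sl2_card_dvd_of_free hstab
  -- counting the lines
  let f : {y : G // y ∈ P ∧ y ∉ Z} → {L : Subgroup G // ∃ u, u ∈ P ∧ u ∉ Z ∧ L = sl2Ln P u} :=
    fun y => ⟨sl2Ln P y.1, y.1, y.2.1, y.2.2, rfl⟩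
  have hfib : ∀ ℓ : {L : Subgroup G // ∃ u, u ∈ P ∧ u ∉ Z ∧ L = sl2Ln P u},
      Nat.card {y : {y : G // y ∈ P ∧ y ∉ Z} // f y = ℓ} = p ^ 2 - p := by
    intro ℓ
    obtain ⟨u, hu, huZ, hL⟩ := ℓ.2
    have e : {y : {y : G // y ∈ P ∧ y ∉ Z} // f y = ℓ} ≃ {y : G // y ∈ sl2Ln P u ∧ y ∉ Z} :=
      { toFun := fun y => ⟨y.1.1, by
          have h1 : sl2Ln P y.1.1 = ℓ.1 := congrArg Subtype.val y.2
          have h2 : y.1.1 ∈ sl2Ln P y.1.1 := sl2_self_mem_Ln y.1.2.1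
          rw [h1, hL] at h2
          exact ⟨h2, y.1.2.2⟩⟩
        invFun := fun y => ⟨⟨y.1, (mem_sl2Ln.1 y.2.1).1, y.2.2⟩, by
          apply Subtype.ext
          show sl2Ln P y.1 = ℓ.1
          rw [hL]
          exact sl2_Ln_eq c.ex c.card hu huZ (mem_sl2Ln.1 y.2.1).1 y.2.2 (mem_sl2Ln.1 y.2.1).2⟩
        left_inv := fun y => rfl
        right_inv := fun y => rfl }
    rw [Nat.card_congr e, sl2_card_diff _ _ (sl2_Z_le_Ln c.ex hu), sl2_card_Ln c.ex c.card hu huZ,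
      c.ex.card_Z]
  haveI : Fintype {L : Subgroup G // ∃ u, u ∈ P ∧ u ∉ Z ∧ L = sl2Ln P u} := Fintype.ofFinite _
  have hY : Nat.card {y : G // y ∈ P ∧ y ∉ Z}
      = Nat.card {L : Subgroup G // ∃ u, u ∈ P ∧ u ∉ Z ∧ L = sl2Ln P u} * (p ^ 2 - p) := by
    rw [Nat.card_congr (Equiv.sigmaFiberEquiv f).symm, Nat.card_sigma]
    simp only [hfib, Finset.sum_const, Finset.card_univ, smul_eq_mul, Nat.card_eq_fintype_card]
  rw [sl2_card_diff _ _ c.ex.Z_le, c.card, c.ex.card_Z] at hY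
  rw [sl2_arith hpp.two_le hY] at hdvd
  exact hdvd

end Cfg

/-- **Leaf SL2 of the BG157 hive (S1383)**: a commutative group `K` of odd order prime to `p` acting
on a nonabelian group `P` of order `p ^ 3`, trivially on the central subgroup `Z` of order `p` and
with `C_P(k) ≤ Z` for all `k ∈ K`, `k ≠ 1`, has order dividing `p - 1` or `p + 1`. -/
theorem card_dvd_of_abelian_on_extraspecial {p : ℕ} [Fact p.Prime] {P K Z : Subgroup G}
    (hP : Nat.card P = p ^ 3) (hna : ¬ ∀ a ∈ P, ∀ b ∈ P, a * b = b * a) (hZP : Z ≤ P)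
    (hZ : Nat.card Z = p) (hZc : Z ≤ Subgroup.centralizer (P : Set G))
    (hKP : K ≤ Subgroup.normalizer (P : Set G)) (hKc : ∀ a ∈ K, ∀ b ∈ K, a * b = b * a)
    (hKodd : Odd (Nat.card K)) (hKp : (Nat.card K).Coprime p)
    (hKZ : K ≤ Subgroup.centralizer (Z : Set G))
    (hreg : ∀ k ∈ K, k ≠ 1 → P ⊓ Subgroup.centralizer ({k} : Set G) ≤ Z) :
    Nat.card K ∣ p - 1 ∨ Nat.card K ∣ p + 1 := by
  have c : SL2Cfg p P K Z :=
    ⟨sl2_exLike hP hna hZP hZ hZc, hP, hKP, hKc, hKodd, hKp, hKZ, hreg⟩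
  by_cases h : ∃ u, u ∈ P ∧ u ∉ Z ∧ ∃ t ∈ K, t ≠ 1 ∧ t ∈ normalizer (sl2Ln P u : Set G)
  · obtain ⟨u, hu, huZ, t, ht, ht1, htN⟩ := h
    exact Or.inl (c.dvd_pred hu huZ (c.le_normalizer_of_fix ht ht1 hu huZ htN))
  · right
    apply c.dvd_succ
    intro u hu huZ t ht htN
    by_contra ht1
    exact h ⟨u, hu, huZ, t, ht, ht1, htN⟩


end Cfsg.Agent.Lib.Helper91.BG157
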