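import Cfsg.Agent.Lib.Helper29.ClassTwo

set_option autoImplicit false
set_option linter.style.haveILetI false

/-!
# Baer's trick for groups of class at most two and odd prime exponent

On a group `D` with `D' ≤ Z(D)` and `x ^ p = 1` for all `x` (`p` odd), the operation
`x ⊕ y = x y [y, x]^((p+1)/2)` is an abelian group law with the same automorphisms.
-/

namespace Cfsg.Agent.Lib.Helper24

open Cfsg.Agent.Lib.Helper29

/-- hypotheses for Baer's trick -/
structure BaerHyp (D : Type*) [Group D] (p : ℕ) : Prop where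
  class2 : commutator D ≤ Subgroup.center D
  exp : ∀ x : D, x ^ p = 1
  odd : Odd p

section baer
variable {D : Type*} [Group D] {p : ℕ}

/-- the Baer sum -/
def badd (p : ℕ) (x y : D) : D := x * y * (cm y x) ^ ((p + 1) / 2)

theorem BaerHyp.two_mul_half (hyp : BaerHyp D p) : 2 * ((p + 1) / 2) = p + 1 := by
  obtain ⟨k, hk⟩ := hyp.odd
  omega

theorem BaerHyp.central (hyp : BaerHyp D p) (a b g : D) (n : ℕ) :
    g * (cm a b) ^ n = (cm a b) ^ n * g :=
  (Commute.pow_right (show Commute g (cm a b) from cm_comm hyp.class2 a b g) n).eq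

theorem BaerHyp.cm_pow_p (hyp : BaerHyp D p) (a b : D) : (cm a b) ^ p = 1 := hyp.exp _

theorem mul_eq_cm_mul (x y : D) : x * y = cm x y * (y * x) := by
  simp only [cm]; group

theorem BaerHyp.cm_central_right (hyp : BaerHyp D p) (z a b : D) (n : ℕ) :
    cm z ((cm a b) ^ n) = 1 := by
  rw [cm_eq_one_iff]
  exact hyp.central a b z n

theorem BaerHyp.cm_central_left (hyp : BaerHyp D p) (z a b : D) (n : ℕ) :
    cm ((cm a b) ^ n) z = 1 := by
  rw [cm_eq_one_iff]
  exact (hyp.central a b z n).symm

theorem BaerHyp.cm_mul_left' (hyp : BaerHyp D p) (q q' x : D) :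
    cm (q * q') x = cm q x * cm q' x :=
  cm_mul_left q q' x (cm_comm hyp.class2 q' x)

theorem BaerHyp.cm_mul_right' (hyp : BaerHyp D p) (q x y : D) :
    cm q (x * y) = cm q x * cm q y :=
  cm_mul_right q x y (cm_comm hyp.class2 q y)

theorem BaerHyp.badd_comm (hyp : BaerHyp D p) (x y : D) : badd p x y = badd p y x := by
  unfold badd
  set h := (p + 1) / 2 with hh
  set k := cm x y with hk
  have hyx : cm y x = k⁻¹ := by rw [hk, cm_inv_swap]
  have hkc : ∀ g : D, Commute g k := fun g => cm_comm hyp.class2 x y g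
  have hkh : k * (k⁻¹) ^ h = k ^ h := by
    have h1 : k ^ h * k ^ h = k := by
      rw [← pow_add, ← two_mul, hyp.two_mul_half, pow_succ, hyp.cm_pow_p, one_mul]
    rw [inv_pow]
    calc k * (k ^ h)⁻¹ = (k ^ h * k ^ h) * (k ^ h)⁻¹ := by rw [h1]
      _ = k ^ h := by group
  rw [hyx, mul_eq_cm_mul x y, ← hk]
  calc k * (y * x) * (k⁻¹) ^ h = (y * x) * k * (k⁻¹) ^ h := by rw [(hkc (y * x)).eq]
    _ = y * x * (k * (k⁻¹) ^ h) := by group
    _ = y * x * k ^ h := by rw [hkh]

theorem BaerHyp.badd_assoc (hyp : BaerHyp D p) (x y z : D) :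
    badd p (badd p x y) z = badd p x (badd p y z) := by
  unfold badd
  set h := (p + 1) / 2 with hh
  set a := cm y x with ha
  set b := cm z x with hb
  set c := cm z y with hc
  have hac : ∀ (g : D) (n : ℕ), g * a ^ n = a ^ n * g := fun g n => hyp.central y x g n
  have hbc : ∀ (g : D) (n : ℕ), g * b ^ n = b ^ n * g := fun g n => hyp.central z x g n
  have hcc : ∀ (g : D) (n : ℕ), g * c ^ n = c ^ n * g := fun g n => hyp.central z y g n
  have h1 : cm z (x * y * a ^ h) = b * c := by
    rw [hyp.cm_mul_right', hyp.cm_mul_right', hyp.cm_central_right, mul_one]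
  have h2 : cm (y * z * c ^ h) x = a * b := by
    rw [hyp.cm_mul_left', hyp.cm_mul_left', hyp.cm_central_left, mul_one]
  have hbcomm : Commute b c := by
    have := hbc c 1
    rw [pow_one] at this
    exact this.symm
  have habcomm : Commute a b := by
    have := hac b 1
    rw [pow_one] at this
    exact this.symm
  rw [h1, h2, hbcomm.mul_pow, habcomm.mul_pow]
  calc x * y * a ^ h * z * (b ^ h * c ^ h)
      = x * y * (a ^ h * z) * (b ^ h * c ^ h) := by group
    _ = x * y * (z * a ^ h) * (b ^ h * c ^ h) := by rw [hac z h]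
    _ = x * y * z * (a ^ h * b ^ h) * c ^ h := by group
    _ = x * y * z * c ^ h * (a ^ h * b ^ h) := by
        rw [mul_assoc (x * y * z), hcc (a ^ h * b ^ h) h, ← mul_assoc]
    _ = x * (y * z * c ^ h) * (a ^ h * b ^ h) := by group

theorem badd_one (x : D) : badd p x 1 = x := by
  unfold badd
  rw [cm_one_left, one_pow, mul_one, mul_one]

theorem one_badd (x : D) : badd p 1 x = x := by
  unfold badd
  rw [cm_one_right, one_pow, mul_one, one_mul]

theorem inv_badd (x : D) : badd p x⁻¹ x = 1 := by
  unfold badd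
  have : cm x x⁻¹ = 1 := by simp only [cm]; group
  rw [this, one_pow, mul_one, inv_mul_cancel]

end baer

/-- the type `D` with the Baer sum -/
def Baer (D : Type*) [Group D] (p : ℕ) (_hyp : BaerHyp D p) : Type _ := D

namespace Baer
variable {D : Type*} [Group D] {p : ℕ} (hyp : BaerHyp D p)

/-- to the Baer type -/
def of (x : D) : Baer D p hyp := x

/-- from the Baer type -/
def val (x : Baer D p hyp) : D := x

instance : Add (Baer D p hyp) := ⟨fun x y => of hyp (badd p (val hyp x) (val hyp y))⟩

instance : Zero (Baer D p hyp) := ⟨of hyp 1⟩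

instance : Neg (Baer D p hyp) := ⟨fun x => of hyp (val hyp x)⁻¹⟩

theorem add_def (x y : Baer D p hyp) : x + y = of hyp (badd p (val hyp x) (val hyp y)) := rfl

theorem zero_def : (0 : Baer D p hyp) = of hyp 1 := rfl

theorem neg_def (x : Baer D p hyp) : -x = of hyp (val hyp x)⁻¹ := rfl

instance : AddCommGroup (Baer D p hyp) where
  add_assoc x y z := hyp.badd_assoc (val hyp x) (val hyp y) (val hyp z)
  zero_add x := one_badd (p := p) (val hyp x)
  add_zero x := badd_one (p := p) (val hyp x)
  nsmul := nsmulRec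
  zsmul := zsmulRec
  neg_add_cancel x := inv_badd (p := p) (val hyp x)
  add_comm x y := hyp.badd_comm (val hyp x) (val hyp y)

theorem nsmul_eq_pow (n : ℕ) (x : Baer D p hyp) : n • x = of hyp ((val hyp x) ^ n) := by
  induction n with
  | zero => rw [zero_nsmul, pow_zero, zero_def]
  | succ n ih =>
    rw [succ_nsmul, ih, add_def]
    have h1 : cm (val hyp x) ((val hyp x) ^ n) = 1 := by
      rw [cm_eq_one_iff]
      exact (Commute.pow_right (Commute.refl (val hyp x)) n).eq
    change of hyp (badd p ((val hyp x) ^ n) (val hyp x)) = _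
    unfold badd
    rw [h1, one_pow, mul_one, pow_succ]

/-- a group automorphism of `D` is additive for the Baer sum -/
def mapHom (φ : D →* D) : Baer D p hyp →+ Baer D p hyp where
  toFun x := of hyp (φ (val hyp x))
  map_zero' := by
    change of hyp (φ 1) = of hyp 1
    rw [map_one]
  map_add' x y := by
    change of hyp (φ (badd p (val hyp x) (val hyp y))) =
      of hyp (badd p (φ (val hyp x)) (φ (val hyp y)))
    unfold badd cm
    simp only [map_mul, map_pow, map_inv]

theorem mapHom_apply (φ : D →* D) (x : Baer D p hyp) :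
    mapHom hyp φ x = of hyp (φ (val hyp x)) := rfl

theorem ext' {x y : Baer D p hyp} (h : val hyp x = val hyp y) : x = y := h

theorem val_of (x : D) : val hyp (of hyp x) = x := rfl

theorem of_val (x : Baer D p hyp) : of hyp (val hyp x) = x := rfl

theorem val_zero : val hyp (0 : Baer D p hyp) = 1 := rfl

theorem val_mapHom (φ : D →* D) (x : Baer D p hyp) :
    val hyp (mapHom hyp φ x) = φ (val hyp x) := rfl

instance [Finite D] : Finite (Baer D p hyp) := inferInstanceAs (Finite D)

theorem card_eq : Nat.card (Baer D p hyp) = Nat.card D := rfl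

end Baer

end Cfsg.Agent.Lib.Helper24
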