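import Cfsg.Agent.Lib.Helper24.Baer
import Cfsg.Agent.Lib.Helper24.Coprime

set_option autoImplicit false
set_option linter.style.haveILetI false

/-!
# Thompson's strengthened `P × Q` lemma for class two groups of odd prime exponent
-/

namespace Cfsg.Agent.Lib.Helper24

open Subgroup

theorem thompson_PQ_classTwo {X : Type*} [Group X] [Finite X] {p : ℕ} [Fact p.Prime] (hp : p ≠ 2)
    (P Q G : Subgroup X) (hP : IsPGroup p P) (hQ : (Nat.card Q).Coprime p)
    (hPQ : P ≤ normalizer (Q : Set X)) (hG : IsPGroup p G) (hPG : P ≤ normalizer (G : Set X))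
    (hQG : Q ≤ normalizer (G : Set X)) (hcl : commutator ↥G ≤ center ↥G)
    (hexp : ∀ x ∈ G, x ^ p = 1)
    (hC : G ⊓ centralizer (P : Set X) ≤ centralizer (Q : Set X)) :
    Q ≤ centralizer (G : Set X) := by
  classical
  have hpp : p.Prime := Fact.out
  have hyp : BaerHyp ↥G p :=
    ⟨hcl, fun x => Subtype.ext (by simpa using hexp x x.2), hpp.odd_of_ne_two hp⟩
  letI : Fintype ↥Q := Fintype.ofFinite _
  -- the action
  let act : ∀ a : X, a ∈ normalizer (G : Set X) → (Baer ↥G p hyp →+ Baer ↥G p hyp) :=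
    fun a ha => Baer.mapHom hyp (conjNormalizer G a ha).toMonoidHom
  have act_val : ∀ a ha x, ((Baer.val hyp (act a ha x) : ↥G) : X)
      = a * ((Baer.val hyp x : ↥G) : X) * a⁻¹ := fun _ _ _ => rfl
  have act_ext : ∀ x y : Baer ↥G p hyp,
      ((Baer.val hyp x : ↥G) : X) = ((Baer.val hyp y : ↥G) : X) → x = y :=
    fun x y h => Baer.ext' hyp (Subtype.ext h)
  have act_mul : ∀ a b ha hb hab x, act (a * b) hab x = act a ha (act b hb x) := by
    intro a b ha hb hab x
    apply act_ext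
    rw [act_val, act_val, act_val]
    group
  have act_one : ∀ h1 x, act 1 h1 x = x := by
    intro h1 x
    apply act_ext
    rw [act_val]
    group
  -- the norm map
  let ν : Baer ↥G p hyp →+ Baer ↥G p hyp := ∑ q : ↥Q, act q.1 (hQG q.2)
  have ν_apply : ∀ x, ν x = ∑ q : ↥Q, act q.1 (hQG q.2) x := fun x =>
    AddMonoidHom.finsetSum_apply _ _ _
  have key1 : ∀ (q₀ : ↥Q) x, ν (act q₀.1 (hQG q₀.2) x) = ν x := by
    intro q₀ x
    rw [ν_apply, ν_apply]
    refine Fintype.sum_equiv (Equiv.mulRight q₀) _ _ (fun q => ?_)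
    rw [← act_mul]
    rfl
  have key2 : ∀ a (ha : a ∈ P) x, act a (hPG ha) (ν x) = ν (act a (hPG ha) x) := by
    intro a ha x
    rw [ν_apply, ν_apply, map_sum]
    refine Fintype.sum_equiv (conjNormalizer Q a (hPQ ha)).toEquiv _ _ (fun q => ?_)
    apply act_ext
    rw [act_val, act_val, act_val, act_val]
    show _ = (a * (q : X) * a⁻¹) * _ * (a * (q : X) * a⁻¹)⁻¹
    group
  by_contra hcon
  -- a non-fixed point
  obtain ⟨q, hq, hqG⟩ := SetLike.not_le_iff_exists.mp hcon
  rw [mem_centralizer_iff] at hqG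
  push Not at hqG
  obtain ⟨g, hg, hgq⟩ := hqG
  let M : AddSubgroup (Baer ↥G p hyp) := ν.ker
  let x : Baer ↥G p hyp := Baer.of hyp ⟨g, hg⟩
  have hy0 : act q (hQG hq) x - x ∈ M := by
    show ν _ = 0
    rw [map_sub, key1 ⟨q, hq⟩ x, sub_self]
  have hy0ne : act q (hQG hq) x - x ≠ 0 := by
    intro h0
    rw [sub_eq_zero] at h0
    have h1 := congrArg (fun z => ((Baer.val hyp z : ↥G) : X)) h0
    simp only [act_val] at h1
    apply hgq
    have h2 : ((Baer.val hyp x : ↥G) : X) = g := rfl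
    rw [h2] at h1
    calc g * q = (q * g * q⁻¹) * q := by rw [h1]
      _ = q * g := by group
  -- P acts on M
  letI : MulAction ↥P ↥M :=
    { smul := fun a m => ⟨act a.1 (hPG a.2) m.1, by
        show ν _ = 0
        rw [← key2 a.1 a.2, (show ν m.1 = 0 from m.2), map_zero]⟩
      one_smul := fun m => Subtype.ext (act_one _ m.1)
      mul_smul := fun a b m => Subtype.ext (act_mul a.1 b.1 _ _ _ m.1) }
  have smul_val : ∀ (a : ↥P) (m : ↥M), ((a • m : ↥M) : Baer ↥G p hyp) = act a.1 (hPG a.2) m.1 :=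
    fun _ _ => rfl
  have hfix0 : (0 : ↥M) ∈ MulAction.fixedPoints ↥P ↥M := by
    intro a
    apply Subtype.ext
    rw [smul_val]
    exact map_zero _
  have hcardM : p ∣ Nat.card ↥M := by
    have h1 : Nat.card ↥M ∣ Nat.card (Baer ↥G p hyp) := AddSubgroup.card_addSubgroup_dvd_card M
    rw [Baer.card_eq] at h1
    obtain ⟨n, hn⟩ := (IsPGroup.iff_card).mp hG
    rw [hn] at h1
    obtain ⟨k, -, hk⟩ := (Nat.dvd_prime_pow hpp).mp h1
    rw [hk]
    have hk0 : k ≠ 0 := by
      rintro rfl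
      rw [pow_zero] at hk
      have hsub : Subsingleton ↥M := (Nat.card_eq_one_iff_unique.mp hk).1
      have := Subsingleton.elim (⟨_, hy0⟩ : ↥M) 0
      exact hy0ne (congrArg Subtype.val this)
    exact dvd_pow_self p hk0
  obtain ⟨b, hb, hb0⟩ := hP.exists_fixed_point_of_prime_dvd_card_of_fixed_point (α := ↥M) hcardM hfix0
  -- b is centralised by P, hence by Q
  set gb : X := ((Baer.val hyp b.1 : ↥G) : X) with hgb
  have hgbG : gb ∈ G := (Baer.val hyp b.1 : ↥G).2
  have hgbP : gb ∈ centralizer (P : Set X) := by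
    rw [mem_centralizer_iff]
    intro a ha
    have h1 := congrArg (fun m : ↥M => ((Baer.val hyp m.1 : ↥G) : X)) (hb ⟨a, ha⟩)
    simp only [smul_val, act_val] at h1
    rw [← hgb] at h1
    calc a * gb = (a * gb * a⁻¹) * a := by group
      _ = gb * a := by rw [h1]
  have hgbQ : gb ∈ centralizer (Q : Set X) := hC ⟨hgbG, hgbP⟩
  have hfixQ : ∀ q : ↥Q, act q.1 (hQG q.2) b.1 = b.1 := by
    intro q
    apply act_ext
    rw [act_val, ← hgb]
    rw [mem_centralizer_iff] at hgbQ
    have := hgbQ q.1 q.2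
    calc (q : X) * gb * (q : X)⁻¹ = (gb * q) * (q : X)⁻¹ := by rw [this]
      _ = gb := by group
  have hνb : ν b.1 = 0 := b.2
  rw [ν_apply, Finset.sum_congr rfl (fun q _ => hfixQ q), Finset.sum_const, Finset.card_univ,
    Fintype.card_eq_nat_card, Baer.nsmul_eq_pow] at hνb
  have h1 : (Baer.val hyp b.1) ^ Nat.card ↥Q = 1 := hνb
  have h2 : (Baer.val hyp b.1) ^ p = 1 := hyp.exp _
  have h3 : orderOf (Baer.val hyp b.1) ∣ Nat.gcd (Nat.card ↥Q) p :=
    Nat.dvd_gcd (orderOf_dvd_of_pow_eq_one h1) (orderOf_dvd_of_pow_eq_one h2)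
  rw [hQ, Nat.dvd_one, orderOf_eq_one_iff] at h3
  apply hb0
  apply Subtype.ext
  exact (Baer.ext' hyp h3).symm

end Cfsg.Agent.Lib.Helper24
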