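import Cfsg.Agent.Lib.Helper37.B2O5Defs

/-! S1083 hive "Bo" (helper37), leaf BO-TORUS-1: diagonal isometries commute. -/

set_option autoImplicit false
set_option linter.unusedSectionVars false
set_option linter.unusedVariables false

namespace Cfsg.Agent.Lib.Helper37.B2O5

open Matrix Module QuadraticMap
open Cfsg.Agent.Lib.Helper8 Cfsg.Agent.Lib.Helper13 Cfsg.Agent.Lib.Helper37 Cfsg.Agent.Lib.Helper43

variable {F : Type*} [Field F]

/-- BO-TORUS-1. Diagonal matrices commute. -/
theorem DD_comm : ∀ a ∈ DD F, ∀ b ∈ DD F, a * b = b * a := by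
  intro a ha b hb
  have ha' : ∀ i j : I5, i ≠ j → ((a : GL I5 F) : Matrix I5 I5 F) i j = 0 := ha
  have hb' : ∀ i j : I5, i ≠ j → ((b : GL I5 F) : Matrix I5 I5 F) i j = 0 := hb
  apply Subtype.ext
  apply Units.ext
  rw [Subgroup.coe_mul, Subgroup.coe_mul, Units.val_mul, Units.val_mul]
  ext i j
  rw [Matrix.mul_apply, Matrix.mul_apply, Finset.sum_eq_single i, Finset.sum_eq_single i]
  · by_cases hij : i = j
    · subst hij
      exact mul_comm _ _
    · rw [hb' i j hij, ha' i j hij, mul_zero, mul_zero]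
  · intro k _ hk
    rw [hb' i k (Ne.symm hk), zero_mul]
  · intro h
    exact absurd (Finset.mem_univ i) h
  · intro k _ hk
    rw [ha' i k (Ne.symm hk), zero_mul]
  · intro h
    exact absurd (Finset.mem_univ i) h

end Cfsg.Agent.Lib.Helper37.B2O5
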