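import Cfsg.Agent.Lib.Helper37.D4O8Defs

/-! S1082 hive "Do" (helper37), leaf DO-SWAP-2: the reflection `sw` (swapping `e₄` and `f₄`)
normalises `EE F`: `sw * X r t * sw⁻¹ = X r' t`, `r'` the image of `r` under `ε₄ ↦ -ε₄`
(GENERATED: the permutation `2↔3, 7↔8, 10↔11, 12↔13, 15↔16, 20↔21` was read off the `act_X*` table). -/

set_option autoImplicit false
set_option linter.unusedSectionVars false
set_option linter.unusedVariables false
set_option linter.unusedSimpArgs false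

namespace Cfsg.Agent.Lib.Helper37.D4O8

open Matrix Module QuadraticMap
open Cfsg.Agent.Lib.Helper8 Cfsg.Agent.Lib.Helper13 Cfsg.Agent.Lib.Helper37

variable {F : Type*} [Field F]

theorem swap2_sw_inv : (sw F)⁻¹ = sw F := by
  rw [inv_eq_iff_mul_eq_one]
  apply reflElt_ext
  intro x
  rw [act_mul, act_sw, act_sw, act_one]
  apply ext8 <;> simp

theorem swap2_conj0 (t : F) : sw F * X 0 t * (sw F)⁻¹ = X 0 t := by
  rw [swap2_sw_inv]
  apply reflElt_ext
  intro x
  simp only [act_mul, act_sw, act_X0]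
  apply ext8 <;> simp

theorem swap2_conj1 (t : F) : sw F * X 1 t * (sw F)⁻¹ = X 1 t := by
  rw [swap2_sw_inv]
  apply reflElt_ext
  intro x
  simp only [act_mul, act_sw, act_X1]
  apply ext8 <;> simp

theorem swap2_conj2 (t : F) : sw F * X 2 t * (sw F)⁻¹ = X 3 t := by
  rw [swap2_sw_inv]
  apply reflElt_ext
  intro x
  simp only [act_mul, act_sw, act_X2, act_X3]
  apply ext8 <;> simp

theorem swap2_conj3 (t : F) : sw F * X 3 t * (sw F)⁻¹ = X 2 t := by
  rw [swap2_sw_inv]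
  apply reflElt_ext
  intro x
  simp only [act_mul, act_sw, act_X3, act_X2]
  apply ext8 <;> simp

theorem swap2_conj4 (t : F) : sw F * X 4 t * (sw F)⁻¹ = X 4 t := by
  rw [swap2_sw_inv]
  apply reflElt_ext
  intro x
  simp only [act_mul, act_sw, act_X4]
  apply ext8 <;> simp

theorem swap2_conj5 (t : F) : sw F * X 5 t * (sw F)⁻¹ = X 5 t := by
  rw [swap2_sw_inv]
  apply reflElt_ext
  intro x
  simp only [act_mul, act_sw, act_X5]
  apply ext8 <;> simp

theorem swap2_conj6 (t : F) : sw F * X 6 t * (sw F)⁻¹ = X 6 t := by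
  rw [swap2_sw_inv]
  apply reflElt_ext
  intro x
  simp only [act_mul, act_sw, act_X6]
  apply ext8 <;> simp

theorem swap2_conj7 (t : F) : sw F * X 7 t * (sw F)⁻¹ = X 8 t := by
  rw [swap2_sw_inv]
  apply reflElt_ext
  intro x
  simp only [act_mul, act_sw, act_X7, act_X8]
  apply ext8 <;> simp

theorem swap2_conj8 (t : F) : sw F * X 8 t * (sw F)⁻¹ = X 7 t := by
  rw [swap2_sw_inv]
  apply reflElt_ext
  intro x
  simp only [act_mul, act_sw, act_X8, act_X7]
  apply ext8 <;> simp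

theorem swap2_conj9 (t : F) : sw F * X 9 t * (sw F)⁻¹ = X 9 t := by
  rw [swap2_sw_inv]
  apply reflElt_ext
  intro x
  simp only [act_mul, act_sw, act_X9]
  apply ext8 <;> simp

theorem swap2_conj10 (t : F) : sw F * X 10 t * (sw F)⁻¹ = X 11 t := by
  rw [swap2_sw_inv]
  apply reflElt_ext
  intro x
  simp only [act_mul, act_sw, act_X10, act_X11]
  apply ext8 <;> simp

theorem swap2_conj11 (t : F) : sw F * X 11 t * (sw F)⁻¹ = X 10 t := by
  rw [swap2_sw_inv]
  apply reflElt_ext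
  intro x
  simp only [act_mul, act_sw, act_X11, act_X10]
  apply ext8 <;> simp

theorem swap2_conj12 (t : F) : sw F * X 12 t * (sw F)⁻¹ = X 13 t := by
  rw [swap2_sw_inv]
  apply reflElt_ext
  intro x
  simp only [act_mul, act_sw, act_X12, act_X13]
  apply ext8 <;> simp

theorem swap2_conj13 (t : F) : sw F * X 13 t * (sw F)⁻¹ = X 12 t := by
  rw [swap2_sw_inv]
  apply reflElt_ext
  intro x
  simp only [act_mul, act_sw, act_X13, act_X12]
  apply ext8 <;> simp

theorem swap2_conj14 (t : F) : sw F * X 14 t * (sw F)⁻¹ = X 14 t := by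
  rw [swap2_sw_inv]
  apply reflElt_ext
  intro x
  simp only [act_mul, act_sw, act_X14]
  apply ext8 <;> simp

theorem swap2_conj15 (t : F) : sw F * X 15 t * (sw F)⁻¹ = X 16 t := by
  rw [swap2_sw_inv]
  apply reflElt_ext
  intro x
  simp only [act_mul, act_sw, act_X15, act_X16]
  apply ext8 <;> simp

theorem swap2_conj16 (t : F) : sw F * X 16 t * (sw F)⁻¹ = X 15 t := by
  rw [swap2_sw_inv]
  apply reflElt_ext
  intro x
  simp only [act_mul, act_sw, act_X16, act_X15]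
  apply ext8 <;> simp

theorem swap2_conj17 (t : F) : sw F * X 17 t * (sw F)⁻¹ = X 17 t := by
  rw [swap2_sw_inv]
  apply reflElt_ext
  intro x
  simp only [act_mul, act_sw, act_X17]
  apply ext8 <;> simp

theorem swap2_conj18 (t : F) : sw F * X 18 t * (sw F)⁻¹ = X 18 t := by
  rw [swap2_sw_inv]
  apply reflElt_ext
  intro x
  simp only [act_mul, act_sw, act_X18]
  apply ext8 <;> simp

theorem swap2_conj19 (t : F) : sw F * X 19 t * (sw F)⁻¹ = X 19 t := by
  rw [swap2_sw_inv]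
  apply reflElt_ext
  intro x
  simp only [act_mul, act_sw, act_X19]
  apply ext8 <;> simp

theorem swap2_conj20 (t : F) : sw F * X 20 t * (sw F)⁻¹ = X 21 t := by
  rw [swap2_sw_inv]
  apply reflElt_ext
  intro x
  simp only [act_mul, act_sw, act_X20, act_X21]
  apply ext8 <;> simp

theorem swap2_conj21 (t : F) : sw F * X 21 t * (sw F)⁻¹ = X 20 t := by
  rw [swap2_sw_inv]
  apply reflElt_ext
  intro x
  simp only [act_mul, act_sw, act_X21, act_X20]
  apply ext8 <;> simp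

theorem swap2_conj22 (t : F) : sw F * X 22 t * (sw F)⁻¹ = X 22 t := by
  rw [swap2_sw_inv]
  apply reflElt_ext
  intro x
  simp only [act_mul, act_sw, act_X22]
  apply ext8 <;> simp

theorem swap2_conj23 (t : F) : sw F * X 23 t * (sw F)⁻¹ = X 23 t := by
  rw [swap2_sw_inv]
  apply reflElt_ext
  intro x
  simp only [act_mul, act_sw, act_X23]
  apply ext8 <;> simp

theorem swap2_conj_mem (r : Fin 24) (t : F) : sw F * X r t * (sw F)⁻¹ ∈ EE F := by
  fin_cases r
  · show sw F * X 0 t * (sw F)⁻¹ ∈ EE F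
    rw [swap2_conj0]
    exact X_mem_EE _ _
  · show sw F * X 1 t * (sw F)⁻¹ ∈ EE F
    rw [swap2_conj1]
    exact X_mem_EE _ _
  · show sw F * X 2 t * (sw F)⁻¹ ∈ EE F
    rw [swap2_conj2]
    exact X_mem_EE _ _
  · show sw F * X 3 t * (sw F)⁻¹ ∈ EE F
    rw [swap2_conj3]
    exact X_mem_EE _ _
  · show sw F * X 4 t * (sw F)⁻¹ ∈ EE F
    rw [swap2_conj4]
    exact X_mem_EE _ _
  · show sw F * X 5 t * (sw F)⁻¹ ∈ EE F
    rw [swap2_conj5]
    exact X_mem_EE _ _
  · show sw F * X 6 t * (sw F)⁻¹ ∈ EE F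
    rw [swap2_conj6]
    exact X_mem_EE _ _
  · show sw F * X 7 t * (sw F)⁻¹ ∈ EE F
    rw [swap2_conj7]
    exact X_mem_EE _ _
  · show sw F * X 8 t * (sw F)⁻¹ ∈ EE F
    rw [swap2_conj8]
    exact X_mem_EE _ _
  · show sw F * X 9 t * (sw F)⁻¹ ∈ EE F
    rw [swap2_conj9]
    exact X_mem_EE _ _
  · show sw F * X 10 t * (sw F)⁻¹ ∈ EE F
    rw [swap2_conj10]
    exact X_mem_EE _ _
  · show sw F * X 11 t * (sw F)⁻¹ ∈ EE F
    rw [swap2_conj11]
    exact X_mem_EE _ _
  · show sw F * X 12 t * (sw F)⁻¹ ∈ EE F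
    rw [swap2_conj12]
    exact X_mem_EE _ _
  · show sw F * X 13 t * (sw F)⁻¹ ∈ EE F
    rw [swap2_conj13]
    exact X_mem_EE _ _
  · show sw F * X 14 t * (sw F)⁻¹ ∈ EE F
    rw [swap2_conj14]
    exact X_mem_EE _ _
  · show sw F * X 15 t * (sw F)⁻¹ ∈ EE F
    rw [swap2_conj15]
    exact X_mem_EE _ _
  · show sw F * X 16 t * (sw F)⁻¹ ∈ EE F
    rw [swap2_conj16]
    exact X_mem_EE _ _
  · show sw F * X 17 t * (sw F)⁻¹ ∈ EE F
    rw [swap2_conj17]
    exact X_mem_EE _ _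
  · show sw F * X 18 t * (sw F)⁻¹ ∈ EE F
    rw [swap2_conj18]
    exact X_mem_EE _ _
  · show sw F * X 19 t * (sw F)⁻¹ ∈ EE F
    rw [swap2_conj19]
    exact X_mem_EE _ _
  · show sw F * X 20 t * (sw F)⁻¹ ∈ EE F
    rw [swap2_conj20]
    exact X_mem_EE _ _
  · show sw F * X 21 t * (sw F)⁻¹ ∈ EE F
    rw [swap2_conj21]
    exact X_mem_EE _ _
  · show sw F * X 22 t * (sw F)⁻¹ ∈ EE F
    rw [swap2_conj22]
    exact X_mem_EE _ _
  · show sw F * X 23 t * (sw F)⁻¹ ∈ EE F
    rw [swap2_conj23]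
    exact X_mem_EE _ _

/-- DO-SWAP-2. -/
theorem sw_conj_EE : ∀ e ∈ EE F, sw F * e * (sw F)⁻¹ ∈ EE F := by
  intro e he
  have hle : EE F ≤ (EE F).comap (MulAut.conj (sw F)).toMonoidHom := by
    unfold EE
    rw [Subgroup.closure_le]
    rintro _ ⟨r, t, rfl⟩
    exact swap2_conj_mem r t
  exact hle he

end Cfsg.Agent.Lib.Helper37.D4O8
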