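import Cfsg.Agent.Lib.Helper37.D4O8Defs

/-! S1082 hive "Do" (helper37), leaf DO-TORUS-2: diagonal isometries normalise `EE F`
(clone of `Bo_TORUS2`). -/

set_option autoImplicit false
set_option linter.unusedSectionVars false
set_option linter.unusedVariables false
set_option linter.unusedSimpArgs false

namespace Cfsg.Agent.Lib.Helper37.D4O8

open Matrix Module QuadraticMap
open Cfsg.Agent.Lib.Helper8 Cfsg.Agent.Lib.Helper13 Cfsg.Agent.Lib.Helper37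

variable {F : Type*} [Field F]

/-- a diagonal isometry acts diagonally -/
theorem torus2_act_diag (d : OG F) (hd : d ∈ DD F) (x : I8 → F) (i : I8) :
    act (Q8 F) d x i = ((d : GL I8 F) : Matrix I8 I8 F) i i * x i := by
  have hd' : ∀ i j : I8, i ≠ j → ((d : GL I8 F) : Matrix I8 I8 F) i j = 0 := hd
  unfold act
  rw [Matrix.mulVec, dotProduct, Finset.sum_eq_single i]
  · intro k _ hk
    rw [hd' i k (Ne.symm hk), zero_mul]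
  · intro h
    exact absurd (Finset.mem_univ i) h

theorem torus2_act_smul (d : OG F) (c : F) (x : I8 → F) :
    act (Q8 F) d (c • x) = c • act (Q8 F) d x := by
  unfold act
  rw [Matrix.mulVec_smul]

/-- `E(a u, b v) = E(u, (a b) v)` -/
theorem torus2_eichler {ι : Type} [Fintype ι] [DecidableEq ι] (Q : QuadraticForm F (ι → F))
    (u v u' v' : ι → F) (a b : F)
    (hu : Q u = 0) (huv : polar ⇑Q u v = 0) (hu' : Q u' = 0) (huv' : polar ⇑Q u' v' = 0)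
    (h1 : u' = a • u) (h2 : v' = b • v) (h3 : polar ⇑Q u ((a * b) • v) = 0) :
    eichler Q u' v' hu' huv' = eichler Q u ((a * b) • v) hu h3 := by
  subst h1 h2
  have huv2 : polar ⇑Q u (b • v) = 0 := by rw [polar_smul_right, huv, smul_zero]
  exact (eichler_smul_left Q u (b • v) a hu huv2).trans
    (eichler_congr Q u (a • b • v) ((a * b) • v) hu _ (smul_smul a b v))

/-- the basis vectors `ru r`, `rv r` are eigenvectors of a diagonal isometry -/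
theorem torus2_act_ru (d : OG F) (hd : d ∈ DD F) (r : Fin 24) :
    ∃ a : F, act (Q8 F) d (ru r) = a • (ru r : I8 → F) := by
  have h := torus2_act_diag d hd
  fin_cases r
  · exact ⟨((d : GL I8 F) : Matrix I8 I8 F) (Sum.inr 0) (Sum.inr 0), by
      apply ext8 <;> simp [ca1, ca2, ca3, ca4, cb1, cb2, cb3, cb4, h, ru, ve1, ve2, ve3, ve4, vf1, vf2, vf3, vf4, mk8]⟩
  · exact ⟨((d : GL I8 F) : Matrix I8 I8 F) (Sum.inr 0) (Sum.inr 0), by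
      apply ext8 <;> simp [ca1, ca2, ca3, ca4, cb1, cb2, cb3, cb4, h, ru, ve1, ve2, ve3, ve4, vf1, vf2, vf3, vf4, mk8]⟩
  · exact ⟨((d : GL I8 F) : Matrix I8 I8 F) (Sum.inl 3) (Sum.inl 3), by
      apply ext8 <;> simp [ca1, ca2, ca3, ca4, cb1, cb2, cb3, cb4, h, ru, ve1, ve2, ve3, ve4, vf1, vf2, vf3, vf4, mk8]⟩
  · exact ⟨((d : GL I8 F) : Matrix I8 I8 F) (Sum.inr 0) (Sum.inr 0), by
      apply ext8 <;> simp [ca1, ca2, ca3, ca4, cb1, cb2, cb3, cb4, h, ru, ve1, ve2, ve3, ve4, vf1, vf2, vf3, vf4, mk8]⟩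
  · exact ⟨((d : GL I8 F) : Matrix I8 I8 F) (Sum.inl 2) (Sum.inl 2), by
      apply ext8 <;> simp [ca1, ca2, ca3, ca4, cb1, cb2, cb3, cb4, h, ru, ve1, ve2, ve3, ve4, vf1, vf2, vf3, vf4, mk8]⟩
  · exact ⟨((d : GL I8 F) : Matrix I8 I8 F) (Sum.inl 1) (Sum.inl 1), by
      apply ext8 <;> simp [ca1, ca2, ca3, ca4, cb1, cb2, cb3, cb4, h, ru, ve1, ve2, ve3, ve4, vf1, vf2, vf3, vf4, mk8]⟩
  · exact ⟨((d : GL I8 F) : Matrix I8 I8 F) (Sum.inr 1) (Sum.inr 1), by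
      apply ext8 <;> simp [ca1, ca2, ca3, ca4, cb1, cb2, cb3, cb4, h, ru, ve1, ve2, ve3, ve4, vf1, vf2, vf3, vf4, mk8]⟩
  · exact ⟨((d : GL I8 F) : Matrix I8 I8 F) (Sum.inl 3) (Sum.inl 3), by
      apply ext8 <;> simp [ca1, ca2, ca3, ca4, cb1, cb2, cb3, cb4, h, ru, ve1, ve2, ve3, ve4, vf1, vf2, vf3, vf4, mk8]⟩
  · exact ⟨((d : GL I8 F) : Matrix I8 I8 F) (Sum.inr 1) (Sum.inr 1), by
      apply ext8 <;> simp [ca1, ca2, ca3, ca4, cb1, cb2, cb3, cb4, h, ru, ve1, ve2, ve3, ve4, vf1, vf2, vf3, vf4, mk8]⟩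
  · exact ⟨((d : GL I8 F) : Matrix I8 I8 F) (Sum.inl 2) (Sum.inl 2), by
      apply ext8 <;> simp [ca1, ca2, ca3, ca4, cb1, cb2, cb3, cb4, h, ru, ve1, ve2, ve3, ve4, vf1, vf2, vf3, vf4, mk8]⟩
  · exact ⟨((d : GL I8 F) : Matrix I8 I8 F) (Sum.inl 3) (Sum.inl 3), by
      apply ext8 <;> simp [ca1, ca2, ca3, ca4, cb1, cb2, cb3, cb4, h, ru, ve1, ve2, ve3, ve4, vf1, vf2, vf3, vf4, mk8]⟩
  · exact ⟨((d : GL I8 F) : Matrix I8 I8 F) (Sum.inr 2) (Sum.inr 2), by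
      apply ext8 <;> simp [ca1, ca2, ca3, ca4, cb1, cb2, cb3, cb4, h, ru, ve1, ve2, ve3, ve4, vf1, vf2, vf3, vf4, mk8]⟩
  · exact ⟨((d : GL I8 F) : Matrix I8 I8 F) (Sum.inl 2) (Sum.inl 2), by
      apply ext8 <;> simp [ca1, ca2, ca3, ca4, cb1, cb2, cb3, cb4, h, ru, ve1, ve2, ve3, ve4, vf1, vf2, vf3, vf4, mk8]⟩
  · exact ⟨((d : GL I8 F) : Matrix I8 I8 F) (Sum.inl 2) (Sum.inl 2), by
      apply ext8 <;> simp [ca1, ca2, ca3, ca4, cb1, cb2, cb3, cb4, h, ru, ve1, ve2, ve3, ve4, vf1, vf2, vf3, vf4, mk8]⟩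
  · exact ⟨((d : GL I8 F) : Matrix I8 I8 F) (Sum.inl 1) (Sum.inl 1), by
      apply ext8 <;> simp [ca1, ca2, ca3, ca4, cb1, cb2, cb3, cb4, h, ru, ve1, ve2, ve3, ve4, vf1, vf2, vf3, vf4, mk8]⟩
  · exact ⟨((d : GL I8 F) : Matrix I8 I8 F) (Sum.inl 1) (Sum.inl 1), by
      apply ext8 <;> simp [ca1, ca2, ca3, ca4, cb1, cb2, cb3, cb4, h, ru, ve1, ve2, ve3, ve4, vf1, vf2, vf3, vf4, mk8]⟩
  · exact ⟨((d : GL I8 F) : Matrix I8 I8 F) (Sum.inl 1) (Sum.inl 1), by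
      apply ext8 <;> simp [ca1, ca2, ca3, ca4, cb1, cb2, cb3, cb4, h, ru, ve1, ve2, ve3, ve4, vf1, vf2, vf3, vf4, mk8]⟩
  · exact ⟨((d : GL I8 F) : Matrix I8 I8 F) (Sum.inl 1) (Sum.inl 1), by
      apply ext8 <;> simp [ca1, ca2, ca3, ca4, cb1, cb2, cb3, cb4, h, ru, ve1, ve2, ve3, ve4, vf1, vf2, vf3, vf4, mk8]⟩
  · exact ⟨((d : GL I8 F) : Matrix I8 I8 F) (Sum.inl 0) (Sum.inl 0), by
      apply ext8 <;> simp [ca1, ca2, ca3, ca4, cb1, cb2, cb3, cb4, h, ru, ve1, ve2, ve3, ve4, vf1, vf2, vf3, vf4, mk8]⟩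
  · exact ⟨((d : GL I8 F) : Matrix I8 I8 F) (Sum.inl 0) (Sum.inl 0), by
      apply ext8 <;> simp [ca1, ca2, ca3, ca4, cb1, cb2, cb3, cb4, h, ru, ve1, ve2, ve3, ve4, vf1, vf2, vf3, vf4, mk8]⟩
  · exact ⟨((d : GL I8 F) : Matrix I8 I8 F) (Sum.inl 0) (Sum.inl 0), by
      apply ext8 <;> simp [ca1, ca2, ca3, ca4, cb1, cb2, cb3, cb4, h, ru, ve1, ve2, ve3, ve4, vf1, vf2, vf3, vf4, mk8]⟩
  · exact ⟨((d : GL I8 F) : Matrix I8 I8 F) (Sum.inl 0) (Sum.inl 0), by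
      apply ext8 <;> simp [ca1, ca2, ca3, ca4, cb1, cb2, cb3, cb4, h, ru, ve1, ve2, ve3, ve4, vf1, vf2, vf3, vf4, mk8]⟩
  · exact ⟨((d : GL I8 F) : Matrix I8 I8 F) (Sum.inl 0) (Sum.inl 0), by
      apply ext8 <;> simp [ca1, ca2, ca3, ca4, cb1, cb2, cb3, cb4, h, ru, ve1, ve2, ve3, ve4, vf1, vf2, vf3, vf4, mk8]⟩
  · exact ⟨((d : GL I8 F) : Matrix I8 I8 F) (Sum.inl 0) (Sum.inl 0), by
      apply ext8 <;> simp [ca1, ca2, ca3, ca4, cb1, cb2, cb3, cb4, h, ru, ve1, ve2, ve3, ve4, vf1, vf2, vf3, vf4, mk8]⟩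

theorem torus2_act_rv (d : OG F) (hd : d ∈ DD F) (r : Fin 24) :
    ∃ b : F, act (Q8 F) d (rv r) = b • (rv r : I8 → F) := by
  have h := torus2_act_diag d hd
  fin_cases r
  · exact ⟨((d : GL I8 F) : Matrix I8 I8 F) (Sum.inr 1) (Sum.inr 1), by
      apply ext8 <;> simp [ca1, ca2, ca3, ca4, cb1, cb2, cb3, cb4, h, rv, ve1, ve2, ve3, ve4, vf1, vf2, vf3, vf4, mk8]⟩
  · exact ⟨((d : GL I8 F) : Matrix I8 I8 F) (Sum.inr 2) (Sum.inr 2), by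
      apply ext8 <;> simp [ca1, ca2, ca3, ca4, cb1, cb2, cb3, cb4, h, rv, ve1, ve2, ve3, ve4, vf1, vf2, vf3, vf4, mk8]⟩
  · exact ⟨((d : GL I8 F) : Matrix I8 I8 F) (Sum.inr 0) (Sum.inr 0), by
      apply ext8 <;> simp [ca1, ca2, ca3, ca4, cb1, cb2, cb3, cb4, h, rv, ve1, ve2, ve3, ve4, vf1, vf2, vf3, vf4, mk8]⟩
  · exact ⟨((d : GL I8 F) : Matrix I8 I8 F) (Sum.inr 3) (Sum.inr 3), by
      apply ext8 <;> simp [ca1, ca2, ca3, ca4, cb1, cb2, cb3, cb4, h, rv, ve1, ve2, ve3, ve4, vf1, vf2, vf3, vf4, mk8]⟩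
  · exact ⟨((d : GL I8 F) : Matrix I8 I8 F) (Sum.inr 0) (Sum.inr 0), by
      apply ext8 <;> simp [ca1, ca2, ca3, ca4, cb1, cb2, cb3, cb4, h, rv, ve1, ve2, ve3, ve4, vf1, vf2, vf3, vf4, mk8]⟩
  · exact ⟨((d : GL I8 F) : Matrix I8 I8 F) (Sum.inr 0) (Sum.inr 0), by
      apply ext8 <;> simp [ca1, ca2, ca3, ca4, cb1, cb2, cb3, cb4, h, rv, ve1, ve2, ve3, ve4, vf1, vf2, vf3, vf4, mk8]⟩
  · exact ⟨((d : GL I8 F) : Matrix I8 I8 F) (Sum.inr 2) (Sum.inr 2), by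
      apply ext8 <;> simp [ca1, ca2, ca3, ca4, cb1, cb2, cb3, cb4, h, rv, ve1, ve2, ve3, ve4, vf1, vf2, vf3, vf4, mk8]⟩
  · exact ⟨((d : GL I8 F) : Matrix I8 I8 F) (Sum.inr 1) (Sum.inr 1), by
      apply ext8 <;> simp [ca1, ca2, ca3, ca4, cb1, cb2, cb3, cb4, h, rv, ve1, ve2, ve3, ve4, vf1, vf2, vf3, vf4, mk8]⟩
  · exact ⟨((d : GL I8 F) : Matrix I8 I8 F) (Sum.inr 3) (Sum.inr 3), by
      apply ext8 <;> simp [ca1, ca2, ca3, ca4, cb1, cb2, cb3, cb4, h, rv, ve1, ve2, ve3, ve4, vf1, vf2, vf3, vf4, mk8]⟩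
  · exact ⟨((d : GL I8 F) : Matrix I8 I8 F) (Sum.inr 1) (Sum.inr 1), by
      apply ext8 <;> simp [ca1, ca2, ca3, ca4, cb1, cb2, cb3, cb4, h, rv, ve1, ve2, ve3, ve4, vf1, vf2, vf3, vf4, mk8]⟩
  · exact ⟨((d : GL I8 F) : Matrix I8 I8 F) (Sum.inr 2) (Sum.inr 2), by
      apply ext8 <;> simp [ca1, ca2, ca3, ca4, cb1, cb2, cb3, cb4, h, rv, ve1, ve2, ve3, ve4, vf1, vf2, vf3, vf4, mk8]⟩
  · exact ⟨((d : GL I8 F) : Matrix I8 I8 F) (Sum.inr 3) (Sum.inr 3), by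
      apply ext8 <;> simp [ca1, ca2, ca3, ca4, cb1, cb2, cb3, cb4, h, rv, ve1, ve2, ve3, ve4, vf1, vf2, vf3, vf4, mk8]⟩
  · exact ⟨((d : GL I8 F) : Matrix I8 I8 F) (Sum.inl 3) (Sum.inl 3), by
      apply ext8 <;> simp [ca1, ca2, ca3, ca4, cb1, cb2, cb3, cb4, h, rv, ve1, ve2, ve3, ve4, vf1, vf2, vf3, vf4, mk8]⟩
  · exact ⟨((d : GL I8 F) : Matrix I8 I8 F) (Sum.inr 3) (Sum.inr 3), by
      apply ext8 <;> simp [ca1, ca2, ca3, ca4, cb1, cb2, cb3, cb4, h, rv, ve1, ve2, ve3, ve4, vf1, vf2, vf3, vf4, mk8]⟩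
  · exact ⟨((d : GL I8 F) : Matrix I8 I8 F) (Sum.inr 2) (Sum.inr 2), by
      apply ext8 <;> simp [ca1, ca2, ca3, ca4, cb1, cb2, cb3, cb4, h, rv, ve1, ve2, ve3, ve4, vf1, vf2, vf3, vf4, mk8]⟩
  · exact ⟨((d : GL I8 F) : Matrix I8 I8 F) (Sum.inl 3) (Sum.inl 3), by
      apply ext8 <;> simp [ca1, ca2, ca3, ca4, cb1, cb2, cb3, cb4, h, rv, ve1, ve2, ve3, ve4, vf1, vf2, vf3, vf4, mk8]⟩
  · exact ⟨((d : GL I8 F) : Matrix I8 I8 F) (Sum.inr 3) (Sum.inr 3), by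
      apply ext8 <;> simp [ca1, ca2, ca3, ca4, cb1, cb2, cb3, cb4, h, rv, ve1, ve2, ve3, ve4, vf1, vf2, vf3, vf4, mk8]⟩
  · exact ⟨((d : GL I8 F) : Matrix I8 I8 F) (Sum.inl 2) (Sum.inl 2), by
      apply ext8 <;> simp [ca1, ca2, ca3, ca4, cb1, cb2, cb3, cb4, h, rv, ve1, ve2, ve3, ve4, vf1, vf2, vf3, vf4, mk8]⟩
  · exact ⟨((d : GL I8 F) : Matrix I8 I8 F) (Sum.inr 1) (Sum.inr 1), by
      apply ext8 <;> simp [ca1, ca2, ca3, ca4, cb1, cb2, cb3, cb4, h, rv, ve1, ve2, ve3, ve4, vf1, vf2, vf3, vf4, mk8]⟩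
  · exact ⟨((d : GL I8 F) : Matrix I8 I8 F) (Sum.inr 2) (Sum.inr 2), by
      apply ext8 <;> simp [ca1, ca2, ca3, ca4, cb1, cb2, cb3, cb4, h, rv, ve1, ve2, ve3, ve4, vf1, vf2, vf3, vf4, mk8]⟩
  · exact ⟨((d : GL I8 F) : Matrix I8 I8 F) (Sum.inl 3) (Sum.inl 3), by
      apply ext8 <;> simp [ca1, ca2, ca3, ca4, cb1, cb2, cb3, cb4, h, rv, ve1, ve2, ve3, ve4, vf1, vf2, vf3, vf4, mk8]⟩
  · exact ⟨((d : GL I8 F) : Matrix I8 I8 F) (Sum.inr 3) (Sum.inr 3), by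
      apply ext8 <;> simp [ca1, ca2, ca3, ca4, cb1, cb2, cb3, cb4, h, rv, ve1, ve2, ve3, ve4, vf1, vf2, vf3, vf4, mk8]⟩
  · exact ⟨((d : GL I8 F) : Matrix I8 I8 F) (Sum.inl 2) (Sum.inl 2), by
      apply ext8 <;> simp [ca1, ca2, ca3, ca4, cb1, cb2, cb3, cb4, h, rv, ve1, ve2, ve3, ve4, vf1, vf2, vf3, vf4, mk8]⟩
  · exact ⟨((d : GL I8 F) : Matrix I8 I8 F) (Sum.inl 1) (Sum.inl 1), by
      apply ext8 <;> simp [ca1, ca2, ca3, ca4, cb1, cb2, cb3, cb4, h, rv, ve1, ve2, ve3, ve4, vf1, vf2, vf3, vf4, mk8]⟩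

/-- conjugating a root element by a diagonal isometry gives a root element -/
theorem torus2_conj_X (d : OG F) (hd : d ∈ DD F) (r : Fin 24) (t : F) :
    ∃ t' : F, d * X r t * d⁻¹ = X r t' := by
  obtain ⟨a, ha⟩ := torus2_act_ru d hd r
  obtain ⟨b, hb⟩ := torus2_act_rv d hd r
  refine ⟨a * b * t, ?_⟩
  unfold X
  rw [eichler_conj]
  have h2 : act (Q8 F) d ((cs r * t) • rv r) = ((cs r * t) * b) • (rv r : I8 → F) := by
    rw [torus2_act_smul, hb, smul_smul]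
  have h3 : polar ⇑(Q8 F) (ru r : I8 → F) ((a * ((cs r * t) * b)) • rv r) = 0 := by
    rw [polar_smul_right, polar_ru_rv, smul_zero]
  rw [torus2_eichler (Q8 F) (ru r) (rv r) _ _ a ((cs r * t) * b) (Q_ru r) (polar_ru_rv r) _ _ ha h2 h3]
  apply eichler_congr
  congr 1
  ring

/-- DO-TORUS-2. Clone of Bo_TORUS2. -/
theorem DD_conj_EE : ∀ d ∈ DD F, ∀ e ∈ EE F, d * e * d⁻¹ ∈ EE F := by
  intro d hd e he
  have hle : EE F ≤ (EE F).comap (MulAut.conj d).toMonoidHom := by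
    unfold EE
    rw [Subgroup.closure_le]
    rintro _ ⟨r, t, rfl⟩
    show d * X r t * d⁻¹ ∈ Subgroup.closure {g | ∃ (r : Fin 24) (t : F), g = X r t}
    obtain ⟨t', ht'⟩ := torus2_conj_X d hd r t
    rw [ht']
    exact Subgroup.subset_closure ⟨r, t', rfl⟩
  exact hle he

end Cfsg.Agent.Lib.Helper37.D4O8
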