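import Mathlib

/-! # E6g mini-hive (helper72, S2406), leaf E6G-RANK1: the abstract rank-one filling lemma. -/

set_option autoImplicit false

namespace Cfsg.Agent.Lib.Helper72.E6g

theorem rank1_fill {G : Type*} [Group G] {A : Type*} [Field A] (y : A → G) (h n : G) (c c1 : A)
    (hy : ∀ s t, y (s + t) = y s * y t)
    (hh : ∀ t, h * y t * h⁻¹ = y (c * t))
    (ha1 : ∀ t, (n * h * n⁻¹) * y t * (n * h * n⁻¹)⁻¹ = y (c1 * t))
    (hcomm : Commute h (n * h * n⁻¹))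
    (hc : c ≠ 1) (hc10 : c1 ≠ 0) (hc1 : c1 ≠ 1) (hgen : ∀ t : A, t ≠ 0 → ∃ j : ℕ, t = c1 ^ j)
    (K0 : Subgroup G) (hK : h ∈ K0) (hb : y 1 * n ∈ K0) :
    (∀ t, y t ∈ K0) ∧ n ∈ K0 := by
  have hy0 : y 0 = 1 := by
    have h0 := hy 0 0
    rw [add_zero] at h0
    exact mul_eq_left.1 h0.symm
  have hyneg : ∀ t, y (-t) = (y t)⁻¹ := by
    intro t
    have h0 := hy t (-t)
    rw [add_neg_cancel, hy0] at h0
    exact eq_inv_of_mul_eq_one_right h0.symm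
  obtain ⟨a1, ha1def⟩ : ∃ a1 : G, a1 = n * h * n⁻¹ := ⟨_, rfl⟩
  rw [← ha1def] at ha1 hcomm
  obtain ⟨d, hd⟩ : ∃ d : A, d = c1⁻¹ - 1 := ⟨_, rfl⟩
  have hd0 : d ≠ 0 := by
    rw [hd]
    intro h0
    apply hc1
    have h1 : c1⁻¹ = 1 := sub_eq_zero.1 h0
    rw [inv_eq_one] at h1
    exact h1
  obtain ⟨g1, hg1def⟩ : ∃ g1 : G, g1 = (y 1 * n) * h * (y 1 * n)⁻¹ := ⟨_, rfl⟩
  have hg1mem : g1 ∈ K0 := by
    rw [hg1def]
    exact K0.mul_mem (K0.mul_mem hb hK) (K0.inv_mem hb)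
  have hg1 : g1 = a1 * y d := by
    have h1 : a1 * y c1⁻¹ = y 1 * a1 := by
      have h0 := ha1 c1⁻¹
      rw [mul_inv_cancel₀ hc10] at h0
      rw [← h0]
      group
    have h2 : y d = y c1⁻¹ * (y 1)⁻¹ := by rw [hd, sub_eq_add_neg, hy, hyneg]
    rw [h2, ← mul_assoc, h1, hg1def, ha1def]
    group
  -- conjugation by `g1` scales by `c1`
  have hconj : ∀ t, g1 * y t * g1⁻¹ = y (c1 * t) := by
    intro t
    have h1 : y d * y t * (y d)⁻¹ = y t := by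
      rw [← hyneg, ← hy, ← hy]
      congr 1
      ring
    calc g1 * y t * g1⁻¹ = a1 * (y d * y t * (y d)⁻¹) * a1⁻¹ := by rw [hg1]; group
      _ = a1 * y t * a1⁻¹ := by rw [h1]
      _ = y (c1 * t) := ha1 t
  -- the element `e`
  obtain ⟨t0, ht0⟩ : ∃ t0 : A, t0 = (c - 1) * d := ⟨_, rfl⟩
  have ht00 : t0 ≠ 0 := by
    rw [ht0]
    exact mul_ne_zero (sub_ne_zero.2 hc) hd0
  have he : y t0 ∈ K0 := by
    have h1 : g1⁻¹ * (h * g1 * h⁻¹) = y t0 := by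
      have h2 : h * g1 * h⁻¹ = a1 * y (c * d) := by
        rw [hg1, ← hh d]
        have h3 : h * a1 = a1 * h := hcomm.eq
        calc h * (a1 * y d) * h⁻¹ = (h * a1) * y d * h⁻¹ := by group
          _ = (a1 * h) * y d * h⁻¹ := by rw [h3]
          _ = a1 * (h * y d * h⁻¹) := by group
      rw [h2, hg1, mul_inv_rev, ← hyneg]
      have h4 : (-d) + c * d = t0 := by rw [ht0]; ring
      rw [← h4, hy]
      group
    rw [← h1]
    exact K0.mul_mem (K0.inv_mem hg1mem) (K0.mul_mem (K0.mul_mem hK hg1mem) (K0.inv_mem hK))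
  have hpow : ∀ j : ℕ, y (c1 ^ j * t0) ∈ K0 := by
    intro j
    induction j with
    | zero => rw [pow_zero, one_mul]; exact he
    | succ j ih =>
      have h1 : c1 ^ (j + 1) * t0 = c1 * (c1 ^ j * t0) := by ring
      rw [h1, ← hconj]
      exact K0.mul_mem (K0.mul_mem hg1mem ih) (K0.inv_mem hg1mem)
  have hall : ∀ t, y t ∈ K0 := by
    intro t
    by_cases ht : t = 0
    · rw [ht, hy0]; exact K0.one_mem
    · obtain ⟨j, hj⟩ := hgen (t / t0) (div_ne_zero ht ht00)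
      have h1 : t = c1 ^ j * t0 := by
        rw [← hj]; field_simp
      rw [h1]
      exact hpow j
  refine ⟨hall, ?_⟩
  have h1 : n = (y 1)⁻¹ * (y 1 * n) := by group
  rw [h1]
  exact K0.mul_mem (K0.inv_mem (hall 1)) hb

end Cfsg.Agent.Lib.Helper72.E6g
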