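import Cfsg.Agent.Lib.Helper76.E8mDefs
import Cfsg.Agent.Lib.Helper24.Sm_GCM

/-! # E8m hive (S2107, owner helper76), leaf E-FF: four easy facts on `ff` (the commutator of chosen lifts
of two root elements of a simply laced Steinberg system along a central extension). -/

set_option autoImplicit false

namespace Cfsg.Agent.Lib.Helper76.E8m

open Cfsg Cfsg.Lie Cfsg.Agent.Lib.Helper39.Sm
open scoped commutatorElement

section A
variable {D : ChevalleyDatum} {dec : ℕ → ℕ × ℕ} {K : Type*} [Field K] {G : Type*} [Group G]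
  {Y : Type*} [Group Y] (S : SLSys D K G) (φ : Y →* G) (hφ : Function.Surjective φ)

/-- E-FF (one person, four easy facts). `ff_symm` = `cm_symm`; `map_ff` = `map_cm` + `S.X_sum`. -/
theorem ff_symm (a b : ℕ) (t u : K) : ff S φ hφ b a u t = (ff S φ hφ a b t u)⁻¹ := by
  unfold ff
  exact cm_symm φ hφ (S.X a t) (S.X b u)

theorem map_ff {a b e : ℕ} (h : sm D a b = some e) (t u : K) :
    φ (ff S φ hφ a b t u) = S.X e (((ep D a b : ℤ) : K) * t * u) := by
  unfold ff
  rw [map_cm, S.X_sum a b e h]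

/-- `cm_mul_right` with `b :=` a lift of `S.X b u`, `S.X_add`; the lift of `S.X b u` commutes with `ff a b t u'` (a lift of
`S.X e _`, `map_ff`) by `hL` and `hB.cm_sum` (`Cm D b e`), so `b * c * b⁻¹ = c`. -/
theorem ff_add_right (hB : TabBasic D) (hc : φ.ker ≤ Subgroup.center Y) (hL : LAp S φ) {a b e : ℕ}
    (h : sm D a b = some e) (t u u' : K) :
    ff S φ hφ a b t (u + u') = ff S φ hφ a b t u * ff S φ hφ a b t u' := by
  have hcomm : Commute (lft φ hφ (S.X b u)) (ff S φ hφ a b t u') :=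
    hL (hB.cm_sum a b e h).2 u (((ep D a b : ℤ) : K) * t * u') (map_lft φ hφ (S.X b u))
      (map_ff S φ hφ h t u')
  have hconj : lft φ hφ (S.X b u) * ff S φ hφ a b t u' * (lft φ hφ (S.X b u))⁻¹ = ff S φ hφ a b t u' := by
    rw [hcomm.eq, mul_inv_cancel_right]
  have hmul := cm_mul_right φ hφ hc (S.X a t) (S.X b u) (S.X b u') (map_lft φ hφ (S.X b u))
  rw [S.X_add] at hmul
  unfold ff at hconj ⊢
  rw [hmul, hconj]

/-- from `ff_add_right`: `ff t 0 = 1`, then `ff t u * ff t (-u) = 1`. -/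
theorem ff_neg_right (hB : TabBasic D) (hc : φ.ker ≤ Subgroup.center Y) (hL : LAp S φ) {a b e : ℕ}
    (h : sm D a b = some e) (t u : K) : ff S φ hφ a b t (-u) = (ff S φ hφ a b t u)⁻¹ := by
  have h0 : ff S φ hφ a b t 0 = 1 := by
    have h1 := ff_add_right S φ hφ hB hc hL h t 0 0
    rw [add_zero] at h1
    exact mul_eq_left.1 h1.symm
  have h2 := ff_add_right S φ hφ hB hc hL h t u (-u)
  rw [add_neg_cancel, h0] at h2
  exact eq_inv_of_mul_eq_one_right h2.symm

end A

end Cfsg.Agent.Lib.Helper76.E8m
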