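import Mathlib
import Cfsg.Agent.Lib.Helper67.PiNat

set_option autoImplicit false

/-!
Counting conjugacy classes of `π`-elements: `k_π(G) ≤ k_π(N) k_π(G/N)`.
-/

namespace Cfsg.Agent.Lib.Helper24.PiCl

open Cfsg.Agent.Lib.Helper67

section General

theorem card_le_mul_of_fiber_le {α β : Type*} [Finite α] [Finite β] (f : α → β) (n : ℕ)
    (h : ∀ b, Nat.card {a // f a = b} ≤ n) : Nat.card α ≤ Nat.card β * n := by
  classical
  have := Fintype.ofFinite α
  have := Fintype.ofFinite β
  rw [Nat.card_congr (Equiv.sigmaFiberEquiv f).symm, Nat.card_sigma]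
  calc ∑ b, Nat.card {a // f a = b} ≤ ∑ _b : β, n := Finset.sum_le_sum (fun b _ => h b)
    _ = Nat.card β * n := by simp [Nat.card_eq_fintype_card]

end General

section Decomp

variable {H : Type*} [Group H] {π : Set ℕ}

theorem exists_pi_decomp [Finite H] (π : Set ℕ) (x : H) :
    ∃ y z : H, y * z = x ∧ y ∈ Subgroup.zpowers x ∧ z ∈ Subgroup.zpowers x ∧
      PiNat π (orderOf y) ∧ PiNat πᶜ (orderOf z) := by
  have hn : orderOf x ≠ 0 := (orderOf_pos x).ne'
  obtain ⟨a, b, hab, ha, hb⟩ := exists_piNat_mul π (orderOf x) hn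
  have hco : a.Coprime b := ha.coprime hb
  obtain ⟨u, hu1, hu0⟩ := Nat.chineseRemainder hco 1 0
  obtain ⟨v, hv0, hv1⟩ := Nat.chineseRemainder hco 0 1
  have hbu : b ∣ u := (Nat.modEq_zero_iff_dvd).mp hu0
  have hav : a ∣ v := (Nat.modEq_zero_iff_dvd).mp hv0
  refine ⟨x ^ u, x ^ v, ?_, ⟨u, by simp⟩, ⟨v, by simp⟩, ?_, ?_⟩
  · rw [← pow_add]
    have h1 : u + v ≡ 1 [MOD a * b] := by
      apply (Nat.modEq_and_modEq_iff_modEq_mul hco).mp
      exact ⟨by simpa using hu1.add hv0, by simpa using hu0.add hv1⟩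
    have := (pow_eq_pow_iff_modEq (x := x) (n := u + v) (m := 1)).mpr (hab ▸ h1)
    rwa [pow_one] at this
  · apply ha.of_dvd
    apply orderOf_dvd_of_pow_eq_one
    rw [← pow_mul]
    apply orderOf_dvd_iff_pow_eq_one.mp
    rw [hab, mul_comm u a]
    exact Nat.mul_dvd_mul_left a hbu
  · apply hb.of_dvd
    apply orderOf_dvd_of_pow_eq_one
    rw [← pow_mul]
    apply orderOf_dvd_iff_pow_eq_one.mp
    rw [hab]
    exact Nat.mul_dvd_mul hav (dvd_refl b)

theorem piNat_orderOf_mul {y z : H} (hc : Commute y z) (hy : PiNat π (orderOf y))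
    (hz : PiNat π (orderOf z)) : PiNat π (orderOf (y * z)) :=
  ((hy.mul hz).of_dvd (Nat.lcm_dvd_mul _ _)).of_dvd hc.orderOf_mul_dvd_lcm

theorem pi_decomp_unique {x y z y' z' : H} (hyz : y * z = x) (hc : Commute y z)
    (hy : PiNat π (orderOf y)) (hz : PiNat πᶜ (orderOf z))
    (hy'z' : y' * z' = x) (hy'm : y' ∈ Subgroup.zpowers x) (hz'm : z' ∈ Subgroup.zpowers x)
    (hy' : PiNat π (orderOf y')) (hz' : PiNat πᶜ (orderOf z')) : y = y' ∧ z = z' := by
  have hyx : Commute y x := hyz ▸ (Commute.refl y).mul_right hc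
  have hzx : Commute z x := hyz ▸ hc.symm.mul_right (Commute.refl z)
  obtain ⟨k, rfl⟩ := hy'm
  obtain ⟨l, rfl⟩ := hz'm
  have c1 : Commute y (x ^ k) := hyx.zpow_right k
  have c2 : Commute z (x ^ l) := hzx.zpow_right l
  have c3 : Commute z (x ^ k) := hzx.zpow_right k
  have hw : (x ^ k)⁻¹ * y = x ^ l * z⁻¹ := by
    have : y * z = x ^ k * x ^ l := hyz.trans hy'z'.symm
    calc (x ^ k)⁻¹ * y = (x ^ k)⁻¹ * (y * z) * z⁻¹ := by group
      _ = (x ^ k)⁻¹ * (x ^ k * x ^ l) * z⁻¹ := by rw [this]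
      _ = x ^ l * z⁻¹ := by group
  have h1 : PiNat π (orderOf ((x ^ k)⁻¹ * y)) := by
    apply piNat_orderOf_mul c1.symm.inv_left
    · rwa [orderOf_inv]
    · exact hy
  have h2 : PiNat πᶜ (orderOf ((x ^ k)⁻¹ * y)) := by
    rw [hw]
    apply piNat_orderOf_mul c2.symm.inv_right hz'
    rwa [orderOf_inv]
  have h3 := eq_one_of_piNat h1 h2
  have h4 : y = x ^ k := by
    have := inv_mul_eq_one.mp h3
    exact this.symm
  refine ⟨h4, ?_⟩
  have h5 : x ^ l * z⁻¹ = 1 := hw ▸ h3
  exact (mul_inv_eq_one.mp h5).symm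

/-- The `π`-part of an element of a finite group. -/
noncomputable def piPart [Finite H] (π : Set ℕ) (x : H) : H :=
  Classical.choose (exists_pi_decomp π x)

/-- The `π'`-part of an element of a finite group. -/
noncomputable def piPart' [Finite H] (π : Set ℕ) (x : H) : H :=
  Classical.choose (Classical.choose_spec (exists_pi_decomp π x))

theorem piPart_spec [Finite H] (π : Set ℕ) (x : H) :
    piPart π x * piPart' π x = x ∧ piPart π x ∈ Subgroup.zpowers x ∧
      piPart' π x ∈ Subgroup.zpowers x ∧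
      PiNat π (orderOf (piPart π x)) ∧ PiNat πᶜ (orderOf (piPart' π x)) :=
  Classical.choose_spec (Classical.choose_spec (exists_pi_decomp π x))

theorem piPart_eq [Finite H] {x y z : H} (hyz : y * z = x) (hc : Commute y z)
    (hy : PiNat π (orderOf y)) (hz : PiNat πᶜ (orderOf z)) :
    piPart π x = y ∧ piPart' π x = z := by
  obtain ⟨h1, h2, h3, h4, h5⟩ := piPart_spec π x
  obtain ⟨e1, e2⟩ := pi_decomp_unique hyz hc hy hz h1 h2 h3 h4 h5
  exact ⟨e1.symm, e2.symm⟩

theorem commute_piPart [Finite H] {g x : H} (h : Commute g x) :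
    Commute g (piPart π x) ∧ Commute g (piPart' π x) := by
  obtain ⟨-, ⟨k, hk⟩, ⟨l, hl⟩, -, -⟩ := piPart_spec π x
  exact ⟨hk ▸ h.zpow_right k, hl ▸ h.zpow_right l⟩

theorem commute_piPart_piPart' [Finite H] (x : H) : Commute (piPart π x) (piPart' π x) := by
  obtain ⟨-, ⟨k, hk⟩, ⟨l, hl⟩, -, -⟩ := piPart_spec π x
  rw [← hk, ← hl]
  exact ((Commute.refl x).zpow_right l).zpow_left k

end Decomp


section Burnside

variable {H : Type*} [Group H]

/-- A conjugation-invariant predicate as a sub-action of the conjugation action. -/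
def conjSub (Q : H → Prop) (hQ : ∀ c g : H, Q g → Q (c * g * c⁻¹)) :
    SubMulAction (ConjAct H) H where
  carrier := {g | Q g}
  smul_mem' := by
    intro c g hg
    change Q (c • g)
    rw [ConjAct.smul_def]
    exact hQ _ _ hg

theorem mem_conjSub {Q : H → Prop} {hQ : ∀ c g : H, Q g → Q (c * g * c⁻¹)} {g : H} :
    g ∈ conjSub Q hQ ↔ Q g := Iff.rfl

/-- Burnside count for a conjugation-invariant predicate. -/
theorem card_comm_pred [Finite H] (Q : H → Prop) (hQ : ∀ c g : H, Q g → Q (c * g * c⁻¹)) :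
    Nat.card {p : H × H // Q p.1 ∧ Commute p.1 p.2} =
      Nat.card {C : ConjClasses H // ∀ g : H, ConjClasses.mk g = C → Q g} * Nat.card H := by
  classical
  let S := conjSub Q hQ
  have : Fintype H := Fintype.ofFinite H
  have : Fintype (ConjAct H) := Fintype.ofFinite (ConjAct H)
  have : Fintype S := Fintype.ofFinite S
  have hB := MulAction.sum_card_fixedBy_eq_card_orbits_mul_card_group (ConjAct H) S
  -- left side
  let e1 : {p : H × H // Q p.1 ∧ Commute p.1 p.2} ≃ Σ a : ConjAct H, MulAction.fixedBy S a :=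
    { toFun := fun p => ⟨ConjAct.toConjAct p.1.2, ⟨⟨p.1.1, p.2.1⟩, by
        rw [MulAction.mem_fixedBy]
        apply Subtype.ext
        rw [SubMulAction.val_smul, ConjAct.smul_def, ConjAct.ofConjAct_toConjAct]
        have := p.2.2
        rw [commute_iff_eq] at this
        rw [← this, mul_inv_cancel_right]⟩⟩
      invFun := fun q => ⟨(q.2.1.1, ConjAct.ofConjAct q.1), q.2.1.2, by
        have h := q.2.2
        rw [MulAction.mem_fixedBy] at h
        have h' := congrArg Subtype.val h
        rw [SubMulAction.val_smul, ConjAct.smul_def] at h'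
        rw [commute_iff_eq]
        calc q.2.1.1 * ConjAct.ofConjAct q.1
            = (ConjAct.ofConjAct q.1 * q.2.1.1 * (ConjAct.ofConjAct q.1)⁻¹) *
                ConjAct.ofConjAct q.1 := by rw [h']
          _ = ConjAct.ofConjAct q.1 * q.2.1.1 := by group⟩
      left_inv := fun p => by
        apply Subtype.ext
        rfl
      right_inv := fun q => by
        rcases q with ⟨a, ⟨s, hs⟩⟩
        rfl }
  let e2 : MulAction.orbitRel.Quotient (ConjAct H) S ≃
      {C : ConjClasses H // ∀ g : H, ConjClasses.mk g = C → Q g} :=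
    Equiv.ofBijective
      (Quotient.lift (fun s : S => (⟨ConjClasses.mk (s : H), fun g hg => by
          rw [ConjClasses.mk_eq_mk_iff_isConj, isConj_iff] at hg
          obtain ⟨c, hc⟩ := hg
          have hs : Q (s : H) := s.2
          have : g = c⁻¹ * (s : H) * c⁻¹⁻¹ := by rw [← hc]; group
          rw [this]
          exact hQ _ _ hs⟩ : {C : ConjClasses H // ∀ g : H, ConjClasses.mk g = C → Q g}))
        (by
          intro s t hst
          apply Subtype.ext
          change ConjClasses.mk (s : H) = ConjClasses.mk (t : H)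
          rw [ConjClasses.mk_eq_mk_iff_isConj, isConj_iff]
          change s ∈ MulAction.orbit (ConjAct H) t at hst
          obtain ⟨a, ha⟩ := hst
          have ha' := congrArg Subtype.val ha
          simp only [SubMulAction.val_smul, ConjAct.smul_def] at ha'
          refine ⟨(ConjAct.ofConjAct a)⁻¹, ?_⟩
          rw [← ha']
          group))
      (by
        constructor
        · intro x y
          induction x using Quotient.inductionOn with | _ s => ?_
          induction y using Quotient.inductionOn with | _ t => ?_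
          intro hxy
          have h1 : ConjClasses.mk (s : H) = ConjClasses.mk (t : H) := congrArg Subtype.val hxy
          rw [ConjClasses.mk_eq_mk_iff_isConj, isConj_iff] at h1
          obtain ⟨c, hc⟩ := h1
          apply Quotient.sound
          change s ∈ MulAction.orbit (ConjAct H) t
          refine ⟨ConjAct.toConjAct c⁻¹, ?_⟩
          apply Subtype.ext
          rw [SubMulAction.val_smul, ConjAct.smul_def, ConjAct.ofConjAct_toConjAct, ← hc]
          group
        · rintro ⟨C, hC⟩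
          obtain ⟨g, rfl⟩ := ConjClasses.exists_rep C
          exact ⟨Quotient.mk'' ⟨g, hC g rfl⟩, rfl⟩)
  rw [Nat.card_congr e1, Nat.card_sigma, ← Nat.card_congr e2]
  simp only [Nat.card_eq_fintype_card] at hB ⊢
  have hc : Fintype.card (ConjAct H) = Fintype.card H :=
    Fintype.card_congr ConjAct.ofConjAct.toEquiv
  rw [← hc]
  convert hB using 2

end Burnside

section Main

variable {G : Type*} [Group G] [Finite G] (N : Subgroup G) [N.Normal] {π : Set ℕ}

theorem coset_centralizer_le {I : Type*} [Finite I] (φ : I → G) (Y : G ⧸ N) :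
    Nat.card {p : I × G // (p.2 : G ⧸ N) = Y ∧ Commute (φ p.1) p.2} ≤
      Nat.card {p : I × N // Commute (φ p.1) (p.2 : G)} := by
  classical
  let c : I → G := fun i =>
    if h : ∃ h' : G, (h' : G ⧸ N) = Y ∧ Commute (φ i) h' then h.choose else 1
  have hc : ∀ p : {p : I × G // (p.2 : G ⧸ N) = Y ∧ Commute (φ p.1) p.2},
      ((c p.1.1 : G) : G ⧸ N) = Y ∧ Commute (φ p.1.1) (c p.1.1) := by
    intro p
    have h : ∃ h' : G, (h' : G ⧸ N) = Y ∧ Commute (φ p.1.1) h' := ⟨p.1.2, p.2⟩
    simp only [c, dif_pos h]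
    exact h.choose_spec
  apply Nat.card_le_card_of_injective
    (fun p => (⟨(p.1.1, ⟨(c p.1.1)⁻¹ * p.1.2, by
      rw [← QuotientGroup.eq, (hc p).1, p.2.1]⟩), ((hc p).2.inv_right).mul_right p.2.2⟩ :
        {p : I × N // Commute (φ p.1) (p.2 : G)}))
  intro p q hpq
  have h1 := congrArg (fun t : {p : I × N // Commute (φ p.1) (p.2 : G)} => t.1.1) hpq
  have h2 := congrArg (fun t : {p : I × N // Commute (φ p.1) (p.2 : G)} => (t.1.2 : G)) hpq
  simp only at h1 h2
  apply Subtype.ext
  apply Prod.ext h1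
  rw [h1] at h2
  exact mul_left_cancel h2

theorem commute_coe_piPart {g : G} {n : N} (h : Commute g (n : G)) :
    Commute g ((piPart π n : N) : G) ∧ Commute g ((piPart' π n : N) : G) := by
  obtain ⟨-, ⟨k, hk⟩, ⟨l, hl⟩, -, -⟩ := piPart_spec π n
  have hk' : (n : G) ^ k = ((piPart π n : N) : G) := by
    rw [← hk]; simp
  have hl' : (n : G) ^ l = ((piPart' π n : N) : G) := by
    rw [← hl]; simp
  exact ⟨hk' ▸ h.zpow_right k, hl' ▸ h.zpow_right l⟩

theorem swap_le (X : G ⧸ N) :
    Nat.card {p : {g : G // PiNat π (orderOf g) ∧ (g : G ⧸ N) = X} × N //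
        Commute (p.1 : G) (p.2 : G)} ≤
      Nat.card {p : {m : N // PiNat π (orderOf (m : G))} × G //
        (p.2 : G ⧸ N) = X ∧ Commute ((p.1 : N) : G) p.2} := by
  classical
  apply Nat.card_le_card_of_injective
    (fun p => (⟨(⟨piPart π p.1.2, by
        rw [Subgroup.orderOf_coe]; exact (piPart_spec π p.1.2).2.2.2.1⟩,
        (p.1.1 : G) * ((piPart' π p.1.2 : N) : G)), by
      refine ⟨?_, ?_⟩
      · rw [QuotientGroup.mk_mul, p.1.1.2.2,
          (QuotientGroup.eq_one_iff _).mpr (piPart' π p.1.2).2, mul_one]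
      · have h1 := commute_coe_piPart (π := π) N p.2
        have h2 : Commute ((piPart π p.1.2 : N) : G) ((piPart' π p.1.2 : N) : G) := by
          have := commute_piPart_piPart' (π := π) p.1.2
          rw [commute_iff_eq] at this ⊢
          exact_mod_cast congrArg (Subtype.val) this
        exact h1.1.symm.mul_right h2⟩ :
      {p : {m : N // PiNat π (orderOf (m : G))} × G //
        (p.2 : G ⧸ N) = X ∧ Commute ((p.1 : N) : G) p.2}))
  intro p q hpq
  have e1 : piPart π p.1.2 = piPart π q.1.2 := by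
    have := congrArg (fun t : {p : {m : N // PiNat π (orderOf (m : G))} × G //
        (p.2 : G ⧸ N) = X ∧ Commute ((p.1 : N) : G) p.2} => (t.1.1 : N)) hpq
    exact this
  have e2 : (p.1.1 : G) * ((piPart' π p.1.2 : N) : G) =
      (q.1.1 : G) * ((piPart' π q.1.2 : N) : G) := by
    have := congrArg (fun t : {p : {m : N // PiNat π (orderOf (m : G))} × G //
        (p.2 : G ⧸ N) = X ∧ Commute ((p.1 : N) : G) p.2} => t.1.2) hpq
    exact this
  have hp := piPart_eq (π := π) (x := (p.1.1 : G) * ((piPart' π p.1.2 : N) : G)) rfl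
    (commute_coe_piPart (π := π) N p.2).2 p.1.1.2.1
    (by rw [Subgroup.orderOf_coe]; exact (piPart_spec π p.1.2).2.2.2.2)
  have hq := piPart_eq (π := π) (x := (q.1.1 : G) * ((piPart' π q.1.2 : N) : G)) rfl
    (commute_coe_piPart (π := π) N q.2).2 q.1.1.2.1
    (by rw [Subgroup.orderOf_coe]; exact (piPart_spec π q.1.2).2.2.2.2)
  rw [e2] at hp
  have e3 : (p.1.1 : G) = (q.1.1 : G) := hp.1.symm.trans hq.1
  have e4 : ((piPart' π p.1.2 : N) : G) = ((piPart' π q.1.2 : N) : G) := hp.2.symm.trans hq.2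
  have e5 : piPart' π p.1.2 = piPart' π q.1.2 := Subtype.ext e4
  have e6 : p.1.2 = q.1.2 := by
    rw [← (piPart_spec π p.1.2).1, ← (piPart_spec π q.1.2).1, e1, e5]
  apply Subtype.ext
  exact Prod.ext (Subtype.ext e3) e6

/-- The fibre bound: commuting pairs `(g,h)` over a fixed pair of cosets, `g` a `π`-element. -/
theorem fibre_le (X Y : G ⧸ N) :
    Nat.card {p : G × G // (PiNat π (orderOf p.1) ∧ Commute p.1 p.2) ∧
        (p.1 : G ⧸ N) = X ∧ (p.2 : G ⧸ N) = Y} ≤
      Nat.card {p : N × N // PiNat π (orderOf p.1) ∧ Commute p.1 p.2} := by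
  classical
  -- reshape 1
  have r1 : Nat.card {p : G × G // (PiNat π (orderOf p.1) ∧ Commute p.1 p.2) ∧
        (p.1 : G ⧸ N) = X ∧ (p.2 : G ⧸ N) = Y} ≤
      Nat.card {p : {g : G // PiNat π (orderOf g) ∧ (g : G ⧸ N) = X} × G //
        (p.2 : G ⧸ N) = Y ∧ Commute (p.1 : G) p.2} := by
    apply Nat.card_le_card_of_injective
      (fun p => (⟨(⟨p.1.1, p.2.1.1, p.2.2.1⟩, p.1.2), p.2.2.2, p.2.1.2⟩ :
        {p : {g : G // PiNat π (orderOf g) ∧ (g : G ⧸ N) = X} × G //
          (p.2 : G ⧸ N) = Y ∧ Commute (p.1 : G) p.2}))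
    intro p q hpq
    have h1 := congrArg (fun t : {p : {g : G // PiNat π (orderOf g) ∧ (g : G ⧸ N) = X} × G //
          (p.2 : G ⧸ N) = Y ∧ Commute (p.1 : G) p.2} => (t.1.1 : G)) hpq
    have h2 := congrArg (fun t : {p : {g : G // PiNat π (orderOf g) ∧ (g : G ⧸ N) = X} × G //
          (p.2 : G ⧸ N) = Y ∧ Commute (p.1 : G) p.2} => t.1.2) hpq
    exact Subtype.ext (Prod.ext h1 h2)
  have r2 := coset_centralizer_le N
    (fun i : {g : G // PiNat π (orderOf g) ∧ (g : G ⧸ N) = X} => (i : G)) Y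
  have r3 := swap_le (π := π) N X
  have r4 := coset_centralizer_le N
    (fun i : {m : N // PiNat π (orderOf (m : G))} => ((i : N) : G)) X
  have r5 : Nat.card {p : {m : N // PiNat π (orderOf (m : G))} × N //
        Commute ((p.1 : N) : G) (p.2 : G)} ≤
      Nat.card {p : N × N // PiNat π (orderOf p.1) ∧ Commute p.1 p.2} := by
    apply Nat.card_le_card_of_injective
      (fun p => (⟨((p.1.1 : N), p.1.2), by
        have := p.1.1.2
        rwa [Subgroup.orderOf_coe] at this, by
        have := p.2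
        rw [commute_iff_eq] at this ⊢
        exact Subtype.ext this⟩ : {p : N × N // PiNat π (orderOf p.1) ∧ Commute p.1 p.2}))
    intro p q hpq
    have h1 := congrArg (fun t : {p : N × N // PiNat π (orderOf p.1) ∧ Commute p.1 p.2} =>
      t.1.1) hpq
    have h2 := congrArg (fun t : {p : N × N // PiNat π (orderOf p.1) ∧ Commute p.1 p.2} =>
      t.1.2) hpq
    exact Subtype.ext (Prod.ext (Subtype.ext h1) h2)
  exact r1.trans (r2.trans (r3.trans (r4.trans r5)))

theorem card_comm_le :
    Nat.card {p : G × G // PiNat π (orderOf p.1) ∧ Commute p.1 p.2} ≤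
      Nat.card {p : (G ⧸ N) × (G ⧸ N) // PiNat π (orderOf p.1) ∧ Commute p.1 p.2} *
        Nat.card {p : N × N // PiNat π (orderOf p.1) ∧ Commute p.1 p.2} := by
  classical
  let f : {p : G × G // PiNat π (orderOf p.1) ∧ Commute p.1 p.2} →
      {p : (G ⧸ N) × (G ⧸ N) // PiNat π (orderOf p.1) ∧ Commute p.1 p.2} :=
    fun p => ⟨((p.1.1 : G ⧸ N), (p.1.2 : G ⧸ N)),
      piNat_orderOf_map (QuotientGroup.mk' N) p.2.1, p.2.2.map (QuotientGroup.mk' N)⟩
  apply card_le_mul_of_fiber_le f
  intro b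
  refine le_trans ?_ (fibre_le (π := π) N b.1.1 b.1.2)
  apply Nat.card_le_card_of_injective
    (fun a => (⟨a.1.1, a.1.2, congrArg (fun t :
        {p : (G ⧸ N) × (G ⧸ N) // PiNat π (orderOf p.1) ∧ Commute p.1 p.2} => t.1.1) a.2,
      congrArg (fun t :
        {p : (G ⧸ N) × (G ⧸ N) // PiNat π (orderOf p.1) ∧ Commute p.1 p.2} => t.1.2) a.2⟩ :
      {p : G × G // (PiNat π (orderOf p.1) ∧ Commute p.1 p.2) ∧
        (p.1 : G ⧸ N) = b.1.1 ∧ (p.2 : G ⧸ N) = b.1.2}))
  intro a a' h
  have := congrArg (fun t : {p : G × G // (PiNat π (orderOf p.1) ∧ Commute p.1 p.2) ∧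
        (p.1 : G ⧸ N) = b.1.1 ∧ (p.2 : G ⧸ N) = b.1.2} => t.1) h
  exact Subtype.ext (Subtype.ext this)

/-- `k_π(G) ≤ k_π(N) k_π(G/N)` in the `PiNat` formulation. -/
theorem card_piClasses_le :
    Nat.card {C : ConjClasses G // ∀ g : G, ConjClasses.mk g = C → PiNat π (orderOf g)} ≤
      Nat.card {C : ConjClasses N // ∀ g : N, ConjClasses.mk g = C → PiNat π (orderOf g)} *
        Nat.card {C : ConjClasses (G ⧸ N) //
          ∀ g : G ⧸ N, ConjClasses.mk g = C → PiNat π (orderOf g)} := by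
  have hG := card_comm_pred (H := G) (fun g => PiNat π (orderOf g))
    (fun c g hg => by rwa [orderOf_conj_eq])
  have hN := card_comm_pred (H := N) (fun g => PiNat π (orderOf g))
    (fun c g hg => by rwa [orderOf_conj_eq])
  have hQ := card_comm_pred (H := G ⧸ N) (fun g => PiNat π (orderOf g))
    (fun c g hg => by rwa [orderOf_conj_eq])
  have hle := card_comm_le (π := π) N
  rw [hG, hN, hQ] at hle
  have hcard : Nat.card G = Nat.card (G ⧸ N) * Nat.card N := by
    rw [← Subgroup.index_eq_card, mul_comm]; exact (Subgroup.card_mul_index N).symm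
  have hpos : 0 < Nat.card G := Nat.card_pos
  rw [hcard] at hle hpos
  have : Nat.card {C : ConjClasses G // ∀ g : G, ConjClasses.mk g = C → PiNat π (orderOf g)} *
      (Nat.card (G ⧸ N) * Nat.card N) ≤
      (Nat.card {C : ConjClasses N // ∀ g : N, ConjClasses.mk g = C → PiNat π (orderOf g)} *
        Nat.card {C : ConjClasses (G ⧸ N) //
          ∀ g : G ⧸ N, ConjClasses.mk g = C → PiNat π (orderOf g)}) *
      (Nat.card (G ⧸ N) * Nat.card N) := by
    calc _ ≤ _ := hle
      _ = _ := by ring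
  exact Nat.le_of_mul_le_mul_right this hpos

end Main

end Cfsg.Agent.Lib.Helper24.PiCl
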