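import Cfsg.Agent.Lib.Helper2.ClassTwo
import Cfsg.Agent.Lib.Helper24.PiClasses

set_option autoImplicit false

namespace Cfsg.Agent.Lib.Helper24.ExtraMod

open Finset
open scoped commutatorElement

section Norm
variable {G : Type*} [Group G] {V : Type*} [CommGroup V] [MulDistribMulAction G V]

/-- the norm of `v` under the cyclic group generated by `g` (of order dividing `p`). -/
def Nm (p : ℕ) (g : G) (v : V) : V := ∏ j ∈ range p, g ^ j • v

theorem Nm_mul (p : ℕ) (g : G) (u v : V) : Nm p g (u * v) = Nm p g u * Nm p g v := by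
  unfold Nm
  rw [← Finset.prod_mul_distrib]
  exact Finset.prod_congr rfl (fun j _ => smul_mul' _ _ _)

theorem Nm_one (p : ℕ) (g : G) : Nm p g (1 : V) = 1 := by
  unfold Nm
  simp

theorem Nm_prod {ι : Type*} (p : ℕ) (g : G) (s : Finset ι) (f : ι → V) :
    Nm p g (∏ i ∈ s, f i) = ∏ i ∈ s, Nm p g (f i) := by
  classical
  induction s using Finset.induction_on with
  | empty => simp [Nm_one]
  | insert a s ha ih => rw [Finset.prod_insert ha, Finset.prod_insert ha, Nm_mul, ih]

theorem Nm_fixed (p : ℕ) (g : G) (hg : g ^ p = 1) (v : V) : g • Nm p g v = Nm p g v := by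
  unfold Nm
  rw [Finset.smul_prod']
  have h1 : ∀ j, g • g ^ j • v = g ^ (j + 1) • v := by
    intro j; rw [← mul_smul, ← pow_succ']
  simp only [h1]
  have h2 := Finset.prod_range_succ (fun j => g ^ j • v) p
  have h3 := Finset.prod_range_succ' (fun j => g ^ j • v) p
  rw [h2] at h3
  simp only [hg, pow_zero, one_smul] at h3
  exact (mul_right_cancel h3).symm

theorem Nm_of_fixed (p : ℕ) (g : G) (v : V) (hv : g • v = v) : Nm p g v = v ^ p := by
  unfold Nm
  have h : ∀ j : ℕ, g ^ j • v = v := by
    intro j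
    induction j with
    | zero => simp
    | succ j ih => rw [pow_succ, mul_smul, hv, ih]
  simp [h]

theorem Nm_smul_comm (p : ℕ) (g h : G) (hc : Commute h g) (v : V) :
    h • Nm p g v = Nm p g (h • v) := by
  unfold Nm
  rw [Finset.smul_prod']
  refine Finset.prod_congr rfl (fun j _ => ?_)
  rw [← mul_smul, ← mul_smul, (hc.pow_right j).eq]

theorem Nm_mem (p : ℕ) (g : G) (W : Subgroup V) (hW : ∀ v ∈ W, g • v ∈ W) (v : V) (hv : v ∈ W) :
    Nm p g v ∈ W := by
  unfold Nm
  have h : ∀ j : ℕ, g ^ j • v ∈ W := by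
    intro j
    induction j with
    | zero => simpa using hv
    | succ j ih => rw [pow_succ', mul_smul]; exact hW _ ih
  exact Subgroup.prod_mem _ (fun j _ => h j)

/-- The key identity: if the norms under all nontrivial powers of `c` vanish at all conjugates,
the norms under the `c^i x` multiply to the `p`-th power. -/
theorem prod_Nm_eq (p : ℕ) (hp : 0 < p) (x c : G) (hxc : Commute c x) (v : V)
    (h : ∀ j, 0 < j → j < p → Nm p (c ^ j) (x ^ j • v) = 1) :
    ∏ i ∈ range p, Nm p (c ^ i * x) v = v ^ p := by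
  unfold Nm
  rw [Finset.prod_comm]
  have h1 : ∀ j i : ℕ, (c ^ i * x) ^ j • v = (c ^ j) ^ i • (x ^ j • v) := by
    intro j i
    rw [(hxc.pow_left i).mul_pow, ← pow_mul, ← pow_mul, mul_smul, mul_comm]
  simp only [h1]
  rw [Finset.prod_eq_single_of_mem 0 (Finset.mem_range.2 hp)]
  · simp
  · intro j hj hj0
    exact h j (Nat.pos_of_ne_zero hj0) (Finset.mem_range.1 hj)

end Norm

end Cfsg.Agent.Lib.Helper24.ExtraMod
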