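import Cfsg.Agent.Lib.Helper24.ExtraMod

set_option autoImplicit false

namespace Cfsg.Agent.Lib.Helper24.ExtraMod

open Finset Subgroup
open scoped commutatorElement

section Ex
variable {G : Type*} [Group G]

/-- `E` looks extraspecial with centre `Z` of order `p`. -/
structure ExLike (p : ℕ) (E Z : Subgroup G) : Prop where
  card_Z : Nat.card Z = p
  Z_le : Z ≤ E
  central : ∀ c ∈ Z, ∀ g ∈ E, g * c = c * g
  comm_mem : ∀ a ∈ E, ∀ b ∈ E, ⁅a, b⁆ ∈ Z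
  center_le : ∀ x ∈ E, (∀ g ∈ E, g * x = x * g) → x ∈ Z

variable {p : ℕ} {E Z : Subgroup G}

theorem ExLike.pow_eq_one (h : ExLike p E Z) {c : G} (hc : c ∈ Z) : c ^ p = 1 := by
  have h1 : (⟨c, hc⟩ : Z) ^ Nat.card Z = 1 := pow_card_eq_one'
  rw [h.card_Z] at h1
  exact congrArg Subtype.val h1

theorem ExLike.orderOf_eq [hp : Fact p.Prime] (h : ExLike p E Z) {c : G} (hc : c ∈ Z)
    (hc1 : c ≠ 1) : orderOf c = p :=
  orderOf_eq_prime (h.pow_eq_one hc) hc1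

theorem ExLike.exists_pow_eq [hp : Fact p.Prime] (h : ExLike p E Z) {c : G} (hc : c ∈ Z)
    (hc1 : c ≠ 1) {d : G} (hd : d ∈ Z) : ∃ k : ℕ, c ^ k = d := by
  have h1 : (⟨c, hc⟩ : Z) ≠ 1 := fun e => hc1 (congrArg Subtype.val e)
  obtain ⟨k, hk⟩ := mem_powers_of_prime_card (g := (⟨c, hc⟩ : Z)) (g' := ⟨d, hd⟩) h.card_Z h1
  exact ⟨k, congrArg Subtype.val hk⟩

theorem ExLike.comm_comm (h : ExLike p E Z) {a b g : G} (ha : a ∈ E) (hb : b ∈ E) (hg : g ∈ E) :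
    g * ⁅a, b⁆ = ⁅a, b⁆ * g :=
  h.central _ (h.comm_mem a ha b hb) g hg

theorem ExLike.comm_mul_left (h : ExLike p E Z) {a b x : G} (ha : a ∈ E) (hb : b ∈ E)
    (hx : x ∈ E) : ⁅a * b, x⁆ = ⁅a, x⁆ * ⁅b, x⁆ := by
  have h1 : a * ⁅b, x⁆ = ⁅b, x⁆ * a := h.comm_comm hb hx ha
  have h2 : ⁅a, x⁆ * ⁅b, x⁆ = ⁅b, x⁆ * ⁅a, x⁆ :=
    h.comm_comm hb hx (h.Z_le (h.comm_mem a ha x hx))
  rw [h2]
  calc ⁅a * b, x⁆ = a * ⁅b, x⁆ * x * a⁻¹ * x⁻¹ := by
        simp only [commutatorElement_def]; group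
    _ = ⁅b, x⁆ * a * x * a⁻¹ * x⁻¹ := by rw [h1]
    _ = ⁅b, x⁆ * ⁅a, x⁆ := by simp only [commutatorElement_def]; group

theorem ExLike.comm_pow_left (h : ExLike p E Z) {a x : G} (ha : a ∈ E) (hx : x ∈ E) (k : ℕ) :
    ⁅a ^ k, x⁆ = ⁅a, x⁆ ^ k := by
  induction k with
  | zero => simp
  | succ k ih => rw [pow_succ, h.comm_mul_left (pow_mem ha k) ha hx, ih, pow_succ]

theorem comm_eq_one_iff (a b : G) : ⁅a, b⁆ = 1 ↔ a * b = b * a := by
  rw [commutatorElement_def]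
  constructor
  · intro h
    calc a * b = (a * b * a⁻¹ * b⁻¹) * b * a := by group
      _ = b * a := by rw [h, one_mul]
  · intro h
    calc a * b * a⁻¹ * b⁻¹ = (a * b) * a⁻¹ * b⁻¹ := by group
      _ = 1 := by rw [h]; group

theorem ExLike.pow_p_mem (h : ExLike p E Z) {a : G} (ha : a ∈ E) : a ^ p ∈ Z := by
  apply h.center_le _ (pow_mem ha p)
  intro g hg
  have h1 : ⁅a ^ p, g⁆ = 1 := by
    rw [h.comm_pow_left ha hg, h.pow_eq_one (h.comm_mem a ha g hg)]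
  exact ((comm_eq_one_iff _ _).1 h1).symm

theorem ExLike.exists_not_comm (h : ExLike p E Z) {x : G} (hx : x ∈ E) (hxZ : x ∉ Z) :
    ∃ y ∈ E, ⁅y, x⁆ ≠ 1 := by
  by_contra hcon
  push Not at hcon
  exact hxZ (h.center_le x hx (fun g hg => (comm_eq_one_iff _ _).1 (hcon g hg)))

theorem exists_not_mem_of_card_lt [Finite G] {E Z : Subgroup G} (hlt : Nat.card Z < Nat.card E) :
    ∃ x ∈ E, x ∉ Z := by
  by_contra hcon
  push Not at hcon
  exact absurd (Subgroup.card_le_of_le (show E ≤ Z from hcon)) (not_le.2 hlt)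

/-- commutator counting: `|K| ≤ p |C_K(a)|`. -/
theorem ExLike.card_le [Finite G] (h : ExLike p E Z) {a : G} (ha : a ∈ E) (K : Subgroup G)
    (hK : K ≤ E) :
    Nat.card K ≤ p * Nat.card (K ⊓ centralizer {a} : Subgroup G) := by
  let f : K → Z := fun k => ⟨⁅(k : G), a⁆, h.comm_mem _ (hK k.2) _ ha⟩
  have key := Cfsg.Agent.Lib.Helper24.PiCl.card_le_mul_of_fiber_le f
    (Nat.card (K ⊓ centralizer {a} : Subgroup G)) ?_
  · rw [h.card_Z] at key; exact key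
  intro b
  by_cases hb : Nonempty {k // f k = b}
  · obtain ⟨⟨k₀, hk₀⟩⟩ := hb
    have hmem : ∀ k : {k // f k = b}, (k₀ : G)⁻¹ * (k.1 : G) ∈ K ⊓ centralizer {a} := by
      intro k
      rw [Subgroup.mem_inf]
      refine ⟨mul_mem (inv_mem k₀.2) k.1.2, ?_⟩
      rw [mem_centralizer_singleton_iff]
      have e1 : ⁅(k.1 : G), a⁆ = ⁅(k₀ : G), a⁆ := by
        have := k.2.trans hk₀.symm
        exact congrArg Subtype.val this
      have e2 : (k.1 : G) * a * (k.1 : G)⁻¹ = (k₀ : G) * a * (k₀ : G)⁻¹ := by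
        simp only [commutatorElement_def] at e1
        exact mul_right_cancel e1
      calc (k₀ : G)⁻¹ * (k.1 : G) * a = (k₀ : G)⁻¹ * ((k.1 : G) * a * (k.1 : G)⁻¹) * k.1 := by group
        _ = (k₀ : G)⁻¹ * ((k₀ : G) * a * (k₀ : G)⁻¹) * k.1 := by rw [e2]
        _ = a * ((k₀ : G)⁻¹ * (k.1 : G)) := by group
    apply Nat.card_le_card_of_injective (fun k : {k // f k = b} =>
      (⟨(k₀ : G)⁻¹ * (k.1 : G), hmem k⟩ : ↥(K ⊓ centralizer {a} : Subgroup G)))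
    intro k k' hkk
    have := congrArg Subtype.val hkk
    simp only [mul_right_inj] at this
    exact Subtype.ext (Subtype.ext this)
  · rw [not_nonempty_iff] at hb
    simp [Nat.card_of_isEmpty]

end Ex

end Cfsg.Agent.Lib.Helper24.ExtraMod
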