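import Cfsg.Agent.Lib.Helper24.ExtraMod3

set_option autoImplicit false

namespace Cfsg.Agent.Lib.Helper24.ExtraMod

open Finset Subgroup
open scoped commutatorElement

section Core
variable {G : Type*} [Group G] {V : Type*} [CommGroup V] [MulDistribMulAction G V]

/-- `W` is an `E`-invariant subgroup of exponent `r` on which nontrivial elements of `Z` act
fixed-point-freely. -/
structure ModLike (r : ℕ) (E Z : Subgroup G) (W : Subgroup V) : Prop where
  exp : ∀ v ∈ W, v ^ r = 1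
  inv : ∀ g ∈ E, ∀ v ∈ W, g • v ∈ W
  fpf : ∀ c ∈ Z, c ≠ 1 → ∀ v ∈ W, c • v = v → v = 1

/-- the fixed points of `g` in `W`. -/
def fixW (g : G) (W : Subgroup V) : Subgroup V where
  carrier := {v | v ∈ W ∧ g • v = v}
  mul_mem' := by
    rintro a b ⟨ha, ha'⟩ ⟨hb, hb'⟩
    exact ⟨mul_mem ha hb, by rw [smul_mul', ha', hb']⟩
  one_mem' := ⟨one_mem _, smul_one _⟩
  inv_mem' := by
    rintro a ⟨ha, ha'⟩
    exact ⟨inv_mem ha, by rw [smul_inv', ha']⟩

theorem mem_fixW {g : G} {W : Subgroup V} {v : V} : v ∈ fixW g W ↔ v ∈ W ∧ g • v = v := Iff.rfl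

theorem fixW_le (g : G) (W : Subgroup V) : fixW g W ≤ W := fun _ hv => hv.1

variable {p r : ℕ} {E Z : Subgroup G} {W : Subgroup V}

theorem ModLike.eq_one_of_pow (m : ModLike r E Z W) (hp : p.Prime) (hr : r.Prime) (hpr : p ≠ r)
    {v : V} (hv : v ∈ W) (hvp : v ^ p = 1) : v = 1 := by
  have h1 : orderOf v ∣ Nat.gcd p r :=
    Nat.dvd_gcd (orderOf_dvd_of_pow_eq_one hvp) (orderOf_dvd_of_pow_eq_one (m.exp v hv))
  rw [(Nat.coprime_primes hp hr).2 hpr, Nat.dvd_one, orderOf_eq_one_iff] at h1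
  exact h1

theorem ModLike.pow_mem_smul (m : ModLike r E Z W) {g : G} (hg : g ∈ E) {v : V} (hv : v ∈ W) :
    g • v ∈ W := m.inv g hg v hv

theorem ExLike.exists_ne_one [hp : Fact p.Prime] (h : ExLike p E Z) : ∃ c ∈ Z, c ≠ 1 := by
  have h1 : Z ≠ ⊥ := by
    intro hZ
    have := h.card_Z
    rw [hZ, Subgroup.card_bot] at this
    exact hp.out.one_lt.ne this
  exact (Subgroup.ne_bot_iff_exists_ne_one).1 h1 |>.elim fun c hc => ⟨c.1, c.2, fun e => hc (Subtype.ext e)⟩

theorem ModLike.card_eq [Finite V] [hr : Fact r.Prime] (m : ModLike r E Z W) (hW : W ≠ ⊥) :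
    ∃ d : ℕ, 1 ≤ d ∧ Nat.card W = r ^ d := by
  have hP : IsPGroup r W := by
    intro v
    refine ⟨1, ?_⟩
    rw [pow_one]
    exact Subtype.ext (m.exp v.1 v.2)
  obtain ⟨d, hd⟩ := IsPGroup.iff_card.1 hP
  refine ⟨d, ?_, hd⟩
  rcases Nat.eq_zero_or_pos d with h0 | h0
  · rw [h0, pow_zero, Subgroup.card_eq_one] at hd
    exact absurd hd hW
  · exact h0

/-- base case: `|W| ≡ 1 mod p`. -/
theorem ModLike.base [Finite V] [hp : Fact p.Prime] [hr : Fact r.Prime] (h : ExLike p E Z)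
    (m : ModLike r E Z W) (hW : W ≠ ⊥) :
    ∃ d : ℕ, 1 ≤ d ∧ Nat.card W = r ^ d ∧ p ∣ r ^ d - 1 := by
  obtain ⟨d, hd1, hd⟩ := m.card_eq hW
  refine ⟨d, hd1, hd, ?_⟩
  obtain ⟨c, hcZ, hc1⟩ := h.exists_ne_one
  have hinv : ∀ (g : zpowers c) (v : W), (g : G) • (v : V) ∈ W := by
    intro g v
    have hgZ : (g : G) ∈ Z := (zpowers_le.2 hcZ) g.2
    exact m.inv _ (h.Z_le hgZ) _ v.2
  let act : MulAction (zpowers c) W :=
    { smul := fun g v => ⟨(g : G) • (v : V), hinv g v⟩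
      one_smul := fun v => Subtype.ext (one_smul G (v : V))
      mul_smul := fun g g' v => Subtype.ext (mul_smul (g : G) (g' : G) (v : V)) }
  have hPG : IsPGroup p (zpowers c) := by
    apply IsPGroup.of_card (n := 1)
    rw [Nat.card_zpowers, h.orderOf_eq hcZ hc1, pow_one]
  have key := hPG.card_modEq_card_fixedPoints W
  have hfix : Nat.card (MulAction.fixedPoints (zpowers c) W) = 1 := by
    rw [Nat.card_eq_one_iff_unique]
    constructor
    · constructor
      intro a b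
      have ha : (a.1 : V) = 1 := by
        apply m.fpf c hcZ hc1 _ a.1.2
        have := a.2 ⟨c, mem_zpowers c⟩
        exact congrArg Subtype.val this
      have hb : (b.1 : V) = 1 := by
        apply m.fpf c hcZ hc1 _ b.1.2
        have := b.2 ⟨c, mem_zpowers c⟩
        exact congrArg Subtype.val this
      exact Subtype.ext (Subtype.ext (ha.trans hb.symm))
    · exact ⟨⟨1, fun g => Subtype.ext (smul_one (g : G))⟩⟩
  rw [hfix, hd] at key
  have hpos : 1 ≤ r ^ d := Nat.one_le_pow _ _ hr.out.pos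
  exact (Nat.modEq_iff_dvd' hpos).1 key.symm

end Core

end Cfsg.Agent.Lib.Helper24.ExtraMod
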