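import Cfsg.Agent.Lib.Helper24.ExtraMod4

set_option autoImplicit false

namespace Cfsg.Agent.Lib.Helper24.ExtraMod

open Finset Subgroup
open scoped commutatorElement

section Step
variable {G : Type*} [Group G] {V : Type*} [CommGroup V] [MulDistribMulAction G V]
variable {p r : ℕ} {E Z : Subgroup G} {W : Subgroup V} {x y : G}

theorem ExLike.conj_pow (h : ExLike p E Z) (hx : x ∈ E) (hy : y ∈ E) (i : ℕ) :
    y ^ i * x = ⁅y, x⁆ ^ i * x * y ^ i :=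
  Cfsg.Agent.Lib.Helper2.pow_mul_comm_of_commutator_central x y
    (h.comm_comm hy hx hx).symm (h.comm_comm hy hx hy).symm i

theorem ExLike.commute_c (h : ExLike p E Z) (hx : x ∈ E) (hy : y ∈ E) {g : G} (hg : g ∈ E) :
    Commute ⁅y, x⁆ g := (h.comm_comm hy hx hg).symm

theorem ExLike.gi_pow (h : ExLike p E Z) (hx : x ∈ E) (hy : y ∈ E) (hxp : x ^ p = 1) (i : ℕ) :
    (⁅y, x⁆ ^ i * x) ^ p = 1 := by
  rw [((h.commute_c hx hy hx).pow_left i).mul_pow, hxp, mul_one, ← pow_mul, mul_comm, pow_mul,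
    h.pow_eq_one (h.comm_mem y hy x hx), one_pow]

theorem ExLike.gi_mem (h : ExLike p E Z) (hx : x ∈ E) (hy : y ∈ E) (i : ℕ) :
    ⁅y, x⁆ ^ i * x ∈ E :=
  mul_mem (pow_mem (h.Z_le (h.comm_mem y hy x hx)) i) hx

theorem smul_mem_fix (h : ExLike p E Z) (m : ModLike r E Z W) (hx : x ∈ E) (hy : y ∈ E)
    (i : ℕ) {v : V} (hv : v ∈ fixW x W) : y ^ i • v ∈ fixW (⁅y, x⁆ ^ i * x) W := by
  refine ⟨m.inv _ (pow_mem hy i) _ hv.1, ?_⟩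
  rw [← mul_smul, ← h.conj_pow hx hy i, mul_smul, hv.2]

theorem inv_smul_mem_fix (h : ExLike p E Z) (m : ModLike r E Z W) (hx : x ∈ E) (hy : y ∈ E)
    (i : ℕ) {u : V} (hu : u ∈ fixW (⁅y, x⁆ ^ i * x) W) : (y ^ i)⁻¹ • u ∈ fixW x W := by
  refine ⟨m.inv _ (inv_mem (pow_mem hy i)) _ hu.1, ?_⟩
  have e : x * (y ^ i)⁻¹ = (y ^ i)⁻¹ * (⁅y, x⁆ ^ i * x) := by
    have := h.conj_pow hx hy i
    calc x * (y ^ i)⁻¹ = (y ^ i)⁻¹ * (y ^ i * x) * (y ^ i)⁻¹ := by group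
      _ = (y ^ i)⁻¹ * (⁅y, x⁆ ^ i * x * y ^ i) * (y ^ i)⁻¹ := by rw [this]
      _ = (y ^ i)⁻¹ * (⁅y, x⁆ ^ i * x) := by group
  rw [← mul_smul, e, mul_smul, hu.2]

theorem Nm_orth [hp : Fact p.Prime] (h : ExLike p E Z) (m : ModLike r E Z W) (hx : x ∈ E)
    (hy : y ∈ E) (hc : ⁅y, x⁆ ≠ 1) (hxp : x ^ p = 1) {i j : ℕ} (hi : i < p) (hj : j < p)
    (hij : i ≠ j) {u : V} (hu : u ∈ fixW (⁅y, x⁆ ^ i * x) W) :
    Nm p (⁅y, x⁆ ^ j * x) u = 1 := by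
  have hcZ : ⁅y, x⁆ ∈ Z := h.comm_mem y hy x hx
  have hcx : Commute ⁅y, x⁆ x := h.commute_c hx hy hx
  have hgj : ⁅y, x⁆ ^ j * x ∈ E := h.gi_mem hx hy j
  have ht : Nm p (⁅y, x⁆ ^ j * x) u ∈ W :=
    Nm_mem p _ W (fun v hv => m.inv _ hgj v hv) u hu.1
  have h1 : (⁅y, x⁆ ^ j * x) • Nm p (⁅y, x⁆ ^ j * x) u = Nm p (⁅y, x⁆ ^ j * x) u :=
    Nm_fixed p _ (h.gi_pow hx hy hxp j) u
  have hcomm : Commute (⁅y, x⁆ ^ i * x) (⁅y, x⁆ ^ j * x) := by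
    apply Commute.mul_left
    · exact ((Commute.refl _).pow_pow i j).mul_right (hcx.pow_left i)
    · exact (hcx.pow_left j).symm.mul_right (Commute.refl x)
  have h2 : (⁅y, x⁆ ^ i * x) • Nm p (⁅y, x⁆ ^ j * x) u = Nm p (⁅y, x⁆ ^ j * x) u := by
    rw [Nm_smul_comm p _ _ hcomm, hu.2]
  have e : ⁅y, x⁆ ^ i * x = (⁅y, x⁆ ^ i * (⁅y, x⁆ ^ j)⁻¹) * (⁅y, x⁆ ^ j * x) := by group
  rw [e, mul_smul, h1] at h2
  apply m.fpf _ (mul_mem (pow_mem hcZ i) (inv_mem (pow_mem hcZ j))) _ _ ht h2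
  intro h3
  rw [mul_inv_eq_one] at h3
  have ho := h.orderOf_eq hcZ hc
  apply hij
  apply pow_injOn_Iio_orderOf (x := ⁅y, x⁆)
  · rw [ho]; exact hi
  · rw [ho]; exact hj
  · exact h3

theorem prod_Nm_gi [hp : Fact p.Prime] (h : ExLike p E Z) (m : ModLike r E Z W) (hx : x ∈ E)
    (hy : y ∈ E) (hc : ⁅y, x⁆ ≠ 1) {v : V} (hv : v ∈ W) :
    ∏ i ∈ range p, Nm p (⁅y, x⁆ ^ i * x) v = v ^ p := by
  have hcZ : ⁅y, x⁆ ∈ Z := h.comm_mem y hy x hx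
  apply prod_Nm_eq p hp.out.pos x _ (h.commute_c hx hy hx) v
  intro j hj0 hjp
  have hcjZ : ⁅y, x⁆ ^ j ∈ Z := pow_mem hcZ j
  have hxv : x ^ j • v ∈ W := m.inv _ (pow_mem hx j) _ hv
  have ht : Nm p (⁅y, x⁆ ^ j) (x ^ j • v) ∈ W :=
    Nm_mem p _ W (fun v hv => m.inv _ (h.Z_le hcjZ) v hv) _ hxv
  have h1 : (⁅y, x⁆ ^ j) • Nm p (⁅y, x⁆ ^ j) (x ^ j • v) = Nm p (⁅y, x⁆ ^ j) (x ^ j • v) :=
    Nm_fixed p _ (h.pow_eq_one hcjZ) _
  apply m.fpf _ hcjZ _ _ ht h1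
  apply pow_ne_one_of_lt_orderOf hj0.ne'
  rw [h.orderOf_eq hcZ hc]; exact hjp

theorem fixW_ne_bot [hp : Fact p.Prime] [hr : Fact r.Prime] (hpr : p ≠ r) (h : ExLike p E Z)
    (m : ModLike r E Z W) (hx : x ∈ E) (hy : y ∈ E) (hc : ⁅y, x⁆ ≠ 1) (hxp : x ^ p = 1)
    (hW : W ≠ ⊥) : fixW x W ≠ ⊥ := by
  intro hbot
  apply hW
  rw [Subgroup.eq_bot_iff_forall]
  intro v hv
  apply m.eq_one_of_pow hp.out hr.out hpr hv
  rw [← prod_Nm_gi h m hx hy hc hv]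
  apply Finset.prod_eq_one
  intro i _
  have hgi : ⁅y, x⁆ ^ i * x ∈ E := h.gi_mem hx hy i
  have h1 : Nm p (⁅y, x⁆ ^ i * x) v ∈ fixW (⁅y, x⁆ ^ i * x) W :=
    ⟨Nm_mem p _ W (fun v hv => m.inv _ hgi v hv) v hv, Nm_fixed p _ (h.gi_pow hx hy hxp i) v⟩
  have h2 := inv_smul_mem_fix h m hx hy i h1
  rw [hbot, Subgroup.mem_bot] at h2
  have := congrArg (fun t => y ^ i • t) h2
  simpa using this

theorem card_fixW_pow_le [Finite V] [hp : Fact p.Prime] [hr : Fact r.Prime] (hpr : p ≠ r)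
    (h : ExLike p E Z) (m : ModLike r E Z W) (hx : x ∈ E) (hy : y ∈ E) (hc : ⁅y, x⁆ ≠ 1)
    (hxp : x ^ p = 1) : Nat.card (fixW x W) ^ p ≤ Nat.card W := by
  have hmem : ∀ u : Fin p → fixW x W, ∏ i : Fin p, y ^ (i : ℕ) • (u i : V) ∈ W := by
    intro u
    apply Subgroup.prod_mem
    intro i _
    exact m.inv _ (pow_mem hy _) _ (u i).2.1
  have key : ∀ (u : Fin p → fixW x W) (j : Fin p),
      Nm p (⁅y, x⁆ ^ (j : ℕ) * x) (∏ i : Fin p, y ^ (i : ℕ) • (u i : V)) =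
        (y ^ (j : ℕ) • (u j : V)) ^ p := by
    intro u j
    rw [Nm_prod]
    rw [Finset.prod_eq_single j]
    · exact Nm_of_fixed p _ _ (smul_mem_fix h m hx hy j (u j).2).2
    · intro i _ hij
      exact Nm_orth h m hx hy hc hxp i.2 j.2 (fun e => hij (Fin.ext e))
        (smul_mem_fix h m hx hy i (u i).2)
    · intro hj; exact absurd (Finset.mem_univ j) hj
  have hcard : Nat.card (Fin p → fixW x W) = Nat.card (fixW x W) ^ p := by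
    rw [Nat.card_fun, Nat.card_fin]
  rw [← hcard]
  apply Nat.card_le_card_of_injective
    (fun u : Fin p → fixW x W => (⟨∏ i : Fin p, y ^ (i : ℕ) • (u i : V), hmem u⟩ : W))
  intro u u' huu
  have e0 : ∏ i : Fin p, y ^ (i : ℕ) • (u i : V) = ∏ i : Fin p, y ^ (i : ℕ) • (u' i : V) :=
    congrArg Subtype.val huu
  funext j
  have e1 : (y ^ (j : ℕ) • (u j : V)) ^ p = (y ^ (j : ℕ) • (u' j : V)) ^ p := by
    rw [← key u j, ← key u' j, e0]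
  have hm1 : y ^ (j : ℕ) • (u j : V) ∈ W := m.inv _ (pow_mem hy _) _ (u j).2.1
  have hm2 : y ^ (j : ℕ) • (u' j : V) ∈ W := m.inv _ (pow_mem hy _) _ (u' j).2.1
  have e2 : (y ^ (j : ℕ) • (u j : V)) / (y ^ (j : ℕ) • (u' j : V)) = 1 := by
    apply m.eq_one_of_pow hp.out hr.out hpr (div_mem hm1 hm2)
    rw [div_pow, e1, div_self']
  rw [div_eq_one] at e2
  exact Subtype.ext (smul_left_cancel _ e2)

theorem ModLike.toFix (m : ModLike r E Z W) (x y : G) : ModLike r (E2 E x y) Z (fixW x W) where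
  exp := fun v hv => m.exp v hv.1
  inv := by
    intro g hg v hv
    obtain ⟨hgE, hgx, -⟩ := mem_E2.1 hg
    refine ⟨m.inv g hgE v hv.1, ?_⟩
    rw [← mul_smul, ← hgx, mul_smul, hv.2]
  fpf := fun c hc hc1 v hv hcv => m.fpf c hc hc1 v hv.1 hcv

end Step

end Cfsg.Agent.Lib.Helper24.ExtraMod
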