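import Cfsg.Agent.Lib.Helper24.ExtraMod5

set_option autoImplicit false

namespace Cfsg.Agent.Lib.Helper24.ExtraMod

open Finset Subgroup
open scoped commutatorElement

section Main
variable {G : Type*} [Group G] {V : Type*} [CommGroup V] [MulDistribMulAction G V]
variable {p r : ℕ} {E Z : Subgroup G} {W : Subgroup V}

/-- if `E` is nonabelian then `W` cannot have prime order. -/
theorem two_case [Finite G] [Finite V] [Fact p.Prime] [hr : Fact r.Prime] (h : ExLike p E Z)
    (m : ModLike r E Z W) (hW : W ≠ ⊥) (hcard : p < Nat.card E) : r ^ 2 ≤ Nat.card W := by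
  obtain ⟨d, hd1, hd⟩ := m.card_eq hW
  rcases Nat.lt_or_ge d 2 with hlt | hge
  · exfalso
    have hd' : d = 1 := by omega
    subst hd'
    rw [pow_one] at hd
    have : IsCyclic W := isCyclic_of_prime_card hd
    obtain ⟨v₀, hv₀⟩ := IsCyclic.exists_generator (α := W)
    have hk : ∀ g ∈ E, ∃ k : ℕ, g • (v₀ : V) = (v₀ : V) ^ k := by
      intro g hg
      have hmem : g • (v₀ : V) ∈ W := m.inv g hg _ v₀.2
      have := hv₀ ⟨_, hmem⟩
      rw [← mem_powers_iff_mem_zpowers] at this
      obtain ⟨k, hk⟩ := this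
      exact ⟨k, (congrArg Subtype.val hk).symm⟩
    have hab : ∀ a ∈ E, ∀ b ∈ E, (a * b) • (v₀ : V) = (b * a) • (v₀ : V) := by
      intro a ha b hb
      obtain ⟨ka, hka⟩ := hk a ha
      obtain ⟨kb, hkb⟩ := hk b hb
      rw [mul_smul, mul_smul, hkb, hka, smul_pow', smul_pow', hka, hkb, ← pow_mul, ← pow_mul,
        mul_comm]
    obtain ⟨x₀, hx₀, hx₀Z⟩ := exists_not_mem_of_card_lt (E := E) (Z := Z)
      (by rw [h.card_Z]; exact hcard)
    obtain ⟨y₀, hy₀, hc⟩ := h.exists_not_comm hx₀ hx₀Z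
    have hfix : ⁅y₀, x₀⁆ • (v₀ : V) = v₀ := by
      have h1 := hab y₀⁻¹ (inv_mem hy₀) x₀⁻¹ (inv_mem hx₀)
      have e : ⁅y₀, x₀⁆ = (y₀ * x₀) * (y₀⁻¹ * x₀⁻¹) := by rw [commutatorElement_def]; group
      rw [e, mul_smul, h1, ← mul_smul]
      have e2 : y₀ * x₀ * (x₀⁻¹ * y₀⁻¹) = 1 := by group
      rw [e2, one_smul]
    have hv1 : (v₀ : V) = 1 := m.fpf _ (h.comm_mem y₀ hy₀ x₀ hx₀) hc _ v₀.2 hfix
    apply hW
    rw [Subgroup.eq_bot_iff_forall]
    intro v hv
    have h2 := hv₀ ⟨v, hv⟩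
    rw [Subgroup.mem_zpowers_iff] at h2
    obtain ⟨k, hk⟩ := h2
    have hv0' : v₀ = 1 := Subtype.ext hv1
    rw [hv0', one_zpow] at hk
    exact (congrArg Subtype.val hk).symm
  · rw [hd]; exact Nat.pow_le_pow_right hr.out.pos hge

/-- **The order bound**: an extraspecial-like group of order at least `p^(2w+1)` whose centre acts
fixed-point-freely on the nontrivial `r`-group `W` forces `|W| ≥ r^(n p^w)`. -/
theorem core [Finite G] [Finite V] (p r n : ℕ) [hp : Fact p.Prime] [hr : Fact r.Prime]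
    (hpr : p ≠ r) (hmin : ∀ k : ℕ, 1 ≤ k → p ∣ r ^ k - 1 → n ≤ k) :
    ∀ (w : ℕ) (E Z : Subgroup G) (W : Subgroup V), ExLike p E Z → ModLike r E Z W → W ≠ ⊥ →
      p ^ (2 * w + 1) ≤ Nat.card E → r ^ (n * p ^ w) ≤ Nat.card W := by
  intro w
  induction w with
  | zero =>
    intro E Z W h m hW _
    obtain ⟨d, hd1, hd, hdvd⟩ := m.base h hW
    rw [hd, pow_zero, mul_one]
    exact Nat.pow_le_pow_right hr.out.pos (hmin d hd1 hdvd)
  | succ w ih =>
    intro E Z W h m hW hcard
    have hp2le : 2 ≤ p := hp.out.two_le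
    have hpow1 : 1 < p ^ (2 * w + 1) := Nat.one_lt_pow (by omega) hp.out.one_lt
    have hsplit : p ^ (2 * (w + 1) + 1) = p * p * p ^ (2 * w + 1) := by ring
    by_cases h2 : p = 2 ∧ w = 0
    · obtain ⟨rfl, rfl⟩ := h2
      have hn : n ≤ 1 := by
        apply hmin 1 le_rfl
        rw [pow_one]
        have hodd : Odd r := hr.out.odd_of_ne_two (Ne.symm hpr)
        obtain ⟨k, hk⟩ := hodd
        exact ⟨k, by omega⟩
      have h1 := two_case h m hW (by
        have : (2 : ℕ) ^ (2 * (0 + 1) + 1) = 8 := by norm_num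
        omega)
      calc r ^ (n * 2 ^ (0 + 1)) ≤ r ^ 2 := Nat.pow_le_pow_right hr.out.pos (by omega)
        _ ≤ _ := h1
    · have hx : ∃ x ∈ E, x ∉ Z ∧ x ^ p = 1 := by
        by_cases hp2 : p = 2
        · subst hp2
          have hw : 1 ≤ w := by
            rcases Nat.eq_zero_or_pos w with h0 | h0
            · exact absurd ⟨rfl, h0⟩ h2
            · exact h0
          apply h.exists_pow_eq_one_two
          have h5 : (2 : ℕ) ^ 5 ≤ 2 ^ (2 * (w + 1) + 1) :=
            Nat.pow_le_pow_right (by norm_num) (by omega)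
          have : (2 : ℕ) ^ 5 = 32 := by norm_num
          omega
        · apply h.exists_pow_eq_one_odd hp2
          have : p * p * 1 < p * p * p ^ (2 * w + 1) :=
            Nat.mul_lt_mul_of_pos_left hpow1 (Nat.mul_pos hp.out.pos hp.out.pos)
          rw [← hsplit, mul_one] at this
          exact lt_of_lt_of_le this hcard
      obtain ⟨x, hxE, hxZ, hxp⟩ := hx
      obtain ⟨y, hyE, hc⟩ := h.exists_not_comm hxE hxZ
      have hE2card : p ^ (2 * w + 1) ≤ Nat.card (E2 E x y) := by
        have h3 : p * p * p ^ (2 * w + 1) ≤ p * p * Nat.card (E2 E x y) := by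
          rw [← hsplit]
          exact le_trans hcard (h.card_E2 hxE hyE)
        exact Nat.le_of_mul_le_mul_left h3 (Nat.mul_pos hp.out.pos hp.out.pos)
      have hIH := ih (E2 E x y) Z (fixW x W) (h.toE2 hxE hyE hc) (m.toFix x y)
        (fixW_ne_bot hpr h m hxE hyE hc hxp hW) hE2card
      have hle := card_fixW_pow_le hpr h m hxE hyE hc hxp
      calc r ^ (n * p ^ (w + 1)) = (r ^ (n * p ^ w)) ^ p := by
            rw [← pow_mul, pow_succ, mul_assoc]
        _ ≤ (Nat.card (fixW x W)) ^ p := Nat.pow_le_pow_left hIH p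
        _ ≤ _ := hle

/-- the kernel of the norm under `c`. -/
def NmKer (p : ℕ) (c : G) : Subgroup V where
  carrier := {v | Nm p c v = 1}
  mul_mem' := by
    intro a b ha hb
    change Nm p c (a * b) = 1
    rw [Nm_mul, ha, hb, mul_one]
  one_mem' := Nm_one p c
  inv_mem' := by
    intro a ha
    change Nm p c a⁻¹ = 1
    have h1 : Nm p c a * Nm p c a⁻¹ = 1 := by rw [← Nm_mul, mul_inv_cancel, Nm_one]
    rw [ha, one_mul] at h1
    exact h1

theorem mem_NmKer {c : G} {v : V} : v ∈ NmKer p c ↔ Nm p c v = 1 := Iff.rfl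

/-- **The order bound for a faithful module**: if every nontrivial element of `Z` acts
nontrivially on the finite abelian group `V` of exponent `r`, then `|V| ≥ r^(n p^w)`. -/
theorem core_faithful [Finite G] [Finite V] (p r n w : ℕ) [hp : Fact p.Prime] [hr : Fact r.Prime]
    (hpr : p ≠ r) (hmin : ∀ k : ℕ, 1 ≤ k → p ∣ r ^ k - 1 → n ≤ k) (E Z : Subgroup G)
    (h : ExLike p E Z) (hexp : ∀ v : V, v ^ r = 1) (hfaith : ∀ c ∈ Z, c ≠ 1 → ∃ v : V, c • v ≠ v)
    (hcard : p ^ (2 * w + 1) ≤ Nat.card E) : r ^ (n * p ^ w) ≤ Nat.card V := by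
  obtain ⟨c, hcZ, hc1⟩ := h.exists_ne_one
  have hcp : c ^ p = 1 := h.pow_eq_one hcZ
  have m : ModLike r E Z (NmKer p c : Subgroup V) :=
    { exp := fun v _ => hexp v
      inv := by
        intro g hg v hv
        rw [mem_NmKer] at hv ⊢
        rw [← Nm_smul_comm p c g (h.central c hcZ g hg), hv, smul_one]
      fpf := by
        intro d hd hd1 v hv hdv
        rw [mem_NmKer] at hv
        obtain ⟨k, hk⟩ := h.exists_pow_eq hd hd1 hcZ
        have hdk : ∀ k : ℕ, d ^ k • v = v := by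
          intro k
          induction k with
          | zero => simp
          | succ k ih => rw [pow_succ, mul_smul, hdv, ih]
        have hcv : c • v = v := by rw [← hk]; exact hdk k
        rw [Nm_of_fixed p c v hcv] at hv
        have h1 : orderOf v ∣ Nat.gcd p r :=
          Nat.dvd_gcd (orderOf_dvd_of_pow_eq_one hv) (orderOf_dvd_of_pow_eq_one (hexp v))
        rw [(Nat.coprime_primes hp.out hr.out).2 hpr, Nat.dvd_one, orderOf_eq_one_iff] at h1
        exact h1 }
  have hW : (NmKer p c : Subgroup V) ≠ ⊥ := by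
    obtain ⟨v, hv⟩ := hfaith c hcZ hc1
    intro hbot
    have hu : c • v * v⁻¹ ∈ (NmKer p c : Subgroup V) := by
      rw [mem_NmKer]
      have h1 : Nm p c (c • v * v⁻¹) * Nm p c v = Nm p c v := by
        rw [← Nm_mul, inv_mul_cancel_right, ← Nm_smul_comm p c c (Commute.refl c),
          Nm_fixed p c hcp]
      exact mul_eq_right.1 h1
    rw [hbot, Subgroup.mem_bot, mul_inv_eq_one] at hu
    exact hv hu
  exact le_trans (core p r n hpr hmin w E Z _ h m hW hcard) (Subgroup.card_le_card_group _)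

end Main

end Cfsg.Agent.Lib.Helper24.ExtraMod
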