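import Cfsg.Agent.Lib.Helper83.EzDefs

/-! # Ez hive (helper83; S1079, S2105, S2106), leaf EZ-HOM: a subsystem embedding `ι` of root tables induces a
homomorphism of Steinberg groups `x̄_r(t) ↦ x̄_{ι r}(t)` (every relator goes to a relator). -/

set_option autoImplicit false

universe u v

namespace Cfsg.Agent.Lib.Helper83.Ez

open Cfsg Cfsg.Lie Cfsg.Agent.Lib.Helper36 Cfsg.Agent.Lib.Helper18 Cfsg.Agent.Lib.Helper76.E8m

section hom
variable (D D' : ChevalleyDatum) (ι : ℕ → ℕ) (K : Type*) [Field K]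

/-- the lift to the free group of `(r, t) ↦ x̄_{ι r}(t)` -/
noncomputable def hom_L : FreeGroup (Fin D.nroots × K) →* D'.SteinbergGroup K :=
  FreeGroup.lift fun p => D'.stGen K (ι p.1) p.2

variable {D D' ι}

theorem hom_L_stX (r : ℕ) (hr : r < D.nroots) (t : K) :
    hom_L D D' ι K (D.stX r t) = PresentedGroup.mk (D'.steinbergRels K) (D'.stX (ι r) t) := by
  unfold hom_L ChevalleyDatum.stX
  rw [dif_pos hr, FreeGroup.lift_apply_of]
  rfl

theorem hom_L_stWord (w : List (ℕ × K)) (hw : ∀ p ∈ w, p.1 < D.nroots) :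
    hom_L D D' ι K (D.stWord w) =
      PresentedGroup.mk (D'.steinbergRels K) (D'.stWord (w.map fun p => (ι p.1, p.2))) := by
  induction w with
  | nil =>
    unfold ChevalleyDatum.stWord
    simp
  | cons p w ih =>
    have h1 : D.stWord (p :: w) = D.stX p.1 p.2 * D.stWord w := by
      unfold ChevalleyDatum.stWord
      rw [List.map_cons, List.prod_cons]
    have h2 : D'.stWord ((p :: w).map fun p => (ι p.1, p.2)) =
        D'.stX (ι p.1) p.2 * D'.stWord (w.map fun p => (ι p.1, p.2)) := by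
      unfold ChevalleyDatum.stWord
      rw [List.map_cons, List.map_cons, List.prod_cons]
    rw [h1, h2, map_mul, map_mul, hom_L_stX K p.1 (hw p List.mem_cons_self) p.2,
      ih (fun q hq => hw q (List.mem_cons_of_mem _ hq))]

theorem hom_nWord (h : SubSys D D' ι) (r : ℕ) (hr : r < D.nroots) (t : K) :
    (D.nWord r t).map (fun p => (ι p.1, p.2)) = D'.nWord (ι r) t := by
  unfold ChevalleyDatum.nWord
  simp only [List.map_cons, List.map_nil]
  rw [h.neg r hr]

theorem hom_hWord (h : SubSys D D' ι) (r : ℕ) (hr : r < D.nroots) (t : K) :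
    (D.hWord r t).map (fun p => (ι p.1, p.2)) = D'.hWord (ι r) t := by
  unfold ChevalleyDatum.hWord
  rw [List.map_append, hom_nWord K h r hr, hom_nWord K h r hr]

theorem hom_hWord_lt (h : SubSys D D' ι) (r : ℕ) (hr : r < D.nroots) (t : K) :
    ∀ p ∈ D.hWord r t, p.1 < D.nroots := by
  intro p hp
  unfold ChevalleyDatum.hWord ChevalleyDatum.nWord at hp
  simp only [List.cons_append, List.nil_append, List.mem_cons, List.not_mem_nil, or_false] at hp
  rcases hp with rfl | rfl | rfl | rfl | rfl | rfl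
  · exact hr
  · exact h.neg_lt r hr
  · exact hr
  · exact hr
  · exact h.neg_lt r hr
  · exact hr

theorem hom_L_stH (h : SubSys D D' ι) (r : ℕ) (hr : r < D.nroots) (t : K) :
    hom_L D D' ι K (D.stH r t) = PresentedGroup.mk (D'.steinbergRels K) (D'.stH (ι r) t) := by
  unfold ChevalleyDatum.stH
  rw [hom_L_stWord K _ (hom_hWord_lt K h r hr t), hom_hWord K h r hr]

theorem hom_commWord (h : SubSys D D' ι) (r s : ℕ) (hr : r < D.nroots) (hs : s < D.nroots)
    (h1 : s ≠ r) (h2 : s ≠ D.neg r) (t u : K) :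
    (D.commWord K r s t u).map (fun p => (ι p.1, p.2)) = D'.commWord K (ι r) (ι s) t u := by
  unfold ChevalleyDatum.commWord
  rw [← h.comm r s hr hs h1 h2, List.map_map, List.map_map]
  rfl

theorem hom_commWord_lt (h : SubSys D D' ι) (r s : ℕ) (hr : r < D.nroots) (hs : s < D.nroots) (t u : K) :
    ∀ p ∈ D.commWord K r s t u, p.1 < D.nroots := by
  intro p hp
  unfold ChevalleyDatum.commWord at hp
  obtain ⟨c, hc, rfl⟩ := List.mem_map.1 hp
  exact h.comm_lt r s hr hs c hc

theorem hom_rels (h : SubSys D D' ι) :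
    ∀ g ∈ D.steinbergRels K, hom_L D D' ι K g = 1 := by
  intro g hg
  rcases hg with (⟨r, t₁, t₂, hr, rfl⟩ | ⟨r, s, t, u, hr, hs, h1, h2, rfl⟩) | ⟨r, t₁, t₂, hr, ht₁, ht₂, rfl⟩
  · rw [map_mul, map_mul, map_inv, hom_L_stX K r hr, hom_L_stX K r hr, hom_L_stX K r hr, ← map_mul, ← map_inv,
      ← map_mul]
    apply PresentedGroup.one_of_mem
    exact Or.inl (Or.inl ⟨ι r, t₁, t₂, h.lt r hr, rfl⟩)
  · rw [map_mul, map_mul, map_mul, map_mul, map_inv, map_inv, map_inv, hom_L_stX K r hr, hom_L_stX K s hs,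
      hom_L_stWord K _ (hom_commWord_lt K h r s hr hs t u), hom_commWord K h r s hr hs h1 h2,
      ← map_inv, ← map_inv, ← map_inv, ← map_mul, ← map_mul, ← map_mul, ← map_mul]
    apply PresentedGroup.one_of_mem
    refine Or.inl (Or.inr ⟨ι r, ι s, t, u, h.lt r hr, h.lt s hs, ?_, ?_, rfl⟩)
    · intro he
      exact h1 (h.inj s r hs hr he)
    · intro he
      rw [← h.neg r hr] at he
      exact h2 (h.inj s (D.neg r) hs (h.neg_lt r hr) he)
  · rw [map_mul, map_mul, map_inv, hom_L_stH K h r hr, hom_L_stH K h r hr, hom_L_stH K h r hr, ← map_mul, ← map_inv,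
      ← map_mul]
    apply PresentedGroup.one_of_mem
    exact Or.inr ⟨ι r, t₁, t₂, h.lt r hr, ht₁, ht₂, rfl⟩

end hom

/-- EZ-HOM. -/
theorem exists_subsys_hom {D D' : ChevalleyDatum} {ι : ℕ → ℕ} (h : SubSys D D' ι) (K : Type*) [Field K] :
    ∃ φ : D.SteinbergGroup K →* D'.SteinbergGroup K,
      ∀ r, r < D.nroots → ∀ t : K, φ (D.stGen K r t) = D'.stGen K (ι r) t := by
  have hrels : ∀ g ∈ D.steinbergRels K,
      FreeGroup.lift (fun p : Fin D.nroots × K => D'.stGen K (ι p.1) p.2) g = 1 := hom_rels K h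
  refine ⟨PresentedGroup.toGroup hrels, ?_⟩
  intro r hr t
  exact hom_L_stX K r hr t

end Cfsg.Agent.Lib.Helper83.Ez
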