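import Cfsg.Agent.Lib.Helper24.Factor
import Cfsg.Agent.Lib.Helper24.SylowInv

set_option autoImplicit false
set_option linter.style.haveILetI false

/-!
# Coprime factorization via invariant Sylow subgroups
-/

namespace Cfsg.Agent.Lib.Helper24

open Subgroup
open Cfsg.Agent.Lib.Helper33
open scoped Pointwise

section factorSylow
variable {H : Type*} [Group H]

/-- the product formula `|UV| |U ∩ V| = |U| |V|` -/
theorem card_mul_set_mul_card_inf (U V : Subgroup H) :
    Nat.card ↥((U : Set H) * (V : Set H)) * Nat.card ↥(U ⊓ V) = Nat.card U * Nat.card V := by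
  classical
  rw [← Nat.card_prod, ← Nat.card_prod]
  apply Nat.card_congr
  have hrep : ∀ w : ↥((U : Set H) * (V : Set H)), ∃ uv : U × V, (uv.1 : H) * uv.2 = w := by
    rintro ⟨w, hw⟩
    obtain ⟨u, hu, v, hv, rfl⟩ := Set.mem_mul.mp hw
    exact ⟨(⟨u, hu⟩, ⟨v, hv⟩), rfl⟩
  choose rep hrep using hrep
  have hmem : ∀ uv : U × V, (uv.1 : H) * uv.2 ∈ (U : Set H) * (V : Set H) := fun uv =>
    Set.mul_mem_mul uv.1.2 uv.2.2
  have hd : ∀ uv : U × V, ((rep ⟨(uv.1 : H) * uv.2, hmem uv⟩).1 : H)⁻¹ * uv.1 ∈ U ⊓ V := by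
    intro uv
    have h := hrep ⟨(uv.1 : H) * uv.2, hmem uv⟩
    simp only at h
    refine mem_inf.mpr ⟨U.mul_mem (U.inv_mem (rep _).1.2) uv.1.2, ?_⟩
    have e : ((rep ⟨(uv.1 : H) * uv.2, hmem uv⟩).1 : H)⁻¹ * uv.1 =
        ((rep ⟨(uv.1 : H) * uv.2, hmem uv⟩).2 : H) * (uv.2 : H)⁻¹ := by
      rw [inv_mul_eq_iff_eq_mul, ← mul_assoc, h]
      group
    rw [e]
    exact V.mul_mem (rep _).2.2 (V.inv_mem uv.2.2)
  let toF : ↥((U : Set H) * (V : Set H)) × ↥(U ⊓ V) → U × V := fun wd =>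
    (⟨(rep wd.1).1 * wd.2, U.mul_mem (rep wd.1).1.2 (mem_inf.mp wd.2.2).1⟩,
     ⟨(wd.2 : H)⁻¹ * (rep wd.1).2, V.mul_mem (V.inv_mem (mem_inf.mp wd.2.2).2) (rep wd.1).2.2⟩)
  let invF : U × V → ↥((U : Set H) * (V : Set H)) × ↥(U ⊓ V) := fun uv =>
    (⟨(uv.1 : H) * uv.2, hmem uv⟩, ⟨_, hd uv⟩)
  refine ⟨toF, invF, ?_, ?_⟩
  · rintro ⟨w, d⟩
    have h := hrep w
    have hw : (invF (toF (w, d))).1 = w := by
      apply Subtype.ext
      show ((rep w).1 : H) * (d : H) * ((d : H)⁻¹ * (rep w).2) = w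
      rw [← h]
      group
    apply Prod.ext
    · exact hw
    · apply Subtype.ext
      show ((rep (invF (toF (w, d))).1).1 : H)⁻¹ * (((rep w).1 : H) * (d : H)) = d
      rw [hw]
      group
  · rintro ⟨u, v⟩
    have h := hrep ⟨(u : H) * v, hmem (u, v)⟩
    simp only at h
    apply Prod.ext
    · apply Subtype.ext
      show ((rep ⟨(u : H) * v, hmem (u, v)⟩).1 : H) *
        (((rep ⟨(u : H) * v, hmem (u, v)⟩).1 : H)⁻¹ * u) = u
      group
    · apply Subtype.ext
      show (((rep ⟨(u : H) * v, hmem (u, v)⟩).1 : H)⁻¹ * u)⁻¹ *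
          ((rep ⟨(u : H) * v, hmem (u, v)⟩).2 : H) = v
      have e : (((rep ⟨(u : H) * v, hmem (u, v)⟩).1 : H)⁻¹ * u)⁻¹ *
          ((rep ⟨(u : H) * v, hmem (u, v)⟩).2 : H) =
          (u : H)⁻¹ * (((rep ⟨(u : H) * v, hmem (u, v)⟩).1 : H) *
          ((rep ⟨(u : H) * v, hmem (u, v)⟩).2 : H)) := by group
      rw [e, h]
      group

/-- `V` is a Sylow `q`-subgroup of `K` (in terms of subgroups of the ambient group) -/
def IsSylIn (q : ℕ) (V K : Subgroup H) : Prop := V ≤ K ∧ IsPGroup q V ∧ ¬ q ∣ V.relIndex K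

theorem IsSylIn.card_eq [Finite H] {q : ℕ} [Fact q.Prime] {V K : Subgroup H}
    (h : IsSylIn q V K) : Nat.card V = q ^ (Nat.card K).factorization q := by
  obtain ⟨P, hP⟩ := exists_sylow_map_eq K V h.1 h.2.1 h.2.2
  rw [← hP, Subgroup.card_subtype]
  exact P.card_eq_multiplicity

theorem isSylIn_of_card [Finite H] {q : ℕ} [Fact q.Prime] {V K : Subgroup H} (hVK : V ≤ K)
    (hc : Nat.card V = q ^ (Nat.card K).factorization q) : IsSylIn q V K := by
  have hq : q.Prime := Fact.out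
  refine ⟨hVK, IsPGroup.of_card hc, ?_⟩
  intro hdvd
  have h1 : V.relIndex K * Nat.card V = Nat.card K := relIndex_mul_card' hVK
  obtain ⟨t, ht⟩ := hdvd
  have h2 : q ^ ((Nat.card K).factorization q + 1) ∣ Nat.card K := by
    refine ⟨t, ?_⟩
    rw [pow_succ, ← hc]
    calc Nat.card K = V.relIndex K * Nat.card V := h1.symm
      _ = Nat.card V * q * t := by rw [ht]; ring
  exact Nat.pow_succ_factorization_not_dvd Nat.card_pos.ne' hq h2

theorem sylow_isSylIn [Finite H] {q : ℕ} [Fact q.Prime] (K : Subgroup H) (P : Sylow q K) :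
    IsSylIn q ((P : Subgroup K).map K.subtype) K := sylow_map_facts K P

/-- coprime action: the centraliser of `A` in an `A`-invariant Sylow subgroup is a Sylow subgroup
of the centraliser -/
theorem isSylIn_inf_centralizer [Finite H] {q : ℕ} [Fact q.Prime] (A K V : Subgroup H)
    (hAK : A ≤ normalizer (K : Set H)) (hcop : (Nat.card A).Coprime (Nat.card K))
    (hsolv : Group.IsSolvable A ∨ Group.IsSolvable K) (hV : IsSylIn q V K)
    (hAV : A ≤ normalizer (V : Set H)) :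
    IsSylIn q (V ⊓ centralizer (A : Set H)) (K ⊓ centralizer (A : Set H)) := by
  have hq : q.Prime := Fact.out
  set Z := centralizer (A : Set H) with hZ
  set C := K ⊓ Z with hC
  obtain ⟨S⟩ : Nonempty (Sylow q C) := inferInstance
  set S' := (S : Subgroup C).map C.subtype with hS'
  obtain ⟨hS'C, hS'q, hS'i⟩ := sylow_map_facts C S
  have hS'K : S' ≤ K := hS'C.trans inf_le_left
  have hS'Z : S' ≤ Z := hS'C.trans inf_le_right
  have hAS' : A ≤ normalizer (S' : Set H) := by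
    have h1 : A ≤ centralizer (S' : Set H) := by
      rw [le_centralizer_iff]; exact hS'Z
    exact h1.trans (centralizer_le_normalizer _)
  obtain ⟨P', hS'P', hAP'⟩ := invariant_pSubgroup_le_sylow A K hAK hcop hsolv S' hS'K hS'q hAS'
  obtain ⟨P, hP⟩ := exists_sylow_map_eq K V hV.1 hV.2.1 hV.2.2
  have hAP : A ≤ normalizer (((P : Subgroup K).map K.subtype : Subgroup H) : Set H) := by
    rw [hP]; exact hAV
  obtain ⟨c, hc, hcj⟩ := invariant_sylow_conj A K hAK hcop hsolv P P' hAP hAP'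
  rw [hP] at hcj
  have h1 : cj c (V ⊓ Z) = (P' : Subgroup K).map K.subtype ⊓ Z := by
    rw [cj_inf, hcj, cj_eq_self_of_mem (mem_inf.mp hc).2]
  have h2 : S' ≤ cj c (V ⊓ Z) := by
    rw [h1]; exact le_inf hS'P' hS'Z
  have h3 : Nat.card S' ≤ Nat.card ↥(V ⊓ Z) := by
    have := Subgroup.card_le_of_le h2
    rwa [card_cj] at this
  have hS'card : Nat.card S' = q ^ (Nat.card C).factorization q :=
    IsSylIn.card_eq ⟨hS'C, hS'q, hS'i⟩
  have hVZC : V ⊓ Z ≤ C := inf_le_inf_right _ hV.1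
  have hVZq : IsPGroup q ↥(V ⊓ Z) := hV.2.1.to_le inf_le_left
  obtain ⟨k, hk⟩ := (IsPGroup.iff_card).mp hVZq
  have hdvd : q ^ k ∣ Nat.card C := hk ▸ Subgroup.card_dvd_of_le hVZC
  have hk1 : k ≤ (Nat.card C).factorization q :=
    (Nat.Prime.pow_dvd_iff_le_factorization hq Nat.card_pos.ne').mp hdvd
  have hk2 : (Nat.card C).factorization q ≤ k := by
    rw [hS'card, hk] at h3
    exact (Nat.pow_le_pow_iff_right hq.one_lt).mp h3
  exact isSylIn_of_card hVZC (by rw [hk, le_antisymm hk1 hk2])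

theorem centralizer_zpowers_eq (g : H) :
    centralizer ((zpowers g : Subgroup H) : Set H) = centralizer {g} := by
  apply le_antisymm
  · apply centralizer_le
    intro x hx
    rw [Set.mem_singleton_iff] at hx
    rw [hx]
    exact mem_zpowers g
  · rw [le_centralizer_iff, zpowers_le, mem_centralizer_iff]
    intro h hh
    rw [SetLike.mem_coe, mem_centralizer_iff] at hh
    exact (hh g rfl).symm

theorem le_normalizer_inf' {A X Y : Subgroup H} (hX : A ≤ normalizer (X : Set H))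
    (hY : A ≤ normalizer (Y : Set H)) : A ≤ normalizer ((X ⊓ Y : Subgroup H) : Set H) := by
  intro a ha
  rw [← cj_eq_self_iff, cj_inf, cj_eq_self_iff.mpr (hX ha), cj_eq_self_iff.mpr (hY ha)]

/-- the local (one prime) part of the coprime factorization theorem -/
theorem coprime_factorization_local [Finite H] (p : ℕ) [Fact p.Prime] (q : ℕ) [Fact q.Prime]
    (A K X Y : Subgroup H) (u v : H) (hu : u ∈ A) (hv : v ∈ A)
    (hAcomm : ∀ a ∈ A, ∀ b ∈ A, a * b = b * a) (hAe : ∀ a ∈ A, a ^ p = 1)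
    (hsolvA : Group.IsSolvable A)
    (hcop : ∀ J : Subgroup H, J ≤ K → (Nat.card A).Coprime (Nat.card J))
    (hKp : (Nat.card K).Coprime p)
    (hAK : A ≤ normalizer (K : Set H)) (hX : X ≤ K) (hY : Y ≤ K)
    (hAX : A ≤ normalizer (X : Set H)) (hAY : A ≤ normalizer (Y : Set H))
    (hCX : K ⊓ centralizer (A : Set H) ≤ normalizer (X : Set H))
    (hfac : ∀ g : H, ((∃ j, j < p ∧ g = u * v ^ j) ∨ (∃ m, 0 < m ∧ m < p ∧ g = v ^ m)) →
      ((K ⊓ centralizer {g} : Subgroup H) : Set H) =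
      ((X ⊓ centralizer {g} : Subgroup H) : Set H) * ((Y ⊓ centralizer {g} : Subgroup H) : Set H)) :
    (Nat.card K).factorization q + (Nat.card ↥(X ⊓ Y)).factorization q =
      (Nat.card X).factorization q + (Nat.card Y).factorization q := by
  classical
  have hpp : p.Prime := Fact.out
  have hq : q.Prime := Fact.out
  set D := X ⊓ Y with hD
  have hDK : D ≤ K := inf_le_left.trans hX
  have hAD : A ≤ normalizer (D : Set H) := le_normalizer_inf' hAX hAY
  have hs : ∀ J : Subgroup H, Group.IsSolvable A ∨ Group.IsSolvable J := fun _ => Or.inl hsolvA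
  -- Sylow subgroups
  obtain ⟨PX0, hAPX0⟩ := exists_invariant_sylow (p := q) A X hAX (hcop X hX) (hs X)
  set X0 := (PX0 : Subgroup X).map X.subtype with hX0def
  have hX0 : IsSylIn q X0 X := sylow_isSylIn X PX0
  obtain ⟨P1, hX0P1, hAP1⟩ := invariant_pSubgroup_le_sylow A K hAK (hcop K le_rfl) (hs K) X0
    (hX0.1.trans hX) hX0.2.1 hAPX0
  obtain ⟨PY, hAYq⟩ := exists_invariant_sylow (p := q) A Y hAY (hcop Y hY) (hs Y)
  set Yq := (PY : Subgroup Y).map Y.subtype with hYqdef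
  have hYq : IsSylIn q Yq Y := sylow_isSylIn Y PY
  obtain ⟨P2, hYqQ, hAQ⟩ := invariant_pSubgroup_le_sylow A K hAK (hcop K le_rfl) (hs K) Yq
    (hYq.1.trans hY) hYq.2.1 hAYq
  obtain ⟨c, hc, hcj⟩ := invariant_sylow_conj A K hAK (hcop K le_rfl) (hs K) P1 P2 hAP1 hAQ
  set Q := (P2 : Subgroup K).map K.subtype with hQdef
  have hQ : IsSylIn q Q K := sylow_isSylIn K P2
  set Xq := cj c X0 with hXqdef
  have hXqQ : Xq ≤ Q := by
    rw [← hcj]; exact cj_mono hX0P1
  have hcX : cj c X = X := cj_eq_self_iff.mpr (hCX hc)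
  have hXqX : Xq ≤ X := by
    rw [← hcX]; exact cj_mono hX0.1
  have hXq : IsSylIn q Xq X := isSylIn_of_card hXqX (by rw [card_cj]; exact hX0.card_eq)
  have hcA : ∀ a ∈ A, a * c = c * a := by
    intro a ha
    have := (mem_inf.mp hc).2
    rw [mem_centralizer_iff] at this
    exact this a ha
  have hAXq : A ≤ normalizer (Xq : Set H) := by
    intro a ha
    rw [← cj_eq_self_iff, hXqdef, ← cj_mul, hcA a ha, cj_mul, cj_eq_self_iff.mpr (hAPX0 ha)]
  set R := Xq ⊓ Yq with hRdef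
  have hAR : A ≤ normalizer (R : Set H) := le_normalizer_inf' hAXq hAYq
  have hRD : R ≤ D := inf_le_inf hXqX hYq.1
  have hRq : IsPGroup q R := hXq.2.1.to_le inf_le_left
  obtain ⟨PD, hRDq, hADq⟩ := invariant_pSubgroup_le_sylow A D hAD (hcop D hDK) (hs D) R hRD hRq hAR
  set Dq := (PD : Subgroup D).map D.subtype with hDqdef
  have hDq : IsSylIn q Dq D := sylow_isSylIn D PD
  -- the local analysis at each `g`
  have hloc : ∀ g : H, ((∃ j, j < p ∧ g = u * v ^ j) ∨ (∃ m, 0 < m ∧ m < p ∧ g = v ^ m)) →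
      ((Q ⊓ centralizer {g} : Subgroup H) : Set H) =
        ((Xq ⊓ centralizer {g} : Subgroup H) : Set H) * ((Yq ⊓ centralizer {g} : Subgroup H) : Set H)
      ∧ Dq ⊓ centralizer {g} = R ⊓ centralizer {g} := by
    intro g hg
    have hgA : g ∈ A := by
      rcases hg with ⟨j, _, rfl⟩ | ⟨m, _, _, rfl⟩
      · exact A.mul_mem hu (A.pow_mem hv j)
      · exact A.pow_mem hv m
    set Ag := zpowers g with hAg
    have hAgA : Ag ≤ A := zpowers_le.mpr hgA
    have hZ : centralizer ((Ag : Subgroup H) : Set H) = centralizer {g} := centralizer_zpowers_eq g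
    have hcopg : ∀ J : Subgroup H, J ≤ K → (Nat.card Ag).Coprime (Nat.card J) := fun J hJ =>
      Nat.Coprime.coprime_dvd_left (Subgroup.card_dvd_of_le hAgA) (hcop J hJ)
    have hsg : ∀ J : Subgroup H, Group.IsSolvable Ag ∨ Group.IsSolvable J := fun _ =>
      Or.inl (Group.isSolvable_of_comm (fun a b => mul_comm' a b))
    have hQg := isSylIn_inf_centralizer Ag K Q (hAgA.trans hAK) (hcopg K le_rfl) (hsg K) hQ
      (hAgA.trans hAQ)
    have hXg := isSylIn_inf_centralizer Ag X Xq (hAgA.trans hAX) (hcopg X hX) (hsg X) hXq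
      (hAgA.trans hAXq)
    have hYg := isSylIn_inf_centralizer Ag Y Yq (hAgA.trans hAY) (hcopg Y hY) (hsg Y) hYq
      (hAgA.trans hAYq)
    have hDg := isSylIn_inf_centralizer Ag D Dq (hAgA.trans hAD) (hcopg D hDK) (hsg D) hDq
      (hAgA.trans hADq)
    rw [hZ] at hQg hXg hYg hDg
    set Z := centralizer ({g} : Set H) with hZdef
    -- orders
    have e1 : Nat.card ↥(K ⊓ Z) * Nat.card ↥(D ⊓ Z) = Nat.card ↥(X ⊓ Z) * Nat.card ↥(Y ⊓ Z) := by
      have h1 := card_mul_set_mul_card_inf (X ⊓ Z) (Y ⊓ Z)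
      rw [← hfac g hg] at h1
      have h2 : (X ⊓ Z) ⊓ (Y ⊓ Z) = D ⊓ Z := by
        rw [hD]; exact (inf_inf_distrib_right X Y Z).symm
      rw [h2] at h1
      exact h1
    have e1' : (Nat.card ↥(K ⊓ Z)).factorization q + (Nat.card ↥(D ⊓ Z)).factorization q =
        (Nat.card ↥(X ⊓ Z)).factorization q + (Nat.card ↥(Y ⊓ Z)).factorization q := by
      have : (Nat.card ↥(K ⊓ Z) * Nat.card ↥(D ⊓ Z)).factorization q =
          (Nat.card ↥(X ⊓ Z) * Nat.card ↥(Y ⊓ Z)).factorization q := by rw [e1]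
      rw [Nat.factorization_mul Nat.card_pos.ne' Nat.card_pos.ne',
        Nat.factorization_mul Nat.card_pos.ne' Nat.card_pos.ne'] at this
      simpa using this
    have e2 := card_mul_set_mul_card_inf (Xq ⊓ Z) (Yq ⊓ Z)
    have h3 : (Xq ⊓ Z) ⊓ (Yq ⊓ Z) = R ⊓ Z := by
      rw [hRdef]; exact (inf_inf_distrib_right Xq Yq Z).symm
    rw [h3, hXg.card_eq, hYg.card_eq] at e2
    -- the product set is inside `Q ⊓ Z`
    have hsub : ((Xq ⊓ Z : Subgroup H) : Set H) * ((Yq ⊓ Z : Subgroup H) : Set H) ⊆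
        ((Q ⊓ Z : Subgroup H) : Set H) := by
      rintro _ ⟨x, hx, y, hy, rfl⟩
      exact (Q ⊓ Z).mul_mem (inf_le_inf_right _ hXqQ hx) (inf_le_inf_right _ hYqQ hy)
    have hs_le : Nat.card ↥(((Xq ⊓ Z : Subgroup H) : Set H) * ((Yq ⊓ Z : Subgroup H) : Set H)) ≤
        q ^ (Nat.card ↥(K ⊓ Z)).factorization q := by
      rw [← hQg.card_eq]
      exact Nat.card_mono (Set.toFinite _) hsub
    have hr_le : Nat.card ↥(R ⊓ Z) ≤ q ^ (Nat.card ↥(D ⊓ Z)).factorization q := by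
      have hRZq : IsPGroup q ↥(R ⊓ Z) := hRq.to_le inf_le_left
      obtain ⟨t, ht⟩ := (IsPGroup.iff_card).mp hRZq
      have hdvd : q ^ t ∣ Nat.card ↥(D ⊓ Z) := ht ▸ Subgroup.card_dvd_of_le (inf_le_inf_right _ hRD)
      rw [ht]
      exact Nat.pow_le_pow_right hq.pos
        ((Nat.Prime.pow_dvd_iff_le_factorization hq Nat.card_pos.ne').mp hdvd)
    have hkd : q ^ (Nat.card ↥(K ⊓ Z)).factorization q * q ^ (Nat.card ↥(D ⊓ Z)).factorization q =
        q ^ (Nat.card ↥(X ⊓ Z)).factorization q * q ^ (Nat.card ↥(Y ⊓ Z)).factorization q := by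
      rw [← pow_add, ← pow_add, e1']
    have hspos : 0 < Nat.card ↥(((Xq ⊓ Z : Subgroup H) : Set H) *
        ((Yq ⊓ Z : Subgroup H) : Set H)) := by
      haveI : Nonempty ↥(((Xq ⊓ Z : Subgroup H) : Set H) * ((Yq ⊓ Z : Subgroup H) : Set H)) :=
        ⟨⟨1 * 1, Set.mul_mem_mul (Xq ⊓ Z).one_mem (Yq ⊓ Z).one_mem⟩⟩
      exact Nat.card_pos
    have hrpos : 0 < Nat.card ↥(R ⊓ Z) := Nat.card_pos
    rw [← hkd] at e2
    have hs_eq : Nat.card ↥(((Xq ⊓ Z : Subgroup H) : Set H) * ((Yq ⊓ Z : Subgroup H) : Set H)) =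
        q ^ (Nat.card ↥(K ⊓ Z)).factorization q := by
      by_contra hne
      have hlt := lt_of_le_of_ne hs_le hne
      have : Nat.card ↥(((Xq ⊓ Z : Subgroup H) : Set H) * ((Yq ⊓ Z : Subgroup H) : Set H)) *
          Nat.card ↥(R ⊓ Z) < q ^ (Nat.card ↥(K ⊓ Z)).factorization q *
          q ^ (Nat.card ↥(D ⊓ Z)).factorization q :=
        calc _ < q ^ (Nat.card ↥(K ⊓ Z)).factorization q * Nat.card ↥(R ⊓ Z) :=
              Nat.mul_lt_mul_of_pos_right hlt hrpos
          _ ≤ _ := Nat.mul_le_mul_left _ hr_le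
      omega
    have hr_eq : Nat.card ↥(R ⊓ Z) = q ^ (Nat.card ↥(D ⊓ Z)).factorization q := by
      rw [hs_eq] at e2
      exact Nat.eq_of_mul_eq_mul_left (pow_pos hq.pos _) e2
    constructor
    · symm
      apply Set.eq_of_subset_of_ncard_le hsub _ (Set.toFinite _)
      rw [← Nat.card_coe_set_eq, ← Nat.card_coe_set_eq, hs_eq]
      exact le_of_eq hQg.card_eq
    · symm
      apply eq_of_le_of_card_ge (inf_le_inf_right _ hRDq)
      rw [hr_eq, hDg.card_eq]
  -- apply the nilpotent factorization lemma to `Q`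
  have huK : u ∈ normalizer (Q : Set H) := hAQ hu
  have hvK : v ∈ normalizer (Q : Set H) := hAQ hv
  have huv : Commute u v := hAcomm u hu v hv
  have hQp : (Nat.card Q).Coprime p :=
    Nat.Coprime.coprime_dvd_left (Subgroup.card_dvd_of_le hQ.1) hKp
  have hQnil : Group.IsNilpotent ↥Q := hQ.2.1.isNilpotent
  have mem_cent : ∀ g c : H, g * c = c * g → c ∈ centralizer ({g} : Set H) := by
    intro g c h
    rw [mem_centralizer_iff]
    intro x hx
    rw [Set.mem_singleton_iff] at hx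
    rw [hx]; exact h
  have hQXY : (Q : Set H) ⊆ (Xq : Set H) * (Yq : Set H) := by
    apply factor_nilpotent Q Xq Yq u v hQnil hYqQ huK hvK huv (hAe u hu) (hAe v hv) hQp
    intro g hg c hcQ hgc
    have h1 : c ∈ ((Q ⊓ centralizer {g} : Subgroup H) : Set H) := mem_inf.mpr ⟨hcQ, mem_cent g c hgc⟩
    rw [(hloc g hg).1] at h1
    obtain ⟨x, hx, y, hy, rfl⟩ := Set.mem_mul.mp h1
    exact Set.mul_mem_mul (mem_inf.mp hx).1 (mem_inf.mp hy).1
  have hQeq : (Xq : Set H) * (Yq : Set H) = (Q : Set H) := by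
    apply Set.Subset.antisymm _ hQXY
    rintro _ ⟨x, hx, y, hy, rfl⟩
    exact Q.mul_mem (hXqQ hx) (hYqQ hy)
  have e3 := card_mul_set_mul_card_inf Xq Yq
  rw [hQeq] at e3
  -- apply it to `Dq`
  have hDqp : (Nat.card Dq).Coprime p :=
    Nat.Coprime.coprime_dvd_left (Subgroup.card_dvd_of_le (hDq.1.trans hDK)) hKp
  have hDqR : (Dq : Set H) ⊆ (R : Set H) * (R : Set H) := by
    apply factor_nilpotent Dq R R u v hDq.2.1.isNilpotent hRDq (hADq hu) (hADq hv) huv
      (hAe u hu) (hAe v hv) hDqp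
    intro g hg c hcD hgc
    have h1 : c ∈ Dq ⊓ centralizer {g} := mem_inf.mpr ⟨hcD, mem_cent g c hgc⟩
    rw [(hloc g hg).2] at h1
    have : c * 1 ∈ (R : Set H) * (R : Set H) := Set.mul_mem_mul (mem_inf.mp h1).1 R.one_mem
    simpa using this
  have hDqR' : Dq ≤ R := by
    intro d hd
    obtain ⟨x, hx, y, hy, rfl⟩ := Set.mem_mul.mp (hDqR hd)
    exact R.mul_mem hx hy
  have hReq : R = Dq := le_antisymm hRDq hDqR'
  have e4 : Nat.card (Q : Set H) = Nat.card Q := rfl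
  rw [e4, ← hRdef, hReq, hQ.card_eq, hDq.card_eq, hXq.card_eq, hYq.card_eq, ← pow_add,
    ← pow_add] at e3
  exact Nat.pow_right_injective hq.two_le e3

end factorSylow

end Cfsg.Agent.Lib.Helper24
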