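import Cfsg.Agent.Lib.Helper83.FpDefs

/-! Fp hive (S2276, owner helper83), leaf FP-DECOMP. -/

set_option autoImplicit false

namespace Cfsg.Agent.Lib.Helper83.Fp

open Equiv

/-- FP-DECOMP. l = max of s, μ = count l s, t = s.filter (· ≠ l). -/
theorem decomp : DecompStmt := by
  unfold DecompStmt
  intro s hs
  have hne : s.toFinset.Nonempty := by
    obtain ⟨x, hx⟩ := Multiset.exists_mem_of_ne_zero hs
    exact ⟨x, Multiset.mem_toFinset.mpr hx⟩
  have hl : s.toFinset.max' hne ∈ s := Multiset.mem_toFinset.mp (Finset.max'_mem _ hne)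
  have hle : ∀ x ∈ s, x ≤ s.toFinset.max' hne := fun x hx =>
    Finset.le_max' _ x (Multiset.mem_toFinset.mpr hx)
  refine ⟨s.toFinset.max' hne, s.count (s.toFinset.max' hne),
    s.filter (fun x => ¬ x = s.toFinset.max' hne), Multiset.one_le_count_iff_mem.mpr hl, ?_, ?_⟩
  · rw [← Multiset.filter_eq' s (s.toFinset.max' hne), Multiset.filter_add_not]
  · intro x hx
    rw [Multiset.mem_filter] at hx
    exact lt_of_le_of_ne (hle x hx.1) hx.2

end Cfsg.Agent.Lib.Helper83.Fp
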