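import Cfsg.Agent.Lib.Helper83.FpDefs

/-! Fp hive (S2276, owner helper83), leaf FP-NT. -/

set_option autoImplicit false

namespace Cfsg.Agent.Lib.Helper83.Fp

open Equiv

/-- `2 (1 + p + ... + p^(a-1)) + 1 ≤ p^a` for `p ≥ 3` -/
theorem fpnt_geom (p : ℕ) (hp : 3 ≤ p) (a : ℕ) : 2 * (∑ i ∈ Finset.range a, p ^ i) + 1 ≤ p ^ a := by
  induction a with
  | zero => simp
  | succ a ih =>
    rw [Finset.sum_range_succ, pow_succ]
    have h3 : 3 * p ^ a ≤ p ^ a * p := by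
      rw [mul_comm]
      exact Nat.mul_le_mul_left _ hp
    omega

/-- a nodup multiset of powers `p ^ i`, `1 ≤ i < a`, has sum `< 1 + p + ... + p^(a-1)` -/
theorem fpnt_sum_le (p : ℕ) (hp : 3 ≤ p) (a : ℕ) (ha : 1 ≤ a) (t : Multiset ℕ) (hnd : t.Nodup)
    (ht : ∀ x ∈ t, ∃ i : ℕ, 1 ≤ i ∧ i < a ∧ x = p ^ i) :
    t.sum + 1 ≤ ∑ i ∈ Finset.range a, p ^ i := by
  have hinj : Function.Injective (fun i : ℕ => p ^ i) := Nat.pow_right_injective (by omega)
  have hsub : (⟨t, hnd⟩ : Finset ℕ) ⊆ (Finset.Ico 1 a).image (fun i : ℕ => p ^ i) := by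
    intro x hx
    obtain ⟨i, hi1, hia, rfl⟩ := ht x hx
    exact Finset.mem_image.mpr ⟨i, Finset.mem_Ico.mpr ⟨hi1, hia⟩, rfl⟩
  have h1 : t.sum = ∑ x ∈ (⟨t, hnd⟩ : Finset ℕ), x := by
    rw [Finset.sum_eq_multiset_sum]
    simp
  have h2 : ∑ x ∈ (⟨t, hnd⟩ : Finset ℕ), x ≤ ∑ x ∈ (Finset.Ico 1 a).image (fun i : ℕ => p ^ i), x :=
    Finset.sum_le_sum_of_subset hsub
  have h3 : ∑ x ∈ (Finset.Ico 1 a).image (fun i : ℕ => p ^ i), x = ∑ i ∈ Finset.Ico 1 a, p ^ i :=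
    Finset.sum_image (fun i _ j _ h => hinj h)
  have h4 : ∑ i ∈ Finset.range a, p ^ i = 1 + ∑ i ∈ Finset.Ico 1 a, p ^ i := by
    rw [Finset.range_eq_Ico, Finset.sum_eq_sum_Ico_succ_bot (by omega : 0 < a), pow_zero]
  omega

/-- FP-NT. -/
theorem nt_single : NTStmt := by
  unfold NTStmt
  intro p hp hp3 a ha t hpp hle hnd hlow hup
  have hp1 : 1 < p := by omega
  have hmem : p ^ a ∈ t := by
    by_contra hnot
    have ht : ∀ x ∈ t, ∃ i : ℕ, 1 ≤ i ∧ i < a ∧ x = p ^ i := by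
      intro x hx
      obtain ⟨i, hi1, rfl⟩ := hpp x hx
      refine ⟨i, hi1, ?_, rfl⟩
      have hia : i ≤ a := (Nat.pow_le_pow_iff_right hp1).mp (hle _ hx)
      rcases Nat.lt_or_ge i a with h | h
      · exact h
      · exact absurd (by rw [le_antisymm hia h] at hx; exact hx) hnot
    have h1 := fpnt_sum_le p hp3 a ha t hnd ht
    have h2 := fpnt_geom p hp3 a
    omega
  have hsum : t.sum = p ^ a + (t.erase (p ^ a)).sum := by
    rw [← Multiset.sum_cons, Multiset.cons_erase hmem]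
  have hzero : t.erase (p ^ a) = 0 := by
    by_contra hne
    obtain ⟨x, hx⟩ := Multiset.exists_mem_of_ne_zero hne
    have hxt : x ∈ t := Multiset.mem_of_mem_erase hx
    obtain ⟨i, hi1, rfl⟩ := hpp x hxt
    have h3 : 3 ≤ p ^ i := by
      calc 3 ≤ p := hp3
        _ = p ^ 1 := (pow_one p).symm
        _ ≤ p ^ i := Nat.pow_le_pow_right (by omega) hi1
    have h4 : p ^ i ≤ (t.erase (p ^ a)).sum := Multiset.single_le_sum (fun _ _ => Nat.zero_le _) _ hx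
    omega
  rw [← Multiset.cons_erase hmem, hzero]
  rfl

end Cfsg.Agent.Lib.Helper83.Fp
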