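import Cfsg.Agent.Lib.Helper83.FpDefs

/-! Fp hive (S2276, owner helper83), leaf FP-PAR1. -/

set_option autoImplicit false

namespace Cfsg.Agent.Lib.Helper83.Fp

open Equiv

/-- two distinct points outside the range of an embedding `Fin m ↪ Fin n`, `m + 2 ≤ n` -/
theorem fppar1_two_points (m n : ℕ) (ι : Fin m ↪ Fin n) (h : m + 2 ≤ n) :
    ∃ y₁ y₂ : Fin n, y₁ ≠ y₂ ∧ (∀ x, ι x ≠ y₁) ∧ ∀ x, ι x ≠ y₂ := by
  have hcard : 1 < ((Finset.univ.map ι)ᶜ : Finset (Fin n)).card := by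
    rw [Finset.card_compl, Finset.card_map, Finset.card_univ, Fintype.card_fin, Fintype.card_fin]
    omega
  obtain ⟨y₁, h1, y₂, h2, hne⟩ := Finset.one_lt_card.mp hcard
  refine ⟨y₁, y₂, hne, fun x hx => ?_, fun x hx => ?_⟩
  · rw [Finset.mem_compl] at h1
    exact h1 (Finset.mem_map.mpr ⟨x, Finset.mem_univ x, hx⟩)
  · rw [Finset.mem_compl] at h2
    exact h2 (Finset.mem_map.mpr ⟨x, Finset.mem_univ x, hx⟩)

/-- FP-PAR1. -/
theorem par1 : Par1Stmt := by
  unfold Par1Stmt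
  intro m n ι d W φ h hor
  rcases Int.units_eq_one_or (Perm.sign φ) with h1 | h1
  · exact ⟨φ, Perm.mem_alternatingGroup.mpr h1, h⟩
  · rcases hor with hmn | hcent
    · obtain ⟨y₁, y₂, hne, hy1, hy2⟩ := fppar1_two_points m n ι hmn
      refine ⟨swap y₁ y₂ * φ, ?_, ?_⟩
      · rw [Perm.mem_alternatingGroup, Perm.sign_mul, Perm.sign_swap hne, h1]
        rfl
      · intro x
        have hg : (swap y₁ y₂ * φ) * W * (swap y₁ y₂ * φ)⁻¹ =
            swap y₁ y₂ * (φ * W * φ⁻¹) * (swap y₁ y₂)⁻¹ := by group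
        have hs : ∀ z, swap y₁ y₂ (ι z) = ι z := fun z =>
          swap_apply_of_ne_of_ne (hy1 z) (hy2 z)
        rw [hg, swap_inv, Perm.mul_apply, Perm.mul_apply, hs, h x, hs]
    · rw [SetLike.not_le_iff_exists] at hcent
      obtain ⟨σ, hσc, hσa⟩ := hcent
      have hσ1 : Perm.sign σ = -1 := by
        rcases Int.units_eq_one_or (Perm.sign σ) with h2 | h2
        · exact absurd (Perm.mem_alternatingGroup.mpr h2) hσa
        · exact h2
      refine ⟨φ * σ, ?_, ?_⟩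
      · rw [Perm.mem_alternatingGroup, Perm.sign_mul, hσ1, h1]
        rfl
      · intro x
        have hcomm : W * σ = σ * W := Subgroup.mem_centralizer_iff.mp hσc W (Set.mem_singleton W)
        have hg : (φ * σ) * W * (φ * σ)⁻¹ = φ * W * φ⁻¹ := by
          have : σ * W * σ⁻¹ = W := by rw [← hcomm]; group
          calc (φ * σ) * W * (φ * σ)⁻¹ = φ * (σ * W * σ⁻¹) * φ⁻¹ := by group
            _ = φ * W * φ⁻¹ := by rw [this]
        rw [hg]
        exact h x

end Cfsg.Agent.Lib.Helper83.Fp
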