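import Cfsg.Agent.Lib.Helper83.FpDefs

/-! Fp hive (S2276, owner helper83), leaf FP-PAR2. -/

set_option autoImplicit false

namespace Cfsg.Agent.Lib.Helper83.Fp

open Equiv

/-- FP-PAR2. If sign φ = 1: g = φ, left.  Else g = τ.viaFintypeEmbedding ι * φ, right. -/
theorem par2 : Par2Stmt := by
  unfold Par2Stmt
  intro m n ι d τ W φ hτ h
  rcases Int.units_eq_one_or (Perm.sign φ) with h1 | h1
  · exact ⟨φ, Perm.mem_alternatingGroup.mpr h1, Or.inl h⟩
  · refine ⟨τ.viaFintypeEmbedding ι * φ, ?_, Or.inr ?_⟩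
    · rw [Perm.mem_alternatingGroup, Perm.sign_mul, Perm.viaFintypeEmbedding_sign, hτ, h1]
      rfl
    · intro x
      have hinv : (τ.viaFintypeEmbedding ι)⁻¹ (ι x) = ι (τ⁻¹ x) := by
        rw [Perm.inv_eq_iff_eq, Perm.viaFintypeEmbedding_apply_image]
        simp
      have hg : (τ.viaFintypeEmbedding ι * φ) * W * (τ.viaFintypeEmbedding ι * φ)⁻¹ =
          τ.viaFintypeEmbedding ι * (φ * W * φ⁻¹) * (τ.viaFintypeEmbedding ι)⁻¹ := by group
      rw [hg, Perm.mul_apply, Perm.mul_apply, hinv, h (τ⁻¹ x), Perm.viaFintypeEmbedding_apply_image]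
      rfl

end Cfsg.Agent.Lib.Helper83.Fp
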