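import Cfsg.Agent.Lib.Helper37.G2zDefs
import Cfsg.Agent.Lib.Helper18.ChevHSmith

/-! # G2z mini-hive (S4279, architect helper37): leaf G2Z-H0IDX (helper24) -/

set_option autoImplicit false

namespace Cfsg.Agent.Lib.Helper37.G2z

open Cfsg Cfsg.Lie Cfsg.Agent.Lib.Helper36 Cfsg.Agent.Lib.Helper20.G2c Cfsg.Agent.Lib.Helper18

variable (F : Type*) [Field F]

/-- the torus map of `G₂` is injective -/
theorem h0idx_torusHom_injective [Fintype F] : Function.Injective (torusHom chevG2 F) := by
  rw [← MonoidHom.ker_eq_bot_iff, torusHom_ker chevG2 hG2 F]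
  have h := card_ker_G2 F
  have h1 : Nat.card (monoMap (C := Fˣ) (cartanMat chevG2)).ker = 1 := by
    rw [h]; simp
  exact Subgroup.eq_bot_of_card_eq _ h1

/-- the squares have index two in the units of a finite field of odd order -/
theorem h0idx_index_sq [Fintype F] (hodd : Odd (Fintype.card F)) :
    ((powMonoidHom 2 : Fˣ →* Fˣ).range).index = 2 := by
  classical
  have h2 : (2 : F) ≠ 0 := by
    have hch : ringChar F ≠ 2 := by
      intro h
      have := (FiniteField.even_card_iff_char_two (F := F)).1 h
      rcases hodd with ⟨m, hm⟩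
      omega
    exact Ring.two_ne_zero hch
  rw [Subgroup.index_range]
  rw [Nat.card_eq_two_iff]
  have hm1 : (-1 : Fˣ) ∈ (powMonoidHom 2 : Fˣ →* Fˣ).ker := by
    rw [MonoidHom.mem_ker]; simp
  refine ⟨⟨1, one_mem _⟩, ⟨-1, hm1⟩, ?_, ?_⟩
  · intro h
    have h' : (1 : Fˣ) = -1 := congrArg Subtype.val h
    have h'' : (1 : F) = -1 := by
      have := congrArg (fun u : Fˣ => (u : F)) h'
      simpa using this
    apply h2
    linear_combination h''
  · rw [Set.eq_univ_iff_forall]
    rintro ⟨x, hx⟩
    rw [MonoidHom.mem_ker, powMonoidHom_apply] at hx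
    have hx' : (x : F) ^ 2 = 1 := by
      have := congrArg (fun u : Fˣ => (u : F)) hx
      simpa using this
    have h3 : ((x : F) - 1) * ((x : F) + 1) = 0 := by linear_combination hx'
    rcases mul_eq_zero.1 h3 with h4 | h4
    · left
      apply Subtype.ext
      apply Units.ext
      show (x : F) = 1
      linear_combination h4
    · right
      rw [Set.mem_singleton_iff]
      apply Subtype.ext
      apply Units.ext
      show (x : F) = ((-1 : Fˣ) : F)
      rw [Units.val_neg, Units.val_one]
      linear_combination h4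

/-- G2Z-H0IDX -/
theorem H0_relIndex [Fintype F] (hodd : Odd (Fintype.card F)) :
    (H0 F).relIndex (chevG2.diagonalSubgroup F) = 2 := by
  rw [← torusHom_range chevG2 hG2 F, MonoidHom.range_eq_map]
  unfold H0
  rw [Subgroup.relIndex_map_map_of_injective _ _ (h0idx_torusHom_injective F), Subgroup.relIndex_top_right,
    Subgroup.index_comap_of_surjective, h0idx_index_sq F hodd]
  intro y
  exact ⟨fun _ => y, rfl⟩

end Cfsg.Agent.Lib.Helper37.G2z
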