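import Mathlib

/-! # Gt hive (helper37, S2734), leaf GT-EFAC: factoring `θ` through `ψ` (pure group theory). -/

set_option autoImplicit false

namespace Cfsg.Agent.Lib.Helper37.Gt

/-- the image of a central element under a surjection is central -/
theorem efac_map_center {S W : Type*} [Group S] [Group W] (ψ : S →* W) (hψ : Function.Surjective ψ)
    {z : S} (hz : z ∈ Subgroup.center S) : ψ z ∈ Subgroup.center W := by
  rw [Subgroup.mem_center_iff]
  intro w
  obtain ⟨s, rfl⟩ := hψ w
  rw [← map_mul, ← map_mul, Subgroup.mem_center_iff.mp hz s]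

/-- `ker ψ ≤ ker θ` -/
theorem efac_ker_le {S G₁ W : Type*} [Group S] [Group G₁] [Group W] (θ : S →* G₁)
    (hθ : Function.Surjective θ) (hker : θ.ker = Subgroup.center S) (hG : IsSimpleGroup G₁)
    (ψ : S →* W) (hψ : Function.Surjective ψ) (hW : ∃ a b : W, a * b ≠ b * a) :
    ψ.ker ≤ θ.ker := by
  have hn : (ψ.ker.map θ).Normal := Subgroup.Normal.map inferInstance θ hθ
  rcases hn.eq_bot_or_eq_top with h | h
  · intro k hk
    rw [MonoidHom.mem_ker]
    have h1 : θ k ∈ ψ.ker.map θ := Subgroup.mem_map_of_mem θ hk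
    rw [h] at h1
    exact Subgroup.mem_bot.mp h1
  · exfalso
    obtain ⟨a, b, hab⟩ := hW
    apply hab
    have hall : ∀ w : W, w ∈ Subgroup.center W := by
      intro w
      obtain ⟨s, rfl⟩ := hψ w
      have h1 : θ s ∈ ψ.ker.map θ := by rw [h]; trivial
      obtain ⟨k, hk, hks⟩ := h1
      have h2 : s * k⁻¹ ∈ θ.ker := by
        rw [MonoidHom.mem_ker, map_mul, map_inv, hks, mul_inv_cancel]
      rw [hker] at h2
      have h3 := efac_map_center ψ hψ h2
      have hk' : ψ k = 1 := MonoidHom.mem_ker.mp hk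
      rw [map_mul, map_inv, hk', inv_one, mul_one] at h3
      exact h3
    exact Subgroup.mem_center_iff.mp (hall b) a

/-- GT-EFAC (pure group theory, Mathlib only). -/
theorem exists_factor {S G₁ W : Type*} [Group S] [Group G₁] [Group W] (θ : S →* G₁)
    (hθ : Function.Surjective θ) (hker : θ.ker = Subgroup.center S) (hG : IsSimpleGroup G₁)
    (ψ : S →* W) (hψ : Function.Surjective ψ) (hW : ∃ a b : W, a * b ≠ b * a) :
    ∃ e : W →* G₁, (∀ x, e (ψ x) = θ x) ∧ ∀ w, e w = 1 → w ∈ Subgroup.center W := by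
  have hle := efac_ker_le θ hθ hker hG ψ hψ hW
  refine ⟨ψ.liftOfSurjective hψ ⟨θ, hle⟩, ?_, ?_⟩
  · intro x
    exact MonoidHom.liftOfRightInverse_comp_apply ψ _ (Function.rightInverse_surjInv hψ) ⟨θ, hle⟩ x
  · intro w hw
    obtain ⟨x, rfl⟩ := hψ w
    have hx : (ψ.liftOfSurjective hψ ⟨θ, hle⟩) (ψ x) = θ x :=
      MonoidHom.liftOfRightInverse_comp_apply ψ _ (Function.rightInverse_surjInv hψ) ⟨θ, hle⟩ x
    rw [hx] at hw
    have hx2 : x ∈ Subgroup.center S := by
      rw [← hker, MonoidHom.mem_ker]; exact hw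
    exact efac_map_center ψ hψ hx2

end Cfsg.Agent.Lib.Helper37.Gt
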