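import Mathlib

/-!
# Small group-theoretic helpers for the Hall–Higman chain
-/

set_option autoImplicit false
set_option linter.unusedSectionVars false
set_option linter.unusedVariables false
set_option linter.style.haveILetI false

namespace Cfsg.Agent.Lib.Helper24.HH

variable {G : Type*} [Group G]

/-- a subgroup of prime order is generated by any of its nontrivial elements -/
theorem exists_generator_of_prime_card (X : Subgroup G) {r : ℕ} (hr : r.Prime)
    (hX : Nat.card X = r) :
    ∃ x ∈ X, x ≠ 1 ∧ x ^ r = 1 ∧ ∀ y ∈ X, ∃ n : ℕ, x ^ n = y := by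
  haveI : Fact r.Prime := ⟨hr⟩
  haveI : Finite X := Nat.finite_of_card_ne_zero (hX ▸ hr.ne_zero)
  have hnt : Nontrivial X := by
    rw [← Finite.one_lt_card_iff_nontrivial, hX]
    exact hr.one_lt
  obtain ⟨x', hx'⟩ := exists_ne (1 : X)
  refine ⟨x', x'.2, ?_, ?_, ?_⟩
  · intro h
    exact hx' (Subtype.ext h)
  · have : x' ^ r = 1 := by rw [← hX]; exact pow_card_eq_one'
    have := congrArg Subtype.val this
    simpa using this
  · intro y hy
    have : (⟨y, hy⟩ : X) ∈ Submonoid.powers x' := mem_powers_of_prime_card hX hx'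
    obtain ⟨n, hn⟩ := this
    refine ⟨n, ?_⟩
    have := congrArg Subtype.val hn
    simpa using this

/-- an element commuting with a generator of `X` centralizes `X` -/
theorem mem_centralizer_of_generator (X : Subgroup G) (x : G)
    (hgen : ∀ y ∈ X, ∃ n : ℕ, x ^ n = y) (g : G) (hg : g * x = x * g) :
    g ∈ Subgroup.centralizer (X : Set G) := by
  rw [Subgroup.mem_centralizer_iff]
  intro y hy
  obtain ⟨n, rfl⟩ := hgen y hy
  have : Commute g x := hg
  exact (this.pow_right n).eq.symm

end Cfsg.Agent.Lib.Helper24.HH
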