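import Cfsg.Agent.Lib.Helper24.PLenOne
import Cfsg.Agent.Lib.Helper24.RelSZ

set_option autoImplicit false
set_option linter.style.haveILetI false

namespace Cfsg.Agent.Lib.Helper24

open Subgroup Cfsg
open Cfsg.Agent.Lib.Helper33 Cfsg.Agent.Lib.Helper55

section hhone
variable {G : Type*} [Group G]

/-- A `p'`-subgroup of `K S` (with `K` normal and `S` a `p`-group) lies in `K`. -/
theorem pPrime_le_of_le_sup_pGroup [Finite G] {p : ℕ} [Fact p.Prime] (K : Subgroup G) [K.Normal]
    (S : Subgroup G) (hS : IsPGroup p S) (X : Subgroup G) (hX : (Nat.card X).Coprime p)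
    (hXM : X ≤ K ⊔ S) : X ≤ K := by
  intro x hx
  have h1 : (QuotientGroup.mk' K) x ∈ (K ⊔ S).map (QuotientGroup.mk' K) :=
    mem_map_of_mem _ (hXM hx)
  rw [Subgroup.map_sup, QuotientGroup.map_mk'_self, bot_sup_eq] at h1
  obtain ⟨s, hs, hsx⟩ := h1
  obtain ⟨n, hn⟩ := hS ⟨s, hs⟩
  have hn' : s ^ (p ^ n) = 1 := by
    have := congrArg Subtype.val hn
    simpa using this
  have h2 : x ^ (p ^ n) ∈ K := by
    rw [← QuotientGroup.eq_one_iff]
    have : ((x ^ (p ^ n) : G) : G ⧸ K) = (QuotientGroup.mk' K x) ^ (p ^ n) := rfl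
    rw [this, ← hsx, ← map_pow, hn', map_one]
  have hord : orderOf x ∣ Nat.card X := by
    have := orderOf_dvd_natCard (⟨x, hx⟩ : X)
    rwa [Subgroup.orderOf_mk] at this
  have hcop : (p ^ n).Coprime (orderOf x) :=
    (Nat.Coprime.pow_right n (Nat.Coprime.coprime_dvd_left hord hX)).symm
  obtain ⟨m, hm⟩ := exists_pow_eq_self_of_coprime hcop
  rw [← hm]
  exact K.pow_mem h2 m

/-- If `G = O_{p'}(G) N_G(S)` for a Sylow `p`-subgroup `S`, then `C_G(S) ≤ O_{p'}(G) S`. -/
theorem centralizer_sylow_le_sup [Finite G] {p : ℕ} [Fact p.Prime] (S : Sylow p G)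
    (hKU : pPrimeCore p G ⊔ normalizer ((S : Subgroup G) : Set G) = ⊤) :
    centralizer ((S : Subgroup G) : Set G) ≤ pPrimeCore p G ⊔ (S : Subgroup G) := by
  set K := pPrimeCore p G with hK
  haveI hKn : K.Normal := pPrimeCore_normal' p
  have hKc : (Nat.card K).Coprime p := pPrimeCore_card_coprime p
  set U := normalizer ((S : Subgroup G) : Set G) with hU
  set C := centralizer ((S : Subgroup G) : Set G) with hC
  set Z := (S : Subgroup G) ⊓ C with hZ
  have hCU : C ≤ U := centralizer_le_normalizer _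
  have hZC : Z ≤ C := inf_le_right
  have hZS : Z ≤ (S : Subgroup G) := inf_le_left
  have hcuC : ∀ u ∈ U, cj u C = C := by
    intro u hu
    rw [hC, ← centralizer_cj, cj_eq_self_iff.mpr hu]
  have hUZ : U ≤ normalizer (Z : Set G) := by
    intro u hu
    rw [← cj_eq_self_iff, hZ, cj_inf, cj_eq_self_iff.mpr hu, hcuC u hu]
  have hZp : IsPGroup p Z := S.2.to_le hZS
  obtain ⟨a, ha⟩ := IsPGroup.iff_card.mp hZp
  have hrel : ¬ p ∣ Z.relIndex C := by
    have h1 : Z.relIndex C = (S : Subgroup G).relIndex C := inf_relIndex_right _ _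
    have h2 : (S : Subgroup G).relIndex (C ⊔ S) = (S : Subgroup G).relIndex C :=
      relIndex_sup_right_of_le_normalizer C S hCU
    have h3 : (S : Subgroup G).relIndex (C ⊔ S) ∣ (S : Subgroup G).index :=
      Dvd.intro _ (relIndex_mul_index le_sup_right)
    rw [h1, ← h2]
    exact fun h => S.not_dvd_index (h.trans h3)
  have hrel' : (Z.relIndex C).Coprime p := by
    rw [Nat.coprime_comm, Nat.Prime.coprime_iff_not_dvd Fact.out]; exact hrel
  have hcopZ : (Nat.card Z).Coprime (Z.relIndex C) := by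
    rw [ha]; exact (Nat.Coprime.pow_right a hrel').symm
  obtain ⟨W, hWC, hWcard, hWZ, hWZC⟩ := rel_sz_exists Z C hZC (hCU.trans hUZ) hcopZ
  have hWp : (Nat.card W).Coprime p := by rw [hWcard]; exact hrel'
  have hWcopZ : (Nat.card W).Coprime (Nat.card Z) := by
    rw [ha]; exact Nat.Coprime.pow_right a hWp
  have hZsolv : Group.IsSolvable Z := by
    haveI := hZp.isNilpotent
    infer_instance
  -- U normalises W
  have hUW : U ≤ normalizer (W : Set G) := by
    intro u hu
    have h1 : cj u W ≤ W ⊔ Z := by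
      rw [hWZC, ← hcuC u hu]; exact cj_mono hWC
    obtain ⟨n, hn, hnW⟩ := rel_sz_conj Z W (cj u W) (hWC.trans (hCU.trans hUZ)) hWcopZ
      (Or.inl hZsolv) h1 (card_cj u W)
    have hnW' : cj n W = W := by
      apply cj_eq_self_iff.mpr
      apply centralizer_le_normalizer
      have h2 : (S : Subgroup G) ≤ centralizer (W : Set G) := le_centralizer_iff.mp hWC
      exact h2 (hZS hn)
    rw [← cj_eq_self_iff, ← hnW, hnW']
  -- K W is normal
  have hKWn : (K ⊔ W).Normal := by
    rw [← normalizer_eq_top_iff, eq_top_iff, ← hKU]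
    apply sup_le
    · exact le_trans le_sup_left le_normalizer
    · intro u hu
      have h1 : cj u K = K := by
        apply cj_eq_self_iff.mpr
        rw [normalizer_eq_top_iff.mpr hKn]; trivial
      rw [← cj_eq_self_iff, cj_sup, cj_eq_self_iff.mpr (hUW hu), h1]
  have hKWc : (Nat.card (K ⊔ W : Subgroup G)).Coprime p := by
    have h1 := card_sup_dvd_mul W K
    rw [sup_comm] at h1
    exact Nat.Coprime.coprime_dvd_left h1 (Nat.Coprime.mul_left hWp hKc)
  have hWK : W ≤ K := le_trans le_sup_right (le_pPrimeCore p (K ⊔ W) hKWc)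
  rw [← hWZC]
  exact sup_le (hWK.trans le_sup_left) (hZS.trans le_sup_right)

end hhone

end Cfsg.Agent.Lib.Helper24
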