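import Mathlib
import Cfsg.Agent.Lib.Helper24.RelSZ
import Cfsg.Agent.Lib.Helper24.Lifting

/-!
# A normal abelian Hall subgroup generated by normal abelian Sylow subgroups, and its complement
-/

set_option autoImplicit false
set_option linter.unusedSectionVars false
set_option linter.unusedVariables false
set_option linter.style.haveILetI false

namespace Cfsg.Agent.Lib.Helper24.HallDecomp

open Subgroup
open Cfsg.Agent.Lib.Helper24.Lifting (le_normalizer_of_conj_mem conj_mem_of_le_normalizer)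

/-- **(STRUCTURE)**: the product `N` of normal abelian Sylow `p`-subgroups `Pf p` (`p ∈ T`) of `V`
is a normal abelian Hall `T`-subgroup of `V`, with a complement `H`. -/
theorem exists_abelian_hall_decomp {G : Type*} [Group G] [Finite G] {V : Subgroup G} (T : Set ℕ)
    (Pf : ℕ → Subgroup G)
    (hPf : ∀ p ∈ T, p.Prime ∧ Pf p ≤ V ∧ IsPGroup p (Pf p) ∧
      V ≤ normalizer ((Pf p : Subgroup G) : Set G) ∧
      (∀ x ∈ Pf p, ∀ y ∈ Pf p, x * y = y * x) ∧ ¬ p ∣ (Pf p).relIndex V) :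
    ∃ N H : Subgroup G, N ≤ V ∧ H ≤ V ∧ (∀ x ∈ N, ∀ y ∈ N, x * y = y * x) ∧
      V ≤ normalizer (N : Set G) ∧ N ⊓ H = ⊥ ∧ N ⊔ H = V ∧
      (Nat.card N).Coprime (Nat.card H) ∧ (∀ p ∈ T, Pf p ≤ N) ∧
      (∀ q : ℕ, q.Prime → q ∣ Nat.card N → q ∈ T) ∧
      (∀ q : ℕ, q.Prime → q ∣ Nat.card H → q ∉ T) := by
  classical
  obtain ⟨S, hSdef⟩ : ∃ S : Set G, S = {x | ∃ p ∈ T, x ∈ Pf p} := ⟨_, rfl⟩
  have hSmem : ∀ x, x ∈ S ↔ ∃ p ∈ T, x ∈ Pf p := by intro x; rw [hSdef]; rfl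
  obtain ⟨N, hNdef⟩ : ∃ N : Subgroup G, N = closure S := ⟨_, rfl⟩
  have hSN : S ⊆ N := by rw [hNdef]; exact subset_closure
  have hPN : ∀ p ∈ T, Pf p ≤ N := fun p hp x hx => hSN ((hSmem x).mpr ⟨p, hp, hx⟩)
  have hNV : N ≤ V := by
    rw [hNdef, closure_le]
    intro x hx
    obtain ⟨p, hp, hxp⟩ := (hSmem x).mp hx
    exact (hPf p hp).2.1 hxp
  -- generators commute
  have hScomm : ∀ x ∈ S, ∀ y ∈ S, x * y = y * x := by
    intro x hx y hy
    obtain ⟨p, hp, hxp⟩ := (hSmem x).mp hx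
    obtain ⟨q, hq, hyq⟩ := (hSmem y).mp hy
    obtain ⟨hpp, hpV, hpg, hpn, hpc, -⟩ := hPf p hp
    obtain ⟨hqp, hqV, hqg, hqn, hqc, -⟩ := hPf q hq
    by_cases hpq : p = q
    · subst hpq; exact hpc x hxp y hyq
    · haveI : Fact p.Prime := ⟨hpp⟩
      haveI : Fact q.Prime := ⟨hqp⟩
      have h1 : x * y * x⁻¹ * y⁻¹ ∈ Pf p := by
        have := conj_mem_of_le_normalizer hpn (hqV hyq) ((Pf p).inv_mem hxp)
        have h2 := (Pf p).mul_mem hxp this
        have e : x * (y * x⁻¹ * y⁻¹) = x * y * x⁻¹ * y⁻¹ := by group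
        rwa [e] at h2
      have h2 : x * y * x⁻¹ * y⁻¹ ∈ Pf q := by
        have := conj_mem_of_le_normalizer hqn (hpV hxp) hyq
        exact (Pf q).mul_mem this ((Pf q).inv_mem hyq)
      have hdis := IsPGroup.disjoint_of_ne p q hpq (Pf p) (Pf q) hpg hqg
      have h3 : x * y * x⁻¹ * y⁻¹ ∈ Pf p ⊓ Pf q := Subgroup.mem_inf.mpr ⟨h1, h2⟩
      rw [hdis.eq_bot, Subgroup.mem_bot] at h3
      have h4 := congrArg (fun t => t * y * x) h3
      simpa [mul_assoc] using h4
  have hNcomm : ∀ x ∈ N, ∀ y ∈ N, x * y = y * x := by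
    intro x hx y hy
    rw [hNdef] at hx hy
    have hc := Subgroup.isMulCommutative_closure hScomm
    have := hc.is_comm.comm (⟨x, hx⟩ : closure S) ⟨y, hy⟩
    exact congrArg Subtype.val this
  -- `V` normalises `N`
  have hVN : V ≤ normalizer (N : Set G) := by
    apply le_normalizer_of_conj_mem
    intro g hg x hx
    rw [hNdef] at hx
    induction hx using Subgroup.closure_induction with
    | mem x hx =>
      obtain ⟨p, hp, hxp⟩ := (hSmem x).mp hx
      exact hSN ((hSmem _).mpr ⟨p, hp, conj_mem_of_le_normalizer (hPf p hp).2.2.2.1 hg hxp⟩)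
    | one => simp
    | mul x y _ _ ihx ihy =>
      have e : g * (x * y) * g⁻¹ = (g * x * g⁻¹) * (g * y * g⁻¹) := by group
      rw [e]; exact N.mul_mem ihx ihy
    | inv x _ ih =>
      have e : g * x⁻¹ * g⁻¹ = (g * x * g⁻¹)⁻¹ := by group
      rw [e]; exact N.inv_mem ih
  -- orders
  have hord : ∀ x ∈ N, ∀ q : ℕ, q.Prime → q ∣ orderOf x → q ∈ T := by
    intro x hx
    have hx' := hx
    rw [hNdef] at hx'
    induction hx' using Subgroup.closure_induction with
    | mem x hxS =>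
      intro q hq hqx
      obtain ⟨p, hp, hxp⟩ := (hSmem x).mp hxS
      obtain ⟨hpp, -, hpg, -, -, -⟩ := hPf p hp
      obtain ⟨k, hk⟩ := hpg ⟨x, hxp⟩
      have hk' : x ^ (p ^ k) = 1 := by simpa using congrArg Subtype.val hk
      have h1 : q ∣ p ^ k := hqx.trans (orderOf_dvd_of_pow_eq_one hk')
      have h2 : q = p := (Nat.prime_dvd_prime_iff_eq hq hpp).mp (hq.dvd_of_dvd_pow h1)
      rw [h2]; exact hp
    | one =>
      intro q hq hqx
      rw [orderOf_one, Nat.dvd_one] at hqx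
      exact absurd hqx hq.one_lt.ne'
    | mul x y hx0 hy0 ihx ihy =>
      intro q hq hqx
      have hxN : x ∈ N := by rw [hNdef]; exact hx0
      have hyN : y ∈ N := by rw [hNdef]; exact hy0
      have hc : Commute x y := hNcomm x hxN y hyN
      have h1 : q ∣ Nat.lcm (orderOf x) (orderOf y) := hqx.trans hc.orderOf_mul_dvd_lcm
      have h2 : q ∣ orderOf x * orderOf y := h1.trans (Nat.lcm_dvd_mul _ _)
      rcases (Nat.Prime.dvd_mul hq).mp h2 with h | h
      · exact ihx hxN q hq h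
      · exact ihy hyN q hq h
    | inv x hx0 ih =>
      intro q hq hqx
      rw [orderOf_inv] at hqx
      have hxN : x ∈ N := by rw [hNdef]; exact hx0
      exact ih hxN q hq hqx
  have hNT : ∀ q : ℕ, q.Prime → q ∣ Nat.card N → q ∈ T := by
    intro q hq hqN
    haveI : Fact q.Prime := ⟨hq⟩
    obtain ⟨x, hx⟩ := exists_prime_orderOf_dvd_card' (G := N) q hqN
    have h1 : orderOf (x : G) = q := by rw [Subgroup.orderOf_coe, hx]
    exact hord x x.2 q hq (h1 ▸ dvd_rfl)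
  have hTidx : ∀ q ∈ T, ¬ q ∣ N.relIndex V := by
    intro q hq hqd
    obtain ⟨-, -, -, -, -, hi⟩ := hPf q hq
    apply hi
    rw [← relIndex_mul_relIndex (Pf q) N V (hPN q hq) hNV]
    exact Dvd.dvd.mul_left hqd _
  have hcop : (Nat.card N).Coprime (N.relIndex V) := by
    by_contra hcon
    obtain ⟨q, hq, hq1, hq2⟩ := Nat.Prime.not_coprime_iff_dvd.mp hcon
    exact hTidx q (hNT q hq hq1) hq2
  obtain ⟨H, hHV, hHc, hHN, hHsup⟩ := Cfsg.Agent.Lib.Helper24.rel_sz_exists N V hNV hVN hcop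
  refine ⟨N, H, hNV, hHV, hNcomm, hVN, by rw [inf_comm]; exact hHN, by rw [sup_comm]; exact hHsup,
    by rw [hHc]; exact hcop, hPN, hNT, ?_⟩
  intro q hq hqH hqT
  rw [hHc] at hqH
  exact hTidx q hqT hqH

end Cfsg.Agent.Lib.Helper24.HallDecomp
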