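import Cfsg.Agent.Lib.Helper15.HsBasic

/-! # Hs hive (helper15, S2536), leaf HS-PRIM, core: `prim_core` (helper24)

`prim_all_primes` with the statement of HS-CYC (`exists_cycle_mem`) as a hypothesis. -/

set_option autoImplicit false

namespace Cfsg.Agent.Lib.Helper15.Hs

open Cfsg MulAction Equiv.Perm

section leaves

variable {α : Type*} [Fintype α] [DecidableEq α] (π : Set ℕ) (H : Subgroup (Equiv.Perm α))

/-- a permutation interchanging two distinct points has even order. -/
theorem prim_two_dvd_orderOf (σ : Equiv.Perm α) {a b : α} (hab : a ≠ b) (h1 : σ a = b)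
    (h2 : σ b = a) : 2 ∣ orderOf σ := by
  by_contra hodd
  have hodd' : Odd (orderOf σ) := by
    rcases Nat.even_or_odd (orderOf σ) with he | ho
    · exact absurd (even_iff_two_dvd.mp he) hodd
    · exact ho
  obtain ⟨k, hk⟩ := hodd'
  have hpow : σ ^ (2 * k + 1) = 1 := by rw [← hk]; exact pow_orderOf_eq_one σ
  have hsq : (σ ^ 2) b = b := by
    rw [pow_two, Equiv.Perm.mul_apply, h2, h1]
  have h3 : ((σ ^ 2) ^ k) b = b := Equiv.Perm.pow_apply_eq_self_of_apply_eq_self hsq k
  have h4 : (σ ^ (2 * k + 1)) a = b := by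
    rw [pow_succ, pow_mul, Equiv.Perm.mul_apply, h1, h3]
  rw [hpow, Equiv.Perm.one_apply] at h4
  exact hab h4

/-- a 2-pretransitive subgroup of `Perm α` (`|α| ≥ 2`) has even order. -/
theorem prim_two_dvd_card_of_two_pretransitive (h2t : IsMultiplyPretransitive H α 2)
    (hm : 2 ≤ Nat.card α) : 2 ∣ Nat.card H := by
  have hnt : Nontrivial α := by
    rw [← Fintype.one_lt_card_iff_nontrivial, ← Nat.card_eq_fintype_card]
    omega
  obtain ⟨a, b, hab⟩ := exists_pair_ne α
  obtain ⟨h, h1, h2⟩ := (is_two_pretransitive_iff (G := H) (α := α)).mp h2t hab hab.symm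
  have hd : 2 ∣ orderOf (h : Equiv.Perm α) := prim_two_dvd_orderOf _ hab h1 h2
  rw [Subgroup.orderOf_coe] at hd
  exact hd.trans (orderOf_dvd_natCard h)

/-- Jordan: a primitive subgroup of `Perm α` containing a cycle of prime length `r < |α|` is 2-pretransitive. -/
theorem prim_two_pretransitive_of_cycle (hprim : IsPreprimitive H α) {g : Equiv.Perm α}
    (hg : g ∈ H) (hgc : g.IsCycle) {r : ℕ} (hr : r.Prime) (hgr : g.support.card = r)
    (hrm : r < Nat.card α) : IsMultiplyPretransitive H α 2 := by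
  classical
  obtain ⟨n, hn⟩ : ∃ n, Nat.card α = r + (n + 1) := ⟨Nat.card α - r - 1, by omega⟩
  have hsc : Set.ncard ((g.support : Set α)ᶜ) = n + 1 := by
    apply Nat.add_left_cancel
    rw [Set.ncard_add_ncard_compl, Set.ncard_coe_finset, hgr, hn]
  have hr2 := hr.two_le
  have hsn' : n + 2 < Nat.card α := by omega
  have hprim' : IsPreprimitive (fixingSubgroup H ((g.support : Set α)ᶜ))
      (SubMulAction.ofFixingSubgroup H ((g.support : Set α)ᶜ)) := by
    have := isPretransitive_of_isCycle_mem hgc hg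
    apply IsPreprimitive.of_prime_card
    have hcard : Nat.card (SubMulAction.ofFixingSubgroup H ((g.support : Set α)ᶜ)) = r := by
      rw [Nat.card_eq_fintype_card, Fintype.card_subtype, ← hgr]
      apply congr_arg
      ext x
      simp [SubMulAction.mem_ofFixingSubgroup_iff]
    rw [hcard]
    exact hr
  have hmp : IsMultiplyPreprimitive H α (n + 2) :=
    hprim.isMultiplyPreprimitive hsc hsn' hprim'
  have hmt : IsMultiplyPretransitive H α (n + 2) :=
    IsMultiplyPreprimitive.isMultiplyPretransitive ..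
  exact isMultiplyPretransitive_of_le (m := 2) (n := n + 2) (by omega) (by omega)

/-- HS-PRIM with HS-CYC as a hypothesis. -/
theorem prim_core (hH : IsPiHall π H) (hprim : MulAction.IsPreprimitive H α)
    (h2 : TwoIn π (Nat.card α))
    (hcyc : ∀ p : ℕ, p.Prime → p ∈ π → p ≤ Nat.card α →
      ∃ g ∈ H, g.IsCycle ∧ g.support.card = p) :
    ∀ r : ℕ, r.Prime → r ≤ Nat.card α → r ∈ π := by
  obtain ⟨r0, s0, hr0, hs0, hne, hr0π, hs0π, hr0m, hs0m⟩ := h2
  have hm2 : 2 ≤ Nat.card α := hr0.two_le.trans hr0m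
  by_cases h2π : 2 ∈ π
  · -- `H` contains a swap, so `H = ⊤`
    obtain ⟨g, hg, hgc, hgs⟩ := hcyc 2 Nat.prime_two h2π hm2
    have hsw : g.IsSwap := Equiv.Perm.card_support_eq_two.mp hgs
    have htop : H = ⊤ := subgroup_eq_top_of_isPreprimitive_of_isSwap_mem hprim g hsw hg
    intro r hr hrm
    apply hH.1 r hr
    rw [htop, Subgroup.card_top, Nat.card_perm]
    exact hr.dvd_factorial.mpr hrm
  · -- `2 ∉ π`: Jordan's theorem gives a contradiction
    exfalso
    have hr02 : r0 ≠ 2 := fun h => h2π (h ▸ hr0π)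
    have hs02 : s0 ≠ 2 := fun h => h2π (h ▸ hs0π)
    -- the smaller of the two primes is `< |α|`
    have key : ∀ r s : ℕ, r.Prime → r ∈ π → r < s → s ≤ Nat.card α → False := by
      intro r s hr hrπ hrs hsm
      obtain ⟨g, hg, hgc, hgs⟩ := hcyc r hr hrπ (by omega)
      have h2t := prim_two_pretransitive_of_cycle H hprim hg hgc hr hgs (by omega)
      have hd := prim_two_dvd_card_of_two_pretransitive H h2t hm2
      exact h2π (hH.1 2 Nat.prime_two hd)
    rcases lt_or_gt_of_ne hne with hlt | hlt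
    · exact key r0 s0 hr0 hr0π hlt hs0m
    · exact key s0 r0 hs0 hs0π hlt hr0m

end leaves

end Cfsg.Agent.Lib.Helper15.Hs
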