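import Mathlib
import Cfsg.Agent.Lib.Helper59.MiDsDefs

/-! MI-DS sub-hive (owner helper59) of the Mi hive (S2140, owner helper81), leaf MI-DS-CARD:
`|dsPhi F n| = q^(n-1)`. -/

set_option autoImplicit false

namespace Cfsg.Agent.Lib.Helper81.Mi

open Matrix

section bridge

variable {F : Type*} [Field F] {n : ℕ}

theorem dscard_dot_e0 (m : ℕ) (φ : Fin (m + 1) → F) : φ ⬝ᵥ e0 F (m + 1) = φ 0 := by
  simp [dotProduct, e0]

/-- dropping coordinate `0` -/
def dscard_equiv (m : ℕ) : dsPhi F (m + 1) ≃ (Fin m → F) where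
  toFun φ := fun j => (φ : Fin (m + 1) → F) j.succ
  invFun a := ⟨Fin.cons 0 a, by rw [mem_dsPhi, dscard_dot_e0]; rfl⟩
  left_inv φ := by
    apply Subtype.ext
    funext i
    refine Fin.cases ?_ (fun j => ?_) i
    · have h := φ.2
      rw [mem_dsPhi, dscard_dot_e0] at h
      simp [h]
    · simp
  right_inv a := by
    funext j
    simp

/-- MI-DS-CARD (E/M): `|dsPhi F n| = q^(n-1)`. -/
theorem ds_card_Phi [Finite F] (hn : 1 ≤ n) : Nat.card (dsPhi F n) = Nat.card F ^ (n - 1) := by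
  obtain ⟨m, rfl⟩ : ∃ m, n = m + 1 := ⟨n - 1, by omega⟩
  rw [Nat.card_congr (dscard_equiv (F := F) m), Nat.card_fun, Nat.card_fin, Nat.add_sub_cancel]

end bridge

end Cfsg.Agent.Lib.Helper81.Mi
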