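import Mathlib
import Cfsg.Agent.Lib.Helper59.MiDsDefs

/-! MI-DS sub-hive (owner helper59) of the Mi hive (S2140, owner helper81), leaf MI-DS-IDX:
`M_x = ker (lam ∘ x)` has index `p` for `x ≠ 0`. -/

set_option autoImplicit false

namespace Cfsg.Agent.Lib.Helper81.Mi

open Matrix

section abstract

/-- a non-zero additive map into `ZMod p` is onto -/
theorem dsidx_surj_of_ne_zero {B : Type*} [AddCommGroup B] {p : ℕ} [Fact p.Prime] (lam : B →+ ZMod p)
    (b : B) (hb : lam b ≠ 0) : Function.Surjective lam := by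
  intro z
  refine ⟨(z / lam b).val • b, ?_⟩
  rw [map_nsmul, nsmul_eq_mul, ZMod.natCast_val, ZMod.cast_id', id_eq, div_mul_cancel₀ z hb]

variable {F V : Type*} [Field F] [Finite F] [AddCommGroup V] [Module F V] [Finite V]
  {p : ℕ} [Fact p.Prime] [CharP F p]

/-- MI-DS-IDX (E/M): `M_x` has index `p` for `x ≠ 0`. -/
theorem ds_index_M (lam : F →+ ZMod p) (hlam : ∀ a : F, a ≠ 0 → ∃ b : F, lam (a * b) ≠ 0)
    (x : Module.Dual F V) (hx : x ≠ 0) : (dsM lam x).index = p := by
  unfold dsM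
  rw [AddSubgroup.index_ker]
  have hsurj : Function.Surjective (lam.comp (x : V →ₗ[F] F).toAddMonoidHom) := by
    obtain ⟨v, hv⟩ : ∃ v, x v ≠ 0 := by
      by_contra h
      exact hx (LinearMap.ext fun v => by
        by_contra hv
        exact h ⟨v, hv⟩)
    obtain ⟨b, hb⟩ := hlam 1 one_ne_zero
    rw [one_mul] at hb
    have hxs : Function.Surjective x := by
      intro c
      refine ⟨(c / x v) • v, ?_⟩
      rw [map_smul, smul_eq_mul, div_mul_cancel₀ c hv]
    intro z
    obtain ⟨a, ha⟩ := dsidx_surj_of_ne_zero lam b hb z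
    obtain ⟨w, hw⟩ := hxs a
    exact ⟨w, by simp [hw, ha]⟩
  rw [AddMonoidHom.range_eq_top.mpr hsurj]
  simp

end abstract

end Cfsg.Agent.Lib.Helper81.Mi
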