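import Cfsg.Agent.Lib.Helper81.Mi.Defs

/-! Mi hive (S2140, owner helper81), leaf MI-TAU: the inverse-transpose automorphism of `SL_n(F)`
swaps the two kinds of transvection groups. -/

set_option autoImplicit false

namespace Cfsg.Agent.Lib.Helper81.Mi

open Matrix

section concrete

variable {F : Type*} [Field F] {n : ℕ}

/-- the transpose on `SL_n(F)` is anti-multiplicative -/
theorem mitau_transpose_mul (g h : SLn n F) :
    Matrix.SpecialLinearGroup.transpose (g * h) =
      Matrix.SpecialLinearGroup.transpose h * Matrix.SpecialLinearGroup.transpose g := by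
  apply Subtype.ext
  simp [Matrix.SpecialLinearGroup.coe_transpose, Matrix.transpose_mul]

theorem mitau_transpose_transpose (g : SLn n F) :
    Matrix.SpecialLinearGroup.transpose (Matrix.SpecialLinearGroup.transpose g) = g := by
  apply Subtype.ext
  simp [Matrix.SpecialLinearGroup.coe_transpose]

theorem mitau_transpose_inv (g : SLn n F) :
    Matrix.SpecialLinearGroup.transpose g⁻¹ = (Matrix.SpecialLinearGroup.transpose g)⁻¹ := by
  apply eq_inv_of_mul_eq_one_left
  rw [← mitau_transpose_mul, mul_inv_cancel]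
  apply Subtype.ext
  simp [Matrix.SpecialLinearGroup.coe_transpose]

/-- the inverse-transpose automorphism of `SL_n(F)` -/
def mitau_tau : SLn n F ≃* SLn n F where
  toFun g := (Matrix.SpecialLinearGroup.transpose g)⁻¹
  invFun g := (Matrix.SpecialLinearGroup.transpose g)⁻¹
  left_inv g := by
    show (Matrix.SpecialLinearGroup.transpose (Matrix.SpecialLinearGroup.transpose g)⁻¹)⁻¹ = g
    rw [mitau_transpose_inv, inv_inv, mitau_transpose_transpose]
  right_inv g := by
    show (Matrix.SpecialLinearGroup.transpose (Matrix.SpecialLinearGroup.transpose g)⁻¹)⁻¹ = g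
    rw [mitau_transpose_inv, inv_inv, mitau_transpose_transpose]
  map_mul' g h := by
    show (Matrix.SpecialLinearGroup.transpose (g * h))⁻¹ =
      (Matrix.SpecialLinearGroup.transpose g)⁻¹ * (Matrix.SpecialLinearGroup.transpose h)⁻¹
    rw [mitau_transpose_mul, _root_.mul_inv_rev]

theorem mitau_tau_apply (g : SLn n F) : mitau_tau g = (Matrix.SpecialLinearGroup.transpose g)⁻¹ := rfl

/-- the transpose of `T(u, φ)` is `T(φ, u)` -/
theorem mitau_transpose_tv (u φ : Fin n → F) (h : φ ⬝ᵥ u = 0) :
    Matrix.SpecialLinearGroup.transpose (tv u φ) = tv φ u := by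
  have h' : u ⬝ᵥ φ = 0 := by rw [dotProduct_comm]; exact h
  apply Subtype.ext
  rw [Matrix.SpecialLinearGroup.coe_transpose, coe_tv u φ h, coe_tv φ u h']
  unfold tmat
  rw [Matrix.transpose_add, Matrix.transpose_one, Matrix.transpose_vecMulVec]

theorem mitau_map_Rphi (φ : Fin n → F) {s : SLn n F} (hs : s ∈ Rphi φ) : mitau_tau s ∈ Qv φ := by
  have hle : Rphi φ ≤ (Qv φ).comap (mitau_tau (F := F) (n := n)).toMonoidHom := by
    unfold Rphi
    rw [Subgroup.closure_le]
    rintro s ⟨u, hu, rfl⟩
    show mitau_tau (tv u φ) ∈ Qv φ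
    rw [mitau_tau_apply, mitau_transpose_tv u φ hu]
    apply Subgroup.inv_mem
    apply Subgroup.subset_closure
    exact ⟨u, by rw [dotProduct_comm]; exact hu, rfl⟩
  exact hle hs

theorem mitau_mem_cj (H : Subgroup (SLn n F)) (g x : SLn n F) :
    mitau_tau x ∈ cj (mitau_tau g) (H.map (mitau_tau (F := F) (n := n)).toMonoidHom) ↔ x ∈ cj g H := by
  rw [mem_cj, mem_cj, ← map_inv, ← map_mul, ← map_mul]
  exact Subgroup.mem_map_iff_mem (mitau_tau (F := F) (n := n)).injective

/-- MI-TAU: the inverse-transpose automorphism swaps the two kinds of transvection groups. -/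
theorem exists_tau [Finite F] : ∃ τ : SLn n F ≃* SLn n F,
    ∀ (H : Subgroup (SLn n F)) (φ : Fin n → F), CaseI (H.map τ.toMonoidHom) φ → CaseI' H φ := by
  refine ⟨mitau_tau, fun H φ hI g t ht ht1 htg => ?_⟩
  have h1 : Qv φ ≤ cj (mitau_tau g) (H.map (mitau_tau (F := F) (n := n)).toMonoidHom) := by
    refine hI.1 (mitau_tau g) (mitau_tau t) (mitau_map_Rphi φ ht) ?_ ((mitau_mem_cj H g t).mpr htg)
    intro h
    exact ht1 ((mitau_tau (F := F) (n := n)).injective (h.trans (map_one _).symm))
  intro s hs
  exact (mitau_mem_cj H g s).mp (h1 (mitau_map_Rphi φ hs))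

end concrete

end Cfsg.Agent.Lib.Helper81.Mi
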