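import Mathlib
import Cfsg.Agent.Lib.Helper46.OmDefs
import Cfsg.Agent.Lib.Helper79.TsSplit

/-! # OM-UE1 core (helper24, Om hive of helper46, S5991): forced discriminant of an invariant
nondegenerate subspace of Jordan type `(1, 2^a)`; the OM-DISC statements are hypotheses of `ue1_core`. -/

set_option autoImplicit false

namespace Cfsg.Agent.Lib.Helper46.Om

open Module
open Cfsg.Agent.Lib.Helper2.BG Cfsg.Agent.Lib.Helper99 Cfsg.Agent.Lib.Helper48.Ti
open Cfsg.Agent.Lib.Helper5.Hy (Plus Orth Fix)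
open Cfsg.Agent.Lib.Helper81.On (SameType Fixes)

section abstract

variable {F V : Type*} [Field F] [AddCommGroup V] [Module F V]
variable {B : V →ₗ[F] V →ₗ[F] F}

theorem ue1_mem_fix {f : Module.End F V} {w : V} : w ∈ Fix f ↔ f w = w := by
  rw [LinearMap.mem_ker, LinearMap.sub_apply, Module.End.one_apply, sub_eq_zero]

theorem ue1_sub_one_apply (f : Module.End F V) (v : V) : (f - 1) v = f v - v := by
  rw [LinearMap.sub_apply, Module.End.one_apply]

/-- the fixed space of an isometry is orthogonal to the range of `f - 1` -/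
theorem ue1_orth_range {f : Module.End F V} (hf : Isom B f) {u : V} (hu : u ∈ Fix f) (v : V) :
    B u ((f - 1) v) = 0 := by
  have hfu : f u = u := ue1_mem_fix.1 hu
  rw [ue1_sub_one_apply, map_sub]
  have := hf u v
  rw [hfu] at this
  rw [this, sub_self]

/-- the projection to the orthogonal complement of an anisotropic vector -/
theorem ue1_proj_mem {T : Submodule F V} {t : V} (ht : t ∈ T) (htt : B t t ≠ 0) {z : V}
    (hz : z ∈ T) : z - (B t z / B t t) • t ∈ T ⊓ LinearMap.ker (B t) := by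
  refine Submodule.mem_inf.2 ⟨T.sub_mem hz (T.smul_mem _ ht), ?_⟩
  rw [LinearMap.mem_ker, map_sub, map_smul, smul_eq_mul, div_mul_cancel₀ _ htt, sub_self]

theorem ue1_span_inf_eq_bot {t : V} (htt : B t t ≠ 0) (T : Submodule F V) :
    Submodule.span F {t} ⊓ (T ⊓ LinearMap.ker (B t)) = ⊥ := by
  rw [eq_bot_iff]
  intro x hx
  obtain ⟨hx1, hx2⟩ := Submodule.mem_inf.1 hx
  obtain ⟨k, rfl⟩ := Submodule.mem_span_singleton.1 hx1
  have hk := (Submodule.mem_inf.1 hx2).2
  rw [LinearMap.mem_ker, map_smul, smul_eq_mul] at hk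
  have hk0 : k = 0 := by
    rcases mul_eq_zero.1 hk with h | h
    · exact h
    · exact absurd h htt
  rw [hk0, zero_smul]
  exact Submodule.zero_mem _

theorem ue1_span_sup_eq {T : Submodule F V} {t : V} (ht : t ∈ T) (htt : B t t ≠ 0) :
    Submodule.span F {t} ⊔ (T ⊓ LinearMap.ker (B t)) = T := by
  apply le_antisymm
  · refine sup_le ?_ inf_le_left
    rw [Submodule.span_le]
    intro x hx
    rw [Set.mem_singleton_iff] at hx
    rw [hx]
    exact ht
  · intro z hz
    have h1 : z = (B t z / B t t) • t + (z - (B t z / B t t) • t) := by abel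
    rw [h1]
    exact Submodule.add_mem_sup (Submodule.smul_mem _ _ (Submodule.mem_span_singleton_self t))
      (ue1_proj_mem ht htt hz)

theorem ue1_finrank_perp [FiniteDimensional F V] {T : Submodule F V} {t : V} (ht : t ∈ T)
    (htt : B t t ≠ 0) : finrank F ↥(T ⊓ LinearMap.ker (B t)) + 1 = finrank F T := by
  have ht0 : t ≠ 0 := by
    rintro rfl
    simp at htt
  have h1 := Submodule.finrank_sup_add_finrank_inf_eq (Submodule.span F {t})
    (T ⊓ LinearMap.ker (B t))
  rw [ue1_span_inf_eq_bot htt T, ue1_span_sup_eq ht htt, finrank_bot,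
    finrank_span_singleton ht0] at h1
  omega

/-- nondegeneracy of the orthogonal complement of an anisotropic vector -/
theorem ue1_nd_perp (hs : ∀ u v, B u v = B v u) {T : Submodule F V} (hT : Nd B T) {t : V}
    (ht : t ∈ T) (htt : B t t ≠ 0) : Nd B (T ⊓ LinearMap.ker (B t)) := by
  intro w hw hw0
  obtain ⟨hwT, hwk⟩ := Submodule.mem_inf.1 hw
  rw [LinearMap.mem_ker] at hwk
  apply hT w hwT
  intro z hz
  have h1 := hw0 _ (ue1_proj_mem ht htt hz)
  rw [map_sub, map_smul, smul_eq_mul, hs w t, hwk, mul_zero, sub_zero] at h1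
  exact h1

/-- a subspace of more than half the dimension of a nondegenerate space contains an anisotropic
vector -/
theorem ue1_exists_aniso [FiniteDimensional F V] (h2 : (2 : F) ≠ 0) (hs : ∀ u v, B u v = B v u)
    {W K : Submodule F V} (hW : Nd B W) (hKW : K ≤ W) (hlt : finrank F W < 2 * finrank F K) :
    ∃ w ∈ K, B w w ≠ 0 := by
  by_contra hcon
  push Not at hcon
  have hTI : TI B K := by
    intro u hu v hv
    have h1 := hcon (u + v) (K.add_mem hu hv)
    simp only [map_add, LinearMap.add_apply] at h1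
    rw [hcon u hu, hcon v hv, hs v u] at h1
    have h3 : (2 : F) * B u v = 0 := by linear_combination h1
    rcases mul_eq_zero.1 h3 with h | h
    · exact absurd h h2
    · exact h
  have := Cfsg.Agent.Lib.Helper79.TsSwap.ti_bound_refl (B := B)
    (fun u v h => by rw [hs v u]; exact h) hW hKW hTI
  omega

variable [FiniteDimensional F V]

/-- OM-UE1 with the OM-DISC statements as hypotheses -/
theorem ue1_core
    (hdisc_exists : ∀ W : Submodule F V, ∃ δ, Disc B W δ)
    (hdisc_unique : ∀ {W : Submodule F V} {δ δ' : F}, Disc B W δ → Disc B W δ' →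
      ∃ s : F, s ≠ 0 ∧ δ' = s ^ 2 * δ)
    (hdisc_sup : ∀ {W₀ W₁ : Submodule F V}, Orth B W₀ W₁ → W₀ ⊓ W₁ = ⊥ → ∀ {δ₀ δ₁ : F},
      Disc B W₀ δ₀ → Disc B W₁ δ₁ → Disc B (W₀ ⊔ W₁) (δ₀ * δ₁))
    (hdisc_span : ∀ {v : V}, v ≠ 0 → Disc B (Submodule.span F {v}) (B v v))
    (hdisc_plus : ∀ {W : Submodule F V}, Nd B W → ∀ (e : ℕ), finrank F W = 2 * e → ∀ {δ : F},
      Disc B W δ → (Plus B W ↔ IsSquare (δ * (-1) ^ e)))
    (h2 : (2 : F) ≠ 0) (hs : ∀ u v, B u v = B v u) {f : Module.End F V}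
    (hf : Isom B f) {W : Submodule F V} (hWi : Inv f W) (hW : Nd B W)
    (hsq : ∀ w ∈ W, (f - 1) ((f - 1) w) = 0)
    (hker : 2 * finrank F ↥(W ⊓ Fix f) = finrank F W + 1)
    (δ : F) (hδ : ∀ w ∈ Fix f, B w w ≠ 0 → IsSquare (B w w * δ))
    {ε : F} (hε : Disc B W ε) : IsSquare (ε * δ * (-1) ^ ((finrank F W - 1) / 2)) := by
  -- an anisotropic fixed vector in `W`
  obtain ⟨w', hw'K, hc⟩ := ue1_exists_aniso h2 hs hW (inf_le_left : W ⊓ Fix f ≤ W) (by omega)
  obtain ⟨hw'W, hw'F⟩ := Submodule.mem_inf.1 hw'K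
  have hfw' : f w' = w' := ue1_mem_fix.1 hw'F
  have hw'0 : w' ≠ 0 := by
    rintro rfl
    simp at hc
  set W'' : Submodule F V := W ⊓ LinearMap.ker (B w') with hW''
  -- `W''` is invariant
  have hW''i : Inv f W'' := by
    intro v hv
    obtain ⟨hvW, hvk⟩ := Submodule.mem_inf.1 hv
    refine Submodule.mem_inf.2 ⟨hWi v hvW, ?_⟩
    rw [LinearMap.mem_ker] at hvk ⊢
    have := hf w' v
    rw [hfw'] at this
    rw [this, hvk]
  have hW''nd : Nd B W'' := ue1_nd_perp hs hW hw'W hc
  have hdimW'' : finrank F ↥W'' + 1 = finrank F W := ue1_finrank_perp hw'W hc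
  -- the fixed part
  set U : Submodule F V := W'' ⊓ Fix f with hU
  have hUeq : (W ⊓ Fix f) ⊓ LinearMap.ker (B w') = U := by
    rw [hU, hW'']
    ext x
    simp only [Submodule.mem_inf]
    tauto
  have hdimU : finrank F ↥U + 1 = finrank F ↥(W ⊓ Fix f) := by
    rw [← hUeq]
    exact ue1_finrank_perp hw'K hc
  -- the range of `f - 1` on `W''`
  set g : ↥W'' →ₗ[F] V := (f - 1).domRestrict W'' with hg
  have hrange_le : LinearMap.range g ≤ U := by
    rintro _ ⟨v, rfl⟩
    have hvW'' : (v : V) ∈ W'' := v.2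
    have hvW : (v : V) ∈ W := (Submodule.mem_inf.1 hvW'').1
    refine Submodule.mem_inf.2 ⟨?_, ?_⟩
    · show (f - 1) (v : V) ∈ W''
      rw [ue1_sub_one_apply]
      exact W''.sub_mem (hW''i _ hvW'') hvW''
    · show (f - 1) (v : V) ∈ Fix f
      rw [LinearMap.mem_ker]
      exact hsq _ hvW
  have hkermap : (LinearMap.ker g).map W''.subtype = U := by
    ext x
    constructor
    · rintro ⟨v, hv, rfl⟩
      rw [SetLike.mem_coe, LinearMap.mem_ker] at hv
      refine Submodule.mem_inf.2 ⟨v.2, ?_⟩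
      rw [LinearMap.mem_ker]
      exact hv
    · intro hx
      obtain ⟨hx1, hx2⟩ := Submodule.mem_inf.1 hx
      refine ⟨⟨x, hx1⟩, ?_, rfl⟩
      rw [SetLike.mem_coe, LinearMap.mem_ker]
      rw [LinearMap.mem_ker] at hx2
      exact hx2
  have hdimker : finrank F ↥(LinearMap.ker g) = finrank F ↥U := by
    rw [← hkermap, Submodule.finrank_map_subtype_eq]
  have hrn := LinearMap.finrank_range_add_finrank_ker g
  have hrange_eq : LinearMap.range g = U := by
    apply Submodule.eq_of_le_of_finrank_le hrange_le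
    omega
  -- `U` is totally isotropic
  have hUTI : TI B U := by
    intro u hu v hv
    have hvr : v ∈ LinearMap.range g := by rw [hrange_eq]; exact hv
    obtain ⟨x, rfl⟩ := hvr
    exact ue1_orth_range hf (Submodule.mem_inf.1 hu).2 (x : V)
  -- `W''` is of plus type
  set a : ℕ := (finrank F W - 1) / 2 with ha
  have hdimW''a : finrank F ↥W'' = 2 * a := by omega
  have hplus : Plus B W'' := ⟨U, inf_le_left, hUTI, by omega⟩
  obtain ⟨ε'', hε''⟩ := hdisc_exists W''
  have hsq1 : IsSquare (ε'' * (-1) ^ a) := (hdisc_plus hW''nd a hdimW''a hε'').1 hplus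
  -- the discriminant of `W`
  have horth : Orth B (Submodule.span F {w'}) W'' := by
    intro x hx v hv
    obtain ⟨k, rfl⟩ := Submodule.mem_span_singleton.1 hx
    have hvk := (Submodule.mem_inf.1 hv).2
    rw [LinearMap.mem_ker] at hvk
    rw [map_smul, LinearMap.smul_apply, hvk, smul_zero]
  have hdW : Disc B W (B w' w' * ε'') := by
    have := hdisc_sup horth (ue1_span_inf_eq_bot hc W) (hdisc_span hw'0) hε''
    rw [ue1_span_sup_eq hw'W hc] at this
    exact this
  obtain ⟨s, _, hs2⟩ := hdisc_unique hdW hε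
  obtain ⟨x, hx⟩ := hδ w' hw'F hc
  obtain ⟨y, hy⟩ := hsq1
  refine ⟨s * x * y, ?_⟩
  have e1 : ε * δ * (-1) ^ a = s ^ 2 * (B w' w' * δ) * (ε'' * (-1) ^ a) := by
    rw [hs2]; ring
  rw [e1, hx, hy]
  ring

end abstract

end Cfsg.Agent.Lib.Helper46.Om
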