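import Mathlib
import Cfsg.Agent.Lib.Helper46.OmDefs
import Cfsg.Agent.Lib.Helper33.OmDISC
import Cfsg.Agent.Lib.Helper24.OmUE1core

/-! # OM-UE1 `unip_forced_disc` (helper24, Om hive of helper46, S5991) -/

set_option autoImplicit false

namespace Cfsg.Agent.Lib.Helper46.Om

open Module
open Cfsg.Agent.Lib.Helper2.BG Cfsg.Agent.Lib.Helper99 Cfsg.Agent.Lib.Helper48.Ti
open Cfsg.Agent.Lib.Helper5.Hy (Plus Orth Fix)
open Cfsg.Agent.Lib.Helper81.On (SameType Fixes)

section abstract

variable {F V : Type*} [Field F] [Fintype F] [AddCommGroup V] [Module F V] [FiniteDimensional F V]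
variable {B : V →ₗ[F] V →ₗ[F] F}

/-- OM-UE1: forced discriminant of an invariant nondegenerate subspace `W` of odd dimension `2a+1` on which
`N = f - 1` squares to zero with `dim (W ∩ ker N) = a + 1` (Jordan type `(1, 2^a)`), when the form on `ker N`
has rank one (`hδ`). -/
theorem unip_forced_disc (h2 : (2 : F) ≠ 0) (hs : ∀ u v, B u v = B v u) {f : Module.End F V}
    (hf : Isom B f) {W : Submodule F V} (hWi : Inv f W) (hW : Nd B W)
    (hsq : ∀ w ∈ W, (f - 1) ((f - 1) w) = 0)
    (hker : 2 * finrank F ↥(W ⊓ Fix f) = finrank F W + 1)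
    (δ : F) (hδ : ∀ w ∈ Fix f, B w w ≠ 0 → IsSquare (B w w * δ))
    {ε : F} (hε : Disc B W ε) : IsSquare (ε * δ * (-1) ^ ((finrank F W - 1) / 2)) :=
  ue1_core (fun W => disc_exists W) (fun h h' => disc_unique h h')
    (fun ho hd _ _ h0 h1 => disc_sup hs ho hd h0 h1) (fun hv => disc_span hv)
    (fun hW e he _ h => disc_plus h2 hs hW e he h) h2 hs hf hWi hW hsq hker δ hδ hε

end abstract

end Cfsg.Agent.Lib.Helper46.Om
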