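import Mathlib

/-! Rc hive (S2357, owner helper52), leaf RC-CNT: counting the elements of order `i` of `G` through
a cyclic subgroup `A` that is "TI up to `N(A)`": `N_i * |N(A)| = φ(i) * |G|`. -/

set_option autoImplicit false

namespace Cfsg.Agent.Lib.Helper52.Rc

theorem rccnt_orderOf_conj {G : Type*} [Group G] (g x : G) : orderOf (g * x * g⁻¹) = orderOf x := by
  rw [← MulAut.conj_apply, MulEquiv.orderOf_eq]

/-- the number of elements of order `i` of a cyclic subgroup `A`, `i ∣ |A|` -/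
theorem rccnt_card_Ai {G : Type*} [Group G] [Finite G] (A : Subgroup G) (hA : IsCyclic A) (i : ℕ)
    (hi : i ∣ Nat.card A) : Nat.card {a : G // a ∈ A ∧ orderOf a = i} = Nat.totient i := by
  classical
  have : Fintype A := Fintype.ofFinite A
  have h := IsCyclic.card_orderOf_eq_totient (α := A) (d := i) (by rwa [← Nat.card_eq_fintype_card])
  rw [← h, ← Fintype.card_subtype, ← Nat.card_eq_fintype_card]
  exact Nat.card_congr
    ⟨fun a => ⟨⟨a.1, a.2.1⟩, by rw [← Subgroup.orderOf_coe]; exact a.2.2⟩,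
      fun a => ⟨a.1.1, a.1.2, by rw [Subgroup.orderOf_coe]; exact a.2⟩, fun _ => rfl, fun _ => rfl⟩

/-- RC-CNT. -/
theorem card_orderOf_mul_card_normalizer {G : Type*} [Group G] [Finite G] (A : Subgroup G) (hA : IsCyclic A)
    (i : ℕ) (hi : i ∣ Nat.card A)
    (hconj : ∀ x : G, orderOf x = i → ∃ g : G, g * x * g⁻¹ ∈ A)
    (hti : ∀ g x : G, x ∈ A → orderOf x = i → g * x * g⁻¹ ∈ A → g ∈ Subgroup.normalizer (A : Set G)) :
    Nat.card {x : G // orderOf x = i} * Nat.card ↥(Subgroup.normalizer (A : Set G)) = Nat.totient i * Nat.card G := by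
  classical
  choose! γ hγ using hconj
  rw [← rccnt_card_Ai A hA i hi, ← Nat.card_prod, ← Nat.card_prod]
  refine Nat.card_congr ?_
  refine
    { toFun := fun p =>
        (⟨p.2.1 * (γ p.1.1 * p.1.1 * (γ p.1.1)⁻¹) * p.2.1⁻¹,
          (Subgroup.mem_normalizer_iff.mp p.2.2 _).mp (hγ p.1.1 p.1.2),
          by rw [rccnt_orderOf_conj, rccnt_orderOf_conj]; exact p.1.2⟩,
          (γ p.1.1)⁻¹ * p.2.1⁻¹)
      invFun := fun q =>
        (⟨q.2 * q.1.1 * q.2⁻¹, by rw [rccnt_orderOf_conj]; exact q.1.2.2⟩,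
          ⟨q.2⁻¹ * (γ (q.2 * q.1.1 * q.2⁻¹))⁻¹, by
            have ho : orderOf (q.2 * q.1.1 * q.2⁻¹) = i := by rw [rccnt_orderOf_conj]; exact q.1.2.2
            refine hti _ _ (hγ _ ho) (by rw [rccnt_orderOf_conj]; exact ho) ?_
            have : q.2⁻¹ * (γ (q.2 * q.1.1 * q.2⁻¹))⁻¹ *
                (γ (q.2 * q.1.1 * q.2⁻¹) * (q.2 * q.1.1 * q.2⁻¹) * (γ (q.2 * q.1.1 * q.2⁻¹))⁻¹) *
                (q.2⁻¹ * (γ (q.2 * q.1.1 * q.2⁻¹))⁻¹)⁻¹ = q.1.1 := by group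
            rw [this]
            exact q.1.2.1⟩)
      left_inv := ?_
      right_inv := ?_ }
  · rintro ⟨⟨x, hx⟩, ⟨n, hn⟩⟩
    have hx' : (γ x)⁻¹ * n⁻¹ * (n * (γ x * x * (γ x)⁻¹) * n⁻¹) * ((γ x)⁻¹ * n⁻¹)⁻¹ = x := by group
    refine Prod.ext (Subtype.ext hx') (Subtype.ext ?_)
    have key : ∀ y : G, y = x → ((γ x)⁻¹ * n⁻¹)⁻¹ * (γ y)⁻¹ = n := by
      rintro y rfl
      group
    exact key _ hx'
  · rintro ⟨⟨a, ha, hai⟩, g⟩
    refine Prod.ext (Subtype.ext ?_) ?_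
    · show g⁻¹ * (γ (g * a * g⁻¹))⁻¹ * (γ (g * a * g⁻¹) * (g * a * g⁻¹) * (γ (g * a * g⁻¹))⁻¹) *
        (g⁻¹ * (γ (g * a * g⁻¹))⁻¹)⁻¹ = a
      group
    · show (γ (g * a * g⁻¹))⁻¹ * (g⁻¹ * (γ (g * a * g⁻¹))⁻¹)⁻¹ = g
      group

end Cfsg.Agent.Lib.Helper52.Rc
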