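import Mathlib

/-! Rc hive (S2357, owner helper52), leaf RC-TIN: a normal Hall subgroup `A` of `N(A)` all of whose
non-trivial subgroups have the same normaliser is "TI up to `N(A)`". -/

set_option autoImplicit false

namespace Cfsg.Agent.Lib.Helper52.Rc

/-- `h ∈ ⟨g x g⁻¹⟩ ↔ g⁻¹ h g ∈ ⟨x⟩` -/
theorem rctin_mem_zpowers_conj {G : Type*} [Group G] (g x h : G) :
    h ∈ Subgroup.zpowers (g * x * g⁻¹) ↔ g⁻¹ * h * g ∈ Subgroup.zpowers x := by
  rw [Subgroup.mem_zpowers_iff, Subgroup.mem_zpowers_iff]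
  constructor
  · rintro ⟨k, rfl⟩
    refine ⟨k, ?_⟩
    rw [conj_zpow]
    group
  · rintro ⟨k, hk⟩
    refine ⟨k, ?_⟩
    rw [conj_zpow, hk]
    group

/-- in a group `N` with a normal subgroup `B` of order `k` and index `c` prime to `k`, every element
with `y ^ k = 1` lies in `B` -/
theorem rctin_mem_of_pow_eq_one {N : Type*} [Group N] [Finite N] (B : Subgroup N) [B.Normal] (k c : ℕ)
    (hB : Nat.card B = k) (hN : Nat.card N = c * k) (hck : Nat.Coprime c k) (y : N) (hy : y ^ k = 1) :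
    y ∈ B := by
  have hkpos : 0 < k := by rw [← hB]; exact Nat.card_pos
  have hq : Nat.card (N ⧸ B) = c := by
    have h := Subgroup.card_eq_card_quotient_mul_card_subgroup B
    rw [hB, hN] at h
    exact (Nat.eq_of_mul_eq_mul_right hkpos h).symm
  have h1 : (QuotientGroup.mk y : N ⧸ B) ^ k = 1 := by
    rw [← QuotientGroup.mk_pow, hy, QuotientGroup.mk_one]
  have h2 : (QuotientGroup.mk y : N ⧸ B) ^ c = 1 := by
    rw [← hq]
    exact pow_card_eq_one'
  have h3 : orderOf (QuotientGroup.mk y : N ⧸ B) ∣ Nat.gcd c k :=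
    Nat.dvd_gcd (orderOf_dvd_of_pow_eq_one h2) (orderOf_dvd_of_pow_eq_one h1)
  rw [hck.gcd_eq_one, Nat.dvd_one, orderOf_eq_one_iff] at h3
  exact (QuotientGroup.eq_one_iff y).mp h3

/-- RC-TIN. -/
theorem mem_normalizer_of_conj_mem {G : Type*} [Group G] [Finite G] (A : Subgroup G) (k c : ℕ)
    (hk : Nat.card A = k) (hN : Nat.card ↥(Subgroup.normalizer (A : Set G)) = c * k) (hck : Nat.Coprime c k)
    (hnorm : ∀ A₀ : Subgroup G, A₀ ≤ A → A₀ ≠ ⊥ →
      Subgroup.normalizer (A₀ : Set G) = Subgroup.normalizer (A : Set G))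
    (g x : G) (hx : x ∈ A) (hx1 : x ≠ 1) (hgx : g * x * g⁻¹ ∈ A) : g ∈ Subgroup.normalizer (A : Set G) := by
  -- step 1: conjugation by `g` maps `N(A)` into itself
  have h1 : ∀ n ∈ Subgroup.normalizer (A : Set G), g * n * g⁻¹ ∈ Subgroup.normalizer (A : Set G) := by
    intro n hn
    have hA0 : Subgroup.zpowers x ≤ A := by rw [Subgroup.zpowers_le]; exact hx
    have hA0ne : Subgroup.zpowers x ≠ ⊥ := by rw [Ne, Subgroup.zpowers_eq_bot]; exact hx1
    have hA1 : Subgroup.zpowers (g * x * g⁻¹) ≤ A := by rw [Subgroup.zpowers_le]; exact hgx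
    have hA1ne : Subgroup.zpowers (g * x * g⁻¹) ≠ ⊥ := by
      rw [Ne, Subgroup.zpowers_eq_bot]
      intro h
      apply hx1
      have : x = g⁻¹ * (g * x * g⁻¹) * g := by group
      rw [this, h]
      group
    have e0 := hnorm _ hA0 hA0ne
    have e1 := hnorm _ hA1 hA1ne
    rw [← e1]
    rw [← e0] at hn
    rw [Subgroup.mem_normalizer_iff] at hn ⊢
    intro h
    rw [rctin_mem_zpowers_conj, rctin_mem_zpowers_conj, hn (g⁻¹ * h * g)]
    have : g⁻¹ * (g * n * g⁻¹ * h * (g * n * g⁻¹)⁻¹) * g = n * (g⁻¹ * h * g) * n⁻¹ := by group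
    rw [this]
  -- step 2: elements of `N(A)` of exponent `k` lie in `A`
  have h2 : ∀ y ∈ Subgroup.normalizer (A : Set G), y ^ k = 1 → y ∈ A := by
    intro y hy hyk
    have hB : Nat.card (A.subgroupOf (Subgroup.normalizer (A : Set G))) = k := by
      rw [← hk]
      exact Nat.card_congr (Subgroup.subgroupOfEquivOfLe Subgroup.le_normalizer).toEquiv
    have := rctin_mem_of_pow_eq_one (A.subgroupOf (Subgroup.normalizer (A : Set G))) k c hB hN hck
      ⟨y, hy⟩ (Subtype.ext (by simpa using hyk))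
    simpa [Subgroup.mem_subgroupOf] using this
  -- step 3
  have : Finite (A : Set G) := Subtype.finite
  apply Subgroup.mem_normalizer_fintype
  intro a ha
  apply h2 _ (h1 a (Subgroup.le_normalizer ha))
  rw [conj_pow]
  have : a ^ k = 1 := by
    have h := pow_card_eq_one' (G := A) (x := ⟨a, ha⟩)
    rw [hk] at h
    simpa using congrArg Subtype.val h
  rw [this]
  group

end Cfsg.Agent.Lib.Helper52.Rc
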