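import Cfsg.Agent.Lib.Helper38.RhDefsB

/-! Rh hive (helper38), part B, leaf RH-C1C: conjugates of `(q+1)`-tori are `(q+1)`-tori. -/

set_option autoImplicit false

namespace Cfsg.Agent.Lib.Helper38.Rh

open Cfsg.Agent.Lib.Helper12.Rt

theorem c1c_map_centralizer {G : Type*} [Group G] (g y : G) :
    (Subgroup.centralizer ({y} : Set G)).map (MulAut.conj g).toMonoidHom =
      Subgroup.centralizer ({g * y * g⁻¹} : Set G) := by
  ext x
  simp only [Subgroup.mem_map, Subgroup.mem_centralizer_singleton_iff, MulEquiv.coe_toMonoidHom,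
    MulAut.conj_apply]
  constructor
  · rintro ⟨z, hz, rfl⟩
    calc g * z * g⁻¹ * (g * y * g⁻¹) = g * (z * y) * g⁻¹ := by group
      _ = g * (y * z) * g⁻¹ := by rw [hz]
      _ = g * y * g⁻¹ * (g * z * g⁻¹) := by group
  · intro hx
    refine ⟨g⁻¹ * x * g, ?_, by group⟩
    calc g⁻¹ * x * g * y = g⁻¹ * (x * (g * y * g⁻¹)) * g := by group
      _ = g⁻¹ * (g * y * g⁻¹ * x) * g := by rw [hx]
      _ = y * (g⁻¹ * x * g) := by group

theorem c1c_orderOf_conj {G : Type*} [Group G] (g x : G) : orderOf (g * x * g⁻¹) = orderOf x := by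
  rw [← MulAut.conj_apply, MulEquiv.orderOf_eq]

section partB
variable {K : Type*} [Field K] [Fintype K] {G : Type*} [Group G] {m : ℕ} (D : RtData K G m)

include D

/-- RH-C1C.  Conjugates of `(q+1)`-tori are `(q+1)`-tori. -/
theorem c1_map_conj {C : Subgroup G} (hC : IsC1 m C) (g : G) : IsC1 m (C.map (MulAut.conj g).toMonoidHom) := by
  obtain ⟨y, ℓ, hℓ, hℓ2, hd, hy, rfl⟩ := hC
  exact ⟨g * y * g⁻¹, ℓ, hℓ, hℓ2, hd, by rw [c1c_orderOf_conj, hy], c1c_map_centralizer g y⟩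

end partB

end Cfsg.Agent.Lib.Helper38.Rh
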