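import Cfsg.Agent.Lib.Helper38.RhDefsB

/-! Rh hive (helper38), part B, leaf RH-C1EX: there is a `(q+1)`-torus. -/

set_option autoImplicit false

namespace Cfsg.Agent.Lib.Helper38.Rh

open Cfsg.Agent.Lib.Helper12.Rt

/-- `q + 1` has an odd prime divisor (`q = 3^(2m+1)`, `m ≥ 1`) -/
theorem c1ex_odd_prime (m : ℕ) (hm : 1 ≤ m) : ∃ ℓ : ℕ, ℓ.Prime ∧ ℓ ≠ 2 ∧ ℓ ∣ qq m + 1 := by
  have h8 : qq m % 8 = 3 := q_mod8 m
  have hq27 : 27 ≤ qq m := by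
    unfold qq
    calc 27 = 3 ^ 3 := by norm_num
      _ ≤ 3 ^ (2 * m + 1) := Nat.pow_le_pow_right (by norm_num) (by omega)
  obtain ⟨t, ht⟩ : ∃ t, qq m + 1 = 4 * (2 * t + 1) := ⟨qq m / 8, by omega⟩
  have ht1 : 2 * t + 1 ≠ 1 := by omega
  refine ⟨(2 * t + 1).minFac, Nat.minFac_prime ht1, ?_, ?_⟩
  · intro h2
    have hd := Nat.minFac_dvd (2 * t + 1)
    rw [h2] at hd
    omega
  · rw [ht]
    exact Dvd.dvd.mul_left (Nat.minFac_dvd _) 4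

section partB
variable {K : Type*} [Field K] [Fintype K] {G : Type*} [Group G] {m : ℕ} (D : RtData K G m)

include D

/-- RH-C1EX.  There is a `(q+1)`-torus.  (RH-AR7 + Cauchy, `D.card_G`.) -/
theorem exists_C1 (hm : 1 ≤ m) : ∃ C : Subgroup G, IsC1 m C := by
  obtain ⟨ℓ, hℓ, hℓ2, hd⟩ := c1ex_odd_prime m hm
  have := D.finite
  have : Fact ℓ.Prime := ⟨hℓ⟩
  have hdvd : ℓ ∣ Nat.card G := by
    rw [D.card_G]
    have h1 : qq m + 1 ∣ (3 ^ (2 * m + 1)) ^ 3 + 1 := by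
      refine ⟨(3 ^ (2 * m + 1)) ^ 2 - 3 ^ (2 * m + 1) + 1, ?_⟩
      unfold qq
      have hpos : 1 ≤ 3 ^ (2 * m + 1) := Nat.one_le_pow _ _ (by norm_num)
      generalize 3 ^ (2 * m + 1) = q at hpos ⊢
      obtain ⟨k, rfl⟩ : ∃ k, q = k + 1 := ⟨q - 1, by omega⟩
      have : (k + 1) ^ 2 - (k + 1) = k ^ 2 + k := by
        have : (k + 1) ^ 2 = k ^ 2 + k + (k + 1) := by ring
        omega
      rw [this]
      ring
    exact Dvd.dvd.mul_left (hd.trans h1) _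
  obtain ⟨y, hy⟩ := exists_prime_orderOf_dvd_card' ℓ hdvd
  exact ⟨Subgroup.centralizer ({y} : Set G), y, ℓ, hℓ, hℓ2, hd, hy, rfl⟩

end partB

end Cfsg.Agent.Lib.Helper38.Rh
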