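import Cfsg.Agent.Lib.Helper4.RuDefs

/-! # Ru hive (helper4, S1628), leaf RU-C0 (backup, helper24): the binary code of length 28, dimension 9 -/

set_option autoImplicit false
set_option maxRecDepth 100000
set_option synthInstance.maxSize 100000
set_option synthInstance.maxHeartbeats 0
set_option maxHeartbeats 0

namespace Cfsg.Agent.Lib.Helper4.Ru

open Cfsg.Spor

theorem c0b_pos_inj {p q : RuIdx} (h : pos p = pos q) : p = q := by
  obtain ⟨⟨a, ha⟩, ⟨b, hb⟩⟩ := p
  obtain ⟨⟨c, hc⟩, ⟨d, hd⟩⟩ := q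
  simp only [pos] at h
  have h1 : a = c := by omega
  have h2 : b = d := by omega
  subst h1; subst h2; rfl

theorem c0b_pos_lt (p : RuIdx) : pos p < 28 := by
  obtain ⟨⟨a, ha⟩, ⟨b, hb⟩⟩ := p
  simp only [pos]
  omega

/-- membership bit of position `k` -/
def c0b_bit (S : Finset RuIdx) (k : ℕ) : Bool := decide (∃ p ∈ S, pos p = k)

theorem c0b_bit_pos (S : Finset RuIdx) (p : RuIdx) : c0b_bit S (pos p) = true ↔ p ∈ S := by
  unfold c0b_bit
  rw [decide_eq_true_iff]
  constructor
  · rintro ⟨q, hq, hqp⟩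
    rw [← c0b_pos_inj hqp]; exact hq
  · intro hp; exact ⟨p, hp, rfl⟩

theorem c0b_card_single (S : Finset RuIdx) (k : ℕ) :
    (S.filter (fun p => pos p = k)).card = if c0b_bit S k then 1 else 0 := by
  by_cases hb : c0b_bit S k = true
  · rw [if_pos hb]
    unfold c0b_bit at hb
    rw [decide_eq_true_iff] at hb
    obtain ⟨q, hq, hqk⟩ := hb
    rw [Finset.card_eq_one]
    refine ⟨q, ?_⟩
    ext p
    simp only [Finset.mem_filter, Finset.mem_singleton]
    constructor
    · rintro ⟨_, hp⟩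
      exact c0b_pos_inj (hp.trans hqk.symm)
    · rintro rfl
      exact ⟨hq, hqk⟩
  · rw [if_neg hb]
    rw [Finset.card_eq_zero, Finset.filter_eq_empty_iff]
    intro p hp hpk
    apply hb
    unfold c0b_bit
    rw [decide_eq_true_iff]
    exact ⟨p, hp, hpk⟩

theorem c0b_card_inter (S : Finset RuIdx) : ∀ l : List ℕ, l.Nodup →
    (S ∩ posSet l).card = l.countP (c0b_bit S) := by
  intro l
  induction l with
  | nil =>
    intro _
    simp [posSet]
  | cons k l ih =>
    intro hnd
    rw [List.nodup_cons] at hnd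
    obtain ⟨hk, hnd'⟩ := hnd
    have e : S ∩ posSet (k :: l) = S.filter (fun p => pos p = k) ∪ (S ∩ posSet l) := by
      ext p
      simp only [posSet, Finset.mem_inter, Finset.mem_filter, Finset.mem_univ, true_and,
        List.mem_cons, Finset.mem_union]
      tauto
    have hdisj : Disjoint (S.filter (fun p => pos p = k)) (S ∩ posSet l) := by
      rw [Finset.disjoint_left]
      intro p hp1 hp2
      simp only [posSet, Finset.mem_inter, Finset.mem_filter, Finset.mem_univ, true_and] at hp1 hp2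
      exact hk (hp1.2 ▸ hp2.2)
    rw [e, Finset.card_union_of_disjoint hdisj, c0b_card_single, ih hnd', List.countP_cons]
    omega

theorem c0b_countP_eq (b : ℕ → Bool) (l : List ℕ) : l.countP b = (l.map b).count true := by
  rw [List.count_eq_countP, List.countP_map]
  congr 1
  funext k
  simp

theorem c0b_card (S : Finset RuIdx) : S.card = ((List.range 28).map (c0b_bit S)).count true := by
  rw [← c0b_countP_eq, ← c0b_card_inter S _ (List.nodup_range)]
  congr 1
  ext p
  simp only [posSet, Finset.mem_inter, Finset.mem_filter, Finset.mem_univ, true_and, List.mem_range]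
  exact ⟨fun h => ⟨h, c0b_pos_lt p⟩, fun h => h.1⟩

theorem c0b_eq_posSet (S : Finset RuIdx) (W : List ℕ)
    (h : (List.range 28).map (c0b_bit S) = (List.range 28).map (fun k => decide (k ∈ W))) :
    S = posSet W := by
  ext p
  have h1 := List.map_inj_left.mp h (pos p) (List.mem_range.mpr (c0b_pos_lt p))
  simp only [posSet, Finset.mem_filter, Finset.mem_univ, true_and]
  rw [← c0b_bit_pos S p, h1, decide_eq_true_iff]

theorem c0b_check (S : Finset RuIdx) (l : List ℕ) (hl : l.Nodup) (h : Even (S ∩ posSet l).card) :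
    ((l.map (c0b_bit S)).count true) % 2 = 0 := by
  rw [← c0b_countP_eq, ← c0b_card_inter S l hl]
  exact Nat.even_iff.mp h

theorem c0b_dec :
    ∀ b0 : Bool, ∀ b1 : Bool, ∀ b2 : Bool, ∀ b4 : Bool, ∀ b5 : Bool, ∀ b8 : Bool, ∀ b12 : Bool, ∀ b16 : Bool, ∀ b20 : Bool,
    ∀ b3 : Bool, (List.count true [b0, b1, b2, b3]) % 2 = 0 →
    ∀ b6 : Bool, (List.count true [b0, b2, b5, b6]) % 2 = 0 →
    ∀ b7 : Bool, (List.count true [b0, b2, b4, b7]) % 2 = 0 →
    ∀ b9 : Bool, (List.count true [b1, b2, b8, b9]) % 2 = 0 →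
    ∀ b10 : Bool, (List.count true [b0, b1, b4, b5, b8, b10]) % 2 = 0 →
    ∀ b11 : Bool, (List.count true [b0, b2, b4, b5, b8, b11]) % 2 = 0 →
    ∀ b13 : Bool, (List.count true [b0, b2, b12, b13]) % 2 = 0 →
    ∀ b14 : Bool, (List.count true [b1, b2, b4, b5, b12, b14]) % 2 = 0 →
    ∀ b15 : Bool, (List.count true [b0, b1, b4, b5, b12, b15]) % 2 = 0 →
    ∀ b17 : Bool, (List.count true [b0, b2, b4, b5, b16, b17]) % 2 = 0 →
    ∀ b18 : Bool, (List.count true [b0, b1, b16, b18]) % 2 = 0 →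
    ∀ b19 : Bool, (List.count true [b1, b2, b4, b5, b16, b19]) % 2 = 0 →
    ∀ b21 : Bool, (List.count true [b0, b1, b4, b5, b20, b21]) % 2 = 0 →
    ∀ b22 : Bool, (List.count true [b4, b5, b20, b22]) % 2 = 0 →
    ∀ b23 : Bool, (List.count true [b0, b1, b20, b23]) % 2 = 0 →
    ∀ b24 : Bool, (List.count true [b0, b4, b8, b12, b16, b20, b24]) % 2 = 0 →
    ∀ b25 : Bool, (List.count true [b0, b1, b2, b5, b8, b12, b16, b20, b25]) % 2 = 0 →
    ∀ b26 : Bool, (List.count true [b0, b1, b2, b4, b8, b12, b16, b20, b26]) % 2 = 0 →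
    ∀ b27 : Bool, (List.count true [b0, b5, b8, b12, b16, b20, b27]) % 2 = 0 →
    (List.count true [b0, b1, b2, b3, b4, b5, b6, b7, b8, b9, b10, b11, b12, b13, b14, b15, b16, b17, b18, b19, b20, b21, b22, b23, b24, b25, b26, b27] = 0 ∨ 8 < List.count true [b0, b1, b2, b3, b4, b5, b6, b7, b8, b9, b10, b11, b12, b13, b14, b15, b16, b17, b18, b19, b20, b21, b22, b23, b24, b25, b26, b27] ∨
      ∃ i < 21, [b0, b1, b2, b3, b4, b5, b6, b7, b8, b9, b10, b11, b12, b13, b14, b15, b16, b17, b18, b19, b20, b21, b22, b23, b24, b25, b26, b27] = (List.range 28).map (fun k => decide (k ∈ W0.getD i []))) := by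
  decide

theorem c0b_nodup : ∀ j < 19, (T0.getD j []).Nodup := by decide

/-- RU-C0 -/
theorem code0 (S : Finset RuIdx) (h : ∀ j < 19, Even (S ∩ posSet (T0.getD j [])).card) :
    S = ∅ ∨ 8 < S.card ∨ ∃ i < 21, S = posSet (W0.getD i []) := by
  have hc : ∀ j < 19, (((T0.getD j []).map (c0b_bit S)).count true) % 2 = 0 :=
    fun j hj => c0b_check S _ (c0b_nodup j hj) (h j hj)
  generalize hb : c0b_bit S = b at hc
  have key := c0b_dec (b 0) (b 1) (b 2) (b 4) (b 5) (b 8) (b 12) (b 16) (b 20)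
    (b 3) (hc 0 (by norm_num))
    (b 6) (hc 1 (by norm_num))
    (b 7) (hc 2 (by norm_num))
    (b 9) (hc 3 (by norm_num))
    (b 10) (hc 4 (by norm_num))
    (b 11) (hc 5 (by norm_num))
    (b 13) (hc 6 (by norm_num))
    (b 14) (hc 7 (by norm_num))
    (b 15) (hc 8 (by norm_num))
    (b 17) (hc 9 (by norm_num))
    (b 18) (hc 10 (by norm_num))
    (b 19) (hc 11 (by norm_num))
    (b 21) (hc 12 (by norm_num))
    (b 22) (hc 13 (by norm_num))
    (b 23) (hc 14 (by norm_num))
    (b 24) (hc 15 (by norm_num))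
    (b 25) (hc 16 (by norm_num))
    (b 26) (hc 17 (by norm_num))
    (b 27) (hc 18 (by norm_num))
  have hv : [b 0, b 1, b 2, b 3, b 4, b 5, b 6, b 7, b 8, b 9, b 10, b 11, b 12, b 13, b 14, b 15, b 16, b 17, b 18, b 19, b 20, b 21, b 22, b 23, b 24, b 25, b 26, b 27] = (List.range 28).map b := rfl
  rw [hv, ← hb] at key
  rcases key with h0 | h8 | ⟨i, hi, he⟩
  · left
    exact Finset.card_eq_zero.mp (by rw [c0b_card]; exact h0)
  · right; left
    rw [c0b_card]; exact h8
  · right; right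
    exact ⟨i, hi, c0b_eq_posSet S _ he⟩

end Cfsg.Agent.Lib.Helper4.Ru
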