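import Cfsg.Agent.Lib.Helper24.RuC0

/-! # Ru hive (helper4, S1628), leaf RU-C1 (helper24, same technique as RU-C0) -/

set_option autoImplicit false
set_option maxRecDepth 100000
set_option synthInstance.maxSize 100000
set_option synthInstance.maxHeartbeats 0
set_option maxHeartbeats 0

namespace Cfsg.Agent.Lib.Helper4.Ru

open Cfsg.Spor

theorem c1b_dec :
    ∀ b0 : Bool, ∀ b1 : Bool, ∀ b2 : Bool, ∀ b4 : Bool, ∀ b5 : Bool, ∀ b8 : Bool, ∀ b12 : Bool, ∀ b16 : Bool, ∀ b20 : Bool, ∀ b24 : Bool,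
    ∀ b3 : Bool, (List.count true [b0, b1, b2, b3]) % 2 = 0 →
    ∀ b6 : Bool, (List.count true [b0, b2, b5, b6]) % 2 = 0 →
    ∀ b7 : Bool, (List.count true [b0, b2, b4, b7]) % 2 = 0 →
    ∀ b9 : Bool, (List.count true [b1, b2, b8, b9]) % 2 = 0 →
    ∀ b10 : Bool, (List.count true [b0, b1, b4, b5, b8, b10]) % 2 = 0 →
    ∀ b11 : Bool, (List.count true [b0, b2, b4, b5, b8, b11]) % 2 = 0 →
    ∀ b13 : Bool, (List.count true [b0, b2, b12, b13]) % 2 = 0 →
    ∀ b14 : Bool, (List.count true [b1, b2, b4, b5, b12, b14]) % 2 = 0 →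
    ∀ b15 : Bool, (List.count true [b0, b1, b4, b5, b12, b15]) % 2 = 0 →
    ∀ b17 : Bool, (List.count true [b0, b2, b4, b5, b16, b17]) % 2 = 0 →
    ∀ b18 : Bool, (List.count true [b0, b1, b16, b18]) % 2 = 0 →
    ∀ b19 : Bool, (List.count true [b1, b2, b4, b5, b16, b19]) % 2 = 0 →
    ∀ b21 : Bool, (List.count true [b0, b1, b4, b5, b20, b21]) % 2 = 0 →
    ∀ b22 : Bool, (List.count true [b4, b5, b20, b22]) % 2 = 0 →
    ∀ b23 : Bool, (List.count true [b0, b1, b20, b23]) % 2 = 0 →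
    ∀ b25 : Bool, (List.count true [b1, b2, b4, b5, b24, b25]) % 2 = 0 →
    ∀ b26 : Bool, (List.count true [b1, b2, b24, b26]) % 2 = 0 →
    ∀ b27 : Bool, (List.count true [b4, b5, b24, b27]) % 2 = 0 →
    (List.count true [b0, b1, b2, b3, b4, b5, b6, b7, b8, b9, b10, b11, b12, b13, b14, b15, b16, b17, b18, b19, b20, b21, b22, b23, b24, b25, b26, b27] = 0 ∨ 4 < List.count true [b0, b1, b2, b3, b4, b5, b6, b7, b8, b9, b10, b11, b12, b13, b14, b15, b16, b17, b18, b19, b20, b21, b22, b23, b24, b25, b26, b27] ∨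
      ∃ i < 7, [b0, b1, b2, b3, b4, b5, b6, b7, b8, b9, b10, b11, b12, b13, b14, b15, b16, b17, b18, b19, b20, b21, b22, b23, b24, b25, b26, b27] = (List.range 28).map (fun k => decide (k ∈ W1.getD i []))) := by
  decide

theorem c1b_nodup : ∀ j < 18, (T1.getD j []).Nodup := by decide

/-- RU-C1 -/
theorem code1 (S : Finset RuIdx) (h : ∀ j < 18, Even (S ∩ posSet (T1.getD j [])).card) :
    S = ∅ ∨ 4 < S.card ∨ ∃ i < 7, S = posSet (W1.getD i []) := by
  have hc : ∀ j < 18, (((T1.getD j []).map (c0b_bit S)).count true) % 2 = 0 :=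
    fun j hj => c0b_check S _ (c1b_nodup j hj) (h j hj)
  generalize hb : c0b_bit S = b at hc
  have key := c1b_dec (b 0) (b 1) (b 2) (b 4) (b 5) (b 8) (b 12) (b 16) (b 20) (b 24)
    (b 3) (hc 0 (by norm_num))
    (b 6) (hc 1 (by norm_num))
    (b 7) (hc 2 (by norm_num))
    (b 9) (hc 3 (by norm_num))
    (b 10) (hc 4 (by norm_num))
    (b 11) (hc 5 (by norm_num))
    (b 13) (hc 6 (by norm_num))
    (b 14) (hc 7 (by norm_num))
    (b 15) (hc 8 (by norm_num))
    (b 17) (hc 9 (by norm_num))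
    (b 18) (hc 10 (by norm_num))
    (b 19) (hc 11 (by norm_num))
    (b 21) (hc 12 (by norm_num))
    (b 22) (hc 13 (by norm_num))
    (b 23) (hc 14 (by norm_num))
    (b 25) (hc 15 (by norm_num))
    (b 26) (hc 16 (by norm_num))
    (b 27) (hc 17 (by norm_num))
  have hv : [b 0, b 1, b 2, b 3, b 4, b 5, b 6, b 7, b 8, b 9, b 10, b 11, b 12, b 13, b 14, b 15, b 16, b 17, b 18, b 19, b 20, b 21, b 22, b 23, b 24, b 25, b 26, b 27] = (List.range 28).map b := rfl
  rw [hv, ← hb] at key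
  rcases key with h0 | h8 | ⟨i, hi, he⟩
  · left
    exact Finset.card_eq_zero.mp (by rw [c0b_card]; exact h0)
  · right; left
    rw [c0b_card]; exact h8
  · right; right
    exact ⟨i, hi, c0b_eq_posSet S _ he⟩

end Cfsg.Agent.Lib.Helper4.Ru
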