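import Cfsg.Agent.Lib.Helper4.RuDefs

/-! # Ru hive (helper4, S1628), leaf RU-CNT: `count_lemma` (helper24) -/

set_option autoImplicit false

namespace Cfsg.Agent.Lib.Helper4.Ru

open Cfsg.Spor

/-- generic form of the counting lemma, over any finite type -/
theorem cnt_generic {ι : Type*} [Fintype ι] [DecidableEq ι] (n : ι → ℕ) (S : Finset ι) (w m : ℕ)
    (hw : 0 < w) (hS : ∀ p ∈ S, w ≤ n p) (hsum : ∑ p, n p = w * m) (hc : m ≤ S.card) :
    S.card = m ∧ (∀ p ∈ S, n p = w) ∧ ∀ p, p ∉ S → n p = 0 := by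
  have h1 : ∑ p ∈ S, n p + ∑ p ∈ Sᶜ, n p = ∑ p, n p := Finset.sum_add_sum_compl S n
  have h2 : S.card • w ≤ ∑ p ∈ S, n p := Finset.card_nsmul_le_sum S n w hS
  rw [smul_eq_mul] at h2
  have h3 : w * m ≤ w * S.card := Nat.mul_le_mul_left w hc
  have hA : ∑ p ∈ S, n p = S.card * w := by
    rw [mul_comm] at h3 ⊢
    rw [mul_comm] at h2
    rw [mul_comm w m] at hsum
    omega
  have hB : ∑ p ∈ Sᶜ, n p = 0 := by
    rw [mul_comm w m] at hsum h3
    rw [mul_comm w S.card] at h3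
    omega
  have hcard : S.card = m := by
    have : S.card * w = m * w := by
      rw [mul_comm w m] at hsum
      omega
    exact Nat.eq_of_mul_eq_mul_right hw this
  refine ⟨hcard, ?_, ?_⟩
  · have h4 : ∑ p ∈ S, w = ∑ p ∈ S, n p := by
      rw [Finset.sum_const, smul_eq_mul, hA]
    have h5 := (Finset.sum_eq_sum_iff_of_le hS).mp h4
    intro p hp
    exact (h5 p hp).symm
  · intro p hp
    have h6 := (Finset.sum_eq_zero_iff).mp hB p (Finset.mem_compl.mpr hp)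
    exact h6

/-- RU-CNT -/
theorem count_lemma (n : RuIdx → ℕ) (S : Finset RuIdx) (w m : ℕ) (hw : 0 < w)
    (hS : ∀ p ∈ S, w ≤ n p) (hsum : ∑ p, n p = w * m) (hc : m ≤ S.card) :
    S.card = m ∧ (∀ p ∈ S, n p = w) ∧ ∀ p, p ∉ S → n p = 0 :=
  cnt_generic n S w m hw hS hsum hc

end Cfsg.Agent.Lib.Helper4.Ru
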