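import Cfsg.Agent.Lib.Helper66.S3Defs

/-!
# S3 hive (S4305, owner helper66): leaf D7 `comp_trans`, core form (helper24)

`comp_trans_core`: transitivity of `H` and `A3` on the nontrivial components, with D3 `comp_smulH`,
D4 `comp_smulA` and D6 `comp_indep` as explicit hypotheses.
-/

set_option autoImplicit false

namespace Cfsg.Agent.Lib.Helper66.S3

universe u

section decomp

variable {H V : Type u} [Group H] [CommGroup V] [MulDistribMulAction A3 H]
  [MulDistribMulAction A3 V] [MulDistribMulAction H V] {p r : ℕ} {F : Subgroup H}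

theorem d7_mem_mapA (a : A3) (C : Subgroup H) (x : H) : x ∈ mapA a C ↔ ∃ y ∈ C, a • y = x :=
  Iff.rfl

theorem d7_mem_mapH (h : H) (C : Subgroup H) (x : H) :
    x ∈ mapH h C ↔ ∃ y ∈ C, h * y * h⁻¹ = x :=
  Iff.rfl

theorem d7_mapA_one (C : Subgroup H) : mapA (1 : A3) C = C := by
  ext x
  rw [d7_mem_mapA]
  constructor
  · rintro ⟨y, hy, rfl⟩
    rwa [one_smul]
  · intro hx
    exact ⟨x, hx, one_smul _ _⟩

theorem d7_mapH_one (C : Subgroup H) : mapH (1 : H) C = C := by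
  ext x
  rw [d7_mem_mapH]
  constructor
  · rintro ⟨y, hy, rfl⟩
    simpa using hy
  · intro hx
    exact ⟨x, hx, by simp⟩

theorem d7_mapA_mapA (a b : A3) (C : Subgroup H) : mapA b (mapA a C) = mapA (b * a) C := by
  ext x
  simp only [d7_mem_mapA]
  constructor
  · rintro ⟨y, ⟨z, hz, rfl⟩, rfl⟩
    exact ⟨z, hz, mul_smul b a z⟩
  · rintro ⟨z, hz, rfl⟩
    exact ⟨a • z, ⟨z, hz, rfl⟩, (mul_smul b a z).symm⟩

theorem d7_mapH_mapH (h k : H) (C : Subgroup H) : mapH k (mapH h C) = mapH (k * h) C := by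
  ext x
  simp only [d7_mem_mapH]
  constructor
  · rintro ⟨y, ⟨z, hz, rfl⟩, rfl⟩
    exact ⟨z, hz, by simp [mul_assoc]⟩
  · rintro ⟨z, hz, rfl⟩
    exact ⟨h * z * h⁻¹, ⟨z, hz, rfl⟩, by simp [mul_assoc]⟩

theorem d7_mapH_mapA (k : H) (a : A3) (C : Subgroup H) :
    mapH k (mapA a C) = mapA a (mapH (a⁻¹ • k) C) := by
  ext x
  simp only [d7_mem_mapH, d7_mem_mapA]
  constructor
  · rintro ⟨y, ⟨z, hz, rfl⟩, rfl⟩
    refine ⟨(a⁻¹ • k) * z * (a⁻¹ • k)⁻¹, ⟨z, hz, rfl⟩, ?_⟩
    rw [smul_mul', smul_mul', smul_inv', smul_inv_smul]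
  · rintro ⟨y, ⟨z, hz, rfl⟩, rfl⟩
    refine ⟨a • z, ⟨z, hz, rfl⟩, ?_⟩
    rw [smul_mul', smul_mul', smul_inv', smul_inv_smul]

/-- D7 (core form) -/
theorem comp_trans_core (cfg : Config H V p r F)
    (hD3 : ∀ (C : Subgroup H) (h : H) (v : V), v ∈ comp F C → h • v ∈ comp F (mapH h C))
    (hD4 : ∀ (C : Subgroup H) (a : A3) (v : V), v ∈ comp F C → a • v ∈ comp F (mapA a C))
    (hD6 : iSupIndep (fun C : Subgroup H => comp (V := V) F C))
    (C C' : Subgroup H) (hC : comp (V := V) F C ≠ ⊥)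
    (hC' : comp (V := V) F C' ≠ ⊥) : ∃ (a : A3) (h : H), C' = mapA a (mapH h C) := by
  by_contra hcon
  have hne : ∀ (a : A3) (h : H), mapA a (mapH h C) ≠ C' := by
    intro a h heq
    exact hcon ⟨a, h, heq.symm⟩
  set S : Subgroup V := ⨆ x : A3 × H, comp (V := V) F (mapA x.1 (mapH x.2 C)) with hS
  have hle : ∀ (a : A3) (h : H), comp (V := V) F (mapA a (mapH h C)) ≤ S := by
    intro a h
    exact le_iSup (fun x : A3 × H => comp (V := V) F (mapA x.1 (mapH x.2 C))) (a, h)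
  have hCS : comp (V := V) F C ≤ S := by
    have := hle 1 1
    rwa [d7_mapH_one, d7_mapA_one] at this
  have hSH : ∀ k : H, ∀ v ∈ S, k • v ∈ S := by
    intro k v hv
    refine Subgroup.iSup_induction (fun x : A3 × H => comp (V := V) F (mapA x.1 (mapH x.2 C)))
      (C := fun v => k • v ∈ S) hv ?_ ?_ ?_
    · rintro ⟨a, h⟩ w hw
      have h1 := hD3 _ k w hw
      rw [d7_mapH_mapA, d7_mapH_mapH] at h1
      exact hle _ _ h1
    · rw [smul_one]
      exact S.one_mem
    · intro x y hx hy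
      rw [smul_mul']
      exact S.mul_mem hx hy
  have hSA : ∀ b : A3, ∀ v ∈ S, b • v ∈ S := by
    intro b v hv
    refine Subgroup.iSup_induction (fun x : A3 × H => comp (V := V) F (mapA x.1 (mapH x.2 C)))
      (C := fun v => b • v ∈ S) hv ?_ ?_ ?_
    · rintro ⟨a, h⟩ w hw
      have h1 := hD4 _ b w hw
      rw [d7_mapA_mapA] at h1
      exact hle _ _ h1
    · rw [smul_one]
      exact S.one_mem
    · intro x y hx hy
      rw [smul_mul']
      exact S.mul_mem hx hy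
  have hStop : S = ⊤ := by
    rcases cfg.hyp.irr S hSH hSA with h | h
    · exfalso
      apply hC
      rw [eq_bot_iff]
      exact le_trans hCS (le_of_eq h)
    · exact h
  have hSle : S ≤ ⨆ (j : Subgroup H) (_ : j ≠ C'), comp (V := V) F j := by
    rw [hS]
    apply iSup_le
    rintro ⟨a, h⟩
    exact le_iSup₂_of_le (mapA a (mapH h C)) (hne a h) le_rfl
  apply hC'
  rw [eq_bot_iff]
  exact hD6 C' le_rfl (le_trans (le_trans le_top (le_of_eq hStop.symm)) hSle)

end decomp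

end Cfsg.Agent.Lib.Helper66.S3
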