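import Cfsg.Agent.Lib.Helper66.S3Defs

/-!
# S3 hive (S4305, owner helper66): sub-lemma F3 of leaf ZS (helper24, assigned by helper36)

`zs_exists_z`: in configuration Z with `σ` fixed-point-free on `H/F` and trivial on `H'`, some
`c = h (σ h)⁻¹` does not commute with `σ c`.
-/

set_option autoImplicit false

namespace Cfsg.Agent.Lib.Helper66.S3

universe u

/-- the element commutator `x y x⁻¹ y⁻¹` -/
def zspolCm {H : Type*} [Group H] (x y : H) : H := x * y * x⁻¹ * y⁻¹

section cm

variable {H : Type*} [Group H]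

theorem zspol_cm_eq_one_iff (x y : H) : zspolCm x y = 1 ↔ x * y = y * x := by
  unfold zspolCm
  constructor
  · intro h
    calc x * y = (x * y * x⁻¹ * y⁻¹) * (y * x) := by group
      _ = y * x := by rw [h, one_mul]
  · intro h
    calc x * y * x⁻¹ * y⁻¹ = (x * y) * x⁻¹ * y⁻¹ := by group
      _ = (y * x) * x⁻¹ * y⁻¹ := by rw [h]
      _ = 1 := by group

theorem zspol_cm_symm (x y : H) : zspolCm y x = (zspolCm x y)⁻¹ := by
  unfold zspolCm
  group

theorem zspol_cm_mul_left (hZ : ∀ x y g : H, zspolCm x y * g = g * zspolCm x y) (a b c : H) :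
    zspolCm (a * b) c = zspolCm a c * zspolCm b c := by
  have key : zspolCm (a * b) c = a * zspolCm b c * a⁻¹ * zspolCm a c := by
    unfold zspolCm
    group
  rw [key, ← hZ b c a, mul_assoc (zspolCm b c) a a⁻¹, mul_inv_cancel, mul_one, hZ b c]

theorem zspol_cm_mul_right (hZ : ∀ x y g : H, zspolCm x y * g = g * zspolCm x y) (a b c : H) :
    zspolCm a (b * c) = zspolCm a b * zspolCm a c := by
  have key : zspolCm a (b * c) = (a * b * a⁻¹) * zspolCm a c * b⁻¹ := by
    unfold zspolCm
    group
  rw [key, mul_assoc (a * b * a⁻¹), hZ a c b⁻¹, ← mul_assoc]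
  unfold zspolCm
  group

theorem zspol_cm_one_right (a : H) : zspolCm a 1 = 1 := by
  unfold zspolCm
  group

theorem zspol_cm_inv_right (hZ : ∀ x y g : H, zspolCm x y * g = g * zspolCm x y) (a b : H) :
    zspolCm a b⁻¹ = (zspolCm a b)⁻¹ := by
  have h := zspol_cm_mul_right hZ a b b⁻¹
  rw [mul_inv_cancel, zspol_cm_one_right] at h
  exact eq_inv_of_mul_eq_one_right h.symm

theorem zspol_cm_central_right (a f : H) (hf : ∀ g : H, g * f = f * g) : zspolCm a f = 1 :=
  (zspol_cm_eq_one_iff a f).2 (hf a)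

theorem zspol_cm_central_left (f a : H) (hf : ∀ g : H, g * f = f * g) : zspolCm f a = 1 :=
  (zspol_cm_eq_one_iff f a).2 (hf a).symm

end cm

theorem zspol_sig_cube : sig * sig * sig = 1 := by decide

section decomp

variable {H V : Type u} [Group H] [CommGroup V] [MulDistribMulAction A3 H]
  [MulDistribMulAction A3 V] [MulDistribMulAction H V] {p r : ℕ} {F : Subgroup H}

theorem zspol_smul_cm (a : A3) (x y : H) : a • zspolCm x y = zspolCm (a • x) (a • y) := by
  unfold zspolCm
  rw [smul_mul', smul_mul', smul_mul', smul_inv', smul_inv']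

/-- (F3) -/
theorem zs_exists_z (cfg : Config H V p r F) (hcent : ∀ h : H, ∀ f ∈ F, h * f = f * h)
    (hsfpf : ∀ h : H, h⁻¹ * sig • h ∈ F → h ∈ F) (hsH' : ∀ w ∈ commutator H, sig • w = w) :
    ∃ h : H, (h * (sig • h)⁻¹) * (sig • (h * (sig • h)⁻¹)) * (h * (sig • h)⁻¹)⁻¹ *
      (sig • (h * (sig • h)⁻¹))⁻¹ ≠ 1 := by
  by_contra hcon
  have hall : ∀ h : H, zspolCm (h * (sig • h)⁻¹) (sig • (h * (sig • h)⁻¹)) = 1 := by
    intro h
    by_contra hne
    exact hcon ⟨h, hne⟩
  have hFn : F.Normal := cfg.Fnormal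
  have hfin : Finite H := cfg.hyp.finH
  -- commutators are central
  have hcmF : ∀ x y : H, zspolCm x y ∈ F := by
    intro x y
    apply cfg.quot_comm
    rw [commutator_def]
    exact Subgroup.commutator_mem_commutator (Subgroup.mem_top x) (Subgroup.mem_top y)
  have hZ : ∀ x y g : H, zspolCm x y * g = g * zspolCm x y := fun x y g =>
    (hcent g _ (hcmF x y)).symm
  have hFc : ∀ f ∈ F, ∀ g : H, g * f = f * g := fun f hf g => hcent g f hf
  -- `σ` fixes the commutators
  have hsig : ∀ x y : H, zspolCm (sig • x) (sig • y) = zspolCm x y := by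
    intro x y
    rw [← zspol_smul_cm]
    apply hsH'
    rw [commutator_def]
    exact Subgroup.commutator_mem_commutator (Subgroup.mem_top x) (Subgroup.mem_top y)
  -- variant of `hsfpf`
  have hsfpf' : ∀ h : H, h * (sig • h)⁻¹ ∈ F → h ∈ F := by
    intro h hh
    apply hsfpf
    have h1 := hFn.conj_mem _ (F.inv_mem hh) h⁻¹
    have e : h⁻¹ * (h * (sig • h)⁻¹)⁻¹ * h⁻¹⁻¹ = h⁻¹ * sig • h := by group
    rwa [e] at h1
  -- Step 1: the map `h ↦ c(h) F` is a surjective homomorphism `H → H ⧸ F`
  have hQcomm : ∀ a b : H ⧸ F, a * b = b * a := by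
    intro a b
    induction a using QuotientGroup.induction_on with
    | H x =>
      induction b using QuotientGroup.induction_on with
      | H y =>
        rw [← QuotientGroup.mk_mul, ← QuotientGroup.mk_mul, QuotientGroup.eq]
        have := F.inv_mem (hcmF x y)
        have e : (x * y)⁻¹ * (y * x) = (zspolCm y⁻¹ x⁻¹) := by
          unfold zspolCm
          group
        rw [e]
        exact hcmF _ _
  let f : H →* H ⧸ F := MonoidHom.mk' (fun h => (QuotientGroup.mk h : H ⧸ F) *
      (QuotientGroup.mk (sig • h) : H ⧸ F)⁻¹) (by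
    intro a b
    rw [smul_mul', QuotientGroup.mk_mul, QuotientGroup.mk_mul, mul_inv_rev]
    rw [hQcomm (QuotientGroup.mk (sig • b) : H ⧸ F)⁻¹ (QuotientGroup.mk (sig • a) : H ⧸ F)⁻¹]
    rw [mul_assoc, ← mul_assoc (QuotientGroup.mk b : H ⧸ F),
      hQcomm (QuotientGroup.mk b : H ⧸ F) (QuotientGroup.mk (sig • a) : H ⧸ F)⁻¹]
    simp only [mul_assoc])
  have hfapp : ∀ h : H, f h = (QuotientGroup.mk (h * (sig • h)⁻¹) : H ⧸ F) := by
    intro h
    show (QuotientGroup.mk h : H ⧸ F) * (QuotientGroup.mk (sig • h) : H ⧸ F)⁻¹ = _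
    rw [QuotientGroup.mk_mul, QuotientGroup.mk_inv]
  have hker : f.ker = F := by
    ext h
    rw [MonoidHom.mem_ker, hfapp, QuotientGroup.eq_one_iff]
    constructor
    · exact hsfpf' h
    · intro hh
      exact F.mul_mem hh (F.inv_mem (cfg.FA sig h hh))
  have hsurj : Function.Surjective f := by
    rw [← MonoidHom.range_eq_top]
    have h1 : Nat.card f.range = Nat.card (H ⧸ F) := by
      rw [← Subgroup.index_ker, hker, Subgroup.index_eq_card]
    exact (Subgroup.card_eq_iff_eq_top f.range).1 h1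
  -- hence `g` commutes with `σ g` for all `g`
  have hall' : ∀ g : H, zspolCm g (sig • g) = 1 := by
    intro g
    obtain ⟨h, hh⟩ := hsurj (QuotientGroup.mk g)
    rw [hfapp, QuotientGroup.eq] at hh
    set c := h * (sig • h)⁻¹ with hc
    set f0 := c⁻¹ * g with hf0
    have hg : g = c * f0 := by rw [hf0]; group
    have hf0c : ∀ k : H, k * f0 = f0 * k := hFc f0 hh
    have hsf0c : ∀ k : H, k * (sig • f0) = (sig • f0) * k := hFc _ (cfg.FA sig f0 hh)
    rw [hg, smul_mul', zspol_cm_mul_left hZ, zspol_cm_mul_right hZ, zspol_cm_mul_right hZ,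
      zspol_cm_central_right c _ hsf0c, zspol_cm_central_left f0 _ hf0c,
      zspol_cm_central_left f0 _ hf0c, hall h]
    simp
  -- Step 2: polarization
  have hpol : ∀ g h : H, zspolCm g (sig • h) = zspolCm (sig • g) h := by
    intro g h
    have h1 := hall' (g * h)
    rw [smul_mul', zspol_cm_mul_left hZ, zspol_cm_mul_right hZ, zspol_cm_mul_right hZ,
      hall' g, hall' h, one_mul, mul_one] at h1
    rw [zspol_cm_symm h (sig • g)]
    exact eq_inv_of_mul_eq_one_left h1
  have hsq : ∀ g h : H, zspolCm g ((sig • sig • h) * h⁻¹) = 1 := by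
    intro g h
    rw [zspol_cm_mul_right hZ, zspol_cm_inv_right hZ, hpol g (sig • h), hsig g h, mul_inv_cancel]
  -- Step 3: the centre is `F`
  have hcenter : Subgroup.center H = F := by
    have hle : F ≤ Subgroup.center H := by
      intro x hx
      rw [Subgroup.mem_center_iff]
      intro g
      exact hcent g x hx
    have hinv : ∀ a : A3, ∀ m ∈ Subgroup.center H, a • m ∈ Subgroup.center H := by
      intro a m hm
      rw [Subgroup.mem_center_iff] at hm ⊢
      intro g
      have h1 := hm (a⁻¹ • g)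
      have h2 := congrArg (fun t => a • t) h1
      simp only [smul_mul', smul_inv_smul] at h2
      exact h2
    rcases cfg.quot_irr (Subgroup.center H) hle hinv with h | h
    · exact h
    · exfalso
      obtain ⟨x, y, hxy⟩ := cfg.nonab
      apply hxy
      have hy : y ∈ Subgroup.center H := by rw [h]; exact Subgroup.mem_top y
      rw [Subgroup.mem_center_iff] at hy
      exact hy x
  have hsqF : ∀ h : H, (sig • sig • h) * h⁻¹ ∈ F := by
    intro h
    rw [← hcenter, Subgroup.mem_center_iff]
    intro g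
    exact (zspol_cm_eq_one_iff g _).1 (hsq g h)
  -- Step 4: every element lies in `F`
  apply cfg.Fne
  rw [Subgroup.eq_top_iff']
  intro h
  apply hsfpf'
  have h1 := hsqF (sig • h)
  have e : sig • sig • sig • h = h := by
    rw [← mul_smul, ← mul_smul, zspol_sig_cube, one_smul]
  rwa [e] at h1

end decomp

end Cfsg.Agent.Lib.Helper66.S3
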