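import Mathlib.GroupTheory.SchurZassenhaus
import Mathlib.GroupTheory.Sylow

set_option autoImplicit false

namespace Cfsg.Agent.Lib.Helper24

open Subgroup MulAction
open scoped Pointwise

section
variable {G : Type*} [Group G]

/-- A complement `H` of an abelian normal Hall subgroup `A` is the stabilizer of the class of
the transversal `H` in `A.QuotientDiff`. -/
theorem complement_eq_stabilizer [Finite G] (A : Subgroup G) [A.Normal] [IsMulCommutative A]
    (hA : (Nat.card A).Coprime A.index) (H : Subgroup G) (hH : IsComplement' A H) :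
    ∃ α : A.QuotientDiff, stabilizer G α = H := by
  have hH' : IsComplement (H : Set G) (A : Set G) := hH.symm
  let T : A.LeftTransversal := ⟨(H : Set G), hH'⟩
  let α : A.QuotientDiff := Quotient.mk'' T
  refine ⟨α, ?_⟩
  have hle : H ≤ stabilizer G α := by
    intro h hh
    rw [mem_stabilizer_iff]
    change Quotient.mk'' (MulOpposite.op h⁻¹ • T) = Quotient.mk'' T
    congr 1
    apply Subtype.ext
    change MulOpposite.op h⁻¹ • (H : Set G) = (H : Set G)
    ext x
    rw [Set.mem_smul_set_iff_inv_smul_mem]
    simp only [MulOpposite.smul_eq_mul_unop, MulOpposite.unop_inv, MulOpposite.unop_op, inv_inv,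
      SetLike.mem_coe]
    exact ⟨fun hx => by simpa using mul_mem hx (inv_mem hh), fun hx => mul_mem hx hh⟩
  have hcompl : IsComplement' A (stabilizer G α) := isComplement'_stabilizer_of_coprime hA
  have hcard : Nat.card H = Nat.card (stabilizer G α) := by
    have h1 := hH.card_mul_card
    have h2 := hcompl.card_mul_card
    have hpos : 0 < Nat.card A := Nat.card_pos
    exact Nat.eq_of_mul_eq_mul_left hpos (h1.trans h2.symm)
  symm
  exact Subgroup.eq_of_le_of_card_ge hle (le_of_eq hcard.symm)

/-- Schur–Zassenhaus conjugacy for an abelian normal Hall subgroup: complements are conjugate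
under the normal subgroup. -/
theorem sz_conj_abelian [Finite G] (A : Subgroup G) [A.Normal] [IsMulCommutative A]
    (hA : (Nat.card A).Coprime A.index) (H K : Subgroup G)
    (hH : IsComplement' A H) (hK : IsComplement' A K) :
    ∃ a ∈ A, H.map (MulAut.conj a).toMonoidHom = K := by
  obtain ⟨α, hα⟩ := complement_eq_stabilizer A hA H hH
  obtain ⟨β, hβ⟩ := complement_eq_stabilizer A hA K hK
  obtain ⟨a, ha⟩ := exists_smul_eq hA α β
  refine ⟨(a : G), a.2, ?_⟩
  rw [← hα, ← hβ, ← ha]
  exact (stabilizer_smul_eq_stabilizer_map_conj (a : G) α).symm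

end

end Cfsg.Agent.Lib.Helper24
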