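import Cfsg.Agent.Lib.Helper73.SlK5Defs

set_option autoImplicit false

/-! SL-K5-NORM leaf (sub-hive of helper73, Sl hive S2332 of helper76): `diag(1, A)` normalises `Q`. -/

namespace Cfsg.Agent.Lib.Helper76.Sl

open Matrix Cfsg

variable {F : Type*} [Field F] [Fintype F] [DecidableEq F]

/-- SL-K5-NORM (un-imported backup twin of `k5_norm` in `Helper90/SlK5NORM.lean`, renamed to avoid a name clash): `diag(1, A)` normalises `Q`. -/
theorem k5norm_h24 (m : ℕ) (l : Gm F m) (y x : Gm F (m + 1)) (hy : y.1 = k5Mat F m l.1)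
    (hx : x ∈ Qset F (m + 1)) : y * x * y⁻¹ ∈ Qset F (m + 1) := by
  intro i j hi
  have hyi0 : y.1 i 0 = 0 := by
    rw [hy]
    obtain ⟨i', rfl⟩ := Fin.exists_succ_eq.mpr hi
    simp [k5Mat]
  have key : ∀ (B : Matrix (Fin (m + 1 + 2)) (Fin (m + 1 + 2)) F) (k : Fin (m + 1 + 2)),
      (y.1 * B) i k = ∑ t : Fin (m + 1 + 1), y.1 i t.succ * B t.succ k := by
    intro B k
    rw [Matrix.mul_apply, Fin.sum_univ_succ, hyi0, zero_mul, zero_add]
  have h1 : ∀ k, (y.1 * x.1) i k = y.1 i k := by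
    intro k
    have h2 : y.1 i k = (y.1 * (1 : Matrix (Fin (m + 1 + 2)) (Fin (m + 1 + 2)) F)) i k := by
      rw [Matrix.mul_one]
    rw [h2, key, key]
    refine Finset.sum_congr rfl (fun t _ => ?_)
    rw [hx t.succ k (Fin.succ_ne_zero t)]
  have h3 : (y * x * y⁻¹).1 = y.1 * x.1 * (y⁻¹).1 := by
    simp [Matrix.SpecialLinearGroup.coe_mul]
  rw [h3, Matrix.mul_apply]
  simp_rw [h1]
  rw [← Matrix.mul_apply, ← Matrix.SpecialLinearGroup.coe_mul, mul_inv_cancel,
    Matrix.SpecialLinearGroup.coe_one]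

end Cfsg.Agent.Lib.Helper76.Sl
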