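import Cfsg.Agent.Lib.Helper73.SlK5Defs

set_option autoImplicit false

/-! SL-K5-QCARD leaf (sub-hive of helper73, Sl hive S2332 of helper76): `|Q| = q^(m+1)`. -/

namespace Cfsg.Agent.Lib.Helper76.Sl

open Matrix Cfsg

variable {F : Type*} [Field F] [Fintype F] [DecidableEq F]

theorem k5qcard_zero_zero (m : ℕ) {x : Gm F m} (hx : x ∈ Qset F m) : x.1 0 0 = 1 := by
  have hdet := x.2
  have htri : x.1.BlockTriangular id := by
    intro i j hij
    have hi : i ≠ 0 := by
      intro h
      subst h
      exact absurd hij (by simp)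
    have hij' : j < i := hij
    rw [hx i j hi, Matrix.one_apply_ne (ne_of_gt hij')]
  rw [Matrix.det_of_isUpperTriangular htri, Fin.prod_univ_succ] at hdet
  have h1 : ∀ i : Fin (m + 1), x.1 i.succ i.succ = 1 := fun i => by
    rw [hx _ _ (Fin.succ_ne_zero i), Matrix.one_apply_eq]
  simp only [h1, Finset.prod_const_one, mul_one] at hdet
  exact hdet

/-- the matrix with row `0` equal to `(1, a)` and identity rows elsewhere. -/
def k5qcard_mat (m : ℕ) (a : Fin (m + 1) → F) : Matrix (Fin (m + 2)) (Fin (m + 2)) F :=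
  Matrix.of fun i j => if i = 0 then (Fin.cases (1 : F) a j : F) else (1 : Matrix (Fin (m + 2)) (Fin (m + 2)) F) i j

theorem k5qcard_mat_det (m : ℕ) (a : Fin (m + 1) → F) : (k5qcard_mat m a).det = 1 := by
  have htri : (k5qcard_mat m a).BlockTriangular id := by
    intro i j hij
    have hi : i ≠ 0 := by
      intro h
      subst h
      exact absurd hij (by simp)
    have hij' : j < i := hij
    simp only [k5qcard_mat, Matrix.of_apply, if_neg hi]
    exact Matrix.one_apply_ne (ne_of_gt hij')
  rw [Matrix.det_of_isUpperTriangular htri, Fin.prod_univ_succ]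
  have h0 : k5qcard_mat m a 0 0 = 1 := by
    simp [k5qcard_mat]
  have h1 : ∀ i : Fin (m + 1), k5qcard_mat m a i.succ i.succ = 1 := fun i => by
    simp [k5qcard_mat, Fin.succ_ne_zero]
  simp only [h0, h1, Finset.prod_const_one, mul_one]

open Classical in
/-- SL-K5-QCARD: `|Q| = q^(m+1)`. -/
theorem k5_Q_card (m : ℕ) :
    (Finset.univ.filter (fun x : Gm F m => x ∈ Qset F m)).card = Fintype.card F ^ (m + 1) := by
  rw [← Fintype.card_pi_const F (m + 1), ← Finset.card_univ]
  refine Finset.card_bij (fun x _ => fun j : Fin (m + 1) => x.1 0 j.succ)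
    (fun _ _ => Finset.mem_univ _) ?_ ?_
  · intro x hx x' hx' h
    simp only [Finset.mem_filter, Finset.mem_univ, true_and] at hx hx'
    apply Subtype.ext
    ext i j
    refine Fin.cases ?_ (fun i' => ?_) i
    · refine Fin.cases ?_ (fun j' => ?_) j
      · rw [k5qcard_zero_zero m hx, k5qcard_zero_zero m hx']
      · exact congrFun h j'
    · rw [hx _ _ (Fin.succ_ne_zero i'), hx' _ _ (Fin.succ_ne_zero i')]
  · intro a _
    refine ⟨⟨k5qcard_mat m a, k5qcard_mat_det m a⟩, ?_, ?_⟩
    · refine Finset.mem_filter.mpr ⟨Finset.mem_univ _, ?_⟩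
      intro i j hi
      simp only [k5qcard_mat, Matrix.of_apply, if_neg hi]
    · funext j
      simp [k5qcard_mat]

end Cfsg.Agent.Lib.Helper76.Sl
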