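import Cfsg.Agent.Lib.Helper24.SlK7core
import Cfsg.Agent.Lib.Helper5.SlK1
import Cfsg.Agent.Lib.Helper49.SlK6

/-! # Sl hive (helper76, S2332), leaf SL-K7 `decomp`: exact-name wrapper of `k7_core` on the landed
K1 `resq` (helper5) and K6 `linear_trivial` (helper49). -/

set_option autoImplicit false

namespace Cfsg.Agent.Lib.Helper76.Sl

open Matrix Cfsg

variable {F : Type*} [Field F] [Fintype F] [DecidableEq F]

/-- K7 DECOMP (uses K1 + K6 + Helper3 `IsCharacter.exists_mult`) -/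
theorem decomp (m : ℕ) (hm : 1 ≤ m) (φ : Gm F m → ℂ) (hφ : IsCharacter (Gm F m) φ) (m0 : ℕ)
    (h1 : φ 1 = m0) (ht : φ (tv F m) = (m0 : ℂ) - (Fintype.card F : ℂ) ^ (m + 1)) :
    ∃ (ψ : Gm F m → ℂ) (k : ℕ), IsIrrCharacter (Gm F m) ψ ∧ ψ 1 ≠ 1 ∧
      classInner φ (fun _ => 1) = k ∧ ψ 1 + k = m0 ∧
      ψ (tv F m) = ψ 1 - (Fintype.card F : ℂ) ^ (m + 1) :=
  k7_core m (fun χ hχ hnl => resq m hm χ hχ hnl) (fun ψ hψ h => linear_trivial m hm ψ hψ h)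
    φ hφ m0 h1 ht

end Cfsg.Agent.Lib.Helper76.Sl
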