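import Cfsg.Agent.Lib.Helper76.SlDefs
import Cfsg.Agent.Lib.Helper3.CharOps
import Cfsg.Agent.Lib.Helper3.OddOrder

/-! # Sl hive (helper76, S2332), leaf SL-K7 core: `k7_core` = `decomp` with K1 (`resq`) and K6
(`linear_trivial`) as hypotheses (helper24) -/

set_option autoImplicit false

namespace Cfsg.Agent.Lib.Helper76.Sl

open Matrix Cfsg

variable {F : Type*} [Field F] [Fintype F] [DecidableEq F]

/-- a finite sum of natural numbers equal to `1` has exactly one non-zero term, equal to `1` -/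
theorem k7_sum_eq_one {ι : Type*} [Fintype ι] [DecidableEq ι] (f : ι → ℕ) (h : ∑ i, f i = 1) :
    ∃ i, f i = 1 ∧ ∀ j, j ≠ i → f j = 0 := by
  have hne : ∑ i, f i ≠ 0 := by rw [h]; exact one_ne_zero
  obtain ⟨i, _, hi⟩ := Finset.exists_ne_zero_of_sum_ne_zero hne
  have hsplit : f i + ∑ j ∈ Finset.univ.erase i, f j = 1 := by
    rw [Finset.add_sum_erase _ _ (Finset.mem_univ i)]; exact h
  have h1 : f i = 1 := by omega
  have h0 : ∑ j ∈ Finset.univ.erase i, f j = 0 := by omega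
  refine ⟨i, h1, fun j hj => ?_⟩
  exact (Finset.sum_eq_zero_iff.mp h0) j (Finset.mem_erase.mpr ⟨hj, Finset.mem_univ j⟩)

/-- K7 with K1 and K6 as hypotheses -/
theorem k7_core (m : ℕ)
    (hK1 : ∀ χ : Gm F m → ℂ, IsIrrCharacter (Gm F m) χ → χ 1 ≠ 1 →
      ∃ m0 mm : ℕ, 1 ≤ mm ∧ χ 1 = (m0 : ℂ) + mm * ((Fintype.card F : ℂ) ^ (m + 1) - 1) ∧
        χ (tv F m) = (m0 : ℂ) - mm ∧ avgQ F m χ 1 = m0)
    (hK6 : ∀ ψ : Gm F m → ℂ, IsIrrCharacter (Gm F m) ψ → ψ 1 = 1 → ψ = fun _ => 1)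
    (φ : Gm F m → ℂ) (hφ : IsCharacter (Gm F m) φ) (m0 : ℕ)
    (h1 : φ 1 = m0) (ht : φ (tv F m) = (m0 : ℂ) - (Fintype.card F : ℂ) ^ (m + 1)) :
    ∃ (ψ : Gm F m → ℂ) (k : ℕ), IsIrrCharacter (Gm F m) ψ ∧ ψ 1 ≠ 1 ∧
      classInner φ (fun _ => 1) = k ∧ ψ 1 + k = m0 ∧
      ψ (tv F m) = ψ 1 - (Fintype.card F : ℂ) ^ (m + 1) := by
  classical
  have : Fintype (IrrCharacter (Gm F m)) := Fintype.ofFinite _
  set Q : ℂ := (Fintype.card F : ℂ) ^ (m + 1) with hQ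
  have hQ0 : Q ≠ 0 := by
    rw [hQ]
    exact pow_ne_zero _ (Nat.cast_ne_zero.mpr Fintype.card_ne_zero)
  obtain ⟨a, ha, hsum⟩ := Cfsg.Agent.Lib.Helper3.IsCharacter.exists_mult hφ
  -- the numbers `d ψ`
  have hd : ∀ ψ : IrrCharacter (Gm F m), ∃ d : ℕ,
      (ψ : Gm F m → ℂ) 1 - (ψ : Gm F m → ℂ) (tv F m) = d * Q ∧
      ((ψ : Gm F m → ℂ) 1 ≠ 1 → 1 ≤ d) ∧ ((ψ : Gm F m → ℂ) 1 = 1 → d = 0) := by
    intro ψ
    by_cases hl : (ψ : Gm F m → ℂ) 1 = 1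
    · refine ⟨0, ?_, fun h => absurd hl h, fun _ => rfl⟩
      have := hK6 ψ ψ.2 hl
      rw [this]; simp
    · obtain ⟨n0, mm, hmm, e1, e2, -⟩ := hK1 ψ ψ.2 hl
      refine ⟨mm, ?_, fun _ => hmm, fun h => absurd h hl⟩
      rw [e1, e2, hQ]; ring
  choose d hd1 hd2 hd3 using hd
  -- evaluate `φ` at `1` and at `tv`
  have heval : ∀ g : Gm F m, φ g = ∑ ψ : IrrCharacter (Gm F m), (a ψ : ℂ) * (ψ : Gm F m → ℂ) g := by
    intro g
    conv_lhs => rw [hsum]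
    simp [Finset.sum_apply, Pi.smul_apply, smul_eq_mul]
  have hdiff : Q = ∑ ψ : IrrCharacter (Gm F m), ((a ψ * d ψ : ℕ) : ℂ) * Q := by
    have e : φ 1 - φ (tv F m) = Q := by rw [h1, ht]; ring
    have e2 : φ 1 - φ (tv F m) = ∑ ψ : IrrCharacter (Gm F m), ((a ψ * d ψ : ℕ) : ℂ) * Q := by
      rw [heval 1, heval (tv F m), ← Finset.sum_sub_distrib]
      apply Finset.sum_congr rfl
      intro ψ _
      rw [← mul_sub, hd1 ψ]
      push_cast; ring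
    exact e.symm.trans e2
  have hnat : ∑ ψ : IrrCharacter (Gm F m), a ψ * d ψ = 1 := by
    rw [← Finset.sum_mul] at hdiff
    have h2 : (∑ ψ : IrrCharacter (Gm F m), ((a ψ * d ψ : ℕ) : ℂ)) = 1 := by
      have h3 : (∑ ψ : IrrCharacter (Gm F m), ((a ψ * d ψ : ℕ) : ℂ)) * Q = 1 * Q := by
        rw [one_mul]; exact hdiff.symm
      exact mul_right_cancel₀ hQ0 h3
    have h4 : ((∑ ψ : IrrCharacter (Gm F m), a ψ * d ψ : ℕ) : ℂ) = ((1 : ℕ) : ℂ) := by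
      push_cast
      push_cast at h2
      exact h2
    exact_mod_cast h4
  obtain ⟨ψ₀, h0, hrest⟩ := k7_sum_eq_one _ hnat
  have ha0 : a ψ₀ = 1 := Nat.dvd_one.mp (Dvd.intro _ h0)
  have hd0 : d ψ₀ = 1 := Nat.dvd_one.mp (Dvd.intro_left _ h0)
  have hnl : (ψ₀ : Gm F m → ℂ) 1 ≠ 1 := by
    intro h
    have := hd3 ψ₀ h
    omega
  -- the trivial character
  let t₀ : IrrCharacter (Gm F m) := ⟨fun _ => 1, Cfsg.Agent.Lib.Helper3.isIrrCharacter_one⟩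
  have hne : ψ₀ ≠ t₀ := by
    intro h
    apply hnl
    rw [h]
  have hother : ∀ ψ : IrrCharacter (Gm F m), ψ ≠ ψ₀ ∧ ψ ≠ t₀ → a ψ = 0 := by
    rintro ψ ⟨h1', h2'⟩
    have hz := hrest ψ h1'
    rcases Nat.mul_eq_zero.mp hz with h | h
    · exact h
    · exfalso
      by_cases hl : (ψ : Gm F m → ℂ) 1 = 1
      · apply h2'
        apply Subtype.ext
        exact hK6 ψ ψ.2 hl
      · have := hd2 ψ hl
        omega
  refine ⟨ψ₀, a t₀, ψ₀.2, hnl, ha t₀, ?_, ?_⟩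
  · have e := heval 1
    rw [Finset.sum_eq_add ψ₀ t₀ hne] at e
    · rw [ha0, h1] at e
      rw [e]
      simp [t₀]
    · intro c _ hc
      rw [hother c hc]; simp
    · intro h; exact absurd (Finset.mem_univ _) h
    · intro h; exact absurd (Finset.mem_univ _) h
  · have := hd1 ψ₀
    rw [hd0] at this
    push_cast at this
    linear_combination (-1 : ℂ) * this

end Cfsg.Agent.Lib.Helper76.Sl
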