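import Cfsg.Agent.Lib.Helper39.SmDefs

/-! Sm hive (S2086, owner helper39), leaf SM-G-EQ: commutators of elements with the same images
under a central extension agree. -/

set_option autoImplicit false

namespace Cfsg.Agent.Lib.Helper39.Sm

open Cfsg.Agent.Lib.Helper41.Stn
open scoped commutatorElement

section G
variable {Y S : Type*} [Group Y] [Group S] (φ : Y →* S) (hφ : Function.Surjective φ)

theorem geq_comm_mul_center_left {Y : Type*} [Group Y] {z : Y} (hz : z ∈ Subgroup.center Y) (a b : Y) :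
    ⁅a * z, b⁆ = ⁅a, b⁆ := by
  rw [Subgroup.mem_center_iff] at hz
  rw [commutatorElement_def, commutatorElement_def, mul_inv_rev]
  calc a * z * b * (z⁻¹ * a⁻¹) * b⁻¹ = a * (z * b) * z⁻¹ * a⁻¹ * b⁻¹ := by group
    _ = a * (b * z) * z⁻¹ * a⁻¹ * b⁻¹ := by rw [hz b]
    _ = a * b * a⁻¹ * b⁻¹ := by group

theorem geq_comm_mul_center_right {Y : Type*} [Group Y] {z : Y} (hz : z ∈ Subgroup.center Y) (a b : Y) :
    ⁅a, b * z⁆ = ⁅a, b⁆ := by
  rw [Subgroup.mem_center_iff] at hz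
  rw [commutatorElement_def, commutatorElement_def, mul_inv_rev]
  calc a * (b * z) * a⁻¹ * (z⁻¹ * b⁻¹) = a * b * (z * a⁻¹) * z⁻¹ * b⁻¹ := by group
    _ = a * b * (a⁻¹ * z) * z⁻¹ * b⁻¹ := by rw [hz a⁻¹]
    _ = a * b * a⁻¹ * b⁻¹ := by group

/-- G-EQ. `a' = a z`, `b' = b z'` with `z, z'` central. -/
theorem comm_eq_of_map_eq (hc : φ.ker ≤ Subgroup.center Y) {a a' b b' : Y} (ha : φ a = φ a')
    (hb : φ b = φ b') : ⁅a, b⁆ = ⁅a', b'⁆ := by
  have hz : a⁻¹ * a' ∈ Subgroup.center Y :=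
    hc (by rw [MonoidHom.mem_ker, map_mul, map_inv, ha, inv_mul_cancel])
  have hz' : b⁻¹ * b' ∈ Subgroup.center Y :=
    hc (by rw [MonoidHom.mem_ker, map_mul, map_inv, hb, inv_mul_cancel])
  have ea : a' = a * (a⁻¹ * a') := by group
  have eb : b' = b * (b⁻¹ * b') := by group
  rw [ea, eb, geq_comm_mul_center_left hz, geq_comm_mul_center_right hz']

end G

end Cfsg.Agent.Lib.Helper39.Sm
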