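import Cfsg.Agent.Lib.Helper41.StnDefs
import Cfsg.Agent.Lib.Helper64.StnNpermDefs

/-! # Stn hive (S2401, helper41), sub-hive NPERM (helper64), leaf NP-STEP, core (helper24)

`npstep_core` = `NS_insert_decomp` with the statements of HNORM, WSAME, WSHIFT, WDISJ and the
Layer-A rules `ww_eq_hh_mul`, `ww_inv`, `ww_symm` as hypotheses. -/

set_option autoImplicit false

namespace Cfsg.Agent.Lib.Helper41.Stn

open Matrix

variable {K : Type*} [Field K] {n : ℕ}

/-- the decomposition predicate -/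
def npstep_R (K : Type*) [Field K] {n : ℕ} (a : Fin n) (S : Finset (Fin n)) (z : St K n) : Prop :=
  ∃ h ∈ HH K n, ∃ ν' ∈ NS K S, z = h * ν' ∨ ∃ m ∈ S, z = h * ww a m 1 * ν'

theorem npstep_R_one (a : Fin n) (S : Finset (Fin n)) : npstep_R K a S (1 : St K n) :=
  ⟨1, Subgroup.one_mem _, 1, Subgroup.one_mem _, Or.inl (by simp)⟩

theorem npstep_R_mul_left {a : Fin n} {S : Finset (Fin n)} {z h₀ : St K n} (h₀m : h₀ ∈ HH K n)
    (hz : npstep_R K a S z) : npstep_R K a S (h₀ * z) := by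
  obtain ⟨h, hh, ν', hν', hz⟩ := hz
  refine ⟨h₀ * h, Subgroup.mul_mem _ h₀m hh, ν', hν', ?_⟩
  rcases hz with rfl | ⟨m, hm, rfl⟩
  · exact Or.inl (by group)
  · exact Or.inr ⟨m, hm, by group⟩

theorem npstep_R_mul_right {a : Fin n} {S : Finset (Fin n)} {z ν₀ : St K n} (ν₀m : ν₀ ∈ NS K S)
    (hz : npstep_R K a S z) : npstep_R K a S (z * ν₀) := by
  obtain ⟨h, hh, ν', hν', hz⟩ := hz
  refine ⟨h, hh, ν' * ν₀, Subgroup.mul_mem _ hν' ν₀m, ?_⟩
  rcases hz with rfl | ⟨m, hm, rfl⟩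
  · exact Or.inl (by group)
  · exact Or.inr ⟨m, hm, by group⟩

section core

variable
  (hHNORM : ∀ {ν h : St K n}, ν ∈ NN K n → h ∈ HH K n → ν * h * ν⁻¹ ∈ HH K n)
  (hSAME : ∀ {i j : Fin n}, i ≠ j → ∀ {t : K}, t ≠ 0 → ww i j t * ww i j 1 ∈ HH K n)
  (hSHIFT : ∀ {k j m : Fin n}, k ≠ j → k ≠ m → j ≠ m → ∀ {t : K}, t ≠ 0 →
    ww k j t * ww k m 1 = ww k m 1 * ww m j t)
  (hDISJ : ∀ {i j k m : Fin n}, i ≠ j → k ≠ i → k ≠ j → k ≠ m → ∀ {t : K}, t ≠ 0 →
    ∃ h ∈ HH K n, ww i j t * ww k m 1 = h * ww k (Equiv.swap i j m) 1 * ww i j t)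
  (hEQ : ∀ (i j : Fin n) (t : K), ww i j t = hh i j t * ww i j 1)
  (hINV : ∀ (i j : Fin n) (t : K), (ww i j t)⁻¹ = ww i j (-t))
  (hSYMM : ∀ {i j : Fin n}, i ≠ j → ∀ {t : K}, t ≠ 0 → ww j i t = ww i j (-t⁻¹))

include hSAME hSHIFT hEQ in
/-- case `i = a`: `ww a j t * τ` with `τ = 1` or `τ = ww a m 1` -/
theorem npstep_case_a {a : Fin n} {S : Finset (Fin n)} (ha : a ∉ S) {j : Fin n} (hj : j ∈ S)
    {t : K} (ht : t ≠ 0) :
    npstep_R K a S (ww a j t) ∧ ∀ m ∈ S, npstep_R K a S (ww a j t * ww a m 1) := by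
  have haj : a ≠ j := fun h => ha (h ▸ hj)
  refine ⟨?_, ?_⟩
  · refine ⟨hh a j t, hh_mem_HH haj ht, 1, Subgroup.one_mem _, Or.inr ⟨j, hj, ?_⟩⟩
    rw [mul_one]
    exact hEQ a j t
  · intro m hm
    have ham : a ≠ m := fun h => ha (h ▸ hm)
    by_cases hmj : m = j
    · subst hmj
      exact ⟨ww a m t * ww a m 1, hSAME ham ht, 1, Subgroup.one_mem _, Or.inl (by simp)⟩
    · refine ⟨1, Subgroup.one_mem _, ww m j t, ww_mem_NS hm hj hmj ht, Or.inr ⟨m, hm, ?_⟩⟩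
      rw [one_mul]
      exact hSHIFT haj ham (Ne.symm hmj) ht

include hSAME hSHIFT hDISJ hEQ hSYMM in
/-- a generator times `τ` -/
theorem npstep_gen {a : Fin n} {S : Finset (Fin n)} (ha : a ∉ S) {i j : Fin n}
    (hi : i ∈ insert a S) (hj : j ∈ insert a S) (hij : i ≠ j) {t : K} (ht : t ≠ 0) :
    npstep_R K a S (ww i j t) ∧ ∀ m ∈ S, npstep_R K a S (ww i j t * ww a m 1) := by
  rw [Finset.mem_insert] at hi hj
  rcases hi with rfl | hi
  · -- `i = a`
    have hj' : j ∈ S := by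
      rcases hj with h | h
      · exact absurd h.symm hij
      · exact h
    exact npstep_case_a hSAME hSHIFT hEQ ha hj' ht
  · rcases hj with rfl | hj
    · -- `j = a`
      have hai : j ≠ i := Ne.symm hij
      have e : ww i j t = ww j i (-t⁻¹) := hSYMM hai ht
      have ht' : -t⁻¹ ≠ 0 := neg_ne_zero.mpr (inv_ne_zero ht)
      rw [e]
      exact npstep_case_a hSAME hSHIFT hEQ ha hi ht'
    · -- both in `S`
      have hai : a ≠ i := fun h => ha (h ▸ hi)
      have haj : a ≠ j := fun h => ha (h ▸ hj)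
      refine ⟨⟨1, Subgroup.one_mem _, ww i j t, ww_mem_NS hi hj hij ht, Or.inl (by simp)⟩, ?_⟩
      intro m hm
      have ham : a ≠ m := fun h => ha (h ▸ hm)
      obtain ⟨h, hh, e⟩ := hDISJ hij hai haj ham (m := m) ht
      have hsw : Equiv.swap i j m ∈ S := by
        by_cases h1 : m = i
        · rw [h1, Equiv.swap_apply_left]; exact hj
        · by_cases h2 : m = j
          · rw [h2, Equiv.swap_apply_right]; exact hi
          · rw [Equiv.swap_apply_of_ne_of_ne h1 h2]; exact hm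
      exact ⟨h, hh, ww i j t, ww_mem_NS hi hj hij ht, Or.inr ⟨_, hsw, e⟩⟩

include hHNORM hSAME hSHIFT hDISJ hEQ hSYMM in
/-- left multiplication by a generator preserves the decomposition -/
theorem npstep_gen_mul {a : Fin n} {S : Finset (Fin n)} (ha : a ∉ S) {i j : Fin n}
    (hi : i ∈ insert a S) (hj : j ∈ insert a S) (hij : i ≠ j) {t : K} (ht : t ≠ 0)
    {y : St K n} (hy : npstep_R K a S y) : npstep_R K a S (ww i j t * y) := by
  obtain ⟨h, hh, ν', hν', hy⟩ := hy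
  obtain ⟨h1, h2⟩ := npstep_gen hSAME hSHIFT hDISJ hEQ hSYMM ha hi hj hij ht
  have hg : ww i j t ∈ NN K n := ww_mem_NN hij ht
  have hconj : ww i j t * h * (ww i j t)⁻¹ ∈ HH K n := hHNORM hg hh
  rcases hy with rfl | ⟨m, hm, rfl⟩
  · have e : ww i j t * (h * ν') = (ww i j t * h * (ww i j t)⁻¹) * (ww i j t * ν') := by group
    rw [e]
    exact npstep_R_mul_left hconj (npstep_R_mul_right hν' h1)
  · have e : ww i j t * (h * ww a m 1 * ν') =
        (ww i j t * h * (ww i j t)⁻¹) * (ww i j t * ww a m 1 * ν') := by group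
    rw [e]
    exact npstep_R_mul_left hconj (npstep_R_mul_right hν' (h2 m hm))

include hHNORM hSAME hSHIFT hDISJ hEQ hINV hSYMM in
/-- NP-STEP with the rules as hypotheses -/
theorem npstep_core {a : Fin n} {S : Finset (Fin n)} (ha : a ∉ S) {ν : St K n}
    (hν : ν ∈ NS K (insert a S)) :
    ∃ h ∈ HH K n, ∃ ν' ∈ NS K S, ν = h * ν' ∨ ∃ m ∈ S, ν = h * ww a m 1 * ν' := by
  change npstep_R K a S ν
  unfold NS at hν
  induction hν using Subgroup.closure_induction_left with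
  | one => exact npstep_R_one a S
  | mul_left x hx y _ ih =>
    obtain ⟨i, j, t, hi, hj, hij, ht, rfl⟩ := hx
    exact npstep_gen_mul hHNORM hSAME hSHIFT hDISJ hEQ hSYMM ha hi hj hij ht ih
  | inv_mul_cancel x hx y _ ih =>
    obtain ⟨i, j, t, hi, hj, hij, ht, rfl⟩ := hx
    rw [hINV]
    exact npstep_gen_mul hHNORM hSAME hSHIFT hDISJ hEQ hSYMM ha hi hj hij (neg_ne_zero.mpr ht) ih

end core

end Cfsg.Agent.Lib.Helper41.Stn
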