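import Mathlib
import Cfsg.Agent.Lib.Helper3.SzC0

set_option autoImplicit false
set_option linter.style.haveILetI false
set_option linter.unusedSectionVars false
set_option linter.unusedVariables false

/-! # S0347 part C, leaf C1: the exact number of pairs of involutions with fixed point free product. -/

namespace Cfsg.Agent.Lib.Helper3.Sz

open Cfsg MulAction
open Cfsg.Agent.Lib.Helper97.Zass
open Cfsg.Agent.Lib.Helper3.ZassOdd
open Cfsg.Agent.Lib.Helper3.ZassFeit

variable {G Ω : Type*} [Group G] [MulAction G Ω] [Fintype Ω] {a b : Ω} {Q : Subgroup G} {q : ℕ}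

theorem c1h24_exists_smul (hy : Hyp G Ω) (x y : Ω) : ∃ w : G, w • x = y := by
  by_cases hxy : x = y
  · exact ⟨1, by rw [one_smul, hxy]⟩
  · obtain ⟨w, hw, -⟩ := hy.h2 hxy (Ne.symm hxy)
    exact ⟨w, hw⟩

/-- two involutions with a common fixed point commute. -/
theorem c1h24_comm [Finite G] [IsSimpleGroup G] (c : Ctx G a b Q q) {s t : G} (hs1 : s ≠ 1)
    (hs2 : s * s = 1) (ht1 : t ≠ 1) (ht2 : t * t = 1) {p : Ω} (hsp : s • p = p)
    (htp : t • p = p) : s * t = t * s := by
  obtain ⟨w, hw⟩ := c1h24_exists_smul c.hy p a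
  have hconj1 : ∀ u : G, u ≠ 1 → w * u * w⁻¹ ≠ 1 := by
    intro u hu h
    apply hu
    have := congrArg (fun v => w⁻¹ * v * w) h
    simpa [mul_assoc] using this
  have hconj2 : ∀ u : G, u * u = 1 → (w * u * w⁻¹) * (w * u * w⁻¹) = 1 := by
    intro u hu
    calc (w * u * w⁻¹) * (w * u * w⁻¹) = w * (u * u) * w⁻¹ := by group
      _ = 1 := by rw [hu]; group
  have hfix : ∀ u : G, u • p = p → (w * u * w⁻¹) • a = a := by
    intro u hu
    rw [← hw, mul_smul, mul_smul, inv_smul_smul, hu]
  have hsQ : w * s * w⁻¹ ∈ Q := c.inv_mem (hconj1 s hs1) (hconj2 s hs2) (hfix s hsp)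
  have htQ : w * t * w⁻¹ ∈ Q := c.inv_mem (hconj1 t ht1) (hconj2 t ht2) (hfix t htp)
  have h := c.inv_comm hsQ (hconj1 s hs1) (hconj2 s hs2) _ htQ
  have h2 : w⁻¹ * (w * s * w⁻¹ * (w * t * w⁻¹)) * w = w⁻¹ * (w * t * w⁻¹ * (w * s * w⁻¹)) * w :=
    congrArg (fun v => w⁻¹ * v * w) h
  calc s * t = w⁻¹ * (w * s * w⁻¹ * (w * t * w⁻¹)) * w := by group
    _ = w⁻¹ * (w * t * w⁻¹ * (w * s * w⁻¹)) * w := h2
    _ = t * s := by group

/-- the product of two distinct involutions with a common fixed point is an involution. -/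
theorem c1h24_prod [Finite G] [IsSimpleGroup G] (c : Ctx G a b Q q) {s t : G} (hs1 : s ≠ 1)
    (hs2 : s * s = 1) (ht1 : t ≠ 1) (ht2 : t * t = 1) (hne : s ≠ t) {p : Ω} (hsp : s • p = p)
    (htp : t • p = p) : s * t ≠ 1 ∧ (s * t) * (s * t) = 1 := by
  have hcomm := c1h24_comm c hs1 hs2 ht1 ht2 hsp htp
  constructor
  · intro h
    apply hne
    have h1 : s⁻¹ = s := inv_eq_of_mul_eq_one_left hs2
    have h2 : t = s⁻¹ := (inv_eq_of_mul_eq_one_right h).symm
    rw [h2, h1]
  · calc (s * t) * (s * t) = s * (t * s) * t := by group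
      _ = s * (s * t) * t := by rw [hcomm]
      _ = (s * s) * (t * t) := by group
      _ = 1 := by rw [hs2, ht2, one_mul]

section
variable [Fintype G] [DecidableEq G] [DecidableEq Ω]

theorem c1h24_coin_iff {x x' : G} (hx2 : x * x = 1) (p : Ω) :
    p ∈ coin (Ω := Ω) x x' ↔ (x * x') • p = p := by
  rw [mem_coin, mul_smul]
  constructor
  · intro h
    rw [h, ← mul_smul, hx2, one_smul]
  · intro h
    have this : x • (x • x' • p) = x • p := congrArg (fun z => x • z) h
    rw [← mul_smul, hx2, one_smul] at this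
    exact this

/-- the exact pointwise identity. -/
theorem c1h24_pair_eq [IsSimpleGroup G] (c : Ctx G a b Q q) {x x' : G} (hx : x ∈ invs G)
    (hx' : x' ∈ invs G) (hne : x ≠ x') :
    2 * (if (x, x') ∈ fpfPairs G Ω then 1 else 0) + (coin (Ω := Ω) x x').card +
      (if (x, x') ∈ cfPairs G Ω then 1 else 0) = 2 := by
  obtain ⟨hx1, hx2⟩ := mem_invs.mp hx
  obtain ⟨hx'1, hx'2⟩ := mem_invs.mp hx'
  have hprod1 : x * x' ≠ 1 := by
    intro h
    apply hne
    have h1 : x⁻¹ = x := inv_eq_of_mul_eq_one_left hx2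
    have h2 : x' = x⁻¹ := (inv_eq_of_mul_eq_one_right h).symm
    rw [h2, h1]
  -- with a common fixed point the product has exactly one fixed point
  have huniq : ∀ p₀ : Ω, x • p₀ = p₀ → x' • p₀ = p₀ → ∀ p₁ p₂ : Ω, (x * x') • p₁ = p₁ →
      (x * x') • p₂ = p₂ → p₁ = p₂ := by
    intro p₀ h1 h2 p₁ p₂ hp₁ hp₂
    obtain ⟨h3, h4⟩ := c1h24_prod c hx1 hx2 hx'1 hx'2 hne h1 h2
    obtain ⟨r, -, hr⟩ := c.exists_unique_fix h3 h4
    rw [hr p₁ hp₁, hr p₂ hp₂]
  by_cases hf : (x, x') ∈ fpfPairs G Ω
  · have hf' := hf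
    rw [fpfPairs, Finset.mem_filter, Finset.mem_product] at hf'
    have hcoin : coin (Ω := Ω) x x' = ∅ := by
      rw [Finset.eq_empty_iff_forall_notMem]
      intro p hp
      exact hf'.2 p ((c1h24_coin_iff hx2 p).mp hp)
    have hcf : (x, x') ∉ cfPairs G Ω := by
      intro h
      rw [cfPairs, Finset.mem_filter] at h
      obtain ⟨-, -, p, hp1, hp2⟩ := h
      apply hf'.2 p
      rw [mul_smul, hp2, hp1]
    rw [if_pos hf, if_neg hcf, hcoin, Finset.card_empty]
  · rw [if_neg hf]
    have hf' := hf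
    rw [fpfPairs, Finset.mem_filter, Finset.mem_product] at hf'
    push Not at hf'
    obtain ⟨p, hp⟩ := hf' ⟨hx, hx'⟩
    have hp' : x' • p = x • p := by
      have := (c1h24_coin_iff (x' := x') hx2 p).mpr hp
      exact mem_coin.mp this
    by_cases hpd : x • p = p
    · have hcf : (x, x') ∈ cfPairs G Ω := by
        rw [cfPairs, Finset.mem_filter, Finset.mem_product]
        exact ⟨⟨hx, hx'⟩, hne, p, hpd, hp'.trans hpd⟩
      have hcoin : coin (Ω := Ω) x x' = {p} := by
        ext r
        rw [Finset.mem_singleton, c1h24_coin_iff hx2]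
        constructor
        · intro hr
          exact huniq p hpd (hp'.trans hpd) r p hr hp
        · intro hr
          rw [hr]; exact hp
      rw [if_pos hcf, hcoin, Finset.card_singleton]
    · have hd : (x * x') • (x • p) = x • p := by
        rw [mul_smul, ← hp', ← mul_smul x' x', hx'2, one_smul, hp']
      have hcf : (x, x') ∉ cfPairs G Ω := by
        intro h
        rw [cfPairs, Finset.mem_filter] at h
        obtain ⟨-, -, p₀, h1, h2⟩ := h
        exact hpd (huniq p₀ h1 h2 _ _ hd hp)
      have hcoin : coin (Ω := Ω) x x' = {p, x • p} := by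
        ext r
        rw [Finset.mem_insert, Finset.mem_singleton, c1h24_coin_iff hx2]
        constructor
        · intro hr
          by_contra hcon
          push Not at hcon
          exact hprod1 (c.hy.h3 (x * x') p (x • p) r (Ne.symm hpd) (Ne.symm hcon.2)
            (Ne.symm hcon.1) hp hd hr)
        · rintro (rfl | rfl)
          · exact hp
          · exact hd
      rw [if_neg hcf, hcoin, Finset.card_pair (Ne.symm hpd)]

/-- the number of pairs of distinct involutions with a common fixed point. -/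
theorem c1h24_card_cfPairs [IsSimpleGroup G] (c : Ctx G a b Q q) :
    (cfPairs G Ω).card + ∑ p : Ω, invCount G p p = ∑ p : Ω, invCount G p p ^ 2 := by
  have hset : cfPairs G Ω = Finset.univ.biUnion
      (fun p : Ω => ((invs G).filter (fun x => x • p = p)).offDiag) := by
    ext r
    rw [cfPairs, Finset.mem_filter, Finset.mem_product, Finset.mem_biUnion]
    constructor
    · rintro ⟨⟨h1, h2⟩, hne, p, hp1, hp2⟩
      refine ⟨p, Finset.mem_univ _, ?_⟩
      rw [Finset.mem_offDiag, Finset.mem_filter, Finset.mem_filter]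
      exact ⟨⟨h1, hp1⟩, ⟨h2, hp2⟩, hne⟩
    · rintro ⟨p, -, hp⟩
      rw [Finset.mem_offDiag, Finset.mem_filter, Finset.mem_filter] at hp
      exact ⟨⟨hp.1.1, hp.2.1.1⟩, hp.2.2, p, hp.1.2, hp.2.1.2⟩
  have hdisj : ((Finset.univ : Finset Ω) : Set Ω).PairwiseDisjoint
      (fun p : Ω => ((invs G).filter (fun x => x • p = p)).offDiag) := by
    intro p _ p' _ hpp'
    rw [Function.onFun, Finset.disjoint_left]
    intro r hr hr'
    rw [Finset.mem_offDiag, Finset.mem_filter] at hr hr'
    obtain ⟨h1, h2⟩ := mem_invs.mp hr.1.1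
    obtain ⟨s, -, hs⟩ := c.exists_unique_fix h1 h2
    exact hpp' ((hs p hr.1.2).trans (hs p' hr'.1.2).symm)
  rw [hset, Finset.card_biUnion hdisj]
  simp only [Finset.offDiag_card]
  rw [← Finset.sum_add_distrib]
  apply Finset.sum_congr rfl
  intro p _
  rw [pow_two]
  have : invCount G p p ≤ invCount G p p * invCount G p p := Nat.le_mul_self _
  have h2 : ((invs G).filter (fun x => x • p = p)).card = invCount G p p := rfl
  rw [h2]
  omega

theorem c1h24_sum_left :
    ∑ p ∈ invs G ×ˢ invs G, (if p.1 = p.2 then Fintype.card Ω else 2) + 2 * (invs G).card =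
      2 * (invs G).card ^ 2 + Fintype.card Ω * (invs G).card := by
  set T := invs G ×ˢ invs G with hT
  rw [Finset.sum_ite, Finset.sum_const, Finset.sum_const, smul_eq_mul, smul_eq_mul]
  have h1 : (T.filter (fun p : G × G => p.1 = p.2)).card = (invs G).card := by
    apply Finset.card_nbij' (fun p => p.1) (fun x => (x, x))
    · intro p hp
      rw [Finset.mem_coe, Finset.mem_filter, hT, Finset.mem_product] at hp
      exact hp.1.1
    · intro x hx
      rw [Finset.mem_coe, Finset.mem_filter, hT, Finset.mem_product]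
      exact ⟨⟨hx, hx⟩, rfl⟩
    · intro p hp
      rw [Finset.mem_coe, Finset.mem_filter] at hp
      exact Prod.ext rfl hp.2
    · intro x _
      rfl
  have h2 : (T.filter (fun p : G × G => ¬ p.1 = p.2)).card + (invs G).card =
      (invs G).card ^ 2 := by
    have h3 := Finset.card_filter_add_card_filter_not (s := T) (fun p : G × G => p.1 = p.2)
    rw [h1, hT, Finset.card_product] at h3
    rw [pow_two, ← h3, add_comm]
  rw [h1]
  have : (T.filter (fun p : G × G => ¬ p.1 = p.2)).card * 2 + 2 * (invs G).card =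
      2 * (invs G).card ^ 2 := by rw [← h2]; ring
  rw [mul_comm ((invs G).card) (Fintype.card Ω)]
  omega

theorem c1h24_sum_right :
    ∑ p ∈ invs G ×ˢ invs G, (2 * (if p ∈ fpfPairs G Ω then 1 else 0) +
        (coin (Ω := Ω) p.1 p.2).card + (if p ∈ cfPairs G Ω then 1 else 0)) =
      2 * (fpfPairs G Ω).card + ∑ c : Ω, ∑ d : Ω, invCount G c d ^ 2 + (cfPairs G Ω).card := by
  rw [Finset.sum_add_distrib, Finset.sum_add_distrib, ← Finset.mul_sum, sum_card_coin]
  congr 1
  · congr 2
    rw [← Finset.card_filter]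
    congr 1
    rw [Finset.filter_mem_eq_inter, Finset.inter_eq_right, fpfPairs]
    exact Finset.filter_subset _ _
  · rw [← Finset.card_filter]
    congr 1
    rw [Finset.filter_mem_eq_inter, Finset.inter_eq_right, cfPairs]
    exact Finset.filter_subset _ _

end

/-- **Leaf C1.** -/
theorem card_fpfPairs [Fintype G] [DecidableEq G] [DecidableEq Ω] [IsSimpleGroup G]
    (c : Ctx G a b Q q) : 2 * (fpfPairs G Ω).card = Nat.card G * q := by
  have hy := c.hy
  have hoddN := c.odd_card
  obtain ⟨hI, hself⟩ := (card_invs c.zass c.hab c.hodd).2 hoddN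
  set e := Nat.card (twoStab G a b) with he
  set N := Fintype.card Ω with hN
  have hall : ∀ p d : Ω, invCount G p d = e := by
    intro p d
    by_cases hpd : p = d
    · rw [hpd]; exact hself d
    · rw [invCount_of_ne c.zass hpd (c.hodd' hpd), card_twoStab_eq_of_ne hy c.hab hpd]
  -- the main identity
  have hmain : ∑ p ∈ invs G ×ˢ invs G, (if p.1 = p.2 then N else 2) =
      ∑ p ∈ invs G ×ˢ invs G, (2 * (if p ∈ fpfPairs G Ω then 1 else 0) +
        (coin (Ω := Ω) p.1 p.2).card + (if p ∈ cfPairs G Ω then 1 else 0)) := by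
    apply Finset.sum_congr rfl
    rintro ⟨x, x'⟩ hp
    rw [Finset.mem_product] at hp
    by_cases hxx : x = x'
    · subst hxx
      simp only [if_true]
      have h1 : coin (Ω := Ω) x x = Finset.univ := by
        ext r; simp [mem_coin]
      have h2 : (x, x) ∉ fpfPairs G Ω := by
        intro h
        rw [fpfPairs, Finset.mem_filter] at h
        have hx2 := (mem_invs.mp hp.1).2
        apply h.2 a
        show (x * x) • a = a
        rw [hx2, one_smul]
      have h3 : (x, x) ∉ cfPairs G Ω := by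
        intro h
        rw [cfPairs, Finset.mem_filter] at h
        exact h.2.1 rfl
      rw [if_neg h2, if_neg h3, h1, Finset.card_univ]
      show N = 2 * 0 + N + 0
      omega
    · simp only [hxx, if_false]
      exact (c1h24_pair_eq c hp.1 hp.2 hxx).symm
  have hL := c1h24_sum_left (G := G) (Ω := Ω)
  have hR := c1h24_sum_right (G := G) (Ω := Ω)
  have hcf := c1h24_card_cfPairs c
  rw [← hN] at hL
  rw [hmain, hR] at hL
  -- plug in the values
  have hS2 : ∑ p : Ω, ∑ d : Ω, invCount G p d ^ 2 = N * (N * e ^ 2) := by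
    rw [Finset.sum_congr rfl (fun p _ => Finset.sum_congr rfl (fun d _ => by rw [hall p d])),
      Finset.sum_const, Finset.sum_const, Finset.card_univ, smul_eq_mul, smul_eq_mul]
  have hS1 : ∑ p : Ω, invCount G p p = N * e := by
    rw [Finset.sum_congr rfl (fun p _ => hall p p), Finset.sum_const, Finset.card_univ,
      smul_eq_mul]
  have hS3 : ∑ p : Ω, invCount G p p ^ 2 = N * e ^ 2 := by
    rw [Finset.sum_congr rfl (fun p _ => by rw [hall p p]), Finset.sum_const, Finset.card_univ,
      smul_eq_mul]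
  rw [hS1, hS3] at hcf
  rw [hS2, hI] at hL
  have hG := card_eq hy c.hab
  rw [← he, ← hN] at hG
  have hq := c.hq
  rw [← he] at hq
  have h3 := three_le_card hy
  rw [← hN] at h3
  obtain ⟨m, hm⟩ : ∃ m, N = m + 1 := ⟨N - 1, by omega⟩
  rw [hG, ← hq, hm]
  rw [hm] at hL hcf
  simp only [Nat.add_sub_cancel]
  nlinarith [hL, hcf]

end Cfsg.Agent.Lib.Helper3.Sz
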