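import Cfsg.Agent.Lib.Helper24.CoprimeAbelian
import Cfsg.Agent.Lib.Helper24.WardStmt

/-!
# Ward's theorem: general lemmas on Frobenius-like actions (internal form)
-/

set_option autoImplicit false

universe u

namespace Cfsg.Agent.Lib.Helper24.Ward

open Subgroup
open Cfsg.Agent.Lib.Helper33 Cfsg.Agent.Lib.Helper24
open scoped Pointwise commutatorElement

variable {Γ : Type u} [Group Γ]

/-- injectivity of `x ↦ x⁻¹ a x a⁻¹` on a subgroup on which `a` has no fixed points. -/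
theorem fmap_inj {a x y : Γ} (D : Subgroup Γ) (hx : x ∈ D) (hy : y ∈ D)
    (hfix : ∀ d ∈ D, a * d = d * a → d = 1)
    (h : x⁻¹ * a * x * a⁻¹ = y⁻¹ * a * y * a⁻¹) : x = y := by
  have h2 : x⁻¹ * a * x = y⁻¹ * a * y := by
    have := congrArg (· * a) h
    simpa [mul_assoc] using this
  have h1 : a * (y * x⁻¹) = (y * x⁻¹) * a := by
    calc a * (y * x⁻¹) = y * (y⁻¹ * a * y) * x⁻¹ := by group
      _ = y * (x⁻¹ * a * x) * x⁻¹ := by rw [h2]
      _ = (y * x⁻¹) * a := by group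
  have := hfix (y * x⁻¹) (D.mul_mem hy (D.inv_mem hx)) h1
  exact (mul_inv_eq_one.mp this).symm

theorem fmap_mem {a x : Γ} (D : Subgroup Γ) (ha : a ∈ normalizer (D : Set Γ)) (hx : x ∈ D) :
    x⁻¹ * a * x * a⁻¹ ∈ D := by
  have h1 : a * x * a⁻¹ ∈ D := (mem_normalizer_iff.mp ha x).mp hx
  have e : x⁻¹ * a * x * a⁻¹ = x⁻¹ * (a * x * a⁻¹) := by group
  rw [e]; exact D.mul_mem (D.inv_mem hx) h1

/-- the map `x ↦ x⁻¹ a x a⁻¹` as a bijection of `D`. -/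
noncomputable def fEquiv (D : Subgroup Γ) [Finite D] (a : Γ) (ha : a ∈ normalizer (D : Set Γ))
    (hfix : ∀ d ∈ D, a * d = d * a → d = 1) : D ≃ D :=
  Equiv.ofBijective (fun x => ⟨(x : Γ)⁻¹ * a * x * a⁻¹, fmap_mem D ha x.2⟩)
    (by
      have hinj : Function.Injective
          (fun x : D => (⟨(x : Γ)⁻¹ * a * x * a⁻¹, fmap_mem D ha x.2⟩ : D)) := by
        intro x y hxy
        have := congrArg Subtype.val hxy
        exact Subtype.ext (fmap_inj D x.2 y.2 hfix this)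
      exact ⟨hinj, Finite.injective_iff_surjective.mp hinj⟩)

theorem fEquiv_apply (D : Subgroup Γ) [Finite D] (a : Γ) (ha : a ∈ normalizer (D : Set Γ))
    (hfix : ∀ d ∈ D, a * d = d * a → d = 1) (x : D) :
    ((fEquiv D a ha hfix x : D) : Γ) = (x : Γ)⁻¹ * a * x * a⁻¹ := rfl

theorem fmap_surj (D : Subgroup Γ) [Finite D] (a : Γ) (ha : a ∈ normalizer (D : Set Γ))
    (hfix : ∀ d ∈ D, a * d = d * a → d = 1) (d : Γ) (hd : d ∈ D) :
    ∃ e ∈ D, d = e⁻¹ * a * e * a⁻¹ := by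
  obtain ⟨e, he⟩ := (fEquiv D a ha hfix).surjective ⟨d, hd⟩
  exact ⟨e, e.2, (congrArg Subtype.val he).symm⟩

/-- **Uniqueness lemma.** If `b` acts without fixed points on the finite group `T'` and
normalizes both `K` and its conjugate `t K t⁻¹` (`t ∈ T'`), then `t` normalizes `K`. -/
theorem uniq_inv (T' : Subgroup Γ) [Finite T'] (b : Γ) (hb : b ∈ normalizer (T' : Set Γ))
    (hfix : ∀ d ∈ T', b * d = d * b → d = 1)
    (K : Subgroup Γ) (hbK : b ∈ normalizer (K : Set Γ)) (t : Γ) (ht : t ∈ T')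
    (hbKt : b ∈ normalizer ((cj t K : Subgroup Γ) : Set Γ)) :
    t ∈ normalizer (K : Set Γ) := by
  set N : Subgroup Γ := T' ⊓ normalizer (K : Set Γ) with hN
  have : Finite N := Finite.of_injective (Subgroup.inclusion (inf_le_left : N ≤ T'))
    (Subgroup.inclusion_injective _)
  have hbN : b ∈ normalizer (N : Set Γ) := by
    rw [mem_normalizer_iff]
    intro x
    constructor
    · intro hx
      exact ⟨(mem_normalizer_iff.mp hb x).mp hx.1,
        (normalizer (K : Set Γ)).mul_mem ((normalizer (K : Set Γ)).mul_mem hbK hx.2)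
          (inv_mem hbK)⟩
    · intro hx
      refine ⟨(mem_normalizer_iff.mp hb x).mpr hx.1, ?_⟩
      have h1 := (normalizer (K : Set Γ)).mul_mem
        ((normalizer (K : Set Γ)).mul_mem (inv_mem hbK) hx.2) hbK
      have e : b⁻¹ * (b * x * b⁻¹) * b = x := by group
      rwa [e] at h1
  -- t⁻¹ b t b⁻¹ ∈ N
  have h1 : t⁻¹ * b * t ∈ normalizer (K : Set Γ) := by
    rw [normalizer_cj, mem_cj] at hbKt
    exact hbKt
  have h2 : t⁻¹ * b * t * b⁻¹ ∈ N :=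
    ⟨fmap_mem T' hb ht, (normalizer (K : Set Γ)).mul_mem h1 (inv_mem hbK)⟩
  obtain ⟨n, hn, hne⟩ := fmap_surj N b hbN (fun d hd h => hfix d hd.1 h) _ h2
  have : t = n := fmap_inj T' ht hn.1 hfix hne
  rw [this]; exact hn.2

/-- conjugation by an element of the normalizer preserves membership (both directions). -/
theorem conj_mem_of_mem_normalizer {K : Subgroup Γ} {g x : Γ} (hg : g ∈ normalizer (K : Set Γ))
    (hx : x ∈ K) : g * x * g⁻¹ ∈ K := (mem_normalizer_iff.mp hg x).mp hx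

theorem conj_inv_mem_of_mem_normalizer {K : Subgroup Γ} {g x : Γ}
    (hg : g ∈ normalizer (K : Set Γ)) (hx : x ∈ K) : g⁻¹ * x * g ∈ K := by
  have := conj_mem_of_mem_normalizer (inv_mem hg) hx
  simpa using this

/-- The elements of `N(S) ∩ N(K)` acting trivially on the section `S / K`. -/
def secCent (S K : Subgroup Γ) : Subgroup Γ where
  carrier := {g | g ∈ normalizer (S : Set Γ) ∧ g ∈ normalizer (K : Set Γ) ∧
    ∀ x ∈ S, g * x * g⁻¹ * x⁻¹ ∈ K}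
  one_mem' := ⟨one_mem _, one_mem _, fun x _ => by simp [K.one_mem]⟩
  mul_mem' := by
    rintro g h ⟨hgS, hgK, hg⟩ ⟨hhS, hhK, hh⟩
    refine ⟨mul_mem hgS hhS, mul_mem hgK hhK, fun x hx => ?_⟩
    have e : g * h * x * (g * h)⁻¹ * x⁻¹ = (g * (h * x * h⁻¹ * x⁻¹) * g⁻¹) * (g * x * g⁻¹ * x⁻¹) := by
      group
    rw [e]
    exact K.mul_mem (conj_mem_of_mem_normalizer hgK (hh x hx)) (hg x hx)
  inv_mem' := by
    rintro g ⟨hgS, hgK, hg⟩
    refine ⟨inv_mem hgS, inv_mem hgK, fun x hx => ?_⟩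
    have hy : g⁻¹ * x * g ∈ S := conj_inv_mem_of_mem_normalizer hgS hx
    have h1 := K.inv_mem (hg _ hy)
    have e : (g * (g⁻¹ * x * g) * g⁻¹ * (g⁻¹ * x * g)⁻¹)⁻¹ = g⁻¹ * x * g⁻¹⁻¹ * x⁻¹ := by group
    rwa [e] at h1

theorem mem_secCent {S K : Subgroup Γ} {g : Γ} :
    g ∈ secCent S K ↔ g ∈ normalizer (S : Set Γ) ∧ g ∈ normalizer (K : Set Γ) ∧
      ∀ x ∈ S, g * x * g⁻¹ * x⁻¹ ∈ K := Iff.rfl

theorem secCent_conj {S K : Subgroup Γ} {g n : Γ} (hg : g ∈ secCent S K)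
    (hnS : n ∈ normalizer (S : Set Γ)) (hnK : n ∈ normalizer (K : Set Γ)) :
    n * g * n⁻¹ ∈ secCent S K := by
  obtain ⟨hgS, hgK, hg⟩ := hg
  refine ⟨mul_mem (mul_mem hnS hgS) (inv_mem hnS), mul_mem (mul_mem hnK hgK) (inv_mem hnK),
    fun x hx => ?_⟩
  have hy : n⁻¹ * x * n ∈ S := conj_inv_mem_of_mem_normalizer hnS hx
  have h1 := conj_mem_of_mem_normalizer hnK (hg _ hy)
  have e : n * (g * (n⁻¹ * x * n) * g⁻¹ * (n⁻¹ * x * n)⁻¹) * n⁻¹ =
      n * g * n⁻¹ * x * (n * g * n⁻¹)⁻¹ * x⁻¹ := by group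
  rwa [e] at h1

/-- For a fixed `g` normalizing `K`, and `S ≤ N(K)`: the elements of `S` fixed by `g` modulo `K`
form a subgroup. -/
def secFix (S K : Subgroup Γ) (g : Γ) (hSK : S ≤ normalizer (K : Set Γ)) : Subgroup Γ where
  carrier := {x | x ∈ S ∧ g * x * g⁻¹ * x⁻¹ ∈ K}
  one_mem' := ⟨S.one_mem, by simp [K.one_mem]⟩
  mul_mem' := by
    rintro x y ⟨hx, hxK⟩ ⟨hy, hyK⟩
    refine ⟨S.mul_mem hx hy, ?_⟩
    have e : g * (x * y) * g⁻¹ * (x * y)⁻¹ = (g * x * g⁻¹ * x⁻¹) * (x * (g * y * g⁻¹ * y⁻¹) * x⁻¹) := by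
      group
    rw [e]
    exact K.mul_mem hxK (conj_mem_of_mem_normalizer (hSK hx) hyK)
  inv_mem' := by
    rintro x ⟨hx, hxK⟩
    refine ⟨S.inv_mem hx, ?_⟩
    have h1 := conj_inv_mem_of_mem_normalizer (hSK hx) (K.inv_mem hxK)
    have e : x⁻¹ * (g * x * g⁻¹ * x⁻¹)⁻¹ * x = g * x⁻¹ * g⁻¹ * x⁻¹⁻¹ := by group
    rwa [e] at h1

theorem mem_secFix {S K : Subgroup Γ} {g : Γ} {hSK : S ≤ normalizer (K : Set Γ)} {x : Γ} :
    x ∈ secFix S K g hSK ↔ x ∈ S ∧ g * x * g⁻¹ * x⁻¹ ∈ K := Iff.rfl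

/-- **Lemma P.** If `b` acts without fixed points on the finite group `T'` and centralizes the
section `S / K` (everything normalizing `S` and `K`), then so does `T'`. -/
theorem frob_section (T' : Subgroup Γ) [Finite T'] (b : Γ) (hb : b ∈ normalizer (T' : Set Γ))
    (hfix : ∀ d ∈ T', b * d = d * b → d = 1) (S K : Subgroup Γ)
    (hTS : T' ≤ normalizer (S : Set Γ)) (hTK : T' ≤ normalizer (K : Set Γ))
    (hbS : b ∈ normalizer (S : Set Γ)) (hbK : b ∈ normalizer (K : Set Γ))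
    (hbc : ∀ x ∈ S, b * x * b⁻¹ * x⁻¹ ∈ K) :
    ∀ t ∈ T', ∀ x ∈ S, t * x * t⁻¹ * x⁻¹ ∈ K := by
  intro t ht
  obtain ⟨e, he, rfl⟩ := fmap_surj T' b hb hfix t ht
  have hbC : b ∈ secCent S K := ⟨hbS, hbK, hbc⟩
  have h1 : e⁻¹ * b * e⁻¹⁻¹ ∈ secCent S K :=
    secCent_conj hbC (inv_mem (hTS he)) (inv_mem (hTK he))
  have h2 : e⁻¹ * b * e * b⁻¹ ∈ secCent S K := by
    have := (secCent S K).mul_mem h1 ((secCent S K).inv_mem hbC)
    simpa using this
  exact h2.2.2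

end Cfsg.Agent.Lib.Helper24.Ward
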