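import Cfsg.Agent.Lib.Helper24.WardA

/-!
# Ward's theorem: the Frobenius lemma (a Frobenius-like group whose complement acts without
fixed points on an abelian group of coprime order acts trivially)
-/

set_option autoImplicit false

universe u

namespace Cfsg.Agent.Lib.Helper24.Ward

open Subgroup
open Cfsg.Agent.Lib.Helper33 Cfsg.Agent.Lib.Helper24
open scoped Pointwise IsMulCommutative commutatorElement

variable {Γ : Type u} [Group Γ]

/-- conjugation hom from the normalizer of `W` to `MulAut W`. -/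
def conjHom (W : Subgroup Γ) : ↥(normalizer (W : Set Γ)) →* MulAut ↥W where
  toFun g := conjNormalizer W g g.2
  map_one' := by
    apply MulEquiv.ext; intro x; apply Subtype.ext; simp [conjNormalizer]
  map_mul' g h := by
    apply MulEquiv.ext; intro x; apply Subtype.ext; simp [conjNormalizer, mul_assoc]

theorem conjHom_coe (W : Subgroup Γ) (g : ↥(normalizer (W : Set Γ))) (w : W) :
    ((conjHom W g w : W) : Γ) = g * w * (g : Γ)⁻¹ := rfl

/-- a group of prime order is generated by any non-identity element: centralizing one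
non-identity element means centralizing the group. -/
theorem mem_centralizer_of_prime_card {B : Subgroup Γ} {r : ℕ} (hr : r.Prime)
    (hB : Nat.card B = r) {b : Γ} (hb : b ∈ B) (hb1 : b ≠ 1) {d : Γ} (h : b * d = d * b) :
    d ∈ centralizer (B : Set Γ) := by
  haveI : Fact r.Prime := ⟨hr⟩
  have hz : zpowers (⟨b, hb⟩ : B) = ⊤ :=
    zpowers_eq_top_of_prime_card hB (by intro h1; exact hb1 (congrArg Subtype.val h1))
  rw [mem_centralizer_iff]
  intro x hx
  have hx' : (⟨x, hx⟩ : B) ∈ zpowers (⟨b, hb⟩ : B) := by rw [hz]; exact mem_top _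
  obtain ⟨k, hk⟩ := mem_zpowers_iff.mp hx'
  have hxk : x = b ^ k := by
    have := congrArg Subtype.val hk
    simpa using this.symm
  rw [hxk]
  exact ((Commute.zpow_left (show Commute b d from h) k).eq)

theorem normMap_mem_centralizer [Finite Γ] (V A : Subgroup Γ) [IsMulCommutative V]
    (hAV : A ≤ normalizer (V : Set Γ)) (v : V) :
    ((normMap V A hAV v : V) : Γ) ∈ centralizer (A : Set Γ) := by
  letI := Fintype.ofFinite A
  rw [mem_centralizer_iff]
  intro a ha
  have key : conjNormalizer V a (hAV ha) (normMap V A hAV v) = normMap V A hAV v := by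
    rw [normMap_apply, map_prod]
    refine Fintype.prod_equiv (Equiv.mulLeft (⟨a, ha⟩ : A)) _ _ ?_
    intro b
    apply Subtype.ext
    simp [conjNormalizer, mul_assoc]
  have h1 := congrArg Subtype.val key
  change a * (normMap V A hAV v : Γ) * a⁻¹ = _ at h1
  calc a * ↑(normMap V A hAV v) = (a * ↑(normMap V A hAV v) * a⁻¹) * a := by group
    _ = ↑(normMap V A hAV v) * a := by rw [h1]

/-- **Frobenius lemma, core form.** `B` of prime order acts without fixed points on `D`; both act on
the abelian group `W` of order coprime to `|D|`, `B` without fixed points and `D` without fixed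
points. Then `W = 1`. -/
theorem frob_core [Finite Γ] {r : ℕ} (hr : r.Prime) (D B W : Subgroup Γ)
    (hBcard : Nat.card B = r) (hBD : B ≤ normalizer (D : Set Γ))
    (hDB : D ⊓ centralizer (B : Set Γ) = ⊥)
    [IsMulCommutative W] (hDW : D ≤ normalizer (W : Set Γ)) (hBW : B ≤ normalizer (W : Set Γ))
    (hcop : (Nat.card D).Coprime (Nat.card W))
    (hWB : W ⊓ centralizer (B : Set Γ) = ⊥) (hWD : W ⊓ centralizer (D : Set Γ) = ⊥) :
    W = ⊥ := by
  classical
  letI := Fintype.ofFinite D
  letI := Fintype.ofFinite B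
  rw [eq_bot_iff]
  intro w0 hw0
  rw [mem_bot]
  set w : W := ⟨w0, hw0⟩ with hw
  let nD : D → ↥(normalizer (W : Set Γ)) := fun e => ⟨e, hDW e.2⟩
  let nB : B → ↥(normalizer (W : Set Γ)) := fun b => ⟨b, hBW b.2⟩
  let F : D → B → W := fun e b => conjHom W ((nD e)⁻¹ * nB b * nD e) w
  -- elements of `W ⊓ C(B)` and `W ⊓ C(D)` are trivial
  have hB1 : ∀ x : W, normMap W B hBW x = 1 := by
    intro x
    have h1 : ((normMap W B hBW x : W) : Γ) ∈ W ⊓ centralizer (B : Set Γ) :=
      ⟨(normMap W B hBW x).2, normMap_mem_centralizer W B hBW x⟩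
    rw [hWB, mem_bot] at h1
    exact Subtype.ext h1
  have hD1 : ∀ x : W, normMap W D hDW x = 1 := by
    intro x
    have h1 : ((normMap W D hDW x : W) : Γ) ∈ W ⊓ centralizer (D : Set Γ) :=
      ⟨(normMap W D hDW x).2, normMap_mem_centralizer W D hDW x⟩
    rw [hWD, mem_bot] at h1
    exact Subtype.ext h1
  -- (i) inner products over `B` vanish
  have hi : ∀ e : D, ∏ b : B, F e b = 1 := by
    intro e
    have h1 : ∀ b : B, F e b = conjHom W (nD e)⁻¹ (conjHom W (nB b) (conjHom W (nD e) w)) := by
      intro b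
      simp only [F, map_mul, MulAut.mul_apply]
    simp only [h1]
    rw [← map_prod]
    have h2 : ∏ b : B, conjHom W (nB b) (conjHom W (nD e) w) =
        normMap W B hBW (conjHom W (nD e) w) := by
      rw [normMap_apply]; rfl
    rw [h2, hB1, map_one]
  -- (ii) products over `D`
  have hii : ∀ b : B, b ≠ 1 → ∏ e : D, F e b = 1 := by
    intro b hb1
    have hb1' : (b : Γ) ≠ 1 := fun h => hb1 (Subtype.ext h)
    have hfix : ∀ d ∈ D, (b : Γ) * d = d * b → d = 1 := by
      intro d hd h
      have h1 : d ∈ D ⊓ centralizer (B : Set Γ) :=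
        ⟨hd, mem_centralizer_of_prime_card hr hBcard b.2 hb1' h⟩
      rwa [hDB, mem_bot] at h1
    let fE := fEquiv D (b : Γ) (hBD b.2) hfix
    have h1 : ∀ e : D, F e b = conjHom W (nD (fE e)) (conjHom W (nB b) w) := by
      intro e
      have e1 : (nD e)⁻¹ * nB b * nD e = nD (fE e) * nB b := by
        apply Subtype.ext
        change (e : Γ)⁻¹ * b * e = ((fE e : D) : Γ) * b
        rw [fEquiv_apply]; group
      change conjHom W ((nD e)⁻¹ * nB b * nD e) w = _
      rw [e1, map_mul, MulAut.mul_apply]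
    simp only [h1]
    have h2 : ∏ e : D, conjHom W (nD (fE e)) (conjHom W (nB b) w) =
        ∏ d : D, conjHom W (nD d) (conjHom W (nB b) w) :=
      Fintype.prod_equiv fE _ _ (fun _ => rfl)
    rw [h2]
    have h3 : ∏ d : D, conjHom W (nD d) (conjHom W (nB b) w) =
        normMap W D hDW (conjHom W (nB b) w) := by
      rw [normMap_apply]; rfl
    rw [h3, hD1]
  have hone : ∏ e : D, F e 1 = w ^ Nat.card D := by
    have h1 : ∀ e : D, F e 1 = w := by
      intro e
      have e1 : (nD e)⁻¹ * nB 1 * nD e = 1 := by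
        apply Subtype.ext
        change (e : Γ)⁻¹ * ((1 : B) : Γ) * e = 1
        simp
      change conjHom W ((nD e)⁻¹ * nB 1 * nD e) w = _
      rw [e1, map_one, MulAut.one_apply]
    simp only [h1, Finset.prod_const, Finset.card_univ, Nat.card_eq_fintype_card]
  have htot : (1 : W) = w ^ Nat.card D := by
    calc (1 : W) = ∏ e : D, ∏ b : B, F e b := by simp only [hi, Finset.prod_const_one]
      _ = ∏ b : B, ∏ e : D, F e b := Finset.prod_comm
      _ = ∏ e : D, F e 1 := Fintype.prod_eq_single (1 : B) (fun b hb => hii b hb)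
      _ = w ^ Nat.card D := hone
  have h2 : w ^ Nat.card W = 1 := pow_card_eq_one'
  have h3 : orderOf w ∣ Nat.gcd (Nat.card D) (Nat.card W) :=
    Nat.dvd_gcd (orderOf_dvd_of_pow_eq_one htot.symm) (orderOf_dvd_of_pow_eq_one h2)
  rw [hcop, Nat.dvd_one, orderOf_eq_one_iff] at h3
  have := congrArg Subtype.val h3
  simpa [hw] using this

theorem isMulCommutative_of_forall {A : Subgroup Γ} (h : ∀ x ∈ A, ∀ y ∈ A, x * y = y * x) :
    IsMulCommutative A :=
  IsMulCommutative.of_setLike_mul_comm (fun a ha b hb => h a ha b hb)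

theorem isMulCommutative_of_le' {X Y : Subgroup Γ} (hXY : X ≤ Y) [IsMulCommutative Y] :
    IsMulCommutative X :=
  isMulCommutative_of_forall
    (fun _ hx _ hy => setLike_mul_comm (hXY hx) (hXY hy))

/-- an element normalizing `H` and `K` normalizes `⁅H, K⁆`. -/
theorem mem_normalizer_commutator {H K : Subgroup Γ} {g : Γ}
    (hH : g ∈ normalizer (H : Set Γ)) (hK : g ∈ normalizer (K : Set Γ)) :
    g ∈ normalizer ((⁅H, K⁆ : Subgroup Γ) : Set Γ) := by
  rw [← cj_eq_self_iff, cj_def, map_commutator, ← cj_def, ← cj_def,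
    cj_eq_self_iff.mpr hH, cj_eq_self_iff.mpr hK]

theorem le_normalizer_commutator {H K A : Subgroup Γ}
    (hH : A ≤ normalizer (H : Set Γ)) (hK : A ≤ normalizer (K : Set Γ)) :
    A ≤ normalizer ((⁅H, K⁆ : Subgroup Γ) : Set Γ) :=
  fun _ ha => mem_normalizer_commutator (hH ha) (hK ha)

/-- **Frobenius lemma.** `B` of prime order acts without fixed points on `D`; both act on the
abelian group `W` of order coprime to `|D|`, and `B` has no fixed points on `W`. Then `D`
centralizes `W`. -/
theorem frob_trivial [Finite Γ] {r : ℕ} (hr : r.Prime) (D B W : Subgroup Γ)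
    (hBcard : Nat.card B = r) (hBD : B ≤ normalizer (D : Set Γ))
    (hDB : D ⊓ centralizer (B : Set Γ) = ⊥)
    (hWc : ∀ x ∈ W, ∀ y ∈ W, x * y = y * x)
    (hDW : D ≤ normalizer (W : Set Γ)) (hBW : B ≤ normalizer (W : Set Γ))
    (hcop : (Nat.card D).Coprime (Nat.card W))
    (hWB : W ⊓ centralizer (B : Set Γ) = ⊥) :
    W ≤ centralizer (D : Set Γ) := by
  haveI : IsMulCommutative W := isMulCommutative_of_forall hWc
  have hW1 : ⁅W, D⁆ ≤ W := commutator_le_of_le_normalizer W D hDW
  haveI : IsMulCommutative (⁅W, D⁆ : Subgroup Γ) := isMulCommutative_of_le' hW1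
  have h1 : (⁅W, D⁆ : Subgroup Γ) = ⊥ := by
    apply frob_core hr D B ⁅W, D⁆ hBcard hBD hDB
      (le_normalizer_commutator_right W D hDW)
      (le_normalizer_commutator hBW hBD)
      (Nat.Coprime.coprime_dvd_right (card_dvd_of_le hW1) hcop)
    · rw [eq_bot_iff, ← hWB]
      exact inf_le_inf_right _ hW1
    · exact commutator_inf_centralizer_eq_bot_of_abelian W D hDW hcop
  exact (commutator_eq_bot_iff_le_centralizer).mp h1

end Cfsg.Agent.Lib.Helper24.Ward
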