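import Cfsg.Agent.Lib.Helper24.WardC

/-!
# Ward's theorem: the three-layer analysis and the core statement
-/

set_option autoImplicit false
set_option linter.unusedSectionVars false
set_option linter.unusedVariables false
set_option linter.style.haveILetI false

universe u

namespace Cfsg.Agent.Lib.Helper24.Ward

open Subgroup
open Cfsg.Agent.Lib.Helper33 Cfsg.Agent.Lib.Helper24
open scoped Pointwise IsMulCommutative commutatorElement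

variable {Γ : Type u} [Group Γ]

/-- if `[Z, B] ≤ K ≤ Z` and `B` normalizes `Z` then `B` normalizes `K`. -/
theorem le_normalizer_of_commutator_le [Finite Γ] {Z K B : Subgroup Γ}
    (hBZ : B ≤ normalizer (Z : Set Γ)) (hKZ : K ≤ Z) (hDK : ⁅Z, B⁆ ≤ K) :
    B ≤ normalizer (K : Set Γ) := by
  intro b hb
  rw [← cj_eq_self_iff]
  have h1 : cj b K ≤ K := by
    intro x hx
    obtain ⟨k, hk, rfl⟩ := mem_cj'.mp hx
    have h2 : ⁅k, b⁆ ∈ ⁅Z, B⁆ := commutator_mem_commutator (hKZ hk) hb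
    have h3 := K.mul_mem (K.inv_mem (hDK h2)) hk
    have e : ⁅k, b⁆⁻¹ * k = b * k * b⁻¹ := by
      simp only [commutatorElement_def]; group
    rwa [e] at h3
  exact eq_of_le_of_card_ge h1 (by rw [card_cj])

theorem exists_ne_one_of_card_prime {r : ℕ} (hr : r.Prime) {B : Subgroup Γ}
    (hcB : Nat.card B = r) : ∃ b ∈ B, b ≠ 1 := by
  by_contra hcon
  push Not at hcon
  have h1 : B = ⊥ := by
    rw [eq_bot_iff]; intro x hx; rw [mem_bot]; exact hcon x hx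
  rw [h1, card_bot] at hcB
  exact hr.one_lt.ne' hcB.symm

/-- the three-layer context. -/
structure Ctx3 (r q s t : ℕ) (A V S T : Subgroup Γ) : Prop extends Ctx2 r q s A V S where
  ht : t.Prime
  hst : s ≠ t
  hrt : r ≠ t
  hT : IsPGroup t T
  hAT : A ≤ normalizer (T : Set Γ)
  hTV : T ≤ normalizer (V : Set Γ)
  hTS : T ≤ normalizer (S : Set Γ)
  hfT : T ⊓ centralizer (A : Set Γ) = ⊥
  hN2 : ∀ B : Subgroup Γ, B ≤ A → Nat.card B = r →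
    ∀ x ∈ S ⊓ centralizer (B : Set Γ), ∀ y ∈ T ⊓ centralizer (B : Set Γ), x * y = y * x

namespace Ctx3

variable [Finite Γ] {r q s t : ℕ} {A V S T : Subgroup Γ} (c : Ctx3 r q s t A V S T)
include c

theorem TJ_norm_S {J : Subgroup Γ} : T ⊓ centralizer (J : Set Γ) ≤ normalizer (S : Set Γ) :=
  le_trans inf_le_left c.hTS

theorem TJ_norm_V {J : Subgroup Γ} : T ⊓ centralizer (J : Set Γ) ≤ normalizer (V : Set Γ) :=
  le_trans inf_le_left c.hTV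

theorem TJ_norm_Z {J : Subgroup Γ} :
    T ⊓ centralizer (J : Set Γ) ≤ normalizer ((Zc S : Subgroup Γ) : Set Γ) :=
  fun _ hx => c.toCtx2.norm_Z (c.hTS hx.1)

theorem A_norm_TJ {J : Subgroup Γ} (hJ : J ≤ A) :
    A ≤ normalizer ((T ⊓ centralizer (J : Set Γ) : Subgroup Γ) : Set Γ) :=
  le_normalizer_inf' c.hAT (c.toCtx2.A_norm_cent hJ)

/-- an element `b ≠ 1` of `B ≠ J` has no fixed points on `T ∩ C(J)`. -/
theorem TJ_fix {J B : Subgroup Γ} (hJ : J ≤ A) (hcJ : Nat.card J = r) (hB : B ≤ A)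
    (hcB : Nat.card B = r) (hne : B ≠ J) {b : Γ} (hb : b ∈ B) (hb1 : b ≠ 1) :
    ∀ d ∈ T ⊓ centralizer (J : Set Γ), b * d = d * b → d = 1 := by
  intro d hd h
  have h1 : d ∈ centralizer (B : Set Γ) := mem_centralizer_of_prime_card c.hr hcB hb hb1 h
  have h2 : d ∈ T ⊓ centralizer (A : Set Γ) :=
    ⟨hd.1, centralizer_inf_le_of_sup_eq (sup_eq_of_card c.hr c.hAcard hB hJ hcB hcJ hne)
      ⟨h1, hd.2⟩⟩
  rwa [c.hfT, mem_bot] at h2

/-- `T ∩ C(J)` centralizes `Z ∩ C(J)`. -/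
theorem TJ_cent_ZJ {J : Subgroup Γ} (hJ : J ≤ A) (hcJ : Nat.card J = r) :
    T ⊓ centralizer (J : Set Γ) ≤
      centralizer ((Zc S ⊓ centralizer (J : Set Γ) : Subgroup Γ) : Set Γ) := by
  intro y hy
  rw [mem_centralizer_iff]
  intro x hx
  exact c.hN2 J hJ hcJ x ⟨hx.1.1, hx.2⟩ y hy

theorem cop_T_S {X Y : Subgroup Γ} (hX : X ≤ T) (hY : Y ≤ S) :
    (Nat.card X).Coprime (Nat.card Y) :=
  coprime_of_isPGroup c.ht c.hs c.hst.symm (c.hT.to_le hX) (c.hS.to_le hY)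

/-- for `B ≠ J`, `Z ∩ C(J) ≤ [Z, B]`. -/
theorem ZJ_le_DB {J B : Subgroup Γ} (hJ : J ≤ A) (hcJ : Nat.card J = r) (hB : B ≤ A)
    (hcB : Nat.card B = r) (hne : B ≠ J) :
    Zc S ⊓ centralizer (J : Set Γ) ≤ ⁅Zc S, B⁆ := by
  have c2 := c.toCtx2
  have hZJZ : Zc S ⊓ centralizer (J : Set Γ) ≤ Zc S := inf_le_left
  have hBZJ : B ≤ normalizer ((Zc S ⊓ centralizer (J : Set Γ) : Subgroup Γ) : Set Γ) :=
    le_trans hB (c2.A_norm_ZB hJ)
  have hfix : (Zc S ⊓ centralizer (J : Set Γ)) ⊓ centralizer (B : Set Γ) = ⊥ := by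
    rw [eq_bot_iff, ← c2.hfS]
    intro z hz
    exact ⟨c2.Z_le hz.1.1,
      centralizer_inf_le_of_sup_eq (sup_eq_of_card c2.hr c2.hAcard hJ hB hcJ hcB (Ne.symm hne))
        ⟨hz.1.2, hz.2⟩⟩
  have hdec := commutator_sup_centralizer_eq B (Zc S ⊓ centralizer (J : Set Γ)) hBZJ
    (c2.cop_B_Z hcB hZJZ)
    (Or.inr (Group.isSolvable_of_comm
      (fun a b => Subtype.ext (c2.Z_comm a (hZJZ a.2) b (hZJZ b.2)))))
  rw [hfix, sup_bot_eq] at hdec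
  calc Zc S ⊓ centralizer (J : Set Γ) = ⁅Zc S ⊓ centralizer (J : Set Γ), B⁆ := hdec.symm
    _ ≤ ⁅Zc S, B⁆ := commutator_mono hZJZ le_rfl

/-- (a) `[Z, T_J] ≤ [Z, J]`. -/
theorem M_le_DJ {J : Subgroup Γ} (hJ : J ≤ A) (hcJ : Nat.card J = r) :
    ⁅Zc S, T ⊓ centralizer (J : Set Γ)⁆ ≤ ⁅Zc S, J⁆ := by
  have c2 := c.toCtx2
  rw [commutator_le]
  intro z hz t ht
  have hTD : T ⊓ centralizer (J : Set Γ) ≤ normalizer ((⁅Zc S, J⁆ : Subgroup Γ) : Set Γ) :=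
    le_normalizer_commutator c.TJ_norm_Z (le_normalizer_of_le_centralizer inf_le_right)
  have hZD : Zc S ≤ normalizer ((⁅Zc S, J⁆ : Subgroup Γ) : Set Γ) :=
    le_trans c2.Z_le (c2.S_norm_sub (c2.DB_le hJ))
  have h1 : Zc S ≤ secFix (Zc S) ⁅Zc S, J⁆ t hZD := by
    refine le_trans (c2.Z_decomp hJ hcJ).ge (sup_le ?_ ?_)
    · intro d hd
      exact ⟨c2.DB_le hJ hd,
        (⁅Zc S, J⁆).mul_mem (conj_mem_of_mem_normalizer (hTD ht) hd) (inv_mem hd)⟩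
    · intro x hx
      refine ⟨hx.1, ?_⟩
      have h2 := c.TJ_cent_ZJ hJ hcJ ht
      have h3 : x * t = t * x := (mem_centralizer_iff.mp h2) x hx
      have e : t * x * t⁻¹ * x⁻¹ = 1 := by rw [← h3]; group
      rw [e]; exact one_mem _
  have h4 := (h1 hz).2
  have e : ⁅z, t⁆ = (t * z * t⁻¹ * z⁻¹)⁻¹ := by rw [commutatorElement_def]; group
  rw [e]; exact inv_mem h4

end Ctx3

/-- if `g` normalizes `Z` and `Z` normalizes `Y` then `Z` normalizes `g Y g⁻¹`. -/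
theorem norm_cj_of_norm {Z Y : Subgroup Γ} {g : Γ} (hg : g ∈ normalizer (Z : Set Γ))
    (h : Z ≤ normalizer (Y : Set Γ)) : Z ≤ normalizer ((cj g Y : Subgroup Γ) : Set Γ) := by
  rw [normalizer_cj]
  exact le_trans (le_of_eq (cj_eq_self_iff.mpr hg).symm) (cj_mono h)

/-- conjugates of minimal invariant subgroups are minimal invariant. -/
theorem minimal_cj {Z V X : Subgroup Γ} {t : Γ} (htV : t ∈ normalizer (V : Set Γ))
    (htZ : t ∈ normalizer (Z : Set Γ)) (hXV : X ≤ V) (hX1 : X ≠ ⊥)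
    (hZX : Z ≤ normalizer (X : Set Γ))
    (hmin : ∀ Y : Subgroup Γ, Y ≤ X → Z ≤ normalizer (Y : Set Γ) → Y ≠ ⊥ → Y = X) :
    cj t X ≤ V ∧ cj t X ≠ ⊥ ∧ Z ≤ normalizer ((cj t X : Subgroup Γ) : Set Γ) ∧
      ∀ Y : Subgroup Γ, Y ≤ cj t X → Z ≤ normalizer (Y : Set Γ) → Y ≠ ⊥ → Y = cj t X := by
  refine ⟨?_, ?_, norm_cj_of_norm htZ hZX, ?_⟩
  · exact le_trans (cj_mono hXV) (le_of_eq (cj_eq_self_iff.mpr htV))
  · intro h; exact hX1 (cj_eq_bot_iff.mp h)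
  · intro Y hYX hZY hY1
    have h1 : cj t⁻¹ Y ≤ X := cj_le_iff.mpr (by rwa [inv_inv])
    have h2 := hmin (cj t⁻¹ Y) h1 (norm_cj_of_norm (inv_mem htZ) hZY)
      (fun h => hY1 (cj_eq_bot_iff.mp h))
    have h3 := cj_eq_iff.mp h2
    rwa [inv_inv] at h3

namespace Ctx3

variable [Finite Γ] {r q s t : ℕ} {A V S T : Subgroup Γ} (c : Ctx3 r q s t A V S T)
include c

/-- (e) `T_J` normalizes `K = C_Z(X)`. -/
theorem TJ_norm_K {J B X : Subgroup Γ} (hJ : J ≤ A) (hcJ : Nat.card J = r) (hB : B ≤ A)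
    (hcB : Nat.card B = r) (hBJ : B ≠ J) (hXV : X ≤ V) (hX1 : X ≠ ⊥)
    (hZX : Zc S ≤ normalizer (X : Set Γ))
    (hmin : ∀ Y : Subgroup Γ, Y ≤ X → Zc S ≤ normalizer (Y : Set Γ) → Y ≠ ⊥ → Y = X)
    (hDBK : ⁅Zc S, B⁆ ≤ Zc S ⊓ centralizer (X : Set Γ)) :
    T ⊓ centralizer (J : Set Γ) ≤
      normalizer ((Zc S ⊓ centralizer (X : Set Γ) : Subgroup Γ) : Set Γ) := by
  have c2 := c.toCtx2
  intro t ht
  obtain ⟨hX'V, hX'1, hZX', hmin'⟩ :=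
    minimal_cj (c.TJ_norm_V ht) (c.TJ_norm_Z ht) hXV hX1 hZX hmin
  obtain ⟨B', hB', hcB', hX'a, hX'b⟩ := c2.support hX'V hX'1 hZX' hmin'
  have hBJ' : B' ≠ J := by
    intro h
    rw [h] at hX'a
    have h1 : Zc S ⊓ centralizer (J : Set Γ) ≤ centralizer (X : Set Γ) :=
      le_trans (c.ZJ_le_DB hJ hcJ hB hcB hBJ) (le_trans hDBK inf_le_right)
    have h2 : Zc S ⊓ centralizer (J : Set Γ) ≤
        centralizer ((cj t X : Subgroup Γ) : Set Γ) := by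
      rw [centralizer_cj]
      have e : cj t (Zc S ⊓ centralizer (J : Set Γ)) = Zc S ⊓ centralizer (J : Set Γ) :=
        cj_eq_self_iff.mpr (Subgroup.centralizer_le_normalizer _ (c.TJ_cent_ZJ hJ hcJ ht))
      exact le_trans (le_of_eq e.symm) (cj_mono h1)
    have h3 : ⁅cj t X, Zc S ⊓ centralizer (J : Set Γ)⁆ = ⊥ :=
      commutator_eq_bot_iff_le_centralizer.mpr (le_centralizer_iff.mp h2)
    rw [h3] at hX'a
    exact hX'1 (eq_bot_iff.mpr hX'a)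
  have hcjK : cj t (Zc S ⊓ centralizer (X : Set Γ)) =
      Zc S ⊓ centralizer ((cj t X : Subgroup Γ) : Set Γ) := by
    rw [cj_inf, cj_eq_self_iff.mpr (c.TJ_norm_Z ht), centralizer_cj]
  have hDB'K : ⁅Zc S, B'⁆ ≤ cj t (Zc S ⊓ centralizer (X : Set Γ)) := by
    rw [hcjK]
    exact le_inf (c2.DB_le hB') (le_centralizer_iff.mp (le_trans hX'b inf_le_right))
  have hcjKZ : cj t (Zc S ⊓ centralizer (X : Set Γ)) ≤ Zc S := by
    rw [hcjK]; exact inf_le_left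
  have hB'N : B' ≤ normalizer ((cj t (Zc S ⊓ centralizer (X : Set Γ)) : Subgroup Γ) : Set Γ) :=
    le_normalizer_of_commutator_le (le_trans hB' c2.A_norm_Z) hcjKZ hDB'K
  have hBN : B ≤ normalizer ((Zc S ⊓ centralizer (X : Set Γ) : Subgroup Γ) : Set Γ) :=
    le_normalizer_of_commutator_le (le_trans hB c2.A_norm_Z) inf_le_left hDBK
  obtain ⟨b', hb', hb'1⟩ := exists_ne_one_of_card_prime c.hr hcB'
  have hfix' := c.TJ_fix hJ hcJ hB' hcB' hBJ' hb' hb'1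
  have hBcj : ∀ b ∈ B,
      b ∈ normalizer ((cj t (Zc S ⊓ centralizer (X : Set Γ)) : Subgroup Γ) : Set Γ) := by
    intro b hb
    have hbt : b * t * b⁻¹ ∈ T ⊓ centralizer (J : Set Γ) :=
      conj_mem_of_mem_normalizer (c.A_norm_TJ hJ (hB hb)) ht
    have ht0 : b * t * b⁻¹ * t⁻¹ ∈ T ⊓ centralizer (J : Set Γ) := mul_mem hbt (inv_mem ht)
    have e1 : cj (b * t * b⁻¹ * t⁻¹) (cj t (Zc S ⊓ centralizer (X : Set Γ))) =
        cj b (cj t (Zc S ⊓ centralizer (X : Set Γ))) := by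
      rw [← cj_mul, ← cj_mul]
      have e2 : b * t * b⁻¹ * t⁻¹ * t = b * t * b⁻¹ := by group
      rw [e2, cj_mul (b * t) b⁻¹, cj_eq_self_iff.mpr (inv_mem (hBN hb))]
    have h2 : b' ∈ normalizer
        ((cj b (cj t (Zc S ⊓ centralizer (X : Set Γ))) : Subgroup Γ) : Set Γ) := by
      rw [← cj_eq_self_iff, ← cj_mul]
      have hcomm : b' * b = b * b' := c2.A_comm b' (hB' hb') b (hB hb)
      rw [hcomm, cj_mul, cj_eq_self_iff.mpr (hB'N hb')]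
    have h3 := uniq_inv (T ⊓ centralizer (J : Set Γ)) b' (c.A_norm_TJ hJ (hB' hb')) hfix'
      (cj t (Zc S ⊓ centralizer (X : Set Γ))) (hB'N hb') (b * t * b⁻¹ * t⁻¹) ht0
      (by rw [e1]; exact h2)
    rw [← cj_eq_self_iff, e1] at h3
    exact cj_eq_self_iff.mp h3
  obtain ⟨b, hb, hb1⟩ := exists_ne_one_of_card_prime c.hr hcB
  have hfix := c.TJ_fix hJ hcJ hB hcB hBJ hb hb1
  exact uniq_inv (T ⊓ centralizer (J : Set Γ)) b (c.A_norm_TJ hJ (hB hb)) hfix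
    (Zc S ⊓ centralizer (X : Set Γ)) (hBN hb) t ht (hBcj b hb)

/-- **Step 3.** `T ∩ C(J)` centralizes `Z(S)`. -/
theorem step3 {J : Subgroup Γ} (hJ : J ≤ A) (hcJ : Nat.card J = r) :
    ⁅Zc S, T ⊓ centralizer (J : Set Γ)⁆ = ⊥ := by
  have c2 := c.toCtx2
  by_contra hM
  have hMZ : ⁅Zc S, T ⊓ centralizer (J : Set Γ)⁆ ≤ Zc S :=
    commutator_le_of_le_normalizer (Zc S) _ c.TJ_norm_Z
  have hMDJ := c.M_le_DJ hJ hcJ
  have hMV : ⁅Zc S, T ⊓ centralizer (J : Set Γ)⁆ ≤ normalizer (V : Set Γ) :=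
    le_trans hMZ c2.Z_norm_V
  -- (b)
  have hW1 : ⁅V, ⁅Zc S, T ⊓ centralizer (J : Set Γ)⁆⁆ ≠ ⊥ := by
    intro h
    have h1 : ⁅Zc S, T ⊓ centralizer (J : Set Γ)⁆ ≤ centralizer (V : Set Γ) := by
      rw [le_centralizer_iff]
      exact commutator_eq_bot_iff_le_centralizer.mp h
    have h2 : ⁅Zc S, T ⊓ centralizer (J : Set Γ)⁆ ≤ S ⊓ centralizer (V : Set Γ) :=
      le_inf (le_trans hMZ c2.Z_le) h1
    rw [c2.hfaith] at h2
    exact hM (eq_bot_iff.mpr h2)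
  have hZM : Zc S ≤ normalizer ((⁅Zc S, T ⊓ centralizer (J : Set Γ)⁆ : Subgroup Γ) : Set Γ) :=
    le_trans c2.Z_le (c2.S_norm_sub hMZ)
  have hZW : Zc S ≤
      normalizer ((⁅V, ⁅Zc S, T ⊓ centralizer (J : Set Γ)⁆⁆ : Subgroup Γ) : Set Γ) :=
    le_normalizer_commutator c2.Z_norm_V hZM
  have hWV : ⁅V, ⁅Zc S, T ⊓ centralizer (J : Set Γ)⁆⁆ ≤ V :=
    commutator_le_of_le_normalizer V _ hMV
  -- (c)
  obtain ⟨X, ⟨hXW, hZX, hX1⟩, hXmin⟩ := WellFounded.has_min (wellFounded_lt (α := Subgroup Γ))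
    {Y : Subgroup Γ | Y ≤ ⁅V, ⁅Zc S, T ⊓ centralizer (J : Set Γ)⁆⁆ ∧
      Zc S ≤ normalizer (Y : Set Γ) ∧ Y ≠ ⊥}
    ⟨_, le_rfl, hZW, hW1⟩
  have hmin : ∀ Y : Subgroup Γ, Y ≤ X → Zc S ≤ normalizer (Y : Set Γ) → Y ≠ ⊥ → Y = X := by
    intro Y hYX hZY hY1
    by_contra hne
    exact hXmin Y ⟨le_trans hYX hXW, hZY, hY1⟩ (lt_of_le_of_ne hYX hne)
  have hXV : X ≤ V := le_trans hXW hWV
  have hMK : ¬ ⁅Zc S, T ⊓ centralizer (J : Set Γ)⁆ ≤ Zc S ⊓ centralizer (X : Set Γ) := by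
    intro h
    have h1 : X ≤ centralizer ((⁅Zc S, T ⊓ centralizer (J : Set Γ)⁆ : Subgroup Γ) : Set Γ) :=
      le_centralizer_iff.mp (le_trans h inf_le_right)
    haveI : IsMulCommutative V := isMulCommutative_of_forall c2.hVab
    have h2 := commutator_inf_centralizer_eq_bot_of_abelian V
      ⁅Zc S, T ⊓ centralizer (J : Set Γ)⁆ hMV (c2.cop_S_V (le_trans hMZ c2.Z_le) le_rfl)
    have h3 : X ≤ ⁅V, ⁅Zc S, T ⊓ centralizer (J : Set Γ)⁆⁆ ⊓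
        centralizer ((⁅Zc S, T ⊓ centralizer (J : Set Γ)⁆ : Subgroup Γ) : Set Γ) :=
      le_inf hXW h1
    rw [h2] at h3
    exact hX1 (eq_bot_iff.mpr h3)
  -- (d)
  obtain ⟨B, hB, hcB, hXBa, hXBb⟩ := c2.support hXV hX1 hZX hmin
  have hDBK : ⁅Zc S, B⁆ ≤ Zc S ⊓ centralizer (X : Set Γ) :=
    le_inf (c2.DB_le hB) (le_centralizer_iff.mp (le_trans hXBb inf_le_right))
  have hBJ : B ≠ J := by
    intro h
    rw [h] at hDBK
    exact hMK (le_trans hMDJ hDBK)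
  -- (e)
  have hTK := c.TJ_norm_K hJ hcJ hB hcB hBJ hXV hX1 hZX hmin hDBK
  -- (f)
  obtain ⟨b, hb, hb1⟩ := exists_ne_one_of_card_prime c.hr hcB
  have hfix := c.TJ_fix hJ hcJ hB hcB hBJ hb hb1
  have hBN : B ≤ normalizer ((Zc S ⊓ centralizer (X : Set Γ) : Subgroup Γ) : Set Γ) :=
    le_normalizer_of_commutator_le (le_trans hB c2.A_norm_Z) inf_le_left hDBK
  have hbc : ∀ x ∈ Zc S, b * x * b⁻¹ * x⁻¹ ∈ Zc S ⊓ centralizer (X : Set Γ) := by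
    intro x hx
    have h1 : ⁅x, b⁆ ∈ ⁅Zc S, B⁆ := commutator_mem_commutator hx hb
    have e : b * x * b⁻¹ * x⁻¹ = ⁅x, b⁆⁻¹ := by rw [commutatorElement_def]; group
    rw [e]; exact inv_mem (hDBK h1)
  have key := frob_section (T ⊓ centralizer (J : Set Γ)) b (c.A_norm_TJ hJ (hB hb)) hfix
    (Zc S) (Zc S ⊓ centralizer (X : Set Γ)) c.TJ_norm_Z hTK (c2.A_norm_Z (hB hb)) (hBN hb) hbc
  apply hMK
  rw [commutator_le]
  intro z hz t ht
  have e : ⁅z, t⁆ = (t * z * t⁻¹ * z⁻¹)⁻¹ := by rw [commutatorElement_def]; group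
  rw [e]; exact inv_mem (key t ht z hz)

end Ctx3

end Cfsg.Agent.Lib.Helper24.Ward
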