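import Cfsg.Agent.Lib.Helper24.WardD

/-!
# Ward's theorem: the last step of the three-layer analysis, and the core statement
-/

set_option autoImplicit false
set_option linter.unusedSectionVars false
set_option linter.unusedVariables false
set_option linter.style.haveILetI false

universe u

namespace Cfsg.Agent.Lib.Helper24.Ward

open Subgroup
open Cfsg.Agent.Lib.Helper33 Cfsg.Agent.Lib.Helper24
open scoped Pointwise IsMulCommutative commutatorElement

variable {Γ : Type u} [Group Γ]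

theorem not_dvd_of_isPGroup [Finite Γ] {r s : ℕ} (hr : r.Prime) (hs : s.Prime) (hrs : r ≠ s)
    {X : Subgroup Γ} (hX : IsPGroup s X) : ¬ r ∣ Nat.card X := by
  intro h
  haveI : Fact s.Prime := ⟨hs⟩
  obtain ⟨k, hk⟩ := IsPGroup.iff_card.mp hX
  rw [hk] at h
  exact hrs ((Nat.prime_dvd_prime_iff_eq hr hs).mp (hr.dvd_of_dvd_pow h))

/-- the part of `S` acting trivially on the `B`-supported part of `V`. -/
abbrev KB (V S B : Subgroup Γ) : Subgroup Γ := S ⊓ centralizer ((VB V S B : Subgroup Γ) : Set Γ)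

namespace Ctx3

variable [Finite Γ] {r q s t : ℕ} {A V S T : Subgroup Γ} (c : Ctx3 r q s t A V S T)
include c

theorem TJ_cent_Z {J : Subgroup Γ} (hJ : J ≤ A) (hcJ : Nat.card J = r) :
    T ⊓ centralizer (J : Set Γ) ≤ centralizer ((Zc S : Subgroup Γ) : Set Γ) := by
  rw [le_centralizer_iff]
  exact commutator_eq_bot_iff_le_centralizer.mp (c.step3 hJ hcJ)

theorem TJ_norm_KB {J B : Subgroup Γ} (hJ : J ≤ A) (hcJ : Nat.card J = r) (hB : B ≤ A) :
    T ⊓ centralizer (J : Set Γ) ≤ normalizer ((KB V S B : Subgroup Γ) : Set Γ) := by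
  have c2 := c.toCtx2
  have h1 : T ⊓ centralizer (J : Set Γ) ≤ normalizer ((⁅Zc S, B⁆ : Subgroup Γ) : Set Γ) :=
    le_normalizer_of_le_centralizer
      (le_trans (c.TJ_cent_Z hJ hcJ) (centralizer_le (c2.DB_le hB)))
  exact le_normalizer_inf' c.TJ_norm_S
    (le_normalizer_centralizer' (le_normalizer_inf' c.TJ_norm_V (le_normalizer_centralizer' h1)))

theorem S_le_sup {B : Subgroup Γ} (hB : B ≤ A) (hcB : Nat.card B = r) :
    S ≤ (S ⊓ centralizer (B : Set Γ)) ⊔ KB V S B := by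
  have c2 := c.toCtx2
  have hS : ¬ r ∣ Nat.card S := not_dvd_of_isPGroup c.hr c.hs c.hrs c.hS
  refine le_trans (gen_ordr c.hr c.hA c.hAcard c.hAS hS) (iSup_le ?_)
  rintro ⟨B', hB', hcB'⟩
  by_cases h : B' = B
  · change S ⊓ centralizer (B' : Set Γ) ≤ _
    rw [h]
    exact le_sup_left
  · exact le_trans (le_inf inf_le_left (c2.step4 hB hcB hB' hcB' (Ne.symm h))) le_sup_right

/-- **Step 5** for a fixed pair `(J, B)`. -/
theorem step5 {J B : Subgroup Γ} (hJ : J ≤ A) (hcJ : Nat.card J = r) (hB : B ≤ A)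
    (hcB : Nat.card B = r) :
    ∀ t ∈ T ⊓ centralizer (J : Set Γ), ∀ x ∈ S, t * x * t⁻¹ * x⁻¹ ∈ KB V S B := by
  have c2 := c.toCtx2
  have hSK : S ≤ normalizer ((KB V S B : Subgroup Γ) : Set Γ) :=
    le_normalizer_inf' le_normalizer (le_normalizer_centralizer' (c2.S_norm_VB hB))
  by_cases h : B = J
  · intro t ht x hx
    have h1 : S ≤ secFix S (KB V S B) t hSK := by
      refine le_trans (c.S_le_sup hB hcB) (sup_le ?_ ?_)
      · intro y hy
        refine ⟨hy.1, ?_⟩
        have hy' : y ∈ S ⊓ centralizer (J : Set Γ) := h ▸ hy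
        have h2 : y * t = t * y := c.hN2 J hJ hcJ y hy' t ht
        have e : t * y * t⁻¹ * y⁻¹ = 1 := by rw [← h2]; group
        rw [e]; exact one_mem _
      · intro y hy
        exact ⟨hy.1, mul_mem (conj_mem_of_mem_normalizer (c.TJ_norm_KB hJ hcJ hB ht) hy)
          (inv_mem hy)⟩
    exact (h1 hx).2
  · obtain ⟨b, hb, hb1⟩ := exists_ne_one_of_card_prime c.hr hcB
    have hfix := c.TJ_fix hJ hcJ hB hcB h hb hb1
    have hbK : b ∈ normalizer ((KB V S B : Subgroup Γ) : Set Γ) :=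
      le_normalizer_inf' c.hAS (le_normalizer_centralizer' (c2.A_norm_VB hB)) (hB hb)
    have hbc : ∀ x ∈ S, b * x * b⁻¹ * x⁻¹ ∈ KB V S B := by
      have h1 : S ≤ secFix S (KB V S B) b hSK := by
        refine le_trans (c.S_le_sup hB hcB) (sup_le ?_ ?_)
        · intro y hy
          refine ⟨hy.1, ?_⟩
          have h2 : b * y = y * b := (mem_centralizer_iff.mp hy.2) b hb
          have e : b * y * b⁻¹ * y⁻¹ = 1 := by rw [h2]; group
          rw [e]; exact one_mem _
        · intro y hy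
          exact ⟨hy.1, mul_mem (conj_mem_of_mem_normalizer hbK hy) (inv_mem hy)⟩
      exact fun x hx => (h1 hx).2
    exact frob_section (T ⊓ centralizer (J : Set Γ)) b (c.A_norm_TJ hJ (hB hb)) hfix S
      (KB V S B) c.TJ_norm_S (c.TJ_norm_KB hJ hcJ hB) (c.hAS (hB hb)) hbK hbc

theorem TJ_comm {J : Subgroup Γ} (hJ : J ≤ A) (hcJ : Nat.card J = r) :
    ∀ t ∈ T ⊓ centralizer (J : Set Γ), ∀ x ∈ S, t * x = x * t := by
  have c2 := c.toCtx2
  intro t ht x hx
  have h2 : V ≤ centralizer ((zpowers (t * x * t⁻¹ * x⁻¹) : Subgroup Γ) : Set Γ) := by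
    refine le_trans c2.step2b (iSup_le ?_)
    rintro ⟨B, hB, hcB⟩
    rw [le_centralizer_iff, zpowers_le]
    exact (c.step5 hJ hcJ hB hcB t ht x hx).2
  have h3 : t * x * t⁻¹ * x⁻¹ ∈ centralizer (V : Set Γ) :=
    le_centralizer_iff.mp h2 (mem_zpowers _)
  have h1 : t * x * t⁻¹ * x⁻¹ ∈ S ⊓ centralizer (V : Set Γ) :=
    ⟨S.mul_mem (conj_mem_of_mem_normalizer (c.TJ_norm_S ht) hx) (inv_mem hx), h3⟩
  rw [c2.hfaith, mem_bot] at h1
  calc t * x = (t * x * t⁻¹ * x⁻¹) * (x * t) := by group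
    _ = x * t := by rw [h1, one_mul]

/-- **The core of Ward's theorem**: `T` centralizes `S`. -/
theorem T_comm : ∀ x ∈ S, ∀ y ∈ T, x * y = y * x := by
  have hT : ¬ r ∣ Nat.card T := not_dvd_of_isPGroup c.hr c.ht c.hrt c.hT
  have h1 : T ≤ centralizer (S : Set Γ) := by
    refine le_trans (gen_ordr c.hr c.hA c.hAcard c.hAT hT) (iSup_le ?_)
    rintro ⟨J, hJ, hcJ⟩ t ht
    rw [mem_centralizer_iff]
    intro x hx
    exact (c.TJ_comm hJ hcJ t ht x hx).symm
  intro x hx y hy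
  exact (mem_centralizer_iff.mp (h1 hy)) x hx

end Ctx3

/-- the core statement holds. -/
theorem core : CoreStmt.{u} := by
  intro Γ _ _ r q s t hr hq hs ht hqs hst hrq hrs hrt A V S T hA hAcard hV hVab hS hT
    hAV hAS hAT hSV hTV hTS hfV hfS hfT hfaith hZ0 hN1 hN2
  have c : Ctx3 r q s t A V S T :=
    { hr := hr, hq := hq, hs := hs, hqs := hqs, hrq := hrq, hrs := hrs, hA := hA,
      hAcard := hAcard, hV := hV, hVab := hVab, hS := hS, hAV := hAV, hAS := hAS, hSV := hSV,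
      hfV := hfV, hfS := hfS, hfaith := hfaith, hZ0 := hZ0, hN1 := hN1,
      ht := ht, hst := hst, hrt := hrt, hT := hT, hAT := hAT, hTV := hTV, hTS := hTS,
      hfT := hfT, hN2 := hN2 }
  exact c.T_comm

end Cfsg.Agent.Lib.Helper24.Ward
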