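import Mathlib

/-!
# Fitting height at most two from a nilpotent normal subgroup with nilpotent quotient
-/

set_option autoImplicit false

namespace Cfsg.Agent.Lib.Helper24.Ward

open Subgroup

/-- If `N ⊴ G` is nilpotent and `G ⧸ N` is nilpotent then `1 ≤ N ≤ G` is a chain of normal
subgroups with nilpotent factors, in the form used by the statements. -/
theorem chain_of_nilpotent {G : Type*} [Group G] (N : Subgroup G) [hN : N.Normal]
    (h1 : Group.IsNilpotent N) (h2 : Group.IsNilpotent (G ⧸ N)) :
    ∃ F : Fin (2 + 1) → Subgroup G, F 0 = ⊥ ∧ F (Fin.last 2) = ⊤ ∧ Monotone F ∧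
      (∀ i, (F i).Normal) ∧
      ∀ i : Fin 2, ∃ k : ℕ, (F i.succ).lowerCentralSeries k ≤ F i.castSucc := by
  refine ⟨![⊥, N, ⊤], rfl, rfl, ?_, ?_, ?_⟩
  · intro i j hij
    fin_cases i <;> fin_cases j <;> first | exact le_rfl | exact bot_le | exact le_top | (exfalso; revert hij; decide)
  · intro i
    fin_cases i
    · exact (inferInstance : (⊥ : Subgroup G).Normal)
    · exact hN
    · exact (inferInstance : (⊤ : Subgroup G).Normal)
  · intro i
    fin_cases i
    · obtain ⟨n, hn⟩ := (isNilpotent_iff_lowerCentralSeries N).mp h1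
      exact ⟨n, le_of_eq hn⟩
    · obtain ⟨n, hn⟩ := Subgroup.nilpotent_iff_lowerCentralSeries.mp h2
      refine ⟨n, ?_⟩
      change (⊤ : Subgroup G).lowerCentralSeries n ≤ N
      have h3 := map_lowerCentralSeries (⊤ : Subgroup G) (QuotientGroup.mk' N) n
      rw [← MonoidHom.range_eq_map, MonoidHom.range_eq_top.mpr (QuotientGroup.mk'_surjective N),
        hn] at h3
      have h4 : (⊤ : Subgroup G).lowerCentralSeries n ≤ (QuotientGroup.mk' N).ker :=
        (Subgroup.map_eq_bot_iff _).mp h3
      rwa [QuotientGroup.ker_mk'] at h4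

end Cfsg.Agent.Lib.Helper24.Ward
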