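import Cfsg.Agent.Lib.Helper24.WardE
import Cfsg.Agent.S0033
import Cfsg.Agent.Lib.Helper35.HallFusion

/-!
# Ward's theorem: applying the core inside the semidirect product

`core_apply`: a group `𝔸 = E_{r²}` acting on `G` without common fixed points, and invariant
subgroups `V S T` as in the core: then `T` centralizes `S`.
-/

set_option autoImplicit false
set_option linter.unusedSectionVars false
set_option linter.unusedVariables false
set_option linter.style.haveILetI false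

universe u

namespace Cfsg.Agent.Lib.Helper24.Ward

open Subgroup
open Cfsg.Agent.Lib.Helper33 Cfsg.Agent.Lib.Helper24

section apply

variable {G : Type u} [Group G] {𝔸 : Type u} [Group 𝔸] (φ : 𝔸 →* MulAut G)

/-- the fixed points of a subgroup of operators. -/
def fixSub (𝔹 : Subgroup 𝔸) : Subgroup G where
  carrier := {g | ∀ b ∈ 𝔹, φ b g = g}
  one_mem' := fun b _ => map_one _
  mul_mem' := by
    intro x y hx hy b hb
    rw [map_mul, hx b hb, hy b hb]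
  inv_mem' := by
    intro x hx b hb
    rw [map_inv, hx b hb]

theorem mem_fixSub {𝔹 : Subgroup 𝔸} {g : G} : g ∈ fixSub φ 𝔹 ↔ ∀ b ∈ 𝔹, φ b g = g := Iff.rfl

theorem fixSub_inv (hcomm : ∀ a b : 𝔸, a * b = b * a) (𝔹 : Subgroup 𝔸) (a : 𝔸) {g : G}
    (hg : g ∈ fixSub φ 𝔹) : φ a g ∈ fixSub φ 𝔹 := by
  intro b hb
  have h1 : φ b (φ a g) = φ a (φ b g) := by
    rw [← MulAut.mul_apply, ← MulAut.mul_apply, ← map_mul, ← map_mul, hcomm b a]
  rw [h1, hg b hb]

/-- the action of `𝔸` (abelian) on the fixed points of a subgroup. -/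
def resHom (hcomm : ∀ a b : 𝔸, a * b = b * a) (𝔹 : Subgroup 𝔸) : 𝔸 →* MulAut (fixSub φ 𝔹) where
  toFun a :=
    { toFun := fun x => ⟨φ a x, fixSub_inv φ hcomm 𝔹 a x.2⟩
      invFun := fun x => ⟨φ a⁻¹ x, fixSub_inv φ hcomm 𝔹 a⁻¹ x.2⟩
      left_inv := fun x => Subtype.ext (by simp)
      right_inv := fun x => Subtype.ext (by simp)
      map_mul' := fun x y => Subtype.ext (by simp) }
  map_one' := by
    apply MulEquiv.ext; intro x; apply Subtype.ext; simp
  map_mul' a b := by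
    apply MulEquiv.ext; intro x; apply Subtype.ext; simp

theorem resHom_coe (hcomm : ∀ a b : 𝔸, a * b = b * a) (𝔹 : Subgroup 𝔸) (a : 𝔸)
    (x : fixSub φ 𝔹) : ((resHom φ hcomm 𝔹 a x : fixSub φ 𝔹) : G) = φ a x := rfl

/-- By Thompson's theorem the fixed points of a subgroup of order `r` form a nilpotent group. -/
theorem fixSub_nilpotent [Finite G] [Finite 𝔸] {r : ℕ} (hr : r.Prime)
    (hcomm : ∀ a b : 𝔸, a * b = b * a) (hexp : ∀ a : 𝔸, a ^ r = 1)
    (hcard : Nat.card 𝔸 = r ^ 2) (hfpf : ∀ g : G, (∀ a : 𝔸, φ a g = g) → g = 1)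
    (𝔹 : Subgroup 𝔸) (hB : Nat.card 𝔹 = r) : Group.IsNilpotent (fixSub φ 𝔹) := by
  have h1 : ∃ a : 𝔸, a ∉ 𝔹 := by
    by_contra h
    push Not at h
    have h2 : 𝔹 = ⊤ := eq_top_iff.mpr (fun x _ => h x)
    rw [h2, Subgroup.card_top, hcard] at hB
    have h3 : r * r = r * 1 := by rw [mul_one, ← sq]; exact hB
    have := Nat.eq_of_mul_eq_mul_left hr.pos h3
    exact hr.one_lt.ne' this
  obtain ⟨a, ha⟩ := h1
  have hfix : MonoidHom.FixedPointFree
      ((resHom φ hcomm 𝔹 a : fixSub φ 𝔹 ≃* fixSub φ 𝔹) : fixSub φ 𝔹 →* fixSub φ 𝔹) := by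
    intro x hx
    have hx' : φ a (x : G) = x := congrArg Subtype.val hx
    let H : Subgroup 𝔸 :=
      { carrier := {c | φ c (x : G) = x}
        one_mem' := by simp
        mul_mem' := by
          intro c d hc hd
          change φ (c * d) (x : G) = x
          rw [map_mul, MulAut.mul_apply, hd, hc]
        inv_mem' := by
          intro c hc
          change φ c⁻¹ (x : G) = x
          rw [map_inv]
          exact (MulEquiv.symm_apply_eq _).mpr hc.symm }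
    have hBH : 𝔹 ≤ H := fun b hb => x.2 b hb
    have haH : a ∈ H := hx'
    have hH : H = ⊤ := by
      have hd : Nat.card H ∣ r ^ 2 := hcard ▸ Subgroup.card_subgroup_dvd_card H
      obtain ⟨k, hk, hkc⟩ := (Nat.dvd_prime_pow hr).mp hd
      have hdvd : r ∣ Nat.card H := hB ▸ Subgroup.card_dvd_of_le hBH
      have hne : Nat.card H ≠ r := by
        intro h
        have h5 : 𝔹 = H := Subgroup.eq_of_le_of_card_ge hBH (by rw [hB, h])
        exact ha (h5 ▸ haH)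
      have hk2 : k = 2 := by
        interval_cases k
        · rw [hkc, pow_zero] at hdvd
          exact absurd (Nat.dvd_one.mp hdvd) hr.one_lt.ne'
        · rw [pow_one] at hkc; exact absurd hkc hne
        · rfl
      apply Subgroup.eq_top_of_card_eq
      rw [hkc, hk2, hcard]
    apply Subtype.ext
    apply hfpf
    intro c
    have : c ∈ H := hH ▸ mem_top c
    exact this
  have hαr : (resHom φ hcomm 𝔹 a) ^ r = 1 := by rw [← map_pow, hexp, map_one]
  by_cases h1 : resHom φ hcomm 𝔹 a = 1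
  · have : Subsingleton (fixSub φ 𝔹) :=
      ⟨fun x y => by
        rw [hfix x (by rw [h1]; rfl), hfix y (by rw [h1]; rfl)]⟩
    exact Group.isNilpotent_of_subsingleton
  · have hord : orderOf (resHom φ hcomm 𝔹 a) = r := by
      have h2 := orderOf_dvd_of_pow_eq_one hαr
      rcases (Nat.dvd_prime hr).mp h2 with h | h
      · exact absurd (orderOf_eq_one_iff.mp h) h1
      · exact h
    exact Cfsg.Agent.S0033.result (resHom φ hcomm 𝔹 a) hfix r hr hord

end apply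

section transfer

open SemidirectProduct

variable {G : Type u} [Group G] {𝔸 : Type u} [Group 𝔸] (φ : 𝔸 →* MulAut G)

theorem conj_inr_inl (a : 𝔸) (g : G) :
    (inr a : G ⋊[φ] 𝔸) * inl g * (inr a)⁻¹ = inl (φ a g) := by
  rw [inl_aut, map_inv]

theorem inr_mem_normalizer_map_inl (V : Subgroup G) (hV : ∀ a : 𝔸, ∀ x ∈ V, φ a x ∈ V) (a : 𝔸) :
    (inr a : G ⋊[φ] 𝔸) ∈
      normalizer ((V.map (inl : G →* G ⋊[φ] 𝔸) : Subgroup (G ⋊[φ] 𝔸)) : Set (G ⋊[φ] 𝔸)) := by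
  rw [mem_normalizer_iff]
  intro h
  constructor
  · rintro ⟨v, hv, rfl⟩
    rw [conj_inr_inl]
    exact mem_map_of_mem _ (hV a v hv)
  · rintro ⟨v, hv, hve⟩
    have e : h = (inr a⁻¹ : G ⋊[φ] 𝔸) * inl v * (inr a⁻¹)⁻¹ := by
      rw [hve, map_inv]; group
    rw [e, conj_inr_inl]
    exact mem_map_of_mem _ (hV a⁻¹ v hv)

theorem map_inf_centralizer_map {H : Type*} [Group H] (f : G →* H) (hf : Function.Injective f)
    (S V : Subgroup G) :
    S.map f ⊓ centralizer ((V.map f : Subgroup H) : Set H) =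
      (S ⊓ centralizer (V : Set G)).map f := by
  ext x
  constructor
  · intro hx
    obtain ⟨hx1, hc⟩ := Subgroup.mem_inf.mp hx
    obtain ⟨s, hs, rfl⟩ := Subgroup.mem_map.mp hx1
    refine Subgroup.mem_map.mpr ⟨s, Subgroup.mem_inf.mpr ⟨hs, ?_⟩, rfl⟩
    rw [mem_centralizer_iff]
    intro v hv
    have := (mem_centralizer_iff.mp hc) (f v) (mem_map_of_mem f hv)
    apply hf; rw [map_mul, map_mul]; exact this
  · intro hx
    obtain ⟨s, hs', rfl⟩ := Subgroup.mem_map.mp hx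
    obtain ⟨hs, hc⟩ := Subgroup.mem_inf.mp hs'
    refine Subgroup.mem_inf.mpr ⟨mem_map_of_mem f hs, ?_⟩
    rw [mem_centralizer_iff]
    intro w hw
    obtain ⟨v, hv, rfl⟩ := Subgroup.mem_map.mp hw
    rw [← map_mul, ← map_mul, (mem_centralizer_iff.mp hc) v hv]

theorem fix_of_mem_centralizer_inr {𝔹 : Subgroup 𝔸} {g : G}
    (h : (inl g : G ⋊[φ] 𝔸) ∈
      centralizer ((𝔹.map (inr : 𝔸 →* G ⋊[φ] 𝔸) : Subgroup (G ⋊[φ] 𝔸)) : Set (G ⋊[φ] 𝔸))) :
    g ∈ fixSub φ 𝔹 := by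
  intro b hb
  have h1 := (mem_centralizer_iff.mp h) (inr b) (mem_map_of_mem _ hb)
  apply inl_injective (φ := φ)
  rw [← conj_inr_inl, h1]; group

/-- **Ward's core, applied to an action.** -/
theorem core_apply [Finite G] [Finite 𝔸] {r q s t : ℕ} (hr : r.Prime) (hq : q.Prime)
    (hs : s.Prime) (ht : t.Prime)
    (hqs : q ≠ s) (hst : s ≠ t) (hrq : r ≠ q) (hrs : r ≠ s) (hrt : r ≠ t)
    (hcomm : ∀ a b : 𝔸, a * b = b * a) (hexp : ∀ a : 𝔸, a ^ r = 1)
    (hcard : Nat.card 𝔸 = r ^ 2)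
    (hfpf : ∀ g : G, (∀ a : 𝔸, φ a g = g) → g = 1)
    (V S T : Subgroup G) (hVinv : ∀ a : 𝔸, ∀ x ∈ V, φ a x ∈ V)
    (hSinv : ∀ a : 𝔸, ∀ x ∈ S, φ a x ∈ S) (hTinv : ∀ a : 𝔸, ∀ x ∈ T, φ a x ∈ T)
    (hV : IsPGroup q V) (hVab : ∀ x ∈ V, ∀ y ∈ V, x * y = y * x) (hS : IsPGroup s S)
    (hT : IsPGroup t T)
    (hSV : S ≤ normalizer (V : Set G)) (hTV : T ≤ normalizer (V : Set G))
    (hTS : T ≤ normalizer (S : Set G))
    (hfaith : S ⊓ centralizer (V : Set G) = ⊥)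
    (hZ0 : V ⊓ centralizer ((S ⊓ centralizer (S : Set G) : Subgroup G) : Set G) = ⊥) :
    T ≤ centralizer (S : Set G) := by
  haveI : Finite (G ⋊[φ] 𝔸) := Finite.of_equiv _ SemidirectProduct.equivProd.symm
  have hinj : Function.Injective (inl : G →* G ⋊[φ] 𝔸) := inl_injective
  have hinjr : Function.Injective (inr : 𝔸 →* G ⋊[φ] 𝔸) := inr_injective
  -- fixed points of the whole group
  have hfixA : ∀ X : Subgroup G, X.map (inl : G →* G ⋊[φ] 𝔸) ⊓
      centralizer (((⊤ : Subgroup 𝔸).map (inr : 𝔸 →* G ⋊[φ] 𝔸) : Subgroup (G ⋊[φ] 𝔸)) :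
        Set (G ⋊[φ] 𝔸)) = ⊥ := by
    intro X
    rw [eq_bot_iff]
    rintro _ ⟨⟨x, hx, rfl⟩, hc⟩
    have h1 := fix_of_mem_centralizer_inr φ hc
    have h2 : x = 1 := hfpf x (fun a => h1 a (mem_top a))
    rw [h2, map_one]; exact one_mem _
  -- commuting of fixed points by Thompson
  have hN : ∀ {p₁ p₂ : ℕ}, p₁.Prime → p₂.Prime → p₁ ≠ p₂ → ∀ X Y : Subgroup G, IsPGroup p₁ X →
      IsPGroup p₂ Y → ∀ B : Subgroup (G ⋊[φ] 𝔸),
      B ≤ (⊤ : Subgroup 𝔸).map (inr : 𝔸 →* G ⋊[φ] 𝔸) → Nat.card B = r →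
      ∀ x ∈ X.map (inl : G →* G ⋊[φ] 𝔸) ⊓ centralizer (B : Set (G ⋊[φ] 𝔸)),
      ∀ y ∈ Y.map (inl : G →* G ⋊[φ] 𝔸) ⊓ centralizer (B : Set (G ⋊[φ] 𝔸)), x * y = y * x := by
    intro p₁ p₂ hp₁ hp₂ hne X Y hX hY B hBA hcB
    have hBmap : (B.comap (inr : 𝔸 →* G ⋊[φ] 𝔸)).map inr = B := by
      apply map_comap_eq_self
      rw [MonoidHom.range_eq_map]; exact hBA
    have hc𝔹 : Nat.card (B.comap (inr : 𝔸 →* G ⋊[φ] 𝔸)) = r := by
      rw [← Subgroup.card_map_of_injective hinjr, hBmap, hcB]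
    have hnil := fixSub_nilpotent φ hr hcomm hexp hcard hfpf _ hc𝔹
    rintro _ ⟨⟨x, hx, rfl⟩, hxc⟩ _ ⟨⟨y, hy, rfl⟩, hyc⟩
    rw [← hBmap] at hxc hyc
    have hx' := fix_of_mem_centralizer_inr φ hxc
    have hy' := fix_of_mem_centralizer_inr φ hyc
    obtain ⟨k, hk⟩ := hX ⟨x, hx⟩
    obtain ⟨l, hl⟩ := hY ⟨y, hy⟩
    have hk' : x ^ p₁ ^ k = 1 := congrArg Subtype.val hk
    have hl' : y ^ p₂ ^ l = 1 := congrArg Subtype.val hl
    haveI := hnil
    have h3 := Cfsg.Agent.Lib.Helper35.commute_of_coprime_of_isNilpotent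
      (fixSub φ (B.comap (inr : 𝔸 →* G ⋊[φ] 𝔸)))
      ⟨x, hx'⟩ ⟨y, hy'⟩ (p₁ ^ k) (p₂ ^ l) (Subtype.ext hk') (Subtype.ext hl')
      (Nat.Coprime.pow _ _ ((Nat.coprime_primes hp₁ hp₂).mpr hne))
    have h4 : x * y = y * x := congrArg Subtype.val h3.eq
    rw [← map_mul, ← map_mul, h4]
  have key := core (G ⋊[φ] 𝔸) r q s t hr hq hs ht hqs hst hrq hrs hrt
    ((⊤ : Subgroup 𝔸).map inr) (V.map inl) (S.map inl) (T.map inl)
    ⟨isMulCommutative_of_forall (by
      rintro _ ⟨a, -, rfl⟩ _ ⟨b, -, rfl⟩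
      rw [← map_mul, ← map_mul, hcomm a b]), by
      rintro _ ⟨a, -, rfl⟩
      rw [← map_pow, hexp, map_one]⟩
    (by rw [Subgroup.card_map_of_injective hinjr, Subgroup.card_top, hcard])
    (hV.map _)
    (by
      rintro _ ⟨x, hx, rfl⟩ _ ⟨y, hy, rfl⟩
      rw [← map_mul, ← map_mul, hVab x hx y hy])
    (hS.map _) (hT.map _)
    (by rintro _ ⟨a, -, rfl⟩; exact inr_mem_normalizer_map_inl φ V hVinv a)
    (by rintro _ ⟨a, -, rfl⟩; exact inr_mem_normalizer_map_inl φ S hSinv a)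
    (by rintro _ ⟨a, -, rfl⟩; exact inr_mem_normalizer_map_inl φ T hTinv a)
    (le_trans (map_mono hSV) (le_normalizer_map _))
    (le_trans (map_mono hTV) (le_normalizer_map _))
    (le_trans (map_mono hTS) (le_normalizer_map _))
    (hfixA V) (hfixA S) (hfixA T)
    (by rw [map_inf_centralizer_map _ hinj, hfaith, Subgroup.map_bot])
    (by rw [map_inf_centralizer_map _ hinj, map_inf_centralizer_map _ hinj, hZ0, Subgroup.map_bot])
    (hN hs hq hqs.symm S V hS hV)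
    (hN hs ht hst S T hS hT)
  intro y hy
  rw [mem_centralizer_iff]
  intro x hx
  apply hinj
  rw [map_mul, map_mul]
  exact key (inl x) (mem_map_of_mem _ hx) (inl y) (mem_map_of_mem _ hy)

end transfer

end Cfsg.Agent.Lib.Helper24.Ward
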